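import Cfsg.Agent.Lib.Helper28.TC2Upper
import Cfsg.Agent.Lib.Helper3.TCX.HeKDataC0
import Cfsg.Agent.Lib.Helper3.TCX.HeKDataC1
set_option autoImplicit false
set_option maxRecDepth 100000

namespace Cfsg.Agent.Lib.Helper3.TCX.HeKData
open Cfsg.Agent.Lib.Helper28.TC2Upper

/-- relators -/
def relT : BT (ℕ × List ℕ × List ℕ) := (BT.node 26 (BT.node 13 (BT.node 6 (BT.node 3 (BT.node 1 (BT.node 0 (BT.leaf (2, [0, 0], [0, 0])) (BT.leaf (8, [1, 0, 1, 0, 1, 0, 1, 0], [0, 1, 0, 1, 0, 1, 0, 1]))) (BT.node 2 (BT.leaf (4, [2, 0, 2, 0], [0, 2, 0, 2])) (BT.leaf (4, [3, 0, 3, 0], [0, 3, 0, 3])))) (BT.node 5 (BT.node 4 (BT.leaf (4, [5, 0, 5, 0], [0, 5, 0, 5])) (BT.leaf (4, [6, 0, 6, 0], [0, 6, 0, 6]))) (BT.leaf (4, [4, 0, 4, 0], [0, 4, 0, 4])))) (BT.node 10 (BT.node 8 (BT.node 7 (BT.leaf (8, [0, 1, 0, 1, 0, 1, 0, 1], [1, 0, 1, 0, 1, 0, 1, 0])) (BT.leaf (2, [1, 1], [1, 1])))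 (BT.node 9 (BT.leaf (6, [2, 1, 2, 1, 2, 1], [1, 2, 1, 2, 1, 2])) (BT.leaf (4, [3, 1, 3, 1], [1, 3, 1, 3])))) (BT.node 12 (BT.node 11 (BT.leaf (4, [5, 1, 5, 1], [1, 5, 1, 5])) (BT.leaf (4, [6, 1, 6, 1], [1, 6, 1, 6]))) (BT.leaf (4, [4, 1, 4, 1], [1, 4, 1, 4]))))) (BT.node 20 (BT.node 17 (BT.node 15 (BT.node 14 (BT.leaf (4, [0, 2, 0, 2], [2, 0, 2, 0])) (BT.leaf (6, [1, 2, 1, 2, 1, 2], [2, 1, 2, 1, 2, 1]))) (BT.node 16 (BT.leaf (2, [2, 2], [2, 2])) (BT.leaf (20, [3, 2, 3, 2, 3, 2, 3, 2, 3, 2, 3, 2, 3, 2, 3, 2, 3, 2, 3, 2], [2, 3, 2, 3, 2, 3, 2, 3, 2, 3, 2, 3, 2, 3, 2, 3, 2, 3, 2, 3])))) (BT.node 19 (BT.node 18 (BT.leaf (4, [5, 2, 5, 2], [2, 5, 2, 5])) (BT.leaf (4, [6, 2, 6, 2], [2, 6, 2, 6]))) (BT.leaf (4, [4, 2, 4, 2], [2, 4, 2, 4])))) (BT.node 23 (BT.node 22 (BT.node 21 (BT.leaf (4, [0, 3, 0, 3], [3, 0, 3, 0])) (BT.leaf (4, [1, 3, 1, 3], [3, 1, 3, 1]))) (BT.leaf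 (20, [2, 3, 2, 3, 2, 3, 2, 3, 2, 3, 2, 3, 2, 3, 2, 3, 2, 3, 2, 3], [3, 2, 3, 2, 3, 2, 3, 2, 3, 2, 3, 2, 3, 2, 3, 2, 3, 2, 3, 2]))) (BT.node 25 (BT.node 24 (BT.leaf (2, [3, 3], [3, 3])) (BT.leaf (6, [5, 3, 5, 3, 5, 3], [3, 5, 3, 5, 3, 5]))) (BT.leaf (6, [6, 3, 6, 3, 6, 3], [3, 6, 3, 6, 3, 6])))))) (BT.node 39 (BT.node 33 (BT.node 30 (BT.node 28 (BT.node 27 (BT.leaf (6, [4, 3, 4, 3, 4, 3], [3, 4, 3, 4, 3, 4])) (BT.leaf (4, [0, 5, 0, 5], [5, 0, 5, 0]))) (BT.node 29 (BT.leaf (4, [1, 5, 1, 5], [5, 1, 5, 1])) (BT.leaf (4, [2, 5, 2, 5], [5, 2, 5, 2])))) (BT.node 32 (BT.node 31 (BT.leaf (6, [3, 5, 3, 5, 3, 5], [5, 3, 5, 3, 5, 3])) (BT.leaf (2, [5, 5], [5, 5]))) (BT.leaf (8, [6, 5, 6, 5, 6, 5, 6, 5], [5, 6, 5, 6, 5, 6, 5, 6])))) (BT.node 36 (BT.node 35 (BT.node 34 (BT.leaf (4, [4, 5, 4, 5], [5, 4, 5, 4])) (BT.leaf (4, [0, 6, 0, 6], [6, 0, 6, 0]))) (BT.leaf (4, [1, 6,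 1, 6], [6, 1, 6, 1]))) (BT.node 38 (BT.node 37 (BT.leaf (4, [2, 6, 2, 6], [6, 2, 6, 2])) (BT.leaf (6, [3, 6, 3, 6, 3, 6], [6, 3, 6, 3, 6, 3]))) (BT.leaf (8, [5, 6, 5, 6, 5, 6, 5, 6], [6, 5, 6, 5, 6, 5, 6, 5]))))) (BT.node 46 (BT.node 43 (BT.node 41 (BT.node 40 (BT.leaf (2, [6, 6], [6, 6])) (BT.leaf (4, [4, 6, 4, 6], [6, 4, 6, 4]))) (BT.node 42 (BT.leaf (4, [0, 4, 0, 4], [4, 0, 4, 0])) (BT.leaf (4, [1, 4, 1, 4], [4, 1, 4, 1])))) (BT.node 45 (BT.node 44 (BT.leaf (4, [2, 4, 2, 4], [4, 2, 4, 2])) (BT.leaf (6, [3, 4, 3, 4, 3, 4], [4, 3, 4, 3, 4, 3]))) (BT.leaf (4, [5, 4, 5, 4], [4, 5, 4, 5])))) (BT.node 49 (BT.node 48 (BT.node 47 (BT.leaf (4, [6, 4, 6, 4], [4, 6, 4, 6])) (BT.leaf (2, [4, 4], [4, 4]))) (BT.leaf (5, [5, 6, 5, 6, 4], [4, 6, 5, 6, 5]))) (BT.node 51 (BT.node 50 (BT.leaf (10, [0, 1, 2, 0, 1, 2, 0, 1, 2, 4], [4, 2, 1, 0, 2, 1, 0, 2, 1, 0])) (BT.leaf (11,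 [2, 3, 2, 3, 2, 3, 2, 3, 2, 3, 0], [0, 3, 2, 3, 2, 3, 2, 3, 2, 3, 2]))) (BT.leaf (16, [6, 5, 3, 2, 6, 5, 3, 2, 6, 5, 3, 2, 6, 5, 3, 2], [2, 3, 5, 6, 2, 3, 5, 6, 2, 3, 5, 6, 2, 3, 5, 6])))))))
/-- subgroup generators -/
def subT : BT (ℕ × List ℕ × List ℕ) := (BT.node 2 (BT.node 1 (BT.node 0 (BT.leaf (1, [0], [0])) (BT.leaf (1, [2], [2]))) (BT.leaf (1, [3], [3]))) (BT.node 4 (BT.node 3 (BT.leaf (1, [4], [4])) (BT.leaf (1, [5], [5]))) (BT.leaf (1, [6], [6]))))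
/-- fact chunks -/
def colET : BT ℕ := (BT.node 391 (BT.node 195 (BT.node 97 (BT.node 48 (BT.node 24 (BT.node 12 (BT.node 6 (BT.node 3 (BT.node 1 (BT.node 0 (BT.leaf cE0) (BT.leaf cE1)) (BT.node 2 (BT.leaf cE2) (BT.leaf cE3))) (BT.node 5 (BT.node 4 (BT.leaf cE4) (BT.leaf cE5)) (BT.leaf cE6))) (BT.node 9 (BT.node 8 (BT.node 7 (BT.leaf cE7) (BT.leaf cE8)) (BT.leaf cE9)) (BT.node 11 (BT.node 10 (BT.leaf cE10) (BT.leaf cE11)) (BT.leaf cE12)))) (BT.node 18 (BT.node 15 (BT.node 14 (BT.node 13 (BT.leaf cE13) (BT.leaf cE14)) (BT.leaf cE15)) (BT.node 17 (BT.node 16 (BT.leaf cE16) (BT.leaf cE17)) (BT.leaf cE18))) (BT.node 21 (BT.node 20 (BT.node 19 (BT.leaf cE19) (BT.leaf cE20)) (BT.leaf cE21)) (BT.node 23 (BT.node 22 (BT.leaf cE22) (BT.leaf cE23)) (BT.leaf cE24))))) (BT.node 36 (BT.node 30 (BT.node 27 (BT.node 26 (BT.node 25 (BT.leaf cE25) (BT.leaf cE26)) (BT.leaf cE27))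 (BT.node 29 (BT.node 28 (BT.leaf cE28) (BT.leaf cE29)) (BT.leaf cE30))) (BT.node 33 (BT.node 32 (BT.node 31 (BT.leaf cE31) (BT.leaf cE32)) (BT.leaf cE33)) (BT.node 35 (BT.node 34 (BT.leaf cE34) (BT.leaf cE35)) (BT.leaf cE36)))) (BT.node 42 (BT.node 39 (BT.node 38 (BT.node 37 (BT.leaf cE37) (BT.leaf cE38)) (BT.leaf cE39)) (BT.node 41 (BT.node 40 (BT.leaf cE40) (BT.leaf cE41)) (BT.leaf cE42))) (BT.node 45 (BT.node 44 (BT.node 43 (BT.leaf cE43) (BT.leaf cE44)) (BT.leaf cE45)) (BT.node 47 (BT.node 46 (BT.leaf cE46) (BT.leaf cE47)) (BT.leaf cE48)))))) (BT.node 73 (BT.node 61 (BT.node 55 (BT.node 52 (BT.node 50 (BT.node 49 (BT.leaf cE49) (BT.leaf cE50)) (BT.node 51 (BT.leaf cE51) (BT.leaf cE52))) (BT.node 54 (BT.node 53 (BT.leaf cE53) (BT.leaf cE54)) (BT.leaf cE55))) (BT.node 58 (BT.node 57 (BT.node 56 (BT.leaf cE56) (BT.leaf cE57)) (BT.leaf cE58)) (BT.node 60 (BT.node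 59 (BT.leaf cE59) (BT.leaf cE60)) (BT.leaf cE61)))) (BT.node 67 (BT.node 64 (BT.node 63 (BT.node 62 (BT.leaf cE62) (BT.leaf cE63)) (BT.leaf cE64)) (BT.node 66 (BT.node 65 (BT.leaf cE65) (BT.leaf cE66)) (BT.leaf cE67))) (BT.node 70 (BT.node 69 (BT.node 68 (BT.leaf cE68) (BT.leaf cE69)) (BT.leaf cE70)) (BT.node 72 (BT.node 71 (BT.leaf cE71) (BT.leaf cE72)) (BT.leaf cE73))))) (BT.node 85 (BT.node 79 (BT.node 76 (BT.node 75 (BT.node 74 (BT.leaf cE74) (BT.leaf cE75)) (BT.leaf cE76)) (BT.node 78 (BT.node 77 (BT.leaf cE77) (BT.leaf cE78)) (BT.leaf cE79))) (BT.node 82 (BT.node 81 (BT.node 80 (BT.leaf cE80) (BT.leaf cE81)) (BT.leaf cE82)) (BT.node 84 (BT.node 83 (BT.leaf cE83) (BT.leaf cE84)) (BT.leaf cE85)))) (BT.node 91 (BT.node 88 (BT.node 87 (BT.node 86 (BT.leaf cE86) (BT.leaf cE87)) (BT.leaf cE88)) (BT.node 90 (BT.node 89 (BT.leaf cE89) (BT.leaf cE90)) (BT.leaf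 cE91))) (BT.node 94 (BT.node 93 (BT.node 92 (BT.leaf cE92) (BT.leaf cE93)) (BT.leaf cE94)) (BT.node 96 (BT.node 95 (BT.leaf cE95) (BT.leaf cE96)) (BT.leaf cE97))))))) (BT.node 146 (BT.node 122 (BT.node 110 (BT.node 104 (BT.node 101 (BT.node 99 (BT.node 98 (BT.leaf cE98) (BT.leaf cE99)) (BT.node 100 (BT.leaf cE100) (BT.leaf cE101))) (BT.node 103 (BT.node 102 (BT.leaf cE102) (BT.leaf cE103)) (BT.leaf cE104))) (BT.node 107 (BT.node 106 (BT.node 105 (BT.leaf cE105) (BT.leaf cE106)) (BT.leaf cE107)) (BT.node 109 (BT.node 108 (BT.leaf cE108) (BT.leaf cE109)) (BT.leaf cE110)))) (BT.node 116 (BT.node 113 (BT.node 112 (BT.node 111 (BT.leaf cE111) (BT.leaf cE112)) (BT.leaf cE113)) (BT.node 115 (BT.node 114 (BT.leaf cE114) (BT.leaf cE115)) (BT.leaf cE116))) (BT.node 119 (BT.node 118 (BT.node 117 (BT.leaf cE117) (BT.leaf cE118)) (BT.leaf cE119)) (BT.node 121 (BT.node 120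 (BT.leaf cE120) (BT.leaf cE121)) (BT.leaf cE122))))) (BT.node 134 (BT.node 128 (BT.node 125 (BT.node 124 (BT.node 123 (BT.leaf cE123) (BT.leaf cE124)) (BT.leaf cE125)) (BT.node 127 (BT.node 126 (BT.leaf cE126) (BT.leaf cE127)) (BT.leaf cE128))) (BT.node 131 (BT.node 130 (BT.node 129 (BT.leaf cE129) (BT.leaf cE130)) (BT.leaf cE131)) (BT.node 133 (BT.node 132 (BT.leaf cE132) (BT.leaf cE133)) (BT.leaf cE134)))) (BT.node 140 (BT.node 137 (BT.node 136 (BT.node 135 (BT.leaf cE135) (BT.leaf cE136)) (BT.leaf cE137)) (BT.node 139 (BT.node 138 (BT.leaf cE138) (BT.leaf cE139)) (BT.leaf cE140))) (BT.node 143 (BT.node 142 (BT.node 141 (BT.leaf cE141) (BT.leaf cE142)) (BT.leaf cE143)) (BT.node 145 (BT.node 144 (BT.leaf cE144) (BT.leaf cE145)) (BT.leaf cE146)))))) (BT.node 171 (BT.node 159 (BT.node 153 (BT.node 150 (BT.node 148 (BT.node 147 (BT.leaf cE147) (BT.leaf cE148))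 (BT.node 149 (BT.leaf cE149) (BT.leaf cE150))) (BT.node 152 (BT.node 151 (BT.leaf cE151) (BT.leaf cE152)) (BT.leaf cE153))) (BT.node 156 (BT.node 155 (BT.node 154 (BT.leaf cE154) (BT.leaf cE155)) (BT.leaf cE156)) (BT.node 158 (BT.node 157 (BT.leaf cE157) (BT.leaf cE158)) (BT.leaf cE159)))) (BT.node 165 (BT.node 162 (BT.node 161 (BT.node 160 (BT.leaf cE160) (BT.leaf cE161)) (BT.leaf cE162)) (BT.node 164 (BT.node 163 (BT.leaf cE163) (BT.leaf cE164)) (BT.leaf cE165))) (BT.node 168 (BT.node 167 (BT.node 166 (BT.leaf cE166) (BT.leaf cE167)) (BT.leaf cE168)) (BT.node 170 (BT.node 169 (BT.leaf cE169) (BT.leaf cE170)) (BT.leaf cE171))))) (BT.node 183 (BT.node 177 (BT.node 174 (BT.node 173 (BT.node 172 (BT.leaf cE172) (BT.leaf cE173)) (BT.leaf cE174)) (BT.node 176 (BT.node 175 (BT.leaf cE175) (BT.leaf cE176)) (BT.leaf cE177))) (BT.node 180 (BT.node 179 (BT.node 178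 (BT.leaf cE178) (BT.leaf cE179)) (BT.leaf cE180)) (BT.node 182 (BT.node 181 (BT.leaf cE181) (BT.leaf cE182)) (BT.leaf cE183)))) (BT.node 189 (BT.node 186 (BT.node 185 (BT.node 184 (BT.leaf cE184) (BT.leaf cE185)) (BT.leaf cE186)) (BT.node 188 (BT.node 187 (BT.leaf cE187) (BT.leaf cE188)) (BT.leaf cE189))) (BT.node 192 (BT.node 191 (BT.node 190 (BT.leaf cE190) (BT.leaf cE191)) (BT.leaf cE192)) (BT.node 194 (BT.node 193 (BT.leaf cE193) (BT.leaf cE194)) (BT.leaf cE195)))))))) (BT.node 293 (BT.node 244 (BT.node 220 (BT.node 208 (BT.node 202 (BT.node 199 (BT.node 197 (BT.node 196 (BT.leaf cE196) (BT.leaf cE197)) (BT.node 198 (BT.leaf cE198) (BT.leaf cE199))) (BT.node 201 (BT.node 200 (BT.leaf cE200) (BT.leaf cE201)) (BT.leaf cE202))) (BT.node 205 (BT.node 204 (BT.node 203 (BT.leaf cE203) (BT.leaf cE204)) (BT.leaf cE205)) (BT.node 207 (BT.node 206 (BT.leaf cE206)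 (BT.leaf cE207)) (BT.leaf cE208)))) (BT.node 214 (BT.node 211 (BT.node 210 (BT.node 209 (BT.leaf cE209) (BT.leaf cE210)) (BT.leaf cE211)) (BT.node 213 (BT.node 212 (BT.leaf cE212) (BT.leaf cE213)) (BT.leaf cE214))) (BT.node 217 (BT.node 216 (BT.node 215 (BT.leaf cE215) (BT.leaf cE216)) (BT.leaf cE217)) (BT.node 219 (BT.node 218 (BT.leaf cE218) (BT.leaf cE219)) (BT.leaf cE220))))) (BT.node 232 (BT.node 226 (BT.node 223 (BT.node 222 (BT.node 221 (BT.leaf cE221) (BT.leaf cE222)) (BT.leaf cE223)) (BT.node 225 (BT.node 224 (BT.leaf cE224) (BT.leaf cE225)) (BT.leaf cE226))) (BT.node 229 (BT.node 228 (BT.node 227 (BT.leaf cE227) (BT.leaf cE228)) (BT.leaf cE229)) (BT.node 231 (BT.node 230 (BT.leaf cE230) (BT.leaf cE231)) (BT.leaf cE232)))) (BT.node 238 (BT.node 235 (BT.node 234 (BT.node 233 (BT.leaf cE233) (BT.leaf cE234)) (BT.leaf cE235)) (BT.node 237 (BT.node 236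 (BT.leaf cE236) (BT.leaf cE237)) (BT.leaf cE238))) (BT.node 241 (BT.node 240 (BT.node 239 (BT.leaf cE239) (BT.leaf cE240)) (BT.leaf cE241)) (BT.node 243 (BT.node 242 (BT.leaf cE242) (BT.leaf cE243)) (BT.leaf cE244)))))) (BT.node 269 (BT.node 257 (BT.node 251 (BT.node 248 (BT.node 246 (BT.node 245 (BT.leaf cE245) (BT.leaf cE246)) (BT.node 247 (BT.leaf cE247) (BT.leaf cE248))) (BT.node 250 (BT.node 249 (BT.leaf cE249) (BT.leaf cE250)) (BT.leaf cE251))) (BT.node 254 (BT.node 253 (BT.node 252 (BT.leaf cE252) (BT.leaf cE253)) (BT.leaf cE254)) (BT.node 256 (BT.node 255 (BT.leaf cE255) (BT.leaf cE256)) (BT.leaf cE257)))) (BT.node 263 (BT.node 260 (BT.node 259 (BT.node 258 (BT.leaf cE258) (BT.leaf cE259)) (BT.leaf cE260)) (BT.node 262 (BT.node 261 (BT.leaf cE261) (BT.leaf cE262)) (BT.leaf cE263))) (BT.node 266 (BT.node 265 (BT.node 264 (BT.leaf cE264) (BT.leaf cE265))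 (BT.leaf cE266)) (BT.node 268 (BT.node 267 (BT.leaf cE267) (BT.leaf cE268)) (BT.leaf cE269))))) (BT.node 281 (BT.node 275 (BT.node 272 (BT.node 271 (BT.node 270 (BT.leaf cE270) (BT.leaf cE271)) (BT.leaf cE272)) (BT.node 274 (BT.node 273 (BT.leaf cE273) (BT.leaf cE274)) (BT.leaf cE275))) (BT.node 278 (BT.node 277 (BT.node 276 (BT.leaf cE276) (BT.leaf cE277)) (BT.leaf cE278)) (BT.node 280 (BT.node 279 (BT.leaf cE279) (BT.leaf cE280)) (BT.leaf cE281)))) (BT.node 287 (BT.node 284 (BT.node 283 (BT.node 282 (BT.leaf cE282) (BT.leaf cE283)) (BT.leaf cE284)) (BT.node 286 (BT.node 285 (BT.leaf cE285) (BT.leaf cE286)) (BT.leaf cE287))) (BT.node 290 (BT.node 289 (BT.node 288 (BT.leaf cE288) (BT.leaf cE289)) (BT.leaf cE290)) (BT.node 292 (BT.node 291 (BT.leaf cE291) (BT.leaf cE292)) (BT.leaf cE293))))))) (BT.node 342 (BT.node 318 (BT.node 306 (BT.node 300 (BT.node 297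 (BT.node 295 (BT.node 294 (BT.leaf cE294) (BT.leaf cE295)) (BT.node 296 (BT.leaf cE296) (BT.leaf cE297))) (BT.node 299 (BT.node 298 (BT.leaf cE298) (BT.leaf cE299)) (BT.leaf cE300))) (BT.node 303 (BT.node 302 (BT.node 301 (BT.leaf cE301) (BT.leaf cE302)) (BT.leaf cE303)) (BT.node 305 (BT.node 304 (BT.leaf cE304) (BT.leaf cE305)) (BT.leaf cE306)))) (BT.node 312 (BT.node 309 (BT.node 308 (BT.node 307 (BT.leaf cE307) (BT.leaf cE308)) (BT.leaf cE309)) (BT.node 311 (BT.node 310 (BT.leaf cE310) (BT.leaf cE311)) (BT.leaf cE312))) (BT.node 315 (BT.node 314 (BT.node 313 (BT.leaf cE313) (BT.leaf cE314)) (BT.leaf cE315)) (BT.node 317 (BT.node 316 (BT.leaf cE316) (BT.leaf cE317)) (BT.leaf cE318))))) (BT.node 330 (BT.node 324 (BT.node 321 (BT.node 320 (BT.node 319 (BT.leaf cE319) (BT.leaf cE320)) (BT.leaf cE321)) (BT.node 323 (BT.node 322 (BT.leaf cE322) (BT.leaf cE323))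 (BT.leaf cE324))) (BT.node 327 (BT.node 326 (BT.node 325 (BT.leaf cE325) (BT.leaf cE326)) (BT.leaf cE327)) (BT.node 329 (BT.node 328 (BT.leaf cE328) (BT.leaf cE329)) (BT.leaf cE330)))) (BT.node 336 (BT.node 333 (BT.node 332 (BT.node 331 (BT.leaf cE331) (BT.leaf cE332)) (BT.leaf cE333)) (BT.node 335 (BT.node 334 (BT.leaf cE334) (BT.leaf cE335)) (BT.leaf cE336))) (BT.node 339 (BT.node 338 (BT.node 337 (BT.leaf cE337) (BT.leaf cE338)) (BT.leaf cE339)) (BT.node 341 (BT.node 340 (BT.leaf cE340) (BT.leaf cE341)) (BT.leaf cE342)))))) (BT.node 367 (BT.node 355 (BT.node 349 (BT.node 346 (BT.node 344 (BT.node 343 (BT.leaf cE343) (BT.leaf cE344)) (BT.node 345 (BT.leaf cE345) (BT.leaf cE346))) (BT.node 348 (BT.node 347 (BT.leaf cE347) (BT.leaf cE348)) (BT.leaf cE349))) (BT.node 352 (BT.node 351 (BT.node 350 (BT.leaf cE350) (BT.leaf cE351)) (BT.leaf cE352)) (BT.node 354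 (BT.node 353 (BT.leaf cE353) (BT.leaf cE354)) (BT.leaf cE355)))) (BT.node 361 (BT.node 358 (BT.node 357 (BT.node 356 (BT.leaf cE356) (BT.leaf cE357)) (BT.leaf cE358)) (BT.node 360 (BT.node 359 (BT.leaf cE359) (BT.leaf cE360)) (BT.leaf cE361))) (BT.node 364 (BT.node 363 (BT.node 362 (BT.leaf cE362) (BT.leaf cE363)) (BT.leaf cE364)) (BT.node 366 (BT.node 365 (BT.leaf cE365) (BT.leaf cE366)) (BT.leaf cE367))))) (BT.node 379 (BT.node 373 (BT.node 370 (BT.node 369 (BT.node 368 (BT.leaf cE368) (BT.leaf cE369)) (BT.leaf cE370)) (BT.node 372 (BT.node 371 (BT.leaf cE371) (BT.leaf cE372)) (BT.leaf cE373))) (BT.node 376 (BT.node 375 (BT.node 374 (BT.leaf cE374) (BT.leaf cE375)) (BT.leaf cE376)) (BT.node 378 (BT.node 377 (BT.leaf cE377) (BT.leaf cE378)) (BT.leaf cE379)))) (BT.node 385 (BT.node 382 (BT.node 381 (BT.node 380 (BT.leaf cE380) (BT.leaf cE381)) (BT.leaf cE382))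 (BT.node 384 (BT.node 383 (BT.leaf cE383) (BT.leaf cE384)) (BT.leaf cE385))) (BT.node 388 (BT.node 387 (BT.node 386 (BT.leaf cE386) (BT.leaf cE387)) (BT.leaf cE388)) (BT.node 390 (BT.node 389 (BT.leaf cE389) (BT.leaf cE390)) (BT.leaf cE391))))))))) (BT.node 587 (BT.node 489 (BT.node 440 (BT.node 416 (BT.node 404 (BT.node 398 (BT.node 395 (BT.node 393 (BT.node 392 (BT.leaf cE392) (BT.leaf cE393)) (BT.node 394 (BT.leaf cE394) (BT.leaf cE395))) (BT.node 397 (BT.node 396 (BT.leaf cE396) (BT.leaf cE397)) (BT.leaf cE398))) (BT.node 401 (BT.node 400 (BT.node 399 (BT.leaf cE399) (BT.leaf cE400)) (BT.leaf cE401)) (BT.node 403 (BT.node 402 (BT.leaf cE402) (BT.leaf cE403)) (BT.leaf cE404)))) (BT.node 410 (BT.node 407 (BT.node 406 (BT.node 405 (BT.leaf cE405) (BT.leaf cE406)) (BT.leaf cE407)) (BT.node 409 (BT.node 408 (BT.leaf cE408) (BT.leaf cE409)) (BT.leaf cE410)))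 (BT.node 413 (BT.node 412 (BT.node 411 (BT.leaf cE411) (BT.leaf cE412)) (BT.leaf cE413)) (BT.node 415 (BT.node 414 (BT.leaf cE414) (BT.leaf cE415)) (BT.leaf cE416))))) (BT.node 428 (BT.node 422 (BT.node 419 (BT.node 418 (BT.node 417 (BT.leaf cE417) (BT.leaf cE418)) (BT.leaf cE419)) (BT.node 421 (BT.node 420 (BT.leaf cE420) (BT.leaf cE421)) (BT.leaf cE422))) (BT.node 425 (BT.node 424 (BT.node 423 (BT.leaf cE423) (BT.leaf cE424)) (BT.leaf cE425)) (BT.node 427 (BT.node 426 (BT.leaf cE426) (BT.leaf cE427)) (BT.leaf cE428)))) (BT.node 434 (BT.node 431 (BT.node 430 (BT.node 429 (BT.leaf cE429) (BT.leaf cE430)) (BT.leaf cE431)) (BT.node 433 (BT.node 432 (BT.leaf cE432) (BT.leaf cE433)) (BT.leaf cE434))) (BT.node 437 (BT.node 436 (BT.node 435 (BT.leaf cE435) (BT.leaf cE436)) (BT.leaf cE437)) (BT.node 439 (BT.node 438 (BT.leaf cE438) (BT.leaf cE439)) (BT.leaf cE440))))))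 (BT.node 465 (BT.node 453 (BT.node 447 (BT.node 444 (BT.node 442 (BT.node 441 (BT.leaf cE441) (BT.leaf cE442)) (BT.node 443 (BT.leaf cE443) (BT.leaf cE444))) (BT.node 446 (BT.node 445 (BT.leaf cE445) (BT.leaf cE446)) (BT.leaf cE447))) (BT.node 450 (BT.node 449 (BT.node 448 (BT.leaf cE448) (BT.leaf cE449)) (BT.leaf cE450)) (BT.node 452 (BT.node 451 (BT.leaf cE451) (BT.leaf cE452)) (BT.leaf cE453)))) (BT.node 459 (BT.node 456 (BT.node 455 (BT.node 454 (BT.leaf cE454) (BT.leaf cE455)) (BT.leaf cE456)) (BT.node 458 (BT.node 457 (BT.leaf cE457) (BT.leaf cE458)) (BT.leaf cE459))) (BT.node 462 (BT.node 461 (BT.node 460 (BT.leaf cE460) (BT.leaf cE461)) (BT.leaf cE462)) (BT.node 464 (BT.node 463 (BT.leaf cE463) (BT.leaf cE464)) (BT.leaf cE465))))) (BT.node 477 (BT.node 471 (BT.node 468 (BT.node 467 (BT.node 466 (BT.leaf cE466) (BT.leaf cE467)) (BT.leaf cE468)) (BT.node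 470 (BT.node 469 (BT.leaf cE469) (BT.leaf cE470)) (BT.leaf cE471))) (BT.node 474 (BT.node 473 (BT.node 472 (BT.leaf cE472) (BT.leaf cE473)) (BT.leaf cE474)) (BT.node 476 (BT.node 475 (BT.leaf cE475) (BT.leaf cE476)) (BT.leaf cE477)))) (BT.node 483 (BT.node 480 (BT.node 479 (BT.node 478 (BT.leaf cE478) (BT.leaf cE479)) (BT.leaf cE480)) (BT.node 482 (BT.node 481 (BT.leaf cE481) (BT.leaf cE482)) (BT.leaf cE483))) (BT.node 486 (BT.node 485 (BT.node 484 (BT.leaf cE484) (BT.leaf cE485)) (BT.leaf cE486)) (BT.node 488 (BT.node 487 (BT.leaf cE487) (BT.leaf cE488)) (BT.leaf cE489))))))) (BT.node 538 (BT.node 514 (BT.node 502 (BT.node 496 (BT.node 493 (BT.node 491 (BT.node 490 (BT.leaf cE490) (BT.leaf cE491)) (BT.node 492 (BT.leaf cE492) (BT.leaf cE493))) (BT.node 495 (BT.node 494 (BT.leaf cE494) (BT.leaf cE495)) (BT.leaf cE496))) (BT.node 499 (BT.node 498 (BT.node 497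 (BT.leaf cE497) (BT.leaf cE498)) (BT.leaf cE499)) (BT.node 501 (BT.node 500 (BT.leaf cE500) (BT.leaf cE501)) (BT.leaf cE502)))) (BT.node 508 (BT.node 505 (BT.node 504 (BT.node 503 (BT.leaf cE503) (BT.leaf cE504)) (BT.leaf cE505)) (BT.node 507 (BT.node 506 (BT.leaf cE506) (BT.leaf cE507)) (BT.leaf cE508))) (BT.node 511 (BT.node 510 (BT.node 509 (BT.leaf cE509) (BT.leaf cE510)) (BT.leaf cE511)) (BT.node 513 (BT.node 512 (BT.leaf cE512) (BT.leaf cE513)) (BT.leaf cE514))))) (BT.node 526 (BT.node 520 (BT.node 517 (BT.node 516 (BT.node 515 (BT.leaf cE515) (BT.leaf cE516)) (BT.leaf cE517)) (BT.node 519 (BT.node 518 (BT.leaf cE518) (BT.leaf cE519)) (BT.leaf cE520))) (BT.node 523 (BT.node 522 (BT.node 521 (BT.leaf cE521) (BT.leaf cE522)) (BT.leaf cE523)) (BT.node 525 (BT.node 524 (BT.leaf cE524) (BT.leaf cE525)) (BT.leaf cE526)))) (BT.node 532 (BT.node 529 (BT.node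 528 (BT.node 527 (BT.leaf cE527) (BT.leaf cE528)) (BT.leaf cE529)) (BT.node 531 (BT.node 530 (BT.leaf cE530) (BT.leaf cE531)) (BT.leaf cE532))) (BT.node 535 (BT.node 534 (BT.node 533 (BT.leaf cE533) (BT.leaf cE534)) (BT.leaf cE535)) (BT.node 537 (BT.node 536 (BT.leaf cE536) (BT.leaf cE537)) (BT.leaf cE538)))))) (BT.node 563 (BT.node 551 (BT.node 545 (BT.node 542 (BT.node 540 (BT.node 539 (BT.leaf cE539) (BT.leaf cE540)) (BT.node 541 (BT.leaf cE541) (BT.leaf cE542))) (BT.node 544 (BT.node 543 (BT.leaf cE543) (BT.leaf cE544)) (BT.leaf cE545))) (BT.node 548 (BT.node 547 (BT.node 546 (BT.leaf cE546) (BT.leaf cE547)) (BT.leaf cE548)) (BT.node 550 (BT.node 549 (BT.leaf cE549) (BT.leaf cE550)) (BT.leaf cE551)))) (BT.node 557 (BT.node 554 (BT.node 553 (BT.node 552 (BT.leaf cE552) (BT.leaf cE553)) (BT.leaf cE554)) (BT.node 556 (BT.node 555 (BT.leaf cE555) (BT.leaf cE556))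 (BT.leaf cE557))) (BT.node 560 (BT.node 559 (BT.node 558 (BT.leaf cE558) (BT.leaf cE559)) (BT.leaf cE560)) (BT.node 562 (BT.node 561 (BT.leaf cE561) (BT.leaf cE562)) (BT.leaf cE563))))) (BT.node 575 (BT.node 569 (BT.node 566 (BT.node 565 (BT.node 564 (BT.leaf cE564) (BT.leaf cE565)) (BT.leaf cE566)) (BT.node 568 (BT.node 567 (BT.leaf cE567) (BT.leaf cE568)) (BT.leaf cE569))) (BT.node 572 (BT.node 571 (BT.node 570 (BT.leaf cE570) (BT.leaf cE571)) (BT.leaf cE572)) (BT.node 574 (BT.node 573 (BT.leaf cE573) (BT.leaf cE574)) (BT.leaf cE575)))) (BT.node 581 (BT.node 578 (BT.node 577 (BT.node 576 (BT.leaf cE576) (BT.leaf cE577)) (BT.leaf cE578)) (BT.node 580 (BT.node 579 (BT.leaf cE579) (BT.leaf cE580)) (BT.leaf cE581))) (BT.node 584 (BT.node 583 (BT.node 582 (BT.leaf cE582) (BT.leaf cE583)) (BT.leaf cE584)) (BT.node 586 (BT.node 585 (BT.leaf cE585) (BT.leaf cE586))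 (BT.leaf cE587)))))))) (BT.node 685 (BT.node 636 (BT.node 612 (BT.node 600 (BT.node 594 (BT.node 591 (BT.node 589 (BT.node 588 (BT.leaf cE588) (BT.leaf cE589)) (BT.node 590 (BT.leaf cE590) (BT.leaf cE591))) (BT.node 593 (BT.node 592 (BT.leaf cE592) (BT.leaf cE593)) (BT.leaf cE594))) (BT.node 597 (BT.node 596 (BT.node 595 (BT.leaf cE595) (BT.leaf cE596)) (BT.leaf cE597)) (BT.node 599 (BT.node 598 (BT.leaf cE598) (BT.leaf cE599)) (BT.leaf cE600)))) (BT.node 606 (BT.node 603 (BT.node 602 (BT.node 601 (BT.leaf cE601) (BT.leaf cE602)) (BT.leaf cE603)) (BT.node 605 (BT.node 604 (BT.leaf cE604) (BT.leaf cE605)) (BT.leaf cE606))) (BT.node 609 (BT.node 608 (BT.node 607 (BT.leaf cE607) (BT.leaf cE608)) (BT.leaf cE609)) (BT.node 611 (BT.node 610 (BT.leaf cE610) (BT.leaf cE611)) (BT.leaf cE612))))) (BT.node 624 (BT.node 618 (BT.node 615 (BT.node 614 (BT.node 613 (BT.leaf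 cE613) (BT.leaf cE614)) (BT.leaf cE615)) (BT.node 617 (BT.node 616 (BT.leaf cE616) (BT.leaf cE617)) (BT.leaf cE618))) (BT.node 621 (BT.node 620 (BT.node 619 (BT.leaf cE619) (BT.leaf cE620)) (BT.leaf cE621)) (BT.node 623 (BT.node 622 (BT.leaf cE622) (BT.leaf cE623)) (BT.leaf cE624)))) (BT.node 630 (BT.node 627 (BT.node 626 (BT.node 625 (BT.leaf cE625) (BT.leaf cE626)) (BT.leaf cE627)) (BT.node 629 (BT.node 628 (BT.leaf cE628) (BT.leaf cE629)) (BT.leaf cE630))) (BT.node 633 (BT.node 632 (BT.node 631 (BT.leaf cE631) (BT.leaf cE632)) (BT.leaf cE633)) (BT.node 635 (BT.node 634 (BT.leaf cE634) (BT.leaf cE635)) (BT.leaf cE636)))))) (BT.node 661 (BT.node 649 (BT.node 643 (BT.node 640 (BT.node 638 (BT.node 637 (BT.leaf cE637) (BT.leaf cE638)) (BT.node 639 (BT.leaf cE639) (BT.leaf cE640))) (BT.node 642 (BT.node 641 (BT.leaf cE641) (BT.leaf cE642)) (BT.leaf cE643))) (BT.node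 646 (BT.node 645 (BT.node 644 (BT.leaf cE644) (BT.leaf cE645)) (BT.leaf cE646)) (BT.node 648 (BT.node 647 (BT.leaf cE647) (BT.leaf cE648)) (BT.leaf cE649)))) (BT.node 655 (BT.node 652 (BT.node 651 (BT.node 650 (BT.leaf cE650) (BT.leaf cE651)) (BT.leaf cE652)) (BT.node 654 (BT.node 653 (BT.leaf cE653) (BT.leaf cE654)) (BT.leaf cE655))) (BT.node 658 (BT.node 657 (BT.node 656 (BT.leaf cE656) (BT.leaf cE657)) (BT.leaf cE658)) (BT.node 660 (BT.node 659 (BT.leaf cE659) (BT.leaf cE660)) (BT.leaf cE661))))) (BT.node 673 (BT.node 667 (BT.node 664 (BT.node 663 (BT.node 662 (BT.leaf cE662) (BT.leaf cE663)) (BT.leaf cE664)) (BT.node 666 (BT.node 665 (BT.leaf cE665) (BT.leaf cE666)) (BT.leaf cE667))) (BT.node 670 (BT.node 669 (BT.node 668 (BT.leaf cE668) (BT.leaf cE669)) (BT.leaf cE670)) (BT.node 672 (BT.node 671 (BT.leaf cE671) (BT.leaf cE672)) (BT.leaf cE673)))) (BT.node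 679 (BT.node 676 (BT.node 675 (BT.node 674 (BT.leaf cE674) (BT.leaf cE675)) (BT.leaf cE676)) (BT.node 678 (BT.node 677 (BT.leaf cE677) (BT.leaf cE678)) (BT.leaf cE679))) (BT.node 682 (BT.node 681 (BT.node 680 (BT.leaf cE680) (BT.leaf cE681)) (BT.leaf cE682)) (BT.node 684 (BT.node 683 (BT.leaf cE683) (BT.leaf cE684)) (BT.leaf cE685))))))) (BT.node 734 (BT.node 710 (BT.node 698 (BT.node 692 (BT.node 689 (BT.node 687 (BT.node 686 (BT.leaf cE686) (BT.leaf cE687)) (BT.node 688 (BT.leaf cE688) (BT.leaf cE689))) (BT.node 691 (BT.node 690 (BT.leaf cE690) (BT.leaf cE691)) (BT.leaf cE692))) (BT.node 695 (BT.node 694 (BT.node 693 (BT.leaf cE693) (BT.leaf cE694)) (BT.leaf cE695)) (BT.node 697 (BT.node 696 (BT.leaf cE696) (BT.leaf cE697)) (BT.leaf cE698)))) (BT.node 704 (BT.node 701 (BT.node 700 (BT.node 699 (BT.leaf cE699) (BT.leaf cE700)) (BT.leaf cE701)) (BT.node 703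 (BT.node 702 (BT.leaf cE702) (BT.leaf cE703)) (BT.leaf cE704))) (BT.node 707 (BT.node 706 (BT.node 705 (BT.leaf cE705) (BT.leaf cE706)) (BT.leaf cE707)) (BT.node 709 (BT.node 708 (BT.leaf cE708) (BT.leaf cE709)) (BT.leaf cE710))))) (BT.node 722 (BT.node 716 (BT.node 713 (BT.node 712 (BT.node 711 (BT.leaf cE711) (BT.leaf cE712)) (BT.leaf cE713)) (BT.node 715 (BT.node 714 (BT.leaf cE714) (BT.leaf cE715)) (BT.leaf cE716))) (BT.node 719 (BT.node 718 (BT.node 717 (BT.leaf cE717) (BT.leaf cE718)) (BT.leaf cE719)) (BT.node 721 (BT.node 720 (BT.leaf cE720) (BT.leaf cE721)) (BT.leaf cE722)))) (BT.node 728 (BT.node 725 (BT.node 724 (BT.node 723 (BT.leaf cE723) (BT.leaf cE724)) (BT.leaf cE725)) (BT.node 727 (BT.node 726 (BT.leaf cE726) (BT.leaf cE727)) (BT.leaf cE728))) (BT.node 731 (BT.node 730 (BT.node 729 (BT.leaf cE729) (BT.leaf cE730)) (BT.leaf cE731)) (BT.node 733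 (BT.node 732 (BT.leaf cE732) (BT.leaf cE733)) (BT.leaf cE734)))))) (BT.node 759 (BT.node 747 (BT.node 741 (BT.node 738 (BT.node 736 (BT.node 735 (BT.leaf cE735) (BT.leaf cE736)) (BT.node 737 (BT.leaf cE737) (BT.leaf cE738))) (BT.node 740 (BT.node 739 (BT.leaf cE739) (BT.leaf cE740)) (BT.leaf cE741))) (BT.node 744 (BT.node 743 (BT.node 742 (BT.leaf cE742) (BT.leaf cE743)) (BT.leaf cE744)) (BT.node 746 (BT.node 745 (BT.leaf cE745) (BT.leaf cE746)) (BT.leaf cE747)))) (BT.node 753 (BT.node 750 (BT.node 749 (BT.node 748 (BT.leaf cE748) (BT.leaf cE749)) (BT.leaf cE750)) (BT.node 752 (BT.node 751 (BT.leaf cE751) (BT.leaf cE752)) (BT.leaf cE753))) (BT.node 756 (BT.node 755 (BT.node 754 (BT.leaf cE754) (BT.leaf cE755)) (BT.leaf cE756)) (BT.node 758 (BT.node 757 (BT.leaf cE757) (BT.leaf cE758)) (BT.leaf cE759))))) (BT.node 771 (BT.node 765 (BT.node 762 (BT.node 761 (BT.node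 760 (BT.leaf cE760) (BT.leaf cE761)) (BT.leaf cE762)) (BT.node 764 (BT.node 763 (BT.leaf cE763) (BT.leaf cE764)) (BT.leaf cE765))) (BT.node 768 (BT.node 767 (BT.node 766 (BT.leaf cE766) (BT.leaf cE767)) (BT.leaf cE768)) (BT.node 770 (BT.node 769 (BT.leaf cE769) (BT.leaf cE770)) (BT.leaf cE771)))) (BT.node 777 (BT.node 774 (BT.node 773 (BT.node 772 (BT.leaf cE772) (BT.leaf cE773)) (BT.leaf cE774)) (BT.node 776 (BT.node 775 (BT.leaf cE775) (BT.leaf cE776)) (BT.leaf cE777))) (BT.node 780 (BT.node 779 (BT.node 778 (BT.leaf cE778) (BT.leaf cE779)) (BT.leaf cE780)) (BT.node 782 (BT.node 781 (BT.leaf cE781) (BT.leaf cE782)) (BT.leaf cE783))))))))))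
/-- justification chunks -/
def colJT : BT ℕ := (BT.node 391 (BT.node 195 (BT.node 97 (BT.node 48 (BT.node 24 (BT.node 12 (BT.node 6 (BT.node 3 (BT.node 1 (BT.node 0 (BT.leaf cJ0) (BT.leaf cJ1)) (BT.node 2 (BT.leaf cJ2) (BT.leaf cJ3))) (BT.node 5 (BT.node 4 (BT.leaf cJ4) (BT.leaf cJ5)) (BT.leaf cJ6))) (BT.node 9 (BT.node 8 (BT.node 7 (BT.leaf cJ7) (BT.leaf cJ8)) (BT.leaf cJ9)) (BT.node 11 (BT.node 10 (BT.leaf cJ10) (BT.leaf cJ11)) (BT.leaf cJ12)))) (BT.node 18 (BT.node 15 (BT.node 14 (BT.node 13 (BT.leaf cJ13) (BT.leaf cJ14)) (BT.leaf cJ15)) (BT.node 17 (BT.node 16 (BT.leaf cJ16) (BT.leaf cJ17)) (BT.leaf cJ18))) (BT.node 21 (BT.node 20 (BT.node 19 (BT.leaf cJ19) (BT.leaf cJ20)) (BT.leaf cJ21)) (BT.node 23 (BT.node 22 (BT.leaf cJ22) (BT.leaf cJ23)) (BT.leaf cJ24))))) (BT.node 36 (BT.node 30 (BT.node 27 (BT.node 26 (BT.node 25 (BT.leaf cJ25) (BT.leaf cJ26)) (BT.leaf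 cJ27)) (BT.node 29 (BT.node 28 (BT.leaf cJ28) (BT.leaf cJ29)) (BT.leaf cJ30))) (BT.node 33 (BT.node 32 (BT.node 31 (BT.leaf cJ31) (BT.leaf cJ32)) (BT.leaf cJ33)) (BT.node 35 (BT.node 34 (BT.leaf cJ34) (BT.leaf cJ35)) (BT.leaf cJ36)))) (BT.node 42 (BT.node 39 (BT.node 38 (BT.node 37 (BT.leaf cJ37) (BT.leaf cJ38)) (BT.leaf cJ39)) (BT.node 41 (BT.node 40 (BT.leaf cJ40) (BT.leaf cJ41)) (BT.leaf cJ42))) (BT.node 45 (BT.node 44 (BT.node 43 (BT.leaf cJ43) (BT.leaf cJ44)) (BT.leaf cJ45)) (BT.node 47 (BT.node 46 (BT.leaf cJ46) (BT.leaf cJ47)) (BT.leaf cJ48)))))) (BT.node 73 (BT.node 61 (BT.node 55 (BT.node 52 (BT.node 50 (BT.node 49 (BT.leaf cJ49) (BT.leaf cJ50)) (BT.node 51 (BT.leaf cJ51) (BT.leaf cJ52))) (BT.node 54 (BT.node 53 (BT.leaf cJ53) (BT.leaf cJ54)) (BT.leaf cJ55))) (BT.node 58 (BT.node 57 (BT.node 56 (BT.leaf cJ56) (BT.leaf cJ57)) (BT.leaf cJ58)) (BT.node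 60 (BT.node 59 (BT.leaf cJ59) (BT.leaf cJ60)) (BT.leaf cJ61)))) (BT.node 67 (BT.node 64 (BT.node 63 (BT.node 62 (BT.leaf cJ62) (BT.leaf cJ63)) (BT.leaf cJ64)) (BT.node 66 (BT.node 65 (BT.leaf cJ65) (BT.leaf cJ66)) (BT.leaf cJ67))) (BT.node 70 (BT.node 69 (BT.node 68 (BT.leaf cJ68) (BT.leaf cJ69)) (BT.leaf cJ70)) (BT.node 72 (BT.node 71 (BT.leaf cJ71) (BT.leaf cJ72)) (BT.leaf cJ73))))) (BT.node 85 (BT.node 79 (BT.node 76 (BT.node 75 (BT.node 74 (BT.leaf cJ74) (BT.leaf cJ75)) (BT.leaf cJ76)) (BT.node 78 (BT.node 77 (BT.leaf cJ77) (BT.leaf cJ78)) (BT.leaf cJ79))) (BT.node 82 (BT.node 81 (BT.node 80 (BT.leaf cJ80) (BT.leaf cJ81)) (BT.leaf cJ82)) (BT.node 84 (BT.node 83 (BT.leaf cJ83) (BT.leaf cJ84)) (BT.leaf cJ85)))) (BT.node 91 (BT.node 88 (BT.node 87 (BT.node 86 (BT.leaf cJ86) (BT.leaf cJ87)) (BT.leaf cJ88)) (BT.node 90 (BT.node 89 (BT.leaf cJ89) (BT.leaf cJ90))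 (BT.leaf cJ91))) (BT.node 94 (BT.node 93 (BT.node 92 (BT.leaf cJ92) (BT.leaf cJ93)) (BT.leaf cJ94)) (BT.node 96 (BT.node 95 (BT.leaf cJ95) (BT.leaf cJ96)) (BT.leaf cJ97))))))) (BT.node 146 (BT.node 122 (BT.node 110 (BT.node 104 (BT.node 101 (BT.node 99 (BT.node 98 (BT.leaf cJ98) (BT.leaf cJ99)) (BT.node 100 (BT.leaf cJ100) (BT.leaf cJ101))) (BT.node 103 (BT.node 102 (BT.leaf cJ102) (BT.leaf cJ103)) (BT.leaf cJ104))) (BT.node 107 (BT.node 106 (BT.node 105 (BT.leaf cJ105) (BT.leaf cJ106)) (BT.leaf cJ107)) (BT.node 109 (BT.node 108 (BT.leaf cJ108) (BT.leaf cJ109)) (BT.leaf cJ110)))) (BT.node 116 (BT.node 113 (BT.node 112 (BT.node 111 (BT.leaf cJ111) (BT.leaf cJ112)) (BT.leaf cJ113)) (BT.node 115 (BT.node 114 (BT.leaf cJ114) (BT.leaf cJ115)) (BT.leaf cJ116))) (BT.node 119 (BT.node 118 (BT.node 117 (BT.leaf cJ117) (BT.leaf cJ118)) (BT.leaf cJ119)) (BT.node 121 (BT.node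 120 (BT.leaf cJ120) (BT.leaf cJ121)) (BT.leaf cJ122))))) (BT.node 134 (BT.node 128 (BT.node 125 (BT.node 124 (BT.node 123 (BT.leaf cJ123) (BT.leaf cJ124)) (BT.leaf cJ125)) (BT.node 127 (BT.node 126 (BT.leaf cJ126) (BT.leaf cJ127)) (BT.leaf cJ128))) (BT.node 131 (BT.node 130 (BT.node 129 (BT.leaf cJ129) (BT.leaf cJ130)) (BT.leaf cJ131)) (BT.node 133 (BT.node 132 (BT.leaf cJ132) (BT.leaf cJ133)) (BT.leaf cJ134)))) (BT.node 140 (BT.node 137 (BT.node 136 (BT.node 135 (BT.leaf cJ135) (BT.leaf cJ136)) (BT.leaf cJ137)) (BT.node 139 (BT.node 138 (BT.leaf cJ138) (BT.leaf cJ139)) (BT.leaf cJ140))) (BT.node 143 (BT.node 142 (BT.node 141 (BT.leaf cJ141) (BT.leaf cJ142)) (BT.leaf cJ143)) (BT.node 145 (BT.node 144 (BT.leaf cJ144) (BT.leaf cJ145)) (BT.leaf cJ146)))))) (BT.node 171 (BT.node 159 (BT.node 153 (BT.node 150 (BT.node 148 (BT.node 147 (BT.leaf cJ147) (BT.leaf cJ148))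 (BT.node 149 (BT.leaf cJ149) (BT.leaf cJ150))) (BT.node 152 (BT.node 151 (BT.leaf cJ151) (BT.leaf cJ152)) (BT.leaf cJ153))) (BT.node 156 (BT.node 155 (BT.node 154 (BT.leaf cJ154) (BT.leaf cJ155)) (BT.leaf cJ156)) (BT.node 158 (BT.node 157 (BT.leaf cJ157) (BT.leaf cJ158)) (BT.leaf cJ159)))) (BT.node 165 (BT.node 162 (BT.node 161 (BT.node 160 (BT.leaf cJ160) (BT.leaf cJ161)) (BT.leaf cJ162)) (BT.node 164 (BT.node 163 (BT.leaf cJ163) (BT.leaf cJ164)) (BT.leaf cJ165))) (BT.node 168 (BT.node 167 (BT.node 166 (BT.leaf cJ166) (BT.leaf cJ167)) (BT.leaf cJ168)) (BT.node 170 (BT.node 169 (BT.leaf cJ169) (BT.leaf cJ170)) (BT.leaf cJ171))))) (BT.node 183 (BT.node 177 (BT.node 174 (BT.node 173 (BT.node 172 (BT.leaf cJ172) (BT.leaf cJ173)) (BT.leaf cJ174)) (BT.node 176 (BT.node 175 (BT.leaf cJ175) (BT.leaf cJ176)) (BT.leaf cJ177))) (BT.node 180 (BT.node 179 (BT.node 178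 (BT.leaf cJ178) (BT.leaf cJ179)) (BT.leaf cJ180)) (BT.node 182 (BT.node 181 (BT.leaf cJ181) (BT.leaf cJ182)) (BT.leaf cJ183)))) (BT.node 189 (BT.node 186 (BT.node 185 (BT.node 184 (BT.leaf cJ184) (BT.leaf cJ185)) (BT.leaf cJ186)) (BT.node 188 (BT.node 187 (BT.leaf cJ187) (BT.leaf cJ188)) (BT.leaf cJ189))) (BT.node 192 (BT.node 191 (BT.node 190 (BT.leaf cJ190) (BT.leaf cJ191)) (BT.leaf cJ192)) (BT.node 194 (BT.node 193 (BT.leaf cJ193) (BT.leaf cJ194)) (BT.leaf cJ195)))))))) (BT.node 293 (BT.node 244 (BT.node 220 (BT.node 208 (BT.node 202 (BT.node 199 (BT.node 197 (BT.node 196 (BT.leaf cJ196) (BT.leaf cJ197)) (BT.node 198 (BT.leaf cJ198) (BT.leaf cJ199))) (BT.node 201 (BT.node 200 (BT.leaf cJ200) (BT.leaf cJ201)) (BT.leaf cJ202))) (BT.node 205 (BT.node 204 (BT.node 203 (BT.leaf cJ203) (BT.leaf cJ204)) (BT.leaf cJ205)) (BT.node 207 (BT.node 206 (BT.leaf cJ206)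 (BT.leaf cJ207)) (BT.leaf cJ208)))) (BT.node 214 (BT.node 211 (BT.node 210 (BT.node 209 (BT.leaf cJ209) (BT.leaf cJ210)) (BT.leaf cJ211)) (BT.node 213 (BT.node 212 (BT.leaf cJ212) (BT.leaf cJ213)) (BT.leaf cJ214))) (BT.node 217 (BT.node 216 (BT.node 215 (BT.leaf cJ215) (BT.leaf cJ216)) (BT.leaf cJ217)) (BT.node 219 (BT.node 218 (BT.leaf cJ218) (BT.leaf cJ219)) (BT.leaf cJ220))))) (BT.node 232 (BT.node 226 (BT.node 223 (BT.node 222 (BT.node 221 (BT.leaf cJ221) (BT.leaf cJ222)) (BT.leaf cJ223)) (BT.node 225 (BT.node 224 (BT.leaf cJ224) (BT.leaf cJ225)) (BT.leaf cJ226))) (BT.node 229 (BT.node 228 (BT.node 227 (BT.leaf cJ227) (BT.leaf cJ228)) (BT.leaf cJ229)) (BT.node 231 (BT.node 230 (BT.leaf cJ230) (BT.leaf cJ231)) (BT.leaf cJ232)))) (BT.node 238 (BT.node 235 (BT.node 234 (BT.node 233 (BT.leaf cJ233) (BT.leaf cJ234)) (BT.leaf cJ235)) (BT.node 237 (BT.node 236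 (BT.leaf cJ236) (BT.leaf cJ237)) (BT.leaf cJ238))) (BT.node 241 (BT.node 240 (BT.node 239 (BT.leaf cJ239) (BT.leaf cJ240)) (BT.leaf cJ241)) (BT.node 243 (BT.node 242 (BT.leaf cJ242) (BT.leaf cJ243)) (BT.leaf cJ244)))))) (BT.node 269 (BT.node 257 (BT.node 251 (BT.node 248 (BT.node 246 (BT.node 245 (BT.leaf cJ245) (BT.leaf cJ246)) (BT.node 247 (BT.leaf cJ247) (BT.leaf cJ248))) (BT.node 250 (BT.node 249 (BT.leaf cJ249) (BT.leaf cJ250)) (BT.leaf cJ251))) (BT.node 254 (BT.node 253 (BT.node 252 (BT.leaf cJ252) (BT.leaf cJ253)) (BT.leaf cJ254)) (BT.node 256 (BT.node 255 (BT.leaf cJ255) (BT.leaf cJ256)) (BT.leaf cJ257)))) (BT.node 263 (BT.node 260 (BT.node 259 (BT.node 258 (BT.leaf cJ258) (BT.leaf cJ259)) (BT.leaf cJ260)) (BT.node 262 (BT.node 261 (BT.leaf cJ261) (BT.leaf cJ262)) (BT.leaf cJ263))) (BT.node 266 (BT.node 265 (BT.node 264 (BT.leaf cJ264) (BT.leaf cJ265))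 (BT.leaf cJ266)) (BT.node 268 (BT.node 267 (BT.leaf cJ267) (BT.leaf cJ268)) (BT.leaf cJ269))))) (BT.node 281 (BT.node 275 (BT.node 272 (BT.node 271 (BT.node 270 (BT.leaf cJ270) (BT.leaf cJ271)) (BT.leaf cJ272)) (BT.node 274 (BT.node 273 (BT.leaf cJ273) (BT.leaf cJ274)) (BT.leaf cJ275))) (BT.node 278 (BT.node 277 (BT.node 276 (BT.leaf cJ276) (BT.leaf cJ277)) (BT.leaf cJ278)) (BT.node 280 (BT.node 279 (BT.leaf cJ279) (BT.leaf cJ280)) (BT.leaf cJ281)))) (BT.node 287 (BT.node 284 (BT.node 283 (BT.node 282 (BT.leaf cJ282) (BT.leaf cJ283)) (BT.leaf cJ284)) (BT.node 286 (BT.node 285 (BT.leaf cJ285) (BT.leaf cJ286)) (BT.leaf cJ287))) (BT.node 290 (BT.node 289 (BT.node 288 (BT.leaf cJ288) (BT.leaf cJ289)) (BT.leaf cJ290)) (BT.node 292 (BT.node 291 (BT.leaf cJ291) (BT.leaf cJ292)) (BT.leaf cJ293))))))) (BT.node 342 (BT.node 318 (BT.node 306 (BT.node 300 (BT.node 297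 (BT.node 295 (BT.node 294 (BT.leaf cJ294) (BT.leaf cJ295)) (BT.node 296 (BT.leaf cJ296) (BT.leaf cJ297))) (BT.node 299 (BT.node 298 (BT.leaf cJ298) (BT.leaf cJ299)) (BT.leaf cJ300))) (BT.node 303 (BT.node 302 (BT.node 301 (BT.leaf cJ301) (BT.leaf cJ302)) (BT.leaf cJ303)) (BT.node 305 (BT.node 304 (BT.leaf cJ304) (BT.leaf cJ305)) (BT.leaf cJ306)))) (BT.node 312 (BT.node 309 (BT.node 308 (BT.node 307 (BT.leaf cJ307) (BT.leaf cJ308)) (BT.leaf cJ309)) (BT.node 311 (BT.node 310 (BT.leaf cJ310) (BT.leaf cJ311)) (BT.leaf cJ312))) (BT.node 315 (BT.node 314 (BT.node 313 (BT.leaf cJ313) (BT.leaf cJ314)) (BT.leaf cJ315)) (BT.node 317 (BT.node 316 (BT.leaf cJ316) (BT.leaf cJ317)) (BT.leaf cJ318))))) (BT.node 330 (BT.node 324 (BT.node 321 (BT.node 320 (BT.node 319 (BT.leaf cJ319) (BT.leaf cJ320)) (BT.leaf cJ321)) (BT.node 323 (BT.node 322 (BT.leaf cJ322) (BT.leaf cJ323))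 (BT.leaf cJ324))) (BT.node 327 (BT.node 326 (BT.node 325 (BT.leaf cJ325) (BT.leaf cJ326)) (BT.leaf cJ327)) (BT.node 329 (BT.node 328 (BT.leaf cJ328) (BT.leaf cJ329)) (BT.leaf cJ330)))) (BT.node 336 (BT.node 333 (BT.node 332 (BT.node 331 (BT.leaf cJ331) (BT.leaf cJ332)) (BT.leaf cJ333)) (BT.node 335 (BT.node 334 (BT.leaf cJ334) (BT.leaf cJ335)) (BT.leaf cJ336))) (BT.node 339 (BT.node 338 (BT.node 337 (BT.leaf cJ337) (BT.leaf cJ338)) (BT.leaf cJ339)) (BT.node 341 (BT.node 340 (BT.leaf cJ340) (BT.leaf cJ341)) (BT.leaf cJ342)))))) (BT.node 367 (BT.node 355 (BT.node 349 (BT.node 346 (BT.node 344 (BT.node 343 (BT.leaf cJ343) (BT.leaf cJ344)) (BT.node 345 (BT.leaf cJ345) (BT.leaf cJ346))) (BT.node 348 (BT.node 347 (BT.leaf cJ347) (BT.leaf cJ348)) (BT.leaf cJ349))) (BT.node 352 (BT.node 351 (BT.node 350 (BT.leaf cJ350) (BT.leaf cJ351)) (BT.leaf cJ352)) (BT.node 354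 (BT.node 353 (BT.leaf cJ353) (BT.leaf cJ354)) (BT.leaf cJ355)))) (BT.node 361 (BT.node 358 (BT.node 357 (BT.node 356 (BT.leaf cJ356) (BT.leaf cJ357)) (BT.leaf cJ358)) (BT.node 360 (BT.node 359 (BT.leaf cJ359) (BT.leaf cJ360)) (BT.leaf cJ361))) (BT.node 364 (BT.node 363 (BT.node 362 (BT.leaf cJ362) (BT.leaf cJ363)) (BT.leaf cJ364)) (BT.node 366 (BT.node 365 (BT.leaf cJ365) (BT.leaf cJ366)) (BT.leaf cJ367))))) (BT.node 379 (BT.node 373 (BT.node 370 (BT.node 369 (BT.node 368 (BT.leaf cJ368) (BT.leaf cJ369)) (BT.leaf cJ370)) (BT.node 372 (BT.node 371 (BT.leaf cJ371) (BT.leaf cJ372)) (BT.leaf cJ373))) (BT.node 376 (BT.node 375 (BT.node 374 (BT.leaf cJ374) (BT.leaf cJ375)) (BT.leaf cJ376)) (BT.node 378 (BT.node 377 (BT.leaf cJ377) (BT.leaf cJ378)) (BT.leaf cJ379)))) (BT.node 385 (BT.node 382 (BT.node 381 (BT.node 380 (BT.leaf cJ380) (BT.leaf cJ381)) (BT.leaf cJ382))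 (BT.node 384 (BT.node 383 (BT.leaf cJ383) (BT.leaf cJ384)) (BT.leaf cJ385))) (BT.node 388 (BT.node 387 (BT.node 386 (BT.leaf cJ386) (BT.leaf cJ387)) (BT.leaf cJ388)) (BT.node 390 (BT.node 389 (BT.leaf cJ389) (BT.leaf cJ390)) (BT.leaf cJ391))))))))) (BT.node 587 (BT.node 489 (BT.node 440 (BT.node 416 (BT.node 404 (BT.node 398 (BT.node 395 (BT.node 393 (BT.node 392 (BT.leaf cJ392) (BT.leaf cJ393)) (BT.node 394 (BT.leaf cJ394) (BT.leaf cJ395))) (BT.node 397 (BT.node 396 (BT.leaf cJ396) (BT.leaf cJ397)) (BT.leaf cJ398))) (BT.node 401 (BT.node 400 (BT.node 399 (BT.leaf cJ399) (BT.leaf cJ400)) (BT.leaf cJ401)) (BT.node 403 (BT.node 402 (BT.leaf cJ402) (BT.leaf cJ403)) (BT.leaf cJ404)))) (BT.node 410 (BT.node 407 (BT.node 406 (BT.node 405 (BT.leaf cJ405) (BT.leaf cJ406)) (BT.leaf cJ407)) (BT.node 409 (BT.node 408 (BT.leaf cJ408) (BT.leaf cJ409)) (BT.leaf cJ410)))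 (BT.node 413 (BT.node 412 (BT.node 411 (BT.leaf cJ411) (BT.leaf cJ412)) (BT.leaf cJ413)) (BT.node 415 (BT.node 414 (BT.leaf cJ414) (BT.leaf cJ415)) (BT.leaf cJ416))))) (BT.node 428 (BT.node 422 (BT.node 419 (BT.node 418 (BT.node 417 (BT.leaf cJ417) (BT.leaf cJ418)) (BT.leaf cJ419)) (BT.node 421 (BT.node 420 (BT.leaf cJ420) (BT.leaf cJ421)) (BT.leaf cJ422))) (BT.node 425 (BT.node 424 (BT.node 423 (BT.leaf cJ423) (BT.leaf cJ424)) (BT.leaf cJ425)) (BT.node 427 (BT.node 426 (BT.leaf cJ426) (BT.leaf cJ427)) (BT.leaf cJ428)))) (BT.node 434 (BT.node 431 (BT.node 430 (BT.node 429 (BT.leaf cJ429) (BT.leaf cJ430)) (BT.leaf cJ431)) (BT.node 433 (BT.node 432 (BT.leaf cJ432) (BT.leaf cJ433)) (BT.leaf cJ434))) (BT.node 437 (BT.node 436 (BT.node 435 (BT.leaf cJ435) (BT.leaf cJ436)) (BT.leaf cJ437)) (BT.node 439 (BT.node 438 (BT.leaf cJ438) (BT.leaf cJ439)) (BT.leaf cJ440))))))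 (BT.node 465 (BT.node 453 (BT.node 447 (BT.node 444 (BT.node 442 (BT.node 441 (BT.leaf cJ441) (BT.leaf cJ442)) (BT.node 443 (BT.leaf cJ443) (BT.leaf cJ444))) (BT.node 446 (BT.node 445 (BT.leaf cJ445) (BT.leaf cJ446)) (BT.leaf cJ447))) (BT.node 450 (BT.node 449 (BT.node 448 (BT.leaf cJ448) (BT.leaf cJ449)) (BT.leaf cJ450)) (BT.node 452 (BT.node 451 (BT.leaf cJ451) (BT.leaf cJ452)) (BT.leaf cJ453)))) (BT.node 459 (BT.node 456 (BT.node 455 (BT.node 454 (BT.leaf cJ454) (BT.leaf cJ455)) (BT.leaf cJ456)) (BT.node 458 (BT.node 457 (BT.leaf cJ457) (BT.leaf cJ458)) (BT.leaf cJ459))) (BT.node 462 (BT.node 461 (BT.node 460 (BT.leaf cJ460) (BT.leaf cJ461)) (BT.leaf cJ462)) (BT.node 464 (BT.node 463 (BT.leaf cJ463) (BT.leaf cJ464)) (BT.leaf cJ465))))) (BT.node 477 (BT.node 471 (BT.node 468 (BT.node 467 (BT.node 466 (BT.leaf cJ466) (BT.leaf cJ467)) (BT.leaf cJ468)) (BT.node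 470 (BT.node 469 (BT.leaf cJ469) (BT.leaf cJ470)) (BT.leaf cJ471))) (BT.node 474 (BT.node 473 (BT.node 472 (BT.leaf cJ472) (BT.leaf cJ473)) (BT.leaf cJ474)) (BT.node 476 (BT.node 475 (BT.leaf cJ475) (BT.leaf cJ476)) (BT.leaf cJ477)))) (BT.node 483 (BT.node 480 (BT.node 479 (BT.node 478 (BT.leaf cJ478) (BT.leaf cJ479)) (BT.leaf cJ480)) (BT.node 482 (BT.node 481 (BT.leaf cJ481) (BT.leaf cJ482)) (BT.leaf cJ483))) (BT.node 486 (BT.node 485 (BT.node 484 (BT.leaf cJ484) (BT.leaf cJ485)) (BT.leaf cJ486)) (BT.node 488 (BT.node 487 (BT.leaf cJ487) (BT.leaf cJ488)) (BT.leaf cJ489))))))) (BT.node 538 (BT.node 514 (BT.node 502 (BT.node 496 (BT.node 493 (BT.node 491 (BT.node 490 (BT.leaf cJ490) (BT.leaf cJ491)) (BT.node 492 (BT.leaf cJ492) (BT.leaf cJ493))) (BT.node 495 (BT.node 494 (BT.leaf cJ494) (BT.leaf cJ495)) (BT.leaf cJ496))) (BT.node 499 (BT.node 498 (BT.node 497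 (BT.leaf cJ497) (BT.leaf cJ498)) (BT.leaf cJ499)) (BT.node 501 (BT.node 500 (BT.leaf cJ500) (BT.leaf cJ501)) (BT.leaf cJ502)))) (BT.node 508 (BT.node 505 (BT.node 504 (BT.node 503 (BT.leaf cJ503) (BT.leaf cJ504)) (BT.leaf cJ505)) (BT.node 507 (BT.node 506 (BT.leaf cJ506) (BT.leaf cJ507)) (BT.leaf cJ508))) (BT.node 511 (BT.node 510 (BT.node 509 (BT.leaf cJ509) (BT.leaf cJ510)) (BT.leaf cJ511)) (BT.node 513 (BT.node 512 (BT.leaf cJ512) (BT.leaf cJ513)) (BT.leaf cJ514))))) (BT.node 526 (BT.node 520 (BT.node 517 (BT.node 516 (BT.node 515 (BT.leaf cJ515) (BT.leaf cJ516)) (BT.leaf cJ517)) (BT.node 519 (BT.node 518 (BT.leaf cJ518) (BT.leaf cJ519)) (BT.leaf cJ520))) (BT.node 523 (BT.node 522 (BT.node 521 (BT.leaf cJ521) (BT.leaf cJ522)) (BT.leaf cJ523)) (BT.node 525 (BT.node 524 (BT.leaf cJ524) (BT.leaf cJ525)) (BT.leaf cJ526)))) (BT.node 532 (BT.node 529 (BT.node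 528 (BT.node 527 (BT.leaf cJ527) (BT.leaf cJ528)) (BT.leaf cJ529)) (BT.node 531 (BT.node 530 (BT.leaf cJ530) (BT.leaf cJ531)) (BT.leaf cJ532))) (BT.node 535 (BT.node 534 (BT.node 533 (BT.leaf cJ533) (BT.leaf cJ534)) (BT.leaf cJ535)) (BT.node 537 (BT.node 536 (BT.leaf cJ536) (BT.leaf cJ537)) (BT.leaf cJ538)))))) (BT.node 563 (BT.node 551 (BT.node 545 (BT.node 542 (BT.node 540 (BT.node 539 (BT.leaf cJ539) (BT.leaf cJ540)) (BT.node 541 (BT.leaf cJ541) (BT.leaf cJ542))) (BT.node 544 (BT.node 543 (BT.leaf cJ543) (BT.leaf cJ544)) (BT.leaf cJ545))) (BT.node 548 (BT.node 547 (BT.node 546 (BT.leaf cJ546) (BT.leaf cJ547)) (BT.leaf cJ548)) (BT.node 550 (BT.node 549 (BT.leaf cJ549) (BT.leaf cJ550)) (BT.leaf cJ551)))) (BT.node 557 (BT.node 554 (BT.node 553 (BT.node 552 (BT.leaf cJ552) (BT.leaf cJ553)) (BT.leaf cJ554)) (BT.node 556 (BT.node 555 (BT.leaf cJ555) (BT.leaf cJ556))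 (BT.leaf cJ557))) (BT.node 560 (BT.node 559 (BT.node 558 (BT.leaf cJ558) (BT.leaf cJ559)) (BT.leaf cJ560)) (BT.node 562 (BT.node 561 (BT.leaf cJ561) (BT.leaf cJ562)) (BT.leaf cJ563))))) (BT.node 575 (BT.node 569 (BT.node 566 (BT.node 565 (BT.node 564 (BT.leaf cJ564) (BT.leaf cJ565)) (BT.leaf cJ566)) (BT.node 568 (BT.node 567 (BT.leaf cJ567) (BT.leaf cJ568)) (BT.leaf cJ569))) (BT.node 572 (BT.node 571 (BT.node 570 (BT.leaf cJ570) (BT.leaf cJ571)) (BT.leaf cJ572)) (BT.node 574 (BT.node 573 (BT.leaf cJ573) (BT.leaf cJ574)) (BT.leaf cJ575)))) (BT.node 581 (BT.node 578 (BT.node 577 (BT.node 576 (BT.leaf cJ576) (BT.leaf cJ577)) (BT.leaf cJ578)) (BT.node 580 (BT.node 579 (BT.leaf cJ579) (BT.leaf cJ580)) (BT.leaf cJ581))) (BT.node 584 (BT.node 583 (BT.node 582 (BT.leaf cJ582) (BT.leaf cJ583)) (BT.leaf cJ584)) (BT.node 586 (BT.node 585 (BT.leaf cJ585) (BT.leaf cJ586))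 (BT.leaf cJ587)))))))) (BT.node 685 (BT.node 636 (BT.node 612 (BT.node 600 (BT.node 594 (BT.node 591 (BT.node 589 (BT.node 588 (BT.leaf cJ588) (BT.leaf cJ589)) (BT.node 590 (BT.leaf cJ590) (BT.leaf cJ591))) (BT.node 593 (BT.node 592 (BT.leaf cJ592) (BT.leaf cJ593)) (BT.leaf cJ594))) (BT.node 597 (BT.node 596 (BT.node 595 (BT.leaf cJ595) (BT.leaf cJ596)) (BT.leaf cJ597)) (BT.node 599 (BT.node 598 (BT.leaf cJ598) (BT.leaf cJ599)) (BT.leaf cJ600)))) (BT.node 606 (BT.node 603 (BT.node 602 (BT.node 601 (BT.leaf cJ601) (BT.leaf cJ602)) (BT.leaf cJ603)) (BT.node 605 (BT.node 604 (BT.leaf cJ604) (BT.leaf cJ605)) (BT.leaf cJ606))) (BT.node 609 (BT.node 608 (BT.node 607 (BT.leaf cJ607) (BT.leaf cJ608)) (BT.leaf cJ609)) (BT.node 611 (BT.node 610 (BT.leaf cJ610) (BT.leaf cJ611)) (BT.leaf cJ612))))) (BT.node 624 (BT.node 618 (BT.node 615 (BT.node 614 (BT.node 613 (BT.leaf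 cJ613) (BT.leaf cJ614)) (BT.leaf cJ615)) (BT.node 617 (BT.node 616 (BT.leaf cJ616) (BT.leaf cJ617)) (BT.leaf cJ618))) (BT.node 621 (BT.node 620 (BT.node 619 (BT.leaf cJ619) (BT.leaf cJ620)) (BT.leaf cJ621)) (BT.node 623 (BT.node 622 (BT.leaf cJ622) (BT.leaf cJ623)) (BT.leaf cJ624)))) (BT.node 630 (BT.node 627 (BT.node 626 (BT.node 625 (BT.leaf cJ625) (BT.leaf cJ626)) (BT.leaf cJ627)) (BT.node 629 (BT.node 628 (BT.leaf cJ628) (BT.leaf cJ629)) (BT.leaf cJ630))) (BT.node 633 (BT.node 632 (BT.node 631 (BT.leaf cJ631) (BT.leaf cJ632)) (BT.leaf cJ633)) (BT.node 635 (BT.node 634 (BT.leaf cJ634) (BT.leaf cJ635)) (BT.leaf cJ636)))))) (BT.node 661 (BT.node 649 (BT.node 643 (BT.node 640 (BT.node 638 (BT.node 637 (BT.leaf cJ637) (BT.leaf cJ638)) (BT.node 639 (BT.leaf cJ639) (BT.leaf cJ640))) (BT.node 642 (BT.node 641 (BT.leaf cJ641) (BT.leaf cJ642)) (BT.leaf cJ643))) (BT.node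 646 (BT.node 645 (BT.node 644 (BT.leaf cJ644) (BT.leaf cJ645)) (BT.leaf cJ646)) (BT.node 648 (BT.node 647 (BT.leaf cJ647) (BT.leaf cJ648)) (BT.leaf cJ649)))) (BT.node 655 (BT.node 652 (BT.node 651 (BT.node 650 (BT.leaf cJ650) (BT.leaf cJ651)) (BT.leaf cJ652)) (BT.node 654 (BT.node 653 (BT.leaf cJ653) (BT.leaf cJ654)) (BT.leaf cJ655))) (BT.node 658 (BT.node 657 (BT.node 656 (BT.leaf cJ656) (BT.leaf cJ657)) (BT.leaf cJ658)) (BT.node 660 (BT.node 659 (BT.leaf cJ659) (BT.leaf cJ660)) (BT.leaf cJ661))))) (BT.node 673 (BT.node 667 (BT.node 664 (BT.node 663 (BT.node 662 (BT.leaf cJ662) (BT.leaf cJ663)) (BT.leaf cJ664)) (BT.node 666 (BT.node 665 (BT.leaf cJ665) (BT.leaf cJ666)) (BT.leaf cJ667))) (BT.node 670 (BT.node 669 (BT.node 668 (BT.leaf cJ668) (BT.leaf cJ669)) (BT.leaf cJ670)) (BT.node 672 (BT.node 671 (BT.leaf cJ671) (BT.leaf cJ672)) (BT.leaf cJ673)))) (BT.node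 679 (BT.node 676 (BT.node 675 (BT.node 674 (BT.leaf cJ674) (BT.leaf cJ675)) (BT.leaf cJ676)) (BT.node 678 (BT.node 677 (BT.leaf cJ677) (BT.leaf cJ678)) (BT.leaf cJ679))) (BT.node 682 (BT.node 681 (BT.node 680 (BT.leaf cJ680) (BT.leaf cJ681)) (BT.leaf cJ682)) (BT.node 684 (BT.node 683 (BT.leaf cJ683) (BT.leaf cJ684)) (BT.leaf cJ685))))))) (BT.node 734 (BT.node 710 (BT.node 698 (BT.node 692 (BT.node 689 (BT.node 687 (BT.node 686 (BT.leaf cJ686) (BT.leaf cJ687)) (BT.node 688 (BT.leaf cJ688) (BT.leaf cJ689))) (BT.node 691 (BT.node 690 (BT.leaf cJ690) (BT.leaf cJ691)) (BT.leaf cJ692))) (BT.node 695 (BT.node 694 (BT.node 693 (BT.leaf cJ693) (BT.leaf cJ694)) (BT.leaf cJ695)) (BT.node 697 (BT.node 696 (BT.leaf cJ696) (BT.leaf cJ697)) (BT.leaf cJ698)))) (BT.node 704 (BT.node 701 (BT.node 700 (BT.node 699 (BT.leaf cJ699) (BT.leaf cJ700)) (BT.leaf cJ701)) (BT.node 703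 (BT.node 702 (BT.leaf cJ702) (BT.leaf cJ703)) (BT.leaf cJ704))) (BT.node 707 (BT.node 706 (BT.node 705 (BT.leaf cJ705) (BT.leaf cJ706)) (BT.leaf cJ707)) (BT.node 709 (BT.node 708 (BT.leaf cJ708) (BT.leaf cJ709)) (BT.leaf cJ710))))) (BT.node 722 (BT.node 716 (BT.node 713 (BT.node 712 (BT.node 711 (BT.leaf cJ711) (BT.leaf cJ712)) (BT.leaf cJ713)) (BT.node 715 (BT.node 714 (BT.leaf cJ714) (BT.leaf cJ715)) (BT.leaf cJ716))) (BT.node 719 (BT.node 718 (BT.node 717 (BT.leaf cJ717) (BT.leaf cJ718)) (BT.leaf cJ719)) (BT.node 721 (BT.node 720 (BT.leaf cJ720) (BT.leaf cJ721)) (BT.leaf cJ722)))) (BT.node 728 (BT.node 725 (BT.node 724 (BT.node 723 (BT.leaf cJ723) (BT.leaf cJ724)) (BT.leaf cJ725)) (BT.node 727 (BT.node 726 (BT.leaf cJ726) (BT.leaf cJ727)) (BT.leaf cJ728))) (BT.node 731 (BT.node 730 (BT.node 729 (BT.leaf cJ729) (BT.leaf cJ730)) (BT.leaf cJ731)) (BT.node 733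 (BT.node 732 (BT.leaf cJ732) (BT.leaf cJ733)) (BT.leaf cJ734)))))) (BT.node 759 (BT.node 747 (BT.node 741 (BT.node 738 (BT.node 736 (BT.node 735 (BT.leaf cJ735) (BT.leaf cJ736)) (BT.node 737 (BT.leaf cJ737) (BT.leaf cJ738))) (BT.node 740 (BT.node 739 (BT.leaf cJ739) (BT.leaf cJ740)) (BT.leaf cJ741))) (BT.node 744 (BT.node 743 (BT.node 742 (BT.leaf cJ742) (BT.leaf cJ743)) (BT.leaf cJ744)) (BT.node 746 (BT.node 745 (BT.leaf cJ745) (BT.leaf cJ746)) (BT.leaf cJ747)))) (BT.node 753 (BT.node 750 (BT.node 749 (BT.node 748 (BT.leaf cJ748) (BT.leaf cJ749)) (BT.leaf cJ750)) (BT.node 752 (BT.node 751 (BT.leaf cJ751) (BT.leaf cJ752)) (BT.leaf cJ753))) (BT.node 756 (BT.node 755 (BT.node 754 (BT.leaf cJ754) (BT.leaf cJ755)) (BT.leaf cJ756)) (BT.node 758 (BT.node 757 (BT.leaf cJ757) (BT.leaf cJ758)) (BT.leaf cJ759))))) (BT.node 771 (BT.node 765 (BT.node 762 (BT.node 761 (BT.node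 760 (BT.leaf cJ760) (BT.leaf cJ761)) (BT.leaf cJ762)) (BT.node 764 (BT.node 763 (BT.leaf cJ763) (BT.leaf cJ764)) (BT.leaf cJ765))) (BT.node 768 (BT.node 767 (BT.node 766 (BT.leaf cJ766) (BT.leaf cJ767)) (BT.leaf cJ768)) (BT.node 770 (BT.node 769 (BT.leaf cJ769) (BT.leaf cJ770)) (BT.leaf cJ771)))) (BT.node 777 (BT.node 774 (BT.node 773 (BT.node 772 (BT.leaf cJ772) (BT.leaf cJ773)) (BT.leaf cJ774)) (BT.node 776 (BT.node 775 (BT.leaf cJ775) (BT.leaf cJ776)) (BT.leaf cJ777))) (BT.node 780 (BT.node 779 (BT.node 778 (BT.leaf cJ778) (BT.leaf cJ779)) (BT.leaf cJ780)) (BT.node 782 (BT.node 781 (BT.leaf cJ781) (BT.leaf cJ782)) (BT.leaf cJ783))))))))))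
/-- parent chunks -/
def parCT : BT ℕ := (BT.node 48 (BT.node 24 (BT.node 12 (BT.node 6 (BT.node 3 (BT.node 1 (BT.node 0 (BT.leaf cP0) (BT.leaf cP1)) (BT.node 2 (BT.leaf cP2) (BT.leaf cP3))) (BT.node 5 (BT.node 4 (BT.leaf cP4) (BT.leaf cP5)) (BT.leaf cP6))) (BT.node 9 (BT.node 8 (BT.node 7 (BT.leaf cP7) (BT.leaf cP8)) (BT.leaf cP9)) (BT.node 11 (BT.node 10 (BT.leaf cP10) (BT.leaf cP11)) (BT.leaf cP12)))) (BT.node 18 (BT.node 15 (BT.node 14 (BT.node 13 (BT.leaf cP13) (BT.leaf cP14)) (BT.leaf cP15)) (BT.node 17 (BT.node 16 (BT.leaf cP16) (BT.leaf cP17)) (BT.leaf cP18))) (BT.node 21 (BT.node 20 (BT.node 19 (BT.leaf cP19) (BT.leaf cP20)) (BT.leaf cP21)) (BT.node 23 (BT.node 22 (BT.leaf cP22) (BT.leaf cP23)) (BT.leaf cP24))))) (BT.node 36 (BT.node 30 (BT.node 27 (BT.node 26 (BT.node 25 (BT.leaf cP25) (BT.leaf cP26)) (BT.leaf cP27)) (BT.node 29 (BT.node 28 (BT.leaf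 cP28) (BT.leaf cP29)) (BT.leaf cP30))) (BT.node 33 (BT.node 32 (BT.node 31 (BT.leaf cP31) (BT.leaf cP32)) (BT.leaf cP33)) (BT.node 35 (BT.node 34 (BT.leaf cP34) (BT.leaf cP35)) (BT.leaf cP36)))) (BT.node 42 (BT.node 39 (BT.node 38 (BT.node 37 (BT.leaf cP37) (BT.leaf cP38)) (BT.leaf cP39)) (BT.node 41 (BT.node 40 (BT.leaf cP40) (BT.leaf cP41)) (BT.leaf cP42))) (BT.node 45 (BT.node 44 (BT.node 43 (BT.leaf cP43) (BT.leaf cP44)) (BT.leaf cP45)) (BT.node 47 (BT.node 46 (BT.leaf cP46) (BT.leaf cP47)) (BT.leaf cP48)))))) (BT.node 73 (BT.node 61 (BT.node 55 (BT.node 52 (BT.node 50 (BT.node 49 (BT.leaf cP49) (BT.leaf cP50)) (BT.node 51 (BT.leaf cP51) (BT.leaf cP52))) (BT.node 54 (BT.node 53 (BT.leaf cP53) (BT.leaf cP54)) (BT.leaf cP55))) (BT.node 58 (BT.node 57 (BT.node 56 (BT.leaf cP56) (BT.leaf cP57)) (BT.leaf cP58)) (BT.node 60 (BT.node 59 (BT.leaf cP59) (BT.leaf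 cP60)) (BT.leaf cP61)))) (BT.node 67 (BT.node 64 (BT.node 63 (BT.node 62 (BT.leaf cP62) (BT.leaf cP63)) (BT.leaf cP64)) (BT.node 66 (BT.node 65 (BT.leaf cP65) (BT.leaf cP66)) (BT.leaf cP67))) (BT.node 70 (BT.node 69 (BT.node 68 (BT.leaf cP68) (BT.leaf cP69)) (BT.leaf cP70)) (BT.node 72 (BT.node 71 (BT.leaf cP71) (BT.leaf cP72)) (BT.leaf cP73))))) (BT.node 85 (BT.node 79 (BT.node 76 (BT.node 75 (BT.node 74 (BT.leaf cP74) (BT.leaf cP75)) (BT.leaf cP76)) (BT.node 78 (BT.node 77 (BT.leaf cP77) (BT.leaf cP78)) (BT.leaf cP79))) (BT.node 82 (BT.node 81 (BT.node 80 (BT.leaf cP80) (BT.leaf cP81)) (BT.leaf cP82)) (BT.node 84 (BT.node 83 (BT.leaf cP83) (BT.leaf cP84)) (BT.leaf cP85)))) (BT.node 91 (BT.node 88 (BT.node 87 (BT.node 86 (BT.leaf cP86) (BT.leaf cP87)) (BT.leaf cP88)) (BT.node 90 (BT.node 89 (BT.leaf cP89) (BT.leaf cP90)) (BT.leaf cP91))) (BT.node 94 (BT.node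 93 (BT.node 92 (BT.leaf cP92) (BT.leaf cP93)) (BT.leaf cP94)) (BT.node 96 (BT.node 95 (BT.leaf cP95) (BT.leaf cP96)) (BT.leaf cP97)))))))
/-- the certificate -/
def data : Data where
  k := 7
  N := 49980
  W := 35
  MW := 34359738368
  B := 65536
  CH := 512
  NCH := 98
  colE := colET
  JW := 64
  MJ := 18446744073709551616
  A := 1048576
  colJ := colJT
  PW := 26
  MP := 67108864
  parC := parCT
  inv := (BT.node 3 (BT.node 1 (BT.node 0 (BT.leaf 0) (BT.leaf 1)) (BT.node 2 (BT.leaf 2) (BT.leaf 3))) (BT.node 5 (BT.node 4 (BT.leaf 4) (BT.leaf 5)) (BT.node 6 (BT.leaf 6) (BT.leaf 7))))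
  rel := relT
  sub := subT
  fuel := 4

end Cfsg.Agent.Lib.Helper3.TCX.HeKData
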