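import Cfsg.Agent.Lib.Helper3.TCX.HeKData
set_option autoImplicit false
set_option maxRecDepth 100000
set_option maxHeartbeats 0

namespace Cfsg.Agent.Lib.Helper3.TCX.HeKU6
open Cfsg.Agent.Lib.Helper28.TC2Upper Cfsg.Agent.Lib.Helper3.TCX.HeKData

theorem chk30 : data.checkRange 45000 1500 = true := by decide +kernel
theorem chk31 : data.checkRange 46500 1500 = true := by decide +kernel
theorem chk32 : data.checkRange 48000 1500 = true := by decide +kernel
theorem chk33 : data.checkRange 49500 480 = true := by decide +kernel

end Cfsg.Agent.Lib.Helper3.TCX.HeKU6
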