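import Cfsg.Agent.Lib.Helper28.TC2GlueOrb
import Cfsg.Agent.Lib.Helper28.TC2Range
import Cfsg.Agent.Lib.Helper3.TCX.HeKLink
import Cfsg.Agent.Lib.Helper3.TCX.HeKM
import Cfsg.Agent.Lib.Helper3.TCX.HeKM0
import Cfsg.Agent.Lib.Helper3.TCX.HeKM1
import Cfsg.Agent.Lib.Helper3.TCX.HeKM2
import Cfsg.Agent.Lib.Helper3.TCX.HeKM3
import Cfsg.Agent.Lib.Helper3.TCX.HeKM4
import Cfsg.Agent.Lib.Helper3.TCX.HeKM5
import Cfsg.Agent.Lib.Helper3.TCX.HeKM6
import Cfsg.Agent.Lib.Helper3.TCX.HeKM7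
import Cfsg.Agent.Lib.Helper3.TCX.HeKU0
import Cfsg.Agent.Lib.Helper3.TCX.HeKU1
import Cfsg.Agent.Lib.Helper3.TCX.HeKU2
import Cfsg.Agent.Lib.Helper3.TCX.HeKU3
import Cfsg.Agent.Lib.Helper3.TCX.HeKU4
import Cfsg.Agent.Lib.Helper3.TCX.HeKU5
import Cfsg.Agent.Lib.Helper3.TCX.HeKU6
import Cfsg.Agent.Lib.Helper3.TCX.HeKL0
import Cfsg.Agent.Lib.Helper3.TCX.HeKL1
import Cfsg.Agent.Lib.Helper3.TCX.HeKL2
import Cfsg.Agent.Lib.Helper3.TCX.HeKL3
import Cfsg.Agent.Lib.Helper3.TCX.HeKL4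

set_option autoImplicit false
set_option maxRecDepth 100000
open Cfsg

namespace Cfsg.Agent.Lib.Helper3.TCX.HeKMain
open Cfsg.Agent.Lib.Helper28.TC2Upper Cfsg.Agent.Lib.Helper28.TC2Lower Cfsg.Agent.Lib.Helper28.TC2Glue Cfsg.Agent.Lib.Helper28.TC2GlueOrb Cfsg.Agent.Lib.Helper28.TC2Orbit Cfsg.Agent.Lib.Helper28.TC2Range
open Cfsg.Agent.Lib.Helper3.TCX.HeKData Cfsg.Agent.Lib.Helper3.TCX.HeKTable Cfsg.Agent.Lib.Helper3.TCX.HeKLink Cfsg.Agent.Lib.Helper3.TCX.HeKM

theorem hchk : ∀ v, v < data.N → data.checkNode v = true := by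
  intro v hv
  have hv' : v < 49980 := hv
  rcases Nat.lt_or_ge v 1500 with h0 | h0
  · exact (data.checkRange_iff 0 1500).mp Cfsg.Agent.Lib.Helper3.TCX.HeKU0.chk0 v (by omega) (by omega)
  rcases Nat.lt_or_ge v 3000 with h1 | h1
  · exact (data.checkRange_iff 1500 1500).mp Cfsg.Agent.Lib.Helper3.TCX.HeKU0.chk1 v (by omega) (by omega)
  rcases Nat.lt_or_ge v 4500 with h2 | h2
  · exact (data.checkRange_iff 3000 1500).mp Cfsg.Agent.Lib.Helper3.TCX.HeKU0.chk2 v (by omega) (by omega)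
  rcases Nat.lt_or_ge v 6000 with h3 | h3
  · exact (data.checkRange_iff 4500 1500).mp Cfsg.Agent.Lib.Helper3.TCX.HeKU0.chk3 v (by omega) (by omega)
  rcases Nat.lt_or_ge v 7500 with h4 | h4
  · exact (data.checkRange_iff 6000 1500).mp Cfsg.Agent.Lib.Helper3.TCX.HeKU0.chk4 v (by omega) (by omega)
  rcases Nat.lt_or_ge v 9000 with h5 | h5
  · exact (data.checkRange_iff 7500 1500).mp Cfsg.Agent.Lib.Helper3.TCX.HeKU1.chk5 v (by omega) (by omega)
  rcases Nat.lt_or_ge v 10500 with h6 | h6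
  · exact (data.checkRange_iff 9000 1500).mp Cfsg.Agent.Lib.Helper3.TCX.HeKU1.chk6 v (by omega) (by omega)
  rcases Nat.lt_or_ge v 12000 with h7 | h7
  · exact (data.checkRange_iff 10500 1500).mp Cfsg.Agent.Lib.Helper3.TCX.HeKU1.chk7 v (by omega) (by omega)
  rcases Nat.lt_or_ge v 13500 with h8 | h8
  · exact (data.checkRange_iff 12000 1500).mp Cfsg.Agent.Lib.Helper3.TCX.HeKU1.chk8 v (by omega) (by omega)
  rcases Nat.lt_or_ge v 15000 with h9 | h9
  · exact (data.checkRange_iff 13500 1500).mp Cfsg.Agent.Lib.Helper3.TCX.HeKU1.chk9 v (by omega) (by omega)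
  rcases Nat.lt_or_ge v 16500 with h10 | h10
  · exact (data.checkRange_iff 15000 1500).mp Cfsg.Agent.Lib.Helper3.TCX.HeKU2.chk10 v (by omega) (by omega)
  rcases Nat.lt_or_ge v 18000 with h11 | h11
  · exact (data.checkRange_iff 16500 1500).mp Cfsg.Agent.Lib.Helper3.TCX.HeKU2.chk11 v (by omega) (by omega)
  rcases Nat.lt_or_ge v 19500 with h12 | h12
  · exact (data.checkRange_iff 18000 1500).mp Cfsg.Agent.Lib.Helper3.TCX.HeKU2.chk12 v (by omega) (by omega)
  rcases Nat.lt_or_ge v 21000 with h13 | h13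
  · exact (data.checkRange_iff 19500 1500).mp Cfsg.Agent.Lib.Helper3.TCX.HeKU2.chk13 v (by omega) (by omega)
  rcases Nat.lt_or_ge v 22500 with h14 | h14
  · exact (data.checkRange_iff 21000 1500).mp Cfsg.Agent.Lib.Helper3.TCX.HeKU2.chk14 v (by omega) (by omega)
  rcases Nat.lt_or_ge v 24000 with h15 | h15
  · exact (data.checkRange_iff 22500 1500).mp Cfsg.Agent.Lib.Helper3.TCX.HeKU3.chk15 v (by omega) (by omega)
  rcases Nat.lt_or_ge v 25500 with h16 | h16
  · exact (data.checkRange_iff 24000 1500).mp Cfsg.Agent.Lib.Helper3.TCX.HeKU3.chk16 v (by omega) (by omega)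
  rcases Nat.lt_or_ge v 27000 with h17 | h17
  · exact (data.checkRange_iff 25500 1500).mp Cfsg.Agent.Lib.Helper3.TCX.HeKU3.chk17 v (by omega) (by omega)
  rcases Nat.lt_or_ge v 28500 with h18 | h18
  · exact (data.checkRange_iff 27000 1500).mp Cfsg.Agent.Lib.Helper3.TCX.HeKU3.chk18 v (by omega) (by omega)
  rcases Nat.lt_or_ge v 30000 with h19 | h19
  · exact (data.checkRange_iff 28500 1500).mp Cfsg.Agent.Lib.Helper3.TCX.HeKU3.chk19 v (by omega) (by omega)
  rcases Nat.lt_or_ge v 31500 with h20 | h20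
  · exact (data.checkRange_iff 30000 1500).mp Cfsg.Agent.Lib.Helper3.TCX.HeKU4.chk20 v (by omega) (by omega)
  rcases Nat.lt_or_ge v 33000 with h21 | h21
  · exact (data.checkRange_iff 31500 1500).mp Cfsg.Agent.Lib.Helper3.TCX.HeKU4.chk21 v (by omega) (by omega)
  rcases Nat.lt_or_ge v 34500 with h22 | h22
  · exact (data.checkRange_iff 33000 1500).mp Cfsg.Agent.Lib.Helper3.TCX.HeKU4.chk22 v (by omega) (by omega)
  rcases Nat.lt_or_ge v 36000 with h23 | h23
  · exact (data.checkRange_iff 34500 1500).mp Cfsg.Agent.Lib.Helper3.TCX.HeKU4.chk23 v (by omega) (by omega)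
  rcases Nat.lt_or_ge v 37500 with h24 | h24
  · exact (data.checkRange_iff 36000 1500).mp Cfsg.Agent.Lib.Helper3.TCX.HeKU4.chk24 v (by omega) (by omega)
  rcases Nat.lt_or_ge v 39000 with h25 | h25
  · exact (data.checkRange_iff 37500 1500).mp Cfsg.Agent.Lib.Helper3.TCX.HeKU5.chk25 v (by omega) (by omega)
  rcases Nat.lt_or_ge v 40500 with h26 | h26
  · exact (data.checkRange_iff 39000 1500).mp Cfsg.Agent.Lib.Helper3.TCX.HeKU5.chk26 v (by omega) (by omega)
  rcases Nat.lt_or_ge v 42000 with h27 | h27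
  · exact (data.checkRange_iff 40500 1500).mp Cfsg.Agent.Lib.Helper3.TCX.HeKU5.chk27 v (by omega) (by omega)
  rcases Nat.lt_or_ge v 43500 with h28 | h28
  · exact (data.checkRange_iff 42000 1500).mp Cfsg.Agent.Lib.Helper3.TCX.HeKU5.chk28 v (by omega) (by omega)
  rcases Nat.lt_or_ge v 45000 with h29 | h29
  · exact (data.checkRange_iff 43500 1500).mp Cfsg.Agent.Lib.Helper3.TCX.HeKU5.chk29 v (by omega) (by omega)
  rcases Nat.lt_or_ge v 46500 with h30 | h30
  · exact (data.checkRange_iff 45000 1500).mp Cfsg.Agent.Lib.Helper3.TCX.HeKU6.chk30 v (by omega) (by omega)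
  rcases Nat.lt_or_ge v 48000 with h31 | h31
  · exact (data.checkRange_iff 46500 1500).mp Cfsg.Agent.Lib.Helper3.TCX.HeKU6.chk31 v (by omega) (by omega)
  rcases Nat.lt_or_ge v 49500 with h32 | h32
  · exact (data.checkRange_iff 48000 1500).mp Cfsg.Agent.Lib.Helper3.TCX.HeKU6.chk32 v (by omega) (by omega)
  exact (data.checkRange_iff 49500 480).mp Cfsg.Agent.Lib.Helper3.TCX.HeKU6.chk33 v (by omega) (by omega)

theorem hrows : ∀ v, v < data.N → Data.rowOK data v = true := by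
  intro v hv
  have hv' : v < 49980 := hv
  rcases Nat.lt_or_ge v 6000 with h0 | h0
  · exact (Data.finalRange_iff data 0 6000).mp Cfsg.Agent.Lib.Helper3.TCX.HeKM0.fin0 v (by omega) (by omega)
  rcases Nat.lt_or_ge v 12000 with h1 | h1
  · exact (Data.finalRange_iff data 6000 6000).mp Cfsg.Agent.Lib.Helper3.TCX.HeKM0.fin1 v (by omega) (by omega)
  rcases Nat.lt_or_ge v 18000 with h2 | h2
  · exact (Data.finalRange_iff data 12000 6000).mp Cfsg.Agent.Lib.Helper3.TCX.HeKM0.fin2 v (by omega) (by omega)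
  rcases Nat.lt_or_ge v 24000 with h3 | h3
  · exact (Data.finalRange_iff data 18000 6000).mp Cfsg.Agent.Lib.Helper3.TCX.HeKM0.fin3 v (by omega) (by omega)
  rcases Nat.lt_or_ge v 30000 with h4 | h4
  · exact (Data.finalRange_iff data 24000 6000).mp Cfsg.Agent.Lib.Helper3.TCX.HeKM0.fin4 v (by omega) (by omega)
  rcases Nat.lt_or_ge v 36000 with h5 | h5
  · exact (Data.finalRange_iff data 30000 6000).mp Cfsg.Agent.Lib.Helper3.TCX.HeKM1.fin5 v (by omega) (by omega)
  rcases Nat.lt_or_ge v 42000 with h6 | h6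
  · exact (Data.finalRange_iff data 36000 6000).mp Cfsg.Agent.Lib.Helper3.TCX.HeKM1.fin6 v (by omega) (by omega)
  rcases Nat.lt_or_ge v 48000 with h7 | h7
  · exact (Data.finalRange_iff data 42000 6000).mp Cfsg.Agent.Lib.Helper3.TCX.HeKM1.fin7 v (by omega) (by omega)
  exact (Data.finalRange_iff data 48000 1980).mp Cfsg.Agent.Lib.Helper3.TCX.HeKM1.fin8 v (by omega) (by omega)

theorem hfin : data.finalOK = true := Data.finalOK_of_rows data hlive0 (by decide) hrows

theorem pc0 : Data.countFrom data 0 6000 = 6000 := Cfsg.Agent.Lib.Helper3.TCX.HeKM1.cnt0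
theorem pc1 : Data.countFrom data 0 12000 = 12000 := Data.countFrom_step data pc0 Cfsg.Agent.Lib.Helper3.TCX.HeKM2.cnt1 (by norm_num) (by norm_num)
theorem pc2 : Data.countFrom data 0 18000 = 18000 := Data.countFrom_step data pc1 Cfsg.Agent.Lib.Helper3.TCX.HeKM2.cnt2 (by norm_num) (by norm_num)
theorem pc3 : Data.countFrom data 0 24000 = 24000 := Data.countFrom_step data pc2 Cfsg.Agent.Lib.Helper3.TCX.HeKM2.cnt3 (by norm_num) (by norm_num)
theorem pc4 : Data.countFrom data 0 30000 = 30000 := Data.countFrom_step data pc3 Cfsg.Agent.Lib.Helper3.TCX.HeKM2.cnt4 (by norm_num) (by norm_num)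
theorem pc5 : Data.countFrom data 0 36000 = 36000 := Data.countFrom_step data pc4 Cfsg.Agent.Lib.Helper3.TCX.HeKM2.cnt5 (by norm_num) (by norm_num)
theorem pc6 : Data.countFrom data 0 42000 = 42000 := Data.countFrom_step data pc5 Cfsg.Agent.Lib.Helper3.TCX.HeKM3.cnt6 (by norm_num) (by norm_num)
theorem pc7 : Data.countFrom data 0 48000 = 48000 := Data.countFrom_step data pc6 Cfsg.Agent.Lib.Helper3.TCX.HeKM3.cnt7 (by norm_num) (by norm_num)
theorem pc8 : Data.countFrom data 0 49980 = 49980 := Data.countFrom_step data pc7 Cfsg.Agent.Lib.Helper3.TCX.HeKM3.cnt8 (by norm_num) (by norm_num)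

theorem hcount : data.countLive = table.n := by
  rw [Data.countLive_eq]
  exact pc8

theorem hpermAll : ∀ p, p < table.n → Table.permRow table p = true := by
  intro p hv
  have hv' : p < 49980 := hv
  rcases Nat.lt_or_ge p 6000 with h0 | h0
  · exact (Table.permRange_iff table 0 6000).mp Cfsg.Agent.Lib.Helper3.TCX.HeKM3.prm0 p (by omega) (by omega)
  rcases Nat.lt_or_ge p 12000 with h1 | h1
  · exact (Table.permRange_iff table 6000 6000).mp Cfsg.Agent.Lib.Helper3.TCX.HeKM3.prm1 p (by omega) (by omega)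
  rcases Nat.lt_or_ge p 18000 with h2 | h2
  · exact (Table.permRange_iff table 12000 6000).mp Cfsg.Agent.Lib.Helper3.TCX.HeKM4.prm2 p (by omega) (by omega)
  rcases Nat.lt_or_ge p 24000 with h3 | h3
  · exact (Table.permRange_iff table 18000 6000).mp Cfsg.Agent.Lib.Helper3.TCX.HeKM4.prm3 p (by omega) (by omega)
  rcases Nat.lt_or_ge p 30000 with h4 | h4
  · exact (Table.permRange_iff table 24000 6000).mp Cfsg.Agent.Lib.Helper3.TCX.HeKM4.prm4 p (by omega) (by omega)
  rcases Nat.lt_or_ge p 36000 with h5 | h5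
  · exact (Table.permRange_iff table 30000 6000).mp Cfsg.Agent.Lib.Helper3.TCX.HeKM4.prm5 p (by omega) (by omega)
  rcases Nat.lt_or_ge p 42000 with h6 | h6
  · exact (Table.permRange_iff table 36000 6000).mp Cfsg.Agent.Lib.Helper3.TCX.HeKM4.prm6 p (by omega) (by omega)
  rcases Nat.lt_or_ge p 48000 with h7 | h7
  · exact (Table.permRange_iff table 42000 6000).mp Cfsg.Agent.Lib.Helper3.TCX.HeKM5.prm7 p (by omega) (by omega)
  exact (Table.permRange_iff table 48000 1980).mp Cfsg.Agent.Lib.Helper3.TCX.HeKM5.prm8 p (by omega) (by omega)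

theorem hT : table.OK := Table.ok_of_rows table hinvOK hpermAll

theorem htreeAll : ∀ i, i < Nat.pred table.n → Table.treeRow table i = true := by
  intro p hv
  have hv' : p < 49979 := hv
  rcases Nat.lt_or_ge p 6000 with h0 | h0
  · exact (Table.treeRange_iff table 0 6000).mp Cfsg.Agent.Lib.Helper3.TCX.HeKM5.tre0 p (by omega) (by omega)
  rcases Nat.lt_or_ge p 12000 with h1 | h1
  · exact (Table.treeRange_iff table 6000 6000).mp Cfsg.Agent.Lib.Helper3.TCX.HeKM5.tre1 p (by omega) (by omega)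
  rcases Nat.lt_or_ge p 18000 with h2 | h2
  · exact (Table.treeRange_iff table 12000 6000).mp Cfsg.Agent.Lib.Helper3.TCX.HeKM5.tre2 p (by omega) (by omega)
  rcases Nat.lt_or_ge p 24000 with h3 | h3
  · exact (Table.treeRange_iff table 18000 6000).mp Cfsg.Agent.Lib.Helper3.TCX.HeKM6.tre3 p (by omega) (by omega)
  rcases Nat.lt_or_ge p 30000 with h4 | h4
  · exact (Table.treeRange_iff table 24000 6000).mp Cfsg.Agent.Lib.Helper3.TCX.HeKM6.tre4 p (by omega) (by omega)
  rcases Nat.lt_or_ge p 36000 with h5 | h5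
  · exact (Table.treeRange_iff table 30000 6000).mp Cfsg.Agent.Lib.Helper3.TCX.HeKM6.tre5 p (by omega) (by omega)
  rcases Nat.lt_or_ge p 42000 with h6 | h6
  · exact (Table.treeRange_iff table 36000 6000).mp Cfsg.Agent.Lib.Helper3.TCX.HeKM6.tre6 p (by omega) (by omega)
  rcases Nat.lt_or_ge p 48000 with h7 | h7
  · exact (Table.treeRange_iff table 42000 6000).mp Cfsg.Agent.Lib.Helper3.TCX.HeKM6.tre7 p (by omega) (by omega)
  exact (Table.treeRange_iff table 48000 1979).mp Cfsg.Agent.Lib.Helper3.TCX.HeKM7.tre8 p (by omega) (by omega)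

theorem htree : table.treeOK = true := Table.treeOK_of_rows table htreeAll

theorem hchkT : ∀ P ∈ chkPaths, ∀ p, p < table.n → table.walkT P p = p := by
  intro P hm p hv
  have hv' : p < 49980 := hv
  rcases Nat.lt_or_ge p 2000 with h0 | h0
  · exact (Table.relOK_iff chkPaths 0 2000).mp Cfsg.Agent.Lib.Helper3.TCX.HeKL0.rel0 p (by omega) (by omega) _ hm
  rcases Nat.lt_or_ge p 4000 with h1 | h1
  · exact (Table.relOK_iff chkPaths 2000 2000).mp Cfsg.Agent.Lib.Helper3.TCX.HeKL0.rel1 p (by omega) (by omega) _ hm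
  rcases Nat.lt_or_ge p 6000 with h2 | h2
  · exact (Table.relOK_iff chkPaths 4000 2000).mp Cfsg.Agent.Lib.Helper3.TCX.HeKL0.rel2 p (by omega) (by omega) _ hm
  rcases Nat.lt_or_ge p 8000 with h3 | h3
  · exact (Table.relOK_iff chkPaths 6000 2000).mp Cfsg.Agent.Lib.Helper3.TCX.HeKL0.rel3 p (by omega) (by omega) _ hm
  rcases Nat.lt_or_ge p 10000 with h4 | h4
  · exact (Table.relOK_iff chkPaths 8000 2000).mp Cfsg.Agent.Lib.Helper3.TCX.HeKL0.rel4 p (by omega) (by omega) _ hm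
  rcases Nat.lt_or_ge p 12000 with h5 | h5
  · exact (Table.relOK_iff chkPaths 10000 2000).mp Cfsg.Agent.Lib.Helper3.TCX.HeKL1.rel5 p (by omega) (by omega) _ hm
  rcases Nat.lt_or_ge p 14000 with h6 | h6
  · exact (Table.relOK_iff chkPaths 12000 2000).mp Cfsg.Agent.Lib.Helper3.TCX.HeKL1.rel6 p (by omega) (by omega) _ hm
  rcases Nat.lt_or_ge p 16000 with h7 | h7
  · exact (Table.relOK_iff chkPaths 14000 2000).mp Cfsg.Agent.Lib.Helper3.TCX.HeKL1.rel7 p (by omega) (by omega) _ hm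
  rcases Nat.lt_or_ge p 18000 with h8 | h8
  · exact (Table.relOK_iff chkPaths 16000 2000).mp Cfsg.Agent.Lib.Helper3.TCX.HeKL1.rel8 p (by omega) (by omega) _ hm
  rcases Nat.lt_or_ge p 20000 with h9 | h9
  · exact (Table.relOK_iff chkPaths 18000 2000).mp Cfsg.Agent.Lib.Helper3.TCX.HeKL1.rel9 p (by omega) (by omega) _ hm
  rcases Nat.lt_or_ge p 22000 with h10 | h10
  · exact (Table.relOK_iff chkPaths 20000 2000).mp Cfsg.Agent.Lib.Helper3.TCX.HeKL2.rel10 p (by omega) (by omega) _ hm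
  rcases Nat.lt_or_ge p 24000 with h11 | h11
  · exact (Table.relOK_iff chkPaths 22000 2000).mp Cfsg.Agent.Lib.Helper3.TCX.HeKL2.rel11 p (by omega) (by omega) _ hm
  rcases Nat.lt_or_ge p 26000 with h12 | h12
  · exact (Table.relOK_iff chkPaths 24000 2000).mp Cfsg.Agent.Lib.Helper3.TCX.HeKL2.rel12 p (by omega) (by omega) _ hm
  rcases Nat.lt_or_ge p 28000 with h13 | h13
  · exact (Table.relOK_iff chkPaths 26000 2000).mp Cfsg.Agent.Lib.Helper3.TCX.HeKL2.rel13 p (by omega) (by omega) _ hm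
  rcases Nat.lt_or_ge p 30000 with h14 | h14
  · exact (Table.relOK_iff chkPaths 28000 2000).mp Cfsg.Agent.Lib.Helper3.TCX.HeKL2.rel14 p (by omega) (by omega) _ hm
  rcases Nat.lt_or_ge p 32000 with h15 | h15
  · exact (Table.relOK_iff chkPaths 30000 2000).mp Cfsg.Agent.Lib.Helper3.TCX.HeKL3.rel15 p (by omega) (by omega) _ hm
  rcases Nat.lt_or_ge p 34000 with h16 | h16
  · exact (Table.relOK_iff chkPaths 32000 2000).mp Cfsg.Agent.Lib.Helper3.TCX.HeKL3.rel16 p (by omega) (by omega) _ hm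
  rcases Nat.lt_or_ge p 36000 with h17 | h17
  · exact (Table.relOK_iff chkPaths 34000 2000).mp Cfsg.Agent.Lib.Helper3.TCX.HeKL3.rel17 p (by omega) (by omega) _ hm
  rcases Nat.lt_or_ge p 38000 with h18 | h18
  · exact (Table.relOK_iff chkPaths 36000 2000).mp Cfsg.Agent.Lib.Helper3.TCX.HeKL3.rel18 p (by omega) (by omega) _ hm
  rcases Nat.lt_or_ge p 40000 with h19 | h19
  · exact (Table.relOK_iff chkPaths 38000 2000).mp Cfsg.Agent.Lib.Helper3.TCX.HeKL3.rel19 p (by omega) (by omega) _ hm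
  rcases Nat.lt_or_ge p 42000 with h20 | h20
  · exact (Table.relOK_iff chkPaths 40000 2000).mp Cfsg.Agent.Lib.Helper3.TCX.HeKL4.rel20 p (by omega) (by omega) _ hm
  rcases Nat.lt_or_ge p 44000 with h21 | h21
  · exact (Table.relOK_iff chkPaths 42000 2000).mp Cfsg.Agent.Lib.Helper3.TCX.HeKL4.rel21 p (by omega) (by omega) _ hm
  rcases Nat.lt_or_ge p 46000 with h22 | h22
  · exact (Table.relOK_iff chkPaths 44000 2000).mp Cfsg.Agent.Lib.Helper3.TCX.HeKL4.rel22 p (by omega) (by omega) _ hm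
  rcases Nat.lt_or_ge p 48000 with h23 | h23
  · exact (Table.relOK_iff chkPaths 46000 2000).mp Cfsg.Agent.Lib.Helper3.TCX.HeKL4.rel23 p (by omega) (by omega) _ hm
  exact (Table.relOK_iff chkPaths 48000 1980).mp Cfsg.Agent.Lib.Helper3.TCX.HeKL4.rel24 p (by omega) (by omega) _ hm

theorem hrelT : ∀ L ∈ relWords, ∀ p, p < table.n → table.walkT (pathOf lw L) p = p :=
  fun L hL => Table.fix_of_covered hT chkPaths hchkT _ (hcov _ (hrelmem L hL)).1 (hcov _ (hrelmem L hL)).2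

theorem hsubT : ∀ L ∈ subWords, table.walkT (pathOf lw L) 0 = 0 :=
  fun L hL => (Table.subOK_iff subPaths).mp hsub0 _ (hsubmem L hL)

theorem hn : 0 < table.n := by decide

theorem main : ((Subgroup.closure S).map (PresentedGroup.mk rels)).index = table.n ∧
    ∃ φ : PresentedGroup rels →* Equiv.Perm (Fin table.n),
      (∀ x, φ (PresentedGroup.of x) = Table.sigma hT (lw (x, true))) ∧
      ∃ f : PresentedGroup rels ⧸ (Subgroup.closure S).map (PresentedGroup.mk rels) → Fin table.n,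
        Function.Bijective f ∧ (∀ g q, f (g • q) = φ g (f q)) ∧ f (QuotientGroup.mk 1) = ⟨0, hn⟩ :=
  index_eq link hchk hfin hcount hT hn hrelT hsubT htree

end Cfsg.Agent.Lib.Helper3.TCX.HeKMain
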