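import Cfsg.Agent.Lib.Helper3.TCX.HeP3Table
set_option autoImplicit false
set_option maxRecDepth 100000
set_option maxHeartbeats 0

namespace Cfsg.Agent.Lib.Helper3.TCX.HeP3L0
open Cfsg.Agent.Lib.Helper28.TC2Upper Cfsg.Agent.Lib.Helper28.TC2Lower Cfsg.Agent.Lib.Helper3.TCX.HeP3Table

theorem rel0 : table.relOK chkPaths 0 20 = true := by decide +kernel

end Cfsg.Agent.Lib.Helper3.TCX.HeP3L0
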