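set_option autoImplicit false

namespace Cfsg.Agent.Lib.Helper3.TCX.HeP3Data

def cE0 : Nat := 0xe65d4f27daec6374255c4a99b0b1a3aa6652b20d194238a49020021
def cE1 : Nat := 0xee1a3b06f93a979caf8c08a5ee1982bec486da97490144e20072062
def cE2 : Nat := 0xe1fac76958cde742a44d7078f3ba36a84756808c0a68180798b28a3
def cE3 : Nat := 0x0
def cJ0 : Nat := 0x13000073000000000000013800000000000000f8000000001000007300003000110000330000000000000108000000000d00007300000000000000a800000000000000d8000030000c0000330000000000000078000000000800007300003000090000330000000000000088000000000500007300000000000000280000000000000058000030000400003300000000000000020000000000000001
def cJ1 : Nat := 0x130000930000000000000002000000000000000200000000010001380000000000000002000000000000000100000000000000010000000000000002000000000000000100000000000000020000000000000002000000000000000100000000000000020000000000000001000000000000000100000000000000020000000000000001000000000000000200000000000000010000000000000001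
def cJ2 : Nat := 0x2000090000f000093000000000200012800000000000000020000000000000001000000000000000200000000000000020000000000000001000000000000000200000000000000010000000000000001000000000000000200000000000000010000000000000002000000000000000200000000000000010000000000000002000000000000000100000000000000010000000000000001
def cJ3 : Nat := 0x0
def cP0 : Nat := 0x409e80b9016a04c40568129024a028408e8099012a04440468109020a021408080810002000

end Cfsg.Agent.Lib.Helper3.TCX.HeP3Data
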