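import Cfsg.Agent.Lib.Helper28.TC2Upper
import Cfsg.Agent.Lib.Helper3.TCX.HeP3DataC0
set_option autoImplicit false
set_option maxRecDepth 100000

namespace Cfsg.Agent.Lib.Helper3.TCX.HeP3Data
open Cfsg.Agent.Lib.Helper28.TC2Upper

/-- relators -/
def relT : BT (ℕ × List ℕ × List ℕ) := (BT.node 4 (BT.node 2 (BT.node 1 (BT.node 0 (BT.leaf (2, [1, 1], [1, 1])) (BT.leaf (4, [0, 1, 0, 1], [1, 0, 1, 0]))) (BT.leaf (20, [2, 1, 2, 1, 2, 1, 2, 1, 2, 1, 2, 1, 2, 1, 2, 1, 2, 1, 2, 1], [1, 2, 1, 2, 1, 2, 1, 2, 1, 2, 1, 2, 1, 2, 1, 2, 1, 2, 1, 2]))) (BT.node 3 (BT.leaf (4, [1, 0, 1, 0], [0, 1, 0, 1])) (BT.leaf (2, [0, 0], [0, 0])))) (BT.node 7 (BT.node 6 (BT.node 5 (BT.leaf (4, [2, 0, 2, 0], [0, 2, 0, 2])) (BT.leaf (20, [1, 2, 1, 2, 1, 2, 1, 2, 1, 2, 1, 2, 1, 2, 1, 2, 1, 2, 1, 2], [2, 1, 2, 1, 2, 1, 2, 1, 2, 1, 2, 1, 2, 1, 2, 1, 2,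 1, 2, 1]))) (BT.leaf (4, [0, 2, 0, 2], [2, 0, 2, 0]))) (BT.node 8 (BT.leaf (2, [2, 2], [2, 2])) (BT.leaf (11, [1, 2, 1, 2, 1, 2, 1, 2, 1, 2, 0], [0, 2, 1, 2, 1, 2, 1, 2, 1, 2, 1])))))
/-- subgroup generators -/
def subT : BT (ℕ × List ℕ × List ℕ) := (BT.leaf (0, [], []))
/-- fact chunks -/
def colET : BT ℕ := (BT.node 1 (BT.node 0 (BT.leaf cE0) (BT.leaf cE1)) (BT.node 2 (BT.leaf cE2) (BT.leaf cE3)))
/-- justification chunks -/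
def colJT : BT ℕ := (BT.node 1 (BT.node 0 (BT.leaf cJ0) (BT.leaf cJ1)) (BT.node 2 (BT.leaf cJ2) (BT.leaf cJ3)))
/-- parent chunks -/
def parCT : BT ℕ := (BT.leaf cP0)
/-- the certificate -/
def data : Data where
  k := 3
  N := 20
  W := 11
  MW := 2048
  B := 32
  CH := 512
  NCH := 1
  colE := colET
  JW := 64
  MJ := 18446744073709551616
  A := 1048576
  colJ := colJT
  PW := 15
  MP := 32768
  parC := parCT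
  inv := (BT.node 1 (BT.node 0 (BT.leaf 0) (BT.leaf 1)) (BT.node 2 (BT.leaf 2) (BT.leaf 3)))
  rel := relT
  sub := subT
  fuel := 4

end Cfsg.Agent.Lib.Helper3.TCX.HeP3Data
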