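import Cfsg.Agent.Lib.Helper28.TC2Orbit
set_option autoImplicit false
set_option maxRecDepth 100000

namespace Cfsg.Agent.Lib.Helper3.TCX.HeP3Table
open Cfsg.Agent.Lib.Helper28.TC2Upper Cfsg.Agent.Lib.Helper28.TC2Lower Cfsg.Agent.Lib.Helper28.TC2Orbit

def cT0 : ℕ := 0x94dee8c16a6b0e64a06229001
def cT1 : ℕ := 0x839b35ca28798ac1a92138082
def cT2 : ℕ := 0x7c64c9a9303b9a458828018a3
def cR0 : ℕ := 0x2780b805a04c0158128092028023809804a04401181080820210200080000000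
/-- table chunks -/
def colTT : BT ℕ := (BT.node 1 (BT.node 0 (BT.leaf cT0) (BT.leaf cT1)) (BT.leaf cT2))
/-- spanning tree chunks -/
def treeT : BT ℕ := (BT.leaf cR0)
/-- relator paths -/
def relPaths : List (List ℕ) := [[1, 1], [0, 1, 0, 1], [2, 1, 2, 1, 2, 1, 2, 1, 2, 1, 2, 1, 2, 1, 2, 1, 2, 1, 2, 1], [1, 0, 1, 0], [0, 0], [2, 0, 2, 0], [1, 2, 1, 2, 1, 2, 1, 2, 1, 2, 1, 2, 1, 2, 1, 2, 1, 2, 1, 2], [0, 2, 0, 2], [2, 2], [1, 2, 1, 2, 1, 2, 1, 2, 1, 2, 0]]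
/-- subgroup generator paths -/
def subPaths : List (List ℕ) := [[]]
/-- the relator paths that are checked directly -/
def chkPaths : List (List ℕ) := [[0, 1, 0, 1], [2, 1, 2, 1, 2, 1, 2, 1, 2, 1, 2, 1, 2, 1, 2, 1, 2, 1, 2, 1], [2, 0, 2, 0], [1, 2, 1, 2, 1, 2, 1, 2, 1, 2, 0]]
/-- the coset table -/
def table : Table where
  n := 20
  k := 3
  w := 5
  M := 32
  CH := 1024
  NCH := 1
  col := colTT
  inv := (BT.node 1 (BT.node 0 (BT.leaf 0) (BT.leaf 1)) (BT.node 2 (BT.leaf 2) (BT.leaf 3)))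
  tw := 13
  TM := 8192
  tree := treeT

end Cfsg.Agent.Lib.Helper3.TCX.HeP3Table
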