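import Cfsg.Agent.Lib.Helper28.TC2Range
import Cfsg.Agent.Lib.Helper3.TCX.HeP5Data
import Cfsg.Agent.Lib.Helper3.TCX.HeP5Table
set_option autoImplicit false
set_option maxRecDepth 100000
set_option maxHeartbeats 0

namespace Cfsg.Agent.Lib.Helper3.TCX.HeP5M0
open Cfsg.Agent.Lib.Helper28.TC2Upper Cfsg.Agent.Lib.Helper28.TC2Lower Cfsg.Agent.Lib.Helper28.TC2Range Cfsg.Agent.Lib.Helper3.TCX.HeP5Data Cfsg.Agent.Lib.Helper3.TCX.HeP5Table

theorem fin0 : Data.finalRange data 0 6000 = true := by decide +kernel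
theorem fin1 : Data.finalRange data 6000 6000 = true := by decide +kernel
theorem fin2 : Data.finalRange data 12000 3120 = true := by decide +kernel
theorem cnt0 : Data.countFrom data 0 6000 = 6000 := by decide +kernel
theorem cnt1 : Data.countFrom data 6000 6000 = 6000 := by decide +kernel

end Cfsg.Agent.Lib.Helper3.TCX.HeP5M0
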