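import Cfsg.Agent.Lib.Helper28.TC2Tower
set_option autoImplicit false

/-!
# Towers of presentations with a kernel

A refinement of `TC2Tower.card_le_of_subpres`: if the sub-presentation has an element `w ≠ 1` that dies
in the big presented group, the subgroup generated by the images has at most half the order of the
sub-presented group.
-/

namespace Cfsg.Agent.Lib.Helper3.TCX

variable {α β : Type}

/-- the homomorphism induced by a map of generators carrying relators to relators -/
noncomputable def subpresHom (rels : Set (FreeGroup α)) (rels' : Set (FreeGroup β)) (ι : β → α)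
    (hrel : ∀ r ∈ rels', FreeGroup.map ι r ∈ rels) : PresentedGroup rels' →* PresentedGroup rels :=
  PresentedGroup.toGroup (f := fun b => (PresentedGroup.of (ι b) : PresentedGroup rels)) (by
    intro r hr
    have key : FreeGroup.lift (fun b => (PresentedGroup.of (ι b) : PresentedGroup rels)) =
        (PresentedGroup.mk rels).comp (FreeGroup.map ι) := by
      ext b
      simp [PresentedGroup.of]
    rw [key]
    exact PresentedGroup.one_of_mem (hrel r hr))

theorem subpresHom_mk (rels : Set (FreeGroup α)) (rels' : Set (FreeGroup β)) (ι : β → α)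
    (hrel : ∀ r ∈ rels', FreeGroup.map ι r ∈ rels) (w : FreeGroup β) :
    subpresHom rels rels' ι hrel (PresentedGroup.mk rels' w) = PresentedGroup.mk rels (FreeGroup.map ι w) := by
  have key : (subpresHom rels rels' ι hrel).comp (PresentedGroup.mk rels') =
      (PresentedGroup.mk rels).comp (FreeGroup.map ι) := by
    ext b
    show subpresHom rels rels' ι hrel (PresentedGroup.of b) = _
    unfold subpresHom
    rw [PresentedGroup.toGroup.of]
    simp [PresentedGroup.of]
  exact DFunLike.congr_fun key w

/-- a word that is trivial in the sub-presented group is trivial in the big group -/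
theorem mk_map_eq_one (rels : Set (FreeGroup α)) (rels' : Set (FreeGroup β)) (ι : β → α)
    (hrel : ∀ r ∈ rels', FreeGroup.map ι r ∈ rels) (w : FreeGroup β)
    (h : PresentedGroup.mk rels' w = 1) : PresentedGroup.mk rels (FreeGroup.map ι w) = 1 := by
  rw [← subpresHom_mk rels rels' ι hrel, h, map_one]

/-- the subgroup generated by the images of the generators of a sub-presentation with a nontrivial
kernel element has at most half the order -/
theorem card_le_of_subpres_ker (rels : Set (FreeGroup α)) (rels' : Set (FreeGroup β)) (ι : β → α)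
    (hrel : ∀ r ∈ rels', FreeGroup.map ι r ∈ rels)
    (S : Set (FreeGroup α)) (hS : ∀ s ∈ S, ∃ b, s = FreeGroup.of (ι b))
    [Finite (PresentedGroup rels')] (w : FreeGroup β)
    (hw1 : PresentedGroup.mk rels' w ≠ 1) (hw2 : PresentedGroup.mk rels (FreeGroup.map ι w) = 1) :
    Finite ((Subgroup.closure S).map (PresentedGroup.mk rels)) ∧
    2 * Nat.card ((Subgroup.closure S).map (PresentedGroup.mk rels)) ≤ Nat.card (PresentedGroup rels') := by
  set ψ := subpresHom rels rels' ι hrel with hψ
  have hle : (Subgroup.closure S).map (PresentedGroup.mk rels) ≤ ψ.range := by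
    rw [Subgroup.map_le_iff_le_comap, Subgroup.closure_le]
    intro s hs
    obtain ⟨b, rfl⟩ := hS s hs
    show PresentedGroup.mk rels (FreeGroup.of (ι b)) ∈ ψ.range
    refine ⟨PresentedGroup.mk rels' (FreeGroup.of b), ?_⟩
    rw [hψ, subpresHom_mk, FreeGroup.map.of]
  have : Finite ψ.range := Finite.of_surjective ψ.rangeRestrict ψ.rangeRestrict_surjective
  have hfin : Finite ((Subgroup.closure S).map (PresentedGroup.mk rels)) :=
    Finite.of_injective (Subgroup.inclusion hle) (Subgroup.inclusion_injective hle)
  refine ⟨hfin, ?_⟩
  have h1 : Nat.card ((Subgroup.closure S).map (PresentedGroup.mk rels)) ≤ Nat.card ψ.range :=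
    Nat.card_le_card_of_injective _ (Subgroup.inclusion_injective hle)
  have hker : 2 ≤ Nat.card ψ.ker := by
    have hnt : Nontrivial ψ.ker := by
      refine ⟨⟨⟨PresentedGroup.mk rels' w, ?_⟩, 1, ?_⟩⟩
      · rw [MonoidHom.mem_ker, hψ, subpresHom_mk]; exact hw2
      · intro e
        exact hw1 (congrArg Subtype.val e)
    exact Finite.one_lt_card_iff_nontrivial.mpr hnt
  have h2 : Nat.card ψ.ker * Nat.card ψ.range = Nat.card (PresentedGroup rels') := by
    rw [← Subgroup.index_ker, mul_comm]
    exact ψ.ker.index_mul_card
  calc 2 * Nat.card ((Subgroup.closure S).map (PresentedGroup.mk rels))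
      ≤ Nat.card ψ.ker * Nat.card ψ.range := Nat.mul_le_mul hker h1
    _ = Nat.card (PresentedGroup rels') := h2

end Cfsg.Agent.Lib.Helper3.TCX
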