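import Cfsg.Agent.Lib.Helper28.TC2Tower
import Cfsg.Agent.Lib.Helper28.TC2Simple
import Cfsg.Agent.Lib.Helper3.TCX.Kernel
import Cfsg.Agent.Lib.Helper3.TCX.HeKMain
import Cfsg.Agent.Lib.Helper3.TCX.HePTMain
import Cfsg.Agent.Lib.Helper3.TCX.HeP3Main
import Cfsg.Agent.Lib.Helper3.TCX.HeP5Main
set_option autoImplicit false
set_option maxRecDepth 100000

/-!
# The order of the presented Held group is at most 4030387200

Tower: `He ≥ K = ⟨a, c, d, e, f, g⟩` of index 49980; `K` is a quotient of the sub-presentation `P_T` on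
`a, c, d, e, f, g`, of order at most `8064 · 20`; the word `w = cdcdedcdcdedcde` is not trivial in
`P_T` but is trivial in the sub-presentation on `a, b, c, d, e` (of order 15120), hence in `He`, so that
`|K| ≤ 80640`.
-/

namespace Cfsg.Agent.Lib.Helper3.TCX.HeTower
open Cfsg.Agent.Lib.Helper28.TC2Tower Cfsg.Agent.Lib.Helper28.TC2Glue Cfsg.Agent.Lib.Helper28.TC2Simple
open Cfsg.Agent.Lib.Helper28.TC2Upper Cfsg.Agent.Lib.Helper28.TC2Lower

/-- the sub-presentation on `a, c, d` has order 20 -/
theorem card3 : Finite (PresentedGroup HeP3Link.rels) ∧ Nat.card (PresentedGroup HeP3Link.rels) = 20 := by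
  have h : ((Subgroup.closure HeP3Link.S).map (PresentedGroup.mk HeP3Link.rels)).index = 20 := HeP3Main.main.1
  have e : (Subgroup.closure HeP3Link.S).map (PresentedGroup.mk HeP3Link.rels) = ⊥ := by
    show (Subgroup.closure {1}).map _ = ⊥
    rw [Subgroup.closure_singleton_one, Subgroup.map_bot]
  rw [e] at h
  exact card_of_index_bot (by norm_num) h

theorem up3 : ∀ L ∈ HeP3Link.relWords, upWord HeP3Def.up L ∈ HePTLink.relWords := by decide +kernel

/-- the sub-presentation on `a, c, d, e, f, g` has order at most 161280 -/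
theorem cardT : Finite (PresentedGroup HePTLink.rels) ∧ Nat.card (PresentedGroup HePTLink.rels) ≤ 161280 := by
  haveI := card3.1
  have hrel := hrel_of_words HePTLink.rels HeP3Link.rels HeP3Def.up HePTLink.relWords HeP3Link.relWords
    HePTLink.link.hrels HeP3Link.link.hrels up3
  have hS : ∀ s ∈ HePTLink.S, ∃ b, s = FreeGroup.of (HeP3Def.up b) := by
    intro s hs
    simp only [HePTLink.S, Set.mem_insert_iff, Set.mem_singleton_iff] at hs
    rcases hs with rfl | rfl | rfl
    exacts [⟨.a, rfl⟩, ⟨.c, rfl⟩, ⟨.d, rfl⟩]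
  obtain ⟨hfin, hle⟩ := card_le_of_subpres HePTLink.rels HeP3Link.rels HeP3Def.up hrel HePTLink.S hS
  have hidx : ((Subgroup.closure HePTLink.S).map (PresentedGroup.mk HePTLink.rels)).index = 8064 := HePTMain.main.1
  haveI := hfin
  refine ⟨finite_of_index _ (by rw [hidx]; norm_num), ?_⟩
  exact card_le_of_index _ hidx (le_trans hle (le_of_eq card3.2))

/-- the kernel word, on the generators `a, c, d, e, f, g` -/
def wT : List (HePTDef.Gen × Bool) :=
  [(.c, true), (.d, true), (.c, true), (.d, true), (.e, true), (.d, true), (.c, true), (.d, true), (.c, true),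
   (.d, true), (.e, true), (.d, true), (.c, true), (.d, true), (.e, true)]

/-- the kernel word, on the generators `a, b, c, d, e` -/
def w5 : List (HeP5Def.Gen × Bool) :=
  [(.c, true), (.d, true), (.c, true), (.d, true), (.e, true), (.d, true), (.c, true), (.d, true), (.c, true),
   (.d, true), (.e, true), (.d, true), (.c, true), (.d, true), (.e, true)]

theorem wT_walk : HePTTable.table.walkT (pathOf HePTLink.lw wT) 0 ≠ 0 := by decide +kernel

theorem w5_walk : HeP5Table.table.walkT (pathOf HeP5Link.lw w5) 0 = 0 := by decide +kernel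

/-- the kernel word is not trivial in the sub-presentation on `a, c, d, e, f, g` -/
theorem wT_ne_one : PresentedGroup.mk HePTLink.rels (FreeGroup.mk wT) ≠ 1 := by
  obtain ⟨-, φ, hφ, -⟩ := HePTMain.main
  intro h
  have h1 := phi_mk_apply HePTLink.link HePTMain.hT φ hφ wT ⟨0, HePTMain.hn⟩
  rw [h, map_one] at h1
  exact wT_walk h1.symm

/-- the kernel word is trivial in the sub-presentation on `a, b, c, d, e` -/
theorem w5_eq_one : PresentedGroup.mk HeP5Link.rels (FreeGroup.mk w5) = 1 := by
  obtain ⟨-, φ, hφ, f, hbij, hequiv, h0⟩ := HeP5Main.main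
  have h1 := f_mk HeP5Link.link HeP5Main.hT HeP5Main.hn φ hφ f hequiv h0 w5
  rw [w5_walk] at h1
  have h2 : f (QuotientGroup.mk (PresentedGroup.mk HeP5Link.rels (FreeGroup.mk w5))) = f (QuotientGroup.mk 1) := by
    rw [h0]; exact Fin.ext h1
  have h3 := hbij.1 h2
  rw [QuotientGroup.eq, mul_one] at h3
  have e : (Subgroup.closure HeP5Link.S).map (PresentedGroup.mk HeP5Link.rels) = ⊥ := by
    show (Subgroup.closure {1}).map _ = ⊥
    rw [Subgroup.closure_singleton_one, Subgroup.map_bot]
  rw [e, Subgroup.mem_bot, inv_eq_one] at h3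
  exact h3

theorem up5 : ∀ L ∈ HeP5Link.relWords, upWord HeP5Def.up L ∈ HeKLink.relWords := by decide +kernel

theorem upT : ∀ L ∈ HePTLink.relWords, upWord HePTDef.up L ∈ HeKLink.relWords := by decide +kernel

theorem hrel5 : ∀ r ∈ HeP5Link.rels, FreeGroup.map HeP5Def.up r ∈ HeKLink.rels :=
  hrel_of_words HeKLink.rels HeP5Link.rels HeP5Def.up HeKLink.relWords HeP5Link.relWords
    HeKLink.link.hrels HeP5Link.link.hrels up5

theorem hrelT : ∀ r ∈ HePTLink.rels, FreeGroup.map HePTDef.up r ∈ HeKLink.rels :=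
  hrel_of_words HeKLink.rels HePTLink.rels HePTDef.up HeKLink.relWords HePTLink.relWords
    HeKLink.link.hrels HePTLink.link.hrels upT

/-- the kernel word is trivial in the presented Held group -/
theorem w_eq_one : PresentedGroup.mk HeKLink.rels (FreeGroup.map HePTDef.up (FreeGroup.mk wT)) = 1 := by
  have h := mk_map_eq_one HeKLink.rels HeP5Link.rels HeP5Def.up hrel5 (FreeGroup.mk w5) w5_eq_one
  have e : FreeGroup.map HePTDef.up (FreeGroup.mk wT) = FreeGroup.map HeP5Def.up (FreeGroup.mk w5) := by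
    rw [map_mk, map_mk]
    rfl
  rw [e]
  exact h

/-- the subgroup `⟨a, c, d, e, f, g⟩` of the presented Held group has order at most 80640 -/
theorem cardK : Finite ((Subgroup.closure HeKLink.S).map (PresentedGroup.mk HeKLink.rels)) ∧
    Nat.card ((Subgroup.closure HeKLink.S).map (PresentedGroup.mk HeKLink.rels)) ≤ 80640 := by
  haveI := cardT.1
  have hS : ∀ s ∈ HeKLink.S, ∃ b, s = FreeGroup.of (HePTDef.up b) := by
    intro s hs
    simp only [HeKLink.S, Set.mem_insert_iff, Set.mem_singleton_iff] at hs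
    rcases hs with rfl | rfl | rfl | rfl | rfl | rfl
    exacts [⟨.a, rfl⟩, ⟨.c, rfl⟩, ⟨.d, rfl⟩, ⟨.e, rfl⟩, ⟨.f, rfl⟩, ⟨.g, rfl⟩]
  obtain ⟨hfin, hle⟩ := card_le_of_subpres_ker HeKLink.rels HePTLink.rels HePTDef.up hrelT HeKLink.S hS
    (FreeGroup.mk wT) wT_ne_one w_eq_one
  refine ⟨hfin, ?_⟩
  have := cardT.2
  omega

/-- the presented Held group is finite of order at most 4030387200 -/
theorem card0 : Finite (PresentedGroup HeKLink.rels) ∧ Nat.card (PresentedGroup HeKLink.rels) ≤ 4030387200 := by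
  obtain ⟨hfin, hle⟩ := cardK
  have hidx : ((Subgroup.closure HeKLink.S).map (PresentedGroup.mk HeKLink.rels)).index = 49980 := HeKMain.main.1
  haveI := hfin
  refine ⟨finite_of_index _ (by rw [hidx]; norm_num), ?_⟩
  exact card_le_of_index _ hidx hle

end Cfsg.Agent.Lib.Helper3.TCX.HeTower
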