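import Cfsg.Agent.Lib.Helper28.TC2Simple
set_option autoImplicit false

/-!
# Maximality of a subgroup from the lengths of its suborbits

If `H` has index `n` in the finite group `G`, the cosets of `H` fall into classes (suborbits) of known
sizes, and no union of classes containing the class of `H` has a size dividing `n` except the class of
`H` alone and everything, then `H` is a maximal subgroup.
-/

namespace Cfsg.Agent.Lib.Helper3.TCX
open Cfsg.Agent.Lib.Helper28.TC2Simple

variable {G : Type*} [Group G]

theorem stabilizer_mk_one (H K : Subgroup G) :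
    MulAction.stabilizer K ((QuotientGroup.mk (1 : G)) : G ⧸ H) = H.subgroupOf K := by
  ext k
  rw [MulAction.mem_stabilizer_iff, Subgroup.mem_subgroupOf]
  show (QuotientGroup.mk ((k : G) * 1) : G ⧸ H) = QuotientGroup.mk 1 ↔ _
  rw [mul_one, eq_comm, QuotientGroup.eq, inv_one, one_mul]

theorem card_orbit_eq_relIndex (H K : Subgroup G) :
    Nat.card (MulAction.orbit K ((QuotientGroup.mk (1 : G)) : G ⧸ H)) = H.relIndex K := by
  rw [Nat.card_congr (MulAction.orbitEquivQuotientStabilizer K _), stabilizer_mk_one]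
  rfl

theorem mem_orbit_iff (H K : Subgroup G) (hHK : H ≤ K) (x : G) :
    (QuotientGroup.mk x : G ⧸ H) ∈ MulAction.orbit K ((QuotientGroup.mk (1 : G)) : G ⧸ H) ↔ x ∈ K := by
  constructor
  · rintro ⟨k, hk⟩
    have e : (QuotientGroup.mk ((k : G) * 1) : G ⧸ H) = QuotientGroup.mk x := hk
    rw [mul_one, QuotientGroup.eq] at e
    have : x = (k : G) * ((k : G)⁻¹ * x) := by group
    rw [this]
    exact K.mul_mem k.2 (hHK e)
  · intro hx
    refine ⟨⟨x, hx⟩, ?_⟩
    show (QuotientGroup.mk (x * 1) : G ⧸ H) = QuotientGroup.mk x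
    rw [mul_one]

/-- maximality from suborbit lengths -/
theorem max_of_suborbits (H : Subgroup G) {n : ℕ} (hn : 0 < n) (φ : G →* Equiv.Perm (Fin n))
    (f : G ⧸ H → Fin n) (hf : Function.Bijective f) (hequiv : ∀ g q, f (g • q) = φ g (f q))
    (cls : Fin n → ℕ) (m : ℕ) (hm : ∀ p, cls p < m)
    (horb : ∀ p q, cls p = cls q → ∃ π ∈ H.map φ, π p = q)
    (cnt : ℕ → ℕ) (hcnt : ∀ c, c < m → (Finset.univ.filter fun p : Fin n => cls p = c).card = cnt c)
    (harith : ∀ C ∈ (Finset.range m).powerset, (∑ c ∈ C, cnt c) ∣ n →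
      (∑ c ∈ C, cnt c) = 1 ∨ (∑ c ∈ C, cnt c) = n) :
    ∀ K : Subgroup G, H ≤ K → K = H ∨ K = ⊤ := by
  classical
  intro K hHK
  have hidx : H.index = n := by
    have := Nat.card_congr (Equiv.ofBijective f hf)
    rw [Nat.card_fin] at this
    exact this
  set B : Set (G ⧸ H) := MulAction.orbit K ((QuotientGroup.mk (1 : G)) : G ⧸ H) with hB
  let A : Finset (Fin n) := Finset.univ.filter fun p => ∃ q ∈ B, f q = p
  let C : Finset ℕ := (Finset.range m).filter fun c => ∃ p ∈ A, cls p = c
  have hA : ∀ p, p ∈ A ↔ cls p ∈ C := by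
    intro p
    constructor
    · intro hp
      exact Finset.mem_filter.mpr ⟨Finset.mem_range.mpr (hm p), p, hp, rfl⟩
    · intro hp
      obtain ⟨_, p', hp', hc⟩ := Finset.mem_filter.mp hp
      obtain ⟨_, q', hq', rfl⟩ := Finset.mem_filter.mp hp'
      obtain ⟨y, rfl⟩ := hf.2 p
      induction q' using QuotientGroup.induction_on with
      | H x =>
        induction y using QuotientGroup.induction_on with
        | H y =>
          have hx : x ∈ K := (mem_orbit_iff H K hHK x).mp hq'
          have hy : y ∈ K := mem_of_same_orbit H K hHK φ f hf.1 hequiv hx (horb _ _ hc)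
          exact Finset.mem_filter.mpr ⟨Finset.mem_univ _, _, (mem_orbit_iff H K hHK y).mpr hy, rfl⟩
  have hAcard : A.card = ∑ c ∈ C, cnt c := by
    have e : A = C.biUnion fun c => Finset.univ.filter fun p : Fin n => cls p = c := by
      ext p
      rw [hA, Finset.mem_biUnion]
      constructor
      · intro h; exact ⟨cls p, h, Finset.mem_filter.mpr ⟨Finset.mem_univ _, rfl⟩⟩
      · rintro ⟨c, hc, hp⟩
        rw [(Finset.mem_filter.mp hp).2]; exact hc
    rw [e, Finset.card_biUnion]
    · apply Finset.sum_congr rfl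
      intro c hc
      exact hcnt c (Finset.mem_range.mp (Finset.mem_filter.mp hc).1)
    · intro c _ d _ hcd
      rw [Function.onFun, Finset.disjoint_left]
      intro p hp hp'
      exact hcd ((Finset.mem_filter.mp hp).2.symm.trans (Finset.mem_filter.mp hp').2)
  have hAB : A.card = Nat.card B := by
    have e : (A : Set (Fin n)) = f '' B := by
      ext p
      simp only [A, Finset.coe_filter, Finset.mem_univ, true_and, Set.mem_setOf_eq, Set.mem_image]
    rw [Nat.card_coe_set_eq, ← Set.ncard_image_of_injective _ hf.1, ← e, Set.ncard_coe_finset]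
  have hrel : A.card = H.relIndex K := by rw [hAB, hB, card_orbit_eq_relIndex]
  have hmul := Subgroup.relIndex_mul_index hHK
  rw [hidx, ← hrel] at hmul
  have hdvd : (∑ c ∈ C, cnt c) ∣ n := by rw [← hAcard]; exact ⟨_, hmul.symm⟩
  rcases harith C (Finset.mem_powerset.mpr (Finset.filter_subset _ _)) hdvd with h1 | h1
  · left
    rw [← hAcard, hrel] at h1
    exact le_antisymm (Subgroup.relIndex_eq_one.mp h1) hHK
  · right
    rw [← hAcard] at h1
    rw [h1] at hmul
    have : K.index = 1 := by
      have := Nat.eq_of_mul_eq_mul_left hn (hmul.trans (Nat.mul_one n).symm)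
      exact this
    exact Subgroup.index_eq_one.mp this

end Cfsg.Agent.Lib.Helper3.TCX
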