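import Cfsg.Agent.Lib.Helper3.TCX.HeBSTable
import Cfsg.Agent.Lib.Helper3.TCX.HeBTable
set_option autoImplicit false
set_option maxRecDepth 100000
set_option maxHeartbeats 0

namespace Cfsg.Agent.Lib.Helper3.TCX.HeBSChk9
open Cfsg.Agent.Lib.Helper28.TC2Upper Cfsg.Agent.Lib.Helper28.TC2Lower Cfsg.Agent.Lib.Helper28.TC2Orbit Cfsg.Agent.Lib.Helper28.TC2Range Cfsg.Agent.Lib.Helper28.TC2Bsgs Cfsg.Agent.Lib.Helper3.TCX.HeBSTable

theorem hA5 : ∀ l ∈ A5, l < btable.k ∧ ∀ q ∈ ([5, 2, 18, 1, 0] : List ℕ), btable.tau l q = q := by decide +kernel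
theorem hinvOK : btable.invOK = true := by decide +kernel
theorem dlt : defsLt 7 btable.k defs = true := by decide +kernel

end Cfsg.Agent.Lib.Helper3.TCX.HeBSChk9
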