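import Cfsg.Agent.Lib.Helper28.TC2Simple
import Cfsg.Prelude.Def_Spor_He
set_option autoImplicit false

/-!
# The presented Held group collapses when the element `d f g` of order 7 is killed
-/

namespace Cfsg.Agent.Lib.Helper3.TCX.HeCollapse
open Cfsg.Spor

/-- a group satisfying the Held relations and `d f g = 1` is trivial -/
theorem collapse_aux {G : Type*} [Group G] (a b c d e f g : G)
    (c2 : c * c = 1) (d2 : d * d = 1) (f2 : f * f = 1) (b2 : b * b = 1)
    (ht : d * f * g = 1) (hde : (d * e) ^ 3 = 1) (hdf : (d * f) ^ 3 = 1) (hbc : (b * c) ^ 3 = 1)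
    (hab : (a * b) ^ 4 = 1) (r1 : e * ((f * g) ^ 2)⁻¹ = 1) (r2 : e * ((a * b * c) ^ 3)⁻¹ = 1)
    (r3 : a * ((c * d) ^ 5)⁻¹ = 1) :
    a = 1 ∧ b = 1 ∧ c = 1 ∧ d = 1 ∧ e = 1 ∧ f = 1 ∧ g = 1 := by
  have dinv : d⁻¹ = d := inv_eq_of_mul_eq_one_right d2
  have finv : f⁻¹ = f := inv_eq_of_mul_eq_one_right f2
  have cinv : c⁻¹ = c := inv_eq_of_mul_eq_one_right c2
  have binv : b⁻¹ = b := inv_eq_of_mul_eq_one_right b2
  have hg : g = f * d := by
    have := inv_eq_of_mul_eq_one_right ht
    rw [← this, mul_inv_rev, dinv, finv]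
  have hfg : f * g = d := by rw [hg, ← mul_assoc, f2, one_mul]
  have he : e = 1 := by
    have h1 : e = (f * g) ^ 2 := mul_inv_eq_one.mp r1
    rw [h1, hfg, pow_two, d2]
  have hd : d = 1 := by
    rw [he, mul_one] at hde
    have : d ^ 3 = d := by rw [pow_succ, pow_two, d2, one_mul]
    rw [← this, hde]
  have hgf : g = f := by rw [hg, hd, mul_one]
  have hf : f = 1 := by
    rw [hd, one_mul] at hdf
    have : f ^ 3 = f := by rw [pow_succ, pow_two, f2, one_mul]
    rw [← this, hdf]
  have hg1 : g = 1 := by rw [hgf, hf]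
  have hac : a = c := by
    have h1 : a = (c * d) ^ 5 := mul_inv_eq_one.mp r3
    rw [h1, hd, mul_one]
    have : c ^ 5 = c := by
      rw [show (5 : ℕ) = 2 + 2 + 1 from rfl, pow_add, pow_add, pow_one, pow_two, c2, one_mul, one_mul]
    exact this
  have hcb : c * b = 1 := by
    have h3 : (c * b) ^ 3 = 1 := by
      have : c * b = (b * c)⁻¹ := by rw [mul_inv_rev, cinv, binv]
      rw [this, inv_pow, hbc, inv_one]
    have h4 : (c * b) ^ 4 = 1 := by rw [← hac]; exact hab
    have : (c * b) ^ 4 = (c * b) ^ 3 * (c * b) := pow_succ _ _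
    rw [this, h3, one_mul] at h4
    exact h4
  have hbc' : b = c := by
    have := inv_eq_of_mul_eq_one_right hcb
    rw [cinv] at this
    exact this.symm
  have hc : c = 1 := by
    have h1 : e = (a * b * c) ^ 3 := mul_inv_eq_one.mp r2
    rw [he, hac, hbc', c2, one_mul] at h1
    have : c ^ 3 = c := by rw [pow_succ, pow_two, c2, one_mul]
    rw [← this, ← h1]
  exact ⟨hac.trans hc, hbc'.trans hc, hc, hd, he, hf, hg1⟩

/-- the relators of the Held group -/
abbrev rels : Set (FreeGroup He.Gen) := coxRelators He.edges ∪ {r | r ∈ He.extra}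

/-- the element of order 7 -/
def t : FreeGroup He.Gen := He.d * He.f * He.g

/-- the relators with `t` added -/
abbrev relsC : Set (FreeGroup He.Gen) := rels ∪ {t}

theorem cox_rel (x y : He.Gen) (m : ℕ) (hx : x ∈ coxNodes He.edges) (hy : y ∈ coxNodes He.edges)
    (hm : coxLabel He.edges x y = m) :
    ((PresentedGroup.of x : PresentedGroup relsC) * PresentedGroup.of y) ^ m = 1 := by
  have hmem : (FreeGroup.of x * FreeGroup.of y) ^ m ∈ relsC :=
    Or.inl (Or.inl ⟨x, hx, y, hy, by rw [hm]⟩)
  have := PresentedGroup.one_of_mem hmem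
  rwa [map_pow, map_mul] at this

theorem extra_rel (r : FreeGroup He.Gen) (hr : r ∈ He.extra) : PresentedGroup.mk relsC r = 1 :=
  PresentedGroup.one_of_mem (Or.inl (Or.inr hr))

theorem sq (x : He.Gen) (hx : x ∈ coxNodes He.edges) :
    (PresentedGroup.of x : PresentedGroup relsC) * PresentedGroup.of x = 1 := by
  have := cox_rel x x 1 hx hx (by simp [coxLabel])
  rwa [pow_one] at this

theorem gens_eq_one : ∀ x : He.Gen, (PresentedGroup.of x : PresentedGroup relsC) = 1 := by
  have ht : (PresentedGroup.of He.Gen.d : PresentedGroup relsC) * PresentedGroup.of He.Gen.f *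
      PresentedGroup.of He.Gen.g = 1 := by
    have : PresentedGroup.mk relsC t = 1 := PresentedGroup.one_of_mem (Or.inr rfl)
    rw [t, map_mul, map_mul] at this
    exact this
  have r1 : (PresentedGroup.of He.Gen.e : PresentedGroup relsC) *
      ((PresentedGroup.of He.Gen.f * PresentedGroup.of He.Gen.g) ^ 2)⁻¹ = 1 := by
    have := extra_rel (He.e * ((He.f * He.g) ^ 2)⁻¹) (by simp [He.extra])
    rw [map_mul, map_inv, map_pow, map_mul] at this
    exact this
  have r2 : (PresentedGroup.of He.Gen.e : PresentedGroup relsC) *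
      ((PresentedGroup.of He.Gen.a * PresentedGroup.of He.Gen.b * PresentedGroup.of He.Gen.c) ^ 3)⁻¹ = 1 := by
    have := extra_rel (He.e * ((He.a * He.b * He.c) ^ 3)⁻¹) (by simp [He.extra])
    rw [map_mul, map_inv, map_pow, map_mul, map_mul] at this
    exact this
  have r3 : (PresentedGroup.of He.Gen.a : PresentedGroup relsC) *
      ((PresentedGroup.of He.Gen.c * PresentedGroup.of He.Gen.d) ^ 5)⁻¹ = 1 := by
    have := extra_rel (He.a * ((He.c * He.d) ^ 5)⁻¹) (by simp [He.extra])
    rw [map_mul, map_inv, map_pow, map_mul] at this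
    exact this
  have h := collapse_aux (PresentedGroup.of He.Gen.a : PresentedGroup relsC) (PresentedGroup.of He.Gen.b)
    (PresentedGroup.of He.Gen.c) (PresentedGroup.of He.Gen.d) (PresentedGroup.of He.Gen.e)
    (PresentedGroup.of He.Gen.f) (PresentedGroup.of He.Gen.g)
    (sq _ (by decide)) (sq _ (by decide)) (sq _ (by decide)) (sq _ (by decide)) ht
    (cox_rel _ _ 3 (by decide) (by decide) (by decide)) (cox_rel _ _ 3 (by decide) (by decide) (by decide))
    (cox_rel _ _ 3 (by decide) (by decide) (by decide)) (cox_rel _ _ 4 (by decide) (by decide) (by decide))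
    r1 r2 r3
  intro x
  cases x
  · exact h.1
  · exact h.2.1
  · exact h.2.2.1
  · exact h.2.2.2.1
  · exact h.2.2.2.2.1
  · exact h.2.2.2.2.2.1
  · exact h.2.2.2.2.2.2

instance : Subsingleton (PresentedGroup relsC) := by
  refine ⟨fun x y => ?_⟩
  have key : ∀ z : PresentedGroup relsC, z = 1 := by
    intro z
    induction z using PresentedGroup.induction_on with
    | H w =>
      induction w using FreeGroup.induction_on with
      | C1 => exact map_one _
      | of x => exact gens_eq_one x
      | inv_of x h =>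
        rw [map_inv]
        have : PresentedGroup.mk relsC (FreeGroup.of x) = 1 := gens_eq_one x
        rw [this, inv_one]
      | mul x y hx hy => rw [map_mul, hx, hy, one_mul]
  rw [key x, key y]

/-- the element `d f g` normally generates the presented Held group -/
theorem normalClosure_t : Subgroup.normalClosure {PresentedGroup.mk rels t} = ⊤ := by
  apply Cfsg.Agent.Lib.Helper28.TC2Simple.normalClosure_eq_top_of_subsingleton rels relsC t
  intro r hr
  rcases hr with hr | hr
  · exact Or.inl hr
  · exact Or.inr hr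

end Cfsg.Agent.Lib.Helper3.TCX.HeCollapse
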