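import Cfsg.Agent.Lib.Helper28.TC2Simple
import Cfsg.Agent.Lib.Helper3.TCX.HeBMain
set_option autoImplicit false
set_option maxRecDepth 100000
set_option maxHeartbeats 0

namespace Cfsg.Agent.Lib.Helper3.TCX.HeFinalChk
open Cfsg.Agent.Lib.Helper28.TC2Upper Cfsg.Agent.Lib.Helper28.TC2Lower Cfsg.Agent.Lib.Helper28.TC2Glue
open Cfsg.Agent.Lib.Helper28.TC2Simple Cfsg.Agent.Lib.Helper3.TCX.HeBTable Cfsg.Agent.Lib.Helper3.TCX.HeBLink

/-- the element of order 7 -/
def tWord : List (Cfsg.Spor.He.Gen × Bool) := [(.d, true), (.f, true), (.g, true)]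
/-- the path of its seventh power -/
def tPath : List ℕ := [6, 5, 3, 6, 5, 3, 6, 5, 3, 6, 5, 3, 6, 5, 3, 6, 5, 3, 6, 5, 3]
theorem tPath_eq : pathOf lw (List.replicate 7 tWord).flatten = tPath := by decide +kernel
theorem tp0 : table.relOK [tPath] 0 2058 = true := by decide +kernel

theorem htfix : ∀ p, p < table.n → table.walkT tPath p = p := by
  intro p hp
  have hp' : p < 2058 := hp
  exact (Table.relOK_iff [tPath] 0 2058).mp tp0 p (by omega) (by omega) _ (List.mem_singleton.mpr rfl)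

/-- the suborbit lengths -/
def cnt (c : ℕ) : ℕ := [1, 1360, 425, 136, 136].getD c 0

theorem harith : ∀ C ∈ (Finset.range 5).powerset, (∑ c ∈ C, cnt c) ∣ 2058 →
    (∑ c ∈ C, cnt c) = 1 ∨ (∑ c ∈ C, cnt c) = 2058 := by decide +kernel

end Cfsg.Agent.Lib.Helper3.TCX.HeFinalChk
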