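import Cfsg.Agent.Lib.Helper3.TCX.OnBase
set_option autoImplicit false

/-!
# The base criterion for words of a presented group

A presented group with a faithful permutation representation given by a coset table, for which a chain
of stabilisers with base `bs` has the exact order, satisfies: a word fixing the base points is trivial.
-/

namespace Cfsg.Agent.Lib.Helper3.TCX
open Cfsg.Agent.Lib.Helper28.TC2Upper Cfsg.Agent.Lib.Helper28.TC2Lower Cfsg.Agent.Lib.Helper28.TC2Orbit
open Cfsg.Agent.Lib.Helper28.TC2Glue Cfsg.Agent.Lib.Helper28.TC2Range Cfsg.Agent.Lib.Helper28.TC2Bsgs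
open Cfsg.Agent.Lib.Helper28.TC2Simple

variable {α : Type} {rels : Set (FreeGroup α)} {S : Set (FreeGroup α)}
  {relWords subWords : List (List (α × Bool))} {lw : α × Bool → ℕ} {dec : ℕ → α × Bool}
  {D : Data} {T : Table}

/-- the image of the representation is generated by the letters -/
theorem phi_range_le (hL : Link rels S relWords subWords lw dec D T) (hT : T.OK)
    (φ : PresentedGroup rels →* Equiv.Perm (Fin T.n))
    (hφ : ∀ x, φ (PresentedGroup.of x) = Table.sigma hT (lw (x, true))) :
    φ.range ≤ Subgroup.closure {π | ∃ l, l < T.k ∧ π = Table.sigma hT l} := by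
  rw [MonoidHom.range_eq_map, ← PresentedGroup.closure_range_of, MonoidHom.map_closure, Subgroup.closure_le]
  rintro _ ⟨_, ⟨x, rfl⟩, rfl⟩
  refine Subgroup.subset_closure ⟨lw (x, true), ?_, hφ x⟩
  have := hL.lwk (x, true)
  rw [← hL.Tk] at this
  exact this

/-- the base criterion -/
theorem mk_eq_one_of_base (hL : Link rels S relWords subWords lw dec D T) (hT : T.OK)
    {T' : Table} (hT' : T'.OK) (hn : T'.n = T.n) (hk : T.k ≤ T'.k)
    (hagree : ∀ p, p < T.n → ∀ l, l < T.k → T'.tau l p = T.tau l p)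
    (φ : PresentedGroup rels →* Equiv.Perm (Fin T.n))
    (hφ : ∀ x, φ (PresentedGroup.of x) = Table.sigma hT (lw (x, true)))
    (hinj : Function.Injective φ) (N : ℕ) (hN : 0 < N) (bs : List ℕ)
    (hlow : N * Nat.card (pstab (baseGroup hT' T.k) (toFin T'.n bs)) ≤ Nat.card (baseGroup hT' T.k))
    (hup : Nat.card φ.range ≤ N)
    (L : List (α × Bool)) (h : ∀ b ∈ bs, T.walkT (pathOf lw L) b = b) :
    PresentedGroup.mk rels (FreeGroup.mk L) = 1 := by
  apply hinj
  rw [map_one]
  have hup' : Nat.card (baseGroup hT' T.k) ≤ N :=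
    le_trans (card_baseGroup_le hT hT' hn hk hagree φ.range (sigma_mem_range hL hT φ hφ)) hup
  apply eq_one_of_fix_base hT hT' hn hk hagree φ.range (phi_range_le hL hT φ hφ) N hN bs hlow hup' _ ⟨_, rfl⟩
  intro b hb hlt
  apply Fin.ext
  rw [phi_mk_apply hL hT φ hφ]
  exact h b hb

/-- powers of words from the base criterion -/
theorem mk_pow_eq_one_of_base (hL : Link rels S relWords subWords lw dec D T) (hT : T.OK)
    {T' : Table} (hT' : T'.OK) (hn : T'.n = T.n) (hk : T.k ≤ T'.k)
    (hagree : ∀ p, p < T.n → ∀ l, l < T.k → T'.tau l p = T.tau l p)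
    (φ : PresentedGroup rels →* Equiv.Perm (Fin T.n))
    (hφ : ∀ x, φ (PresentedGroup.of x) = Table.sigma hT (lw (x, true)))
    (hinj : Function.Injective φ) (N : ℕ) (hN : 0 < N) (bs : List ℕ)
    (hlow : N * Nat.card (pstab (baseGroup hT' T.k) (toFin T'.n bs)) ≤ Nat.card (baseGroup hT' T.k))
    (hup : Nat.card φ.range ≤ N)
    (L : List (α × Bool)) (m : ℕ)
    (h : ∀ b ∈ bs, T.walkT (pathOf lw (List.replicate m L).flatten) b = b) :
    (PresentedGroup.mk rels (FreeGroup.mk L)) ^ m = 1 := by
  rw [← map_pow, mk_pow]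
  exact mk_eq_one_of_base hL hT hT' hn hk hagree φ hφ hinj N hN bs hlow hup _ h

end Cfsg.Agent.Lib.Helper3.TCX
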