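import Mathlib
set_option autoImplicit false

/-!
# A bound for the order of a centraliser from a list of pairwise different conjugates
-/

namespace Cfsg.Agent.Lib.Helper3.TCX.CentBound

/-- if the conjugates of `z` by the members of a list of elements of `H` are pairwise different, then
the length of the list times the order of `C_H(z)` is at most the order of `H` -/
theorem length_mul_card_le {G : Type*} [Group G] [Finite G] (H : Subgroup G) (z : G) (hs : List G)
    (hH : ∀ h ∈ hs, h ∈ H) (hnd : (hs.map fun h => h * z * h⁻¹).Nodup) :
    hs.length * Nat.card ↥(H ⊓ Subgroup.centralizer {z}) ≤ Nat.card H := by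
  classical
  set K : Subgroup H := (Subgroup.centralizer {z}).subgroupOf H with hKdef
  have hK : Nat.card K = Nat.card ↥(H ⊓ Subgroup.centralizer {z}) := by
    rw [hKdef, ← Subgroup.inf_subgroupOf_left]
    exact Nat.card_congr (Subgroup.subgroupOfEquivOfLe inf_le_left).toEquiv
  have h1 : Nat.card H = Nat.card (H ⧸ K) * Nat.card K := Subgroup.card_eq_card_quotient_mul_card_subgroup K
  have h2 : hs.length ≤ Nat.card (H ⧸ K) := by
    let g : Fin hs.length → H ⧸ K := fun i => QuotientGroup.mk ⟨hs[i], hH _ (List.getElem_mem _)⟩
    have hg : Function.Injective g := by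
      intro i j hij
      have hmem := QuotientGroup.eq.mp hij
      rw [hKdef, Subgroup.mem_subgroupOf, Subgroup.mem_centralizer_iff] at hmem
      have hc : z * ((hs[i])⁻¹ * hs[j]) = ((hs[i])⁻¹ * hs[j]) * z := hmem z rfl
      have hconj : hs[i] * z * (hs[i])⁻¹ = hs[j] * z * (hs[j])⁻¹ := by
        have : hs[i] * z * (hs[i])⁻¹ * hs[j] = hs[j] * z := by
          calc hs[i] * z * (hs[i])⁻¹ * hs[j] = hs[i] * (z * ((hs[i])⁻¹ * hs[j])) := by group
            _ = hs[i] * (((hs[i])⁻¹ * hs[j]) * z) := by rw [hc]
            _ = hs[j] * z := by group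
        rw [← this]; group
      have hinj := (List.nodup_iff_injective_get).mp hnd
      have hlen : (hs.map fun h => h * z * h⁻¹).length = hs.length := List.length_map _
      have := @hinj ⟨i.val, by rw [hlen]; exact i.2⟩ ⟨j.val, by rw [hlen]; exact j.2⟩ (by
        simp only [List.get_eq_getElem, List.getElem_map]
        exact hconj)
      exact Fin.ext (by simpa using congrArg Fin.val this)
    simpa using Nat.card_le_card_of_injective g hg
  rw [h1, ← hK]
  exact Nat.mul_le_mul_right _ h2

/-- strictly increasing -/
def incOK : ℕ → List ℕ → Bool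
  | _, [] => true
  | a, b :: l => Nat.blt a b && incOK b l

theorem incOK_spec : ∀ (l : List ℕ) (a : ℕ), incOK a l = true → (∀ x ∈ l, a < x) ∧ l.Pairwise (· < ·) := by
  intro l
  induction l with
  | nil => intro a _; exact ⟨by simp, List.Pairwise.nil⟩
  | cons b l ih =>
    intro a h
    have h' : (Nat.blt a b && incOK b l) = true := h
    rw [Bool.and_eq_true] at h'
    have hab : a < b := by
      have := h'.1
      rwa [Nat.blt_eq] at this
    obtain ⟨h1, h2⟩ := ih b h'.2
    refine ⟨?_, List.Pairwise.cons h1 h2⟩
    intro x hx
    rcases List.mem_cons.mp hx with rfl | hx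
    · exact hab
    · exact lt_trans hab (h1 x hx)

theorem nodup_of_incOK (l : List ℕ) (a : ℕ) (h : incOK a l = true) : l.Nodup :=
  (incOK_spec l a h).2.imp (fun hxy => ne_of_lt hxy)

/-- pairwise different values of a function give pairwise different arguments -/
theorem nodup_map_of_fingerprint {α β : Type*} (l : List α) (g : α → β) (F : β → ℕ) (c : α → ℕ)
    (hF : ∀ u ∈ l, F (g u) = c u) (hnd : (l.map c).Nodup) : (l.map g).Nodup := by
  have e : (l.map g).map F = l.map c := by
    rw [List.map_map]
    exact List.map_congr_left (fun u hu => hF u hu)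
  exact List.Nodup.of_map F (e ▸ hnd)

/-- a homomorphism from a presented group has its range in a subgroup as soon as the generators do -/
theorem range_toGroup_le {α : Type} {G : Type*} [Group G] {R : Set (FreeGroup α)} {f : α → G}
    (h : ∀ r ∈ R, FreeGroup.lift f r = 1) (K : Subgroup G) (hK : ∀ x, f x ∈ K) :
    (PresentedGroup.toGroup h).range ≤ K := by
  rintro _ ⟨g, rfl⟩
  induction g using PresentedGroup.induction_on with
  | _ w =>
    induction w using FreeGroup.induction_on with
    | C1 => rw [map_one]; exact K.one_mem
    | of x => exact (PresentedGroup.toGroup.of h (x := x)) ▸ hK x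
    | inv_of x ih => rw [map_inv, map_inv]; exact K.inv_mem ih
    | mul a b iha ihb => rw [map_mul, map_mul]; exact K.mul_mem iha ihb

end Cfsg.Agent.Lib.Helper3.TCX.CentBound
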