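import Cfsg.Agent.Lib.Helper28.TC2Bsgs
set_option autoImplicit false

/-!
# Lower bounds for the order of the group generated by some letters of a table

A variant of `TC2Bsgs`: the group is generated by the letters of a list (not by the first letters); the
further letters, from `k0` on, are defined by words in the generating letters and earlier further letters.
-/

namespace Cfsg.Agent.Lib.Helper3.TCX.SubBsgs
open Cfsg.Agent.Lib.Helper28.TC2Upper Cfsg.Agent.Lib.Helper28.TC2Lower Cfsg.Agent.Lib.Helper28.TC2Orbit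
open Cfsg.Agent.Lib.Helper28.TC2Range Cfsg.Agent.Lib.Helper28.TC2Bsgs Cfsg.Agent.Lib.Helper28.StabLib

section
variable {T : Table} (hT : T.OK) (gl : List ℕ) (k0 : ℕ) (defs : BT (List ℕ))

/-- the group generated by the letters of a list -/
noncomputable def listGroup : Subgroup (Equiv.Perm (Fin T.n)) :=
  Subgroup.closure {π | ∃ l, l ∈ gl ∧ π = Table.sigma hT l}

/-- the defining words use generating letters and earlier further letters only -/
noncomputable def defsIn (k : ℕ) : Bool :=
  allLoop (fun i => (defs.look (Nat.add k0 i)).all fun l =>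
    (gl.contains l) || (Nat.ble k0 l && Nat.blt l (Nat.add k0 i))) (Nat.sub k k0)

theorem sigma_mem_listGroup (hgl : ∀ l ∈ gl, l < T.k) (hin : defsIn gl k0 defs T.k = true)
    (hdef : ∀ e, k0 ≤ e → e < T.k → ∀ p, p < T.n → T.walkT (defs.look e) p = T.tau e p) :
    ∀ e, e < T.k → (e ∈ gl ∨ k0 ≤ e) → Table.sigma hT e ∈ listGroup hT gl := by
  unfold defsIn at hin
  rw [allLoop_eq_true] at hin
  intro e
  induction e using Nat.strong_induction_on with
  | _ e ih =>
    intro he hor
    by_cases hmem : e ∈ gl
    · exact Subgroup.subset_closure ⟨e, hmem, rfl⟩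
    · have h : k0 ≤ e := hor.resolve_left hmem
      have h1 := hin (e - k0) (by show e - k0 < Nat.sub T.k k0; simp only [Nat.sub_eq]; omega)
      have e1 : Nat.add k0 (e - k0) = e := by simp only [Nat.add_eq]; omega
      rw [e1, List.all_eq_true] at h1
      have hlt' : ∀ l ∈ defs.look e, l < T.k ∧ ((l ∈ gl) ∨ (k0 ≤ l ∧ l < e)) := by
        intro l hl
        have h2 := h1 l hl
        rw [Bool.or_eq_true, Bool.and_eq_true] at h2
        rcases h2 with h2 | ⟨h2, h3⟩
        · have : l ∈ gl := by simpa using h2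
          exact ⟨hgl l this, Or.inl this⟩
        · have a : k0 ≤ l := by simpa using h2
          have b : l < e := by simpa [Nat.blt_eq] using h3
          exact ⟨lt_trans b he, Or.inr ⟨a, b⟩⟩
      have hword : Table.sigma hT e = pathProd (Table.sigma hT) (defs.look e) := by
        ext p
        rw [Table.pathProd_sigma_apply hT _ (fun l hl => (hlt' l hl).1),
          Table.sigma_apply hT he, hdef e h he p p.2]
      rw [hword]
      apply pathProd_mem
      intro l hl
      rcases (hlt' l hl).2 with h3 | ⟨h3, h4⟩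
      · exact Subgroup.subset_closure ⟨l, h3, rfl⟩
      · exact ih l h4 (hlt' l hl).1 (Or.inr h3)

/-- one level of a chain, with base points and sizes as numerals -/
theorem level_boundL (Γ : Subgroup (Equiv.Perm (Fin T.n))) (bs : List ℕ) (A : List ℕ)
    (O : Cfsg.Agent.Lib.Helper28.TC2Orbit.OrbData) (c b s : ℕ) (hb : O.roots.look c = b) (hr : b < T.n) (hcnt : O.count T.n c = s)
    (hΓ : ∀ l ∈ A, Table.sigma hT l ∈ Γ)
    (hA : ∀ l ∈ A, l < T.k ∧ ∀ q ∈ bs, T.tau l q = q)
    (hgens : BT.All (fun s => s ∈ A.map fun l => [l]) O.gens)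
    (hconn : ∀ p, p < T.n → O.oid p = c →
      (O.depth p = 0 ∧ O.roots.look c = p) ∨
      (O.depth p ≠ 0 ∧ O.parent p < T.n ∧ O.oid (O.parent p) = c ∧
        O.depth (O.parent p) + 1 = O.depth p ∧ T.walkT (O.gens.look (O.gen p)) (O.parent p) = p)) :
    s * Nat.card (pstab Γ (toFin T.n (b :: bs))) ≤ Nat.card (pstab Γ (toFin T.n bs)) := by
  subst hb
  subst hcnt
  rw [toFin_cons hr]
  apply level_bound hT Γ (toFin T.n bs) A O c hr _ hgens hconn
  intro l hl
  exact ⟨(hA l hl).1, hΓ l hl, fun q hq => (hA l hl).2 q.val (val_mem_of_mem_toFin hq)⟩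

end

end Cfsg.Agent.Lib.Helper3.TCX.SubBsgs
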