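import Cfsg.Agent.Lib.Helper3.TCX.HcBChk0
import Cfsg.Agent.Lib.Helper3.TCX.HcBChk1
import Cfsg.Agent.Lib.Helper3.TCX.HcBChk2
import Cfsg.Agent.Lib.Helper3.TCX.HcBChk3
import Cfsg.Agent.Lib.Helper3.TCX.HcBChk4
import Cfsg.Agent.Lib.Helper3.TCX.HcBChk5
import Cfsg.Agent.Lib.Helper3.TCX.HcBChk6
import Cfsg.Agent.Lib.Helper3.TCX.HcBChk7
import Cfsg.Agent.Lib.Helper3.TCX.HcBChk8

set_option autoImplicit false
set_option maxRecDepth 100000

namespace Cfsg.Agent.Lib.Helper3.TCX.HcBMain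
open Cfsg.Agent.Lib.Helper28.TC2Upper Cfsg.Agent.Lib.Helper28.TC2Lower Cfsg.Agent.Lib.Helper28.TC2Orbit Cfsg.Agent.Lib.Helper28.TC2Range Cfsg.Agent.Lib.Helper28.TC2Bsgs Cfsg.Agent.Lib.Helper3.TCX.SubBsgs Cfsg.Agent.Lib.Helper3.TCX.HcBTable

theorem hpermAll : ∀ p, p < btable.n → Table.permRow btable p = true := by
  intro p hp
  have hp' : p < 2058 := hp
  exact (Table.permRange_iff btable 0 2058).mp Cfsg.Agent.Lib.Helper3.TCX.HcBChk0.prm0 p (by omega) (by omega)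

theorem hTB : btable.OK := Table.ok_of_rows btable Cfsg.Agent.Lib.Helper3.TCX.HcBChk7.hinvOK hpermAll

theorem hagree : ∀ p, p < Cfsg.Agent.Lib.Helper3.TCX.HeBTable.table.n → ∀ l, l < Cfsg.Agent.Lib.Helper3.TCX.HeBTable.table.k →
    btable.tau l p = Cfsg.Agent.Lib.Helper3.TCX.HeBTable.table.tau l p := by
  intro p hp
  have hp' : p < 2058 := hp
  exact (agreeRange_iff _ btable 7 0 2058).mp Cfsg.Agent.Lib.Helper3.TCX.HcBChk0.agr0 p (by omega) (by omega)

theorem hdef7 : ∀ p, p < btable.n → btable.walkT (defs.look 7) p = btable.tau 7 p := by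
  intro p hp
  have hp' : p < 2058 := hp
  exact (defRange_iff defs 7 0 2058).mp Cfsg.Agent.Lib.Helper3.TCX.HcBChk0.def7_0 p (by omega) (by omega)

theorem hdef8 : ∀ p, p < btable.n → btable.walkT (defs.look 8) p = btable.tau 8 p := by
  intro p hp
  have hp' : p < 2058 := hp
  exact (defRange_iff defs 8 0 2058).mp Cfsg.Agent.Lib.Helper3.TCX.HcBChk0.def8_0 p (by omega) (by omega)

theorem hdef9 : ∀ p, p < btable.n → btable.walkT (defs.look 9) p = btable.tau 9 p := by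
  intro p hp
  have hp' : p < 2058 := hp
  exact (defRange_iff defs 9 0 2058).mp Cfsg.Agent.Lib.Helper3.TCX.HcBChk0.def9_0 p (by omega) (by omega)

theorem hdef10 : ∀ p, p < btable.n → btable.walkT (defs.look 10) p = btable.tau 10 p := by
  intro p hp
  have hp' : p < 2058 := hp
  exact (defRange_iff defs 10 0 2058).mp Cfsg.Agent.Lib.Helper3.TCX.HcBChk1.def10_0 p (by omega) (by omega)

theorem hdef11 : ∀ p, p < btable.n → btable.walkT (defs.look 11) p = btable.tau 11 p := by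
  intro p hp
  have hp' : p < 2058 := hp
  exact (defRange_iff defs 11 0 2058).mp Cfsg.Agent.Lib.Helper3.TCX.HcBChk1.def11_0 p (by omega) (by omega)

theorem hdef12 : ∀ p, p < btable.n → btable.walkT (defs.look 12) p = btable.tau 12 p := by
  intro p hp
  have hp' : p < 2058 := hp
  exact (defRange_iff defs 12 0 2058).mp Cfsg.Agent.Lib.Helper3.TCX.HcBChk1.def12_0 p (by omega) (by omega)

theorem hdef13 : ∀ p, p < btable.n → btable.walkT (defs.look 13) p = btable.tau 13 p := by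
  intro p hp
  have hp' : p < 2058 := hp
  exact (defRange_iff defs 13 0 2058).mp Cfsg.Agent.Lib.Helper3.TCX.HcBChk1.def13_0 p (by omega) (by omega)

theorem hdef14 : ∀ p, p < btable.n → btable.walkT (defs.look 14) p = btable.tau 14 p := by
  intro p hp
  have hp' : p < 2058 := hp
  exact (defRange_iff defs 14 0 2058).mp Cfsg.Agent.Lib.Helper3.TCX.HcBChk1.def14_0 p (by omega) (by omega)

theorem hdef15 : ∀ p, p < btable.n → btable.walkT (defs.look 15) p = btable.tau 15 p := by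
  intro p hp
  have hp' : p < 2058 := hp
  exact (defRange_iff defs 15 0 2058).mp Cfsg.Agent.Lib.Helper3.TCX.HcBChk2.def15_0 p (by omega) (by omega)

theorem hdef16 : ∀ p, p < btable.n → btable.walkT (defs.look 16) p = btable.tau 16 p := by
  intro p hp
  have hp' : p < 2058 := hp
  exact (defRange_iff defs 16 0 2058).mp Cfsg.Agent.Lib.Helper3.TCX.HcBChk2.def16_0 p (by omega) (by omega)

theorem hdef17 : ∀ p, p < btable.n → btable.walkT (defs.look 17) p = btable.tau 17 p := by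
  intro p hp
  have hp' : p < 2058 := hp
  exact (defRange_iff defs 17 0 2058).mp Cfsg.Agent.Lib.Helper3.TCX.HcBChk2.def17_0 p (by omega) (by omega)

theorem hdef18 : ∀ p, p < btable.n → btable.walkT (defs.look 18) p = btable.tau 18 p := by
  intro p hp
  have hp' : p < 2058 := hp
  exact (defRange_iff defs 18 0 2058).mp Cfsg.Agent.Lib.Helper3.TCX.HcBChk2.def18_0 p (by omega) (by omega)

theorem hdef19 : ∀ p, p < btable.n → btable.walkT (defs.look 19) p = btable.tau 19 p := by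
  intro p hp
  have hp' : p < 2058 := hp
  exact (defRange_iff defs 19 0 2058).mp Cfsg.Agent.Lib.Helper3.TCX.HcBChk2.def19_0 p (by omega) (by omega)

theorem hdef20 : ∀ p, p < btable.n → btable.walkT (defs.look 20) p = btable.tau 20 p := by
  intro p hp
  have hp' : p < 2058 := hp
  exact (defRange_iff defs 20 0 2058).mp Cfsg.Agent.Lib.Helper3.TCX.HcBChk3.def20_0 p (by omega) (by omega)

theorem hdef21 : ∀ p, p < btable.n → btable.walkT (defs.look 21) p = btable.tau 21 p := by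
  intro p hp
  have hp' : p < 2058 := hp
  exact (defRange_iff defs 21 0 2058).mp Cfsg.Agent.Lib.Helper3.TCX.HcBChk3.def21_0 p (by omega) (by omega)

theorem hdef22 : ∀ p, p < btable.n → btable.walkT (defs.look 22) p = btable.tau 22 p := by
  intro p hp
  have hp' : p < 2058 := hp
  exact (defRange_iff defs 22 0 2058).mp Cfsg.Agent.Lib.Helper3.TCX.HcBChk3.def22_0 p (by omega) (by omega)

theorem hdef : ∀ e, 9 ≤ e → e < btable.k → ∀ p, p < btable.n → btable.walkT (defs.look e) p = btable.tau e p := by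
  intro e h1 h2 p hp
  have h2' : e < 23 := h2
  interval_cases e
  · exact hdef9 p hp
  · exact hdef10 p hp
  · exact hdef11 p hp
  · exact hdef12 p hp
  · exact hdef13 p hp
  · exact hdef14 p hp
  · exact hdef15 p hp
  · exact hdef16 p hp
  · exact hdef17 p hp
  · exact hdef18 p hp
  · exact hdef19 p hp
  · exact hdef20 p hp
  · exact hdef21 p hp
  · exact hdef22 p hp

theorem hΓ : ∀ e, e < btable.k → (e ∈ gl ∨ 9 ≤ e) → Table.sigma hTB e ∈ listGroup hTB gl :=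
  sigma_mem_listGroup hTB gl 9 defs Cfsg.Agent.Lib.Helper3.TCX.HcBChk8.hgl Cfsg.Agent.Lib.Helper3.TCX.HcBChk7.din hdef

theorem hconn0 : ∀ p, p < btable.n → orb0.oid p = 1 →
    (orb0.depth p = 0 ∧ orb0.roots.look 1 = p) ∨
    (orb0.depth p ≠ 0 ∧ orb0.parent p < btable.n ∧ orb0.oid (orb0.parent p) = 1 ∧
      orb0.depth (orb0.parent p) + 1 = orb0.depth p ∧
      btable.walkT (orb0.gens.look (orb0.gen p)) (orb0.parent p) = p) := by
  intro p hp
  have hp' : p < 2058 := hp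
  exact (OrbData.connOKc_iff orb0 btable 1 0 2058).mp Cfsg.Agent.Lib.Helper3.TCX.HcBChk3.conn0_0 p (by omega) (by omega)

theorem lev0 : 42 * Nat.card (pstab (listGroup hTB gl) (toFin btable.n [1])) ≤
    Nat.card (pstab (listGroup hTB gl) (toFin btable.n [])) :=
  level_boundL hTB _ [] A0 orb0 1 1 42 rfl (by decide) Cfsg.Agent.Lib.Helper3.TCX.HcBChk3.cnt0
    (fun l hl => hΓ l ((Cfsg.Agent.Lib.Helper3.TCX.HcBChk4.hA0) l hl).1.1 ((Cfsg.Agent.Lib.Helper3.TCX.HcBChk4.hA0) l hl).1.2)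
    (fun l hl => ⟨((Cfsg.Agent.Lib.Helper3.TCX.HcBChk4.hA0) l hl).1.1, ((Cfsg.Agent.Lib.Helper3.TCX.HcBChk4.hA0) l hl).2⟩)
    (BT.All_of_all (fun _ h => of_decide_eq_true h) _ Cfsg.Agent.Lib.Helper3.TCX.HcBChk4.hgens0) hconn0

theorem hconn1 : ∀ p, p < btable.n → orb1.oid p = 1 →
    (orb1.depth p = 0 ∧ orb1.roots.look 1 = p) ∨
    (orb1.depth p ≠ 0 ∧ orb1.parent p < btable.n ∧ orb1.oid (orb1.parent p) = 1 ∧
      orb1.depth (orb1.parent p) + 1 = orb1.depth p ∧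
      btable.walkT (orb1.gens.look (orb1.gen p)) (orb1.parent p) = p) := by
  intro p hp
  have hp' : p < 2058 := hp
  exact (OrbData.connOKc_iff orb1 btable 1 0 2058).mp Cfsg.Agent.Lib.Helper3.TCX.HcBChk4.conn1_0 p (by omega) (by omega)

theorem lev1 : 16 * Nat.card (pstab (listGroup hTB gl) (toFin btable.n [0, 1])) ≤
    Nat.card (pstab (listGroup hTB gl) (toFin btable.n [1])) :=
  level_boundL hTB _ [1] A1 orb1 1 0 16 rfl (by decide) Cfsg.Agent.Lib.Helper3.TCX.HcBChk4.cnt1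
    (fun l hl => hΓ l ((Cfsg.Agent.Lib.Helper3.TCX.HcBChk5.hA1) l hl).1.1 ((Cfsg.Agent.Lib.Helper3.TCX.HcBChk5.hA1) l hl).1.2)
    (fun l hl => ⟨((Cfsg.Agent.Lib.Helper3.TCX.HcBChk5.hA1) l hl).1.1, ((Cfsg.Agent.Lib.Helper3.TCX.HcBChk5.hA1) l hl).2⟩)
    (BT.All_of_all (fun _ h => of_decide_eq_true h) _ Cfsg.Agent.Lib.Helper3.TCX.HcBChk4.hgens1) hconn1

theorem hconn2 : ∀ p, p < btable.n → orb2.oid p = 1 →
    (orb2.depth p = 0 ∧ orb2.roots.look 1 = p) ∨
    (orb2.depth p ≠ 0 ∧ orb2.parent p < btable.n ∧ orb2.oid (orb2.parent p) = 1 ∧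
      orb2.depth (orb2.parent p) + 1 = orb2.depth p ∧
      btable.walkT (orb2.gens.look (orb2.gen p)) (orb2.parent p) = p) := by
  intro p hp
  have hp' : p < 2058 := hp
  exact (OrbData.connOKc_iff orb2 btable 1 0 2058).mp Cfsg.Agent.Lib.Helper3.TCX.HcBChk5.conn2_0 p (by omega) (by omega)

theorem lev2 : 8 * Nat.card (pstab (listGroup hTB gl) (toFin btable.n [9, 0, 1])) ≤
    Nat.card (pstab (listGroup hTB gl) (toFin btable.n [0, 1])) :=
  level_boundL hTB _ [0, 1] A2 orb2 1 9 8 rfl (by decide) Cfsg.Agent.Lib.Helper3.TCX.HcBChk5.cnt2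
    (fun l hl => hΓ l ((Cfsg.Agent.Lib.Helper3.TCX.HcBChk5.hA2) l hl).1.1 ((Cfsg.Agent.Lib.Helper3.TCX.HcBChk5.hA2) l hl).1.2)
    (fun l hl => ⟨((Cfsg.Agent.Lib.Helper3.TCX.HcBChk5.hA2) l hl).1.1, ((Cfsg.Agent.Lib.Helper3.TCX.HcBChk5.hA2) l hl).2⟩)
    (BT.All_of_all (fun _ h => of_decide_eq_true h) _ Cfsg.Agent.Lib.Helper3.TCX.HcBChk5.hgens2) hconn2

theorem hconn3 : ∀ p, p < btable.n → orb3.oid p = 1 →
    (orb3.depth p = 0 ∧ orb3.roots.look 1 = p) ∨
    (orb3.depth p ≠ 0 ∧ orb3.parent p < btable.n ∧ orb3.oid (orb3.parent p) = 1 ∧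
      orb3.depth (orb3.parent p) + 1 = orb3.depth p ∧
      btable.walkT (orb3.gens.look (orb3.gen p)) (orb3.parent p) = p) := by
  intro p hp
  have hp' : p < 2058 := hp
  exact (OrbData.connOKc_iff orb3 btable 1 0 2058).mp Cfsg.Agent.Lib.Helper3.TCX.HcBChk6.conn3_0 p (by omega) (by omega)

theorem lev3 : 2 * Nat.card (pstab (listGroup hTB gl) (toFin btable.n [18, 9, 0, 1])) ≤
    Nat.card (pstab (listGroup hTB gl) (toFin btable.n [9, 0, 1])) :=
  level_boundL hTB _ [9, 0, 1] A3 orb3 1 18 2 rfl (by decide) Cfsg.Agent.Lib.Helper3.TCX.HcBChk6.cnt3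
    (fun l hl => hΓ l ((Cfsg.Agent.Lib.Helper3.TCX.HcBChk6.hA3) l hl).1.1 ((Cfsg.Agent.Lib.Helper3.TCX.HcBChk6.hA3) l hl).1.2)
    (fun l hl => ⟨((Cfsg.Agent.Lib.Helper3.TCX.HcBChk6.hA3) l hl).1.1, ((Cfsg.Agent.Lib.Helper3.TCX.HcBChk6.hA3) l hl).2⟩)
    (BT.All_of_all (fun _ h => of_decide_eq_true h) _ Cfsg.Agent.Lib.Helper3.TCX.HcBChk6.hgens3) hconn3

theorem hconn4 : ∀ p, p < btable.n → orb4.oid p = 1 →
    (orb4.depth p = 0 ∧ orb4.roots.look 1 = p) ∨
    (orb4.depth p ≠ 0 ∧ orb4.parent p < btable.n ∧ orb4.oid (orb4.parent p) = 1 ∧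
      orb4.depth (orb4.parent p) + 1 = orb4.depth p ∧
      btable.walkT (orb4.gens.look (orb4.gen p)) (orb4.parent p) = p) := by
  intro p hp
  have hp' : p < 2058 := hp
  exact (OrbData.connOKc_iff orb4 btable 1 0 2058).mp Cfsg.Agent.Lib.Helper3.TCX.HcBChk6.conn4_0 p (by omega) (by omega)

theorem lev4 : 2 * Nat.card (pstab (listGroup hTB gl) (toFin btable.n [2, 18, 9, 0, 1])) ≤
    Nat.card (pstab (listGroup hTB gl) (toFin btable.n [18, 9, 0, 1])) :=
  level_boundL hTB _ [18, 9, 0, 1] A4 orb4 1 2 2 rfl (by decide) Cfsg.Agent.Lib.Helper3.TCX.HcBChk7.cnt4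
    (fun l hl => hΓ l ((Cfsg.Agent.Lib.Helper3.TCX.HcBChk7.hA4) l hl).1.1 ((Cfsg.Agent.Lib.Helper3.TCX.HcBChk7.hA4) l hl).1.2)
    (fun l hl => ⟨((Cfsg.Agent.Lib.Helper3.TCX.HcBChk7.hA4) l hl).1.1, ((Cfsg.Agent.Lib.Helper3.TCX.HcBChk7.hA4) l hl).2⟩)
    (BT.All_of_all (fun _ h => of_decide_eq_true h) _ Cfsg.Agent.Lib.Helper3.TCX.HcBChk7.hgens4) hconn4

/-- the order of the group generated by the generating letters -/
theorem card_list : 21504 ≤ Nat.card (listGroup hTB gl) := by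
  have h : 42 * (16 * (8 * (2 * (2 * (1))))) ≤ Nat.card (pstab (listGroup hTB gl) (toFin btable.n [])) :=
    (chain_stepN lev0 (chain_stepN lev1 (chain_stepN lev2 (chain_stepN lev3 (chain_stepN lev4 (one_le_card _ _))))))
  have e : (21504 : ℕ) = 42 * (16 * (8 * (2 * (2 * (1))))) := by norm_num
  rw [e]
  exact h

end Cfsg.Agent.Lib.Helper3.TCX.HcBMain
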