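import Cfsg.Agent.Lib.Helper3.TCX.HcConjData
import Cfsg.Agent.Lib.Helper3.TCX.HeBTable
set_option autoImplicit false
set_option maxRecDepth 100000
set_option maxHeartbeats 0

namespace Cfsg.Agent.Lib.Helper3.TCX.HcConjChk
open Cfsg.Agent.Lib.Helper28.TC2Upper Cfsg.Agent.Lib.Helper28.TC2Lower Cfsg.Agent.Lib.Helper3.TCX.HcConjData

theorem conj_chk : conjOK HeBTable.table = true := by decide +kernel

theorem len_chk : conjPaths.length = 3825 := by decide +kernel

end Cfsg.Agent.Lib.Helper3.TCX.HcConjChk
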