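import Cfsg.Agent.Lib.Helper28.TC2Lower
set_option autoImplicit false
set_option maxRecDepth 100000

namespace Cfsg.Agent.Lib.Helper3.TCX.HcConjData
open Cfsg.Agent.Lib.Helper28.TC2Upper Cfsg.Agent.Lib.Helper28.TC2Lower

def cp0 : List (List ℕ) := [
  [6, 1, 2, 3, 2, 1, 6, 3, 2],
  [],
  [4, 3],
  [5, 3],
  [6, 1, 2, 3, 2, 1, 6, 0, 3, 2],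
  [4, 3, 6, 1, 2, 3, 2, 1, 6, 5, 6, 1, 2, 3, 2, 1, 6],
  [5],
  [4],
  [4, 5],
  [5, 6, 1, 2, 3, 2, 1, 6, 3, 6, 1, 2, 3, 2, 1, 6],
  [5, 6, 1, 2, 3, 2, 1, 6, 3, 6, 1, 2, 3, 2, 1, 6, 4],
  [2, 3, 0, 1, 0, 1, 6, 1, 2, 3, 2, 1, 6, 3, 6, 1, 2, 3, 2, 1, 6, 5],
  [2, 3, 6, 1, 2, 3, 2, 1, 6, 0, 5, 3, 6, 1, 2, 3, 2, 1, 6],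
  [2, 5, 3, 6, 1, 2, 3, 2, 1, 6, 3, 6, 1, 2, 3, 2, 1, 6, 4],
  [2, 4, 5, 3, 6, 1, 2, 3, 2, 1, 6, 3, 6, 1, 2, 3, 2, 1, 6],
  [2, 5, 3, 6, 1, 2, 3, 2, 1, 6, 3, 6, 1, 2, 3, 2, 1, 6],
  [2, 3, 6, 1, 2, 3, 2, 1, 6, 3, 6, 1, 2, 3, 2, 1, 6, 4, 5],
  [2, 3, 6, 1, 2, 3, 2, 1, 6, 5, 3, 0, 1, 0, 1, 6, 1, 2, 3, 2, 1, 6],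
  [2, 3, 6, 1, 2, 3, 2, 1, 6, 3, 6, 1, 2, 3, 2, 1, 6, 5],
  [2, 3, 5, 6, 1, 2, 3, 2, 1, 6, 3, 6, 1, 2, 3, 2, 1, 6, 5, 6, 1, 2, 3, 2, 1, 6],
  [6, 1, 2, 3, 2, 1, 6, 3, 2, 3, 5],
  [2, 4, 5, 3, 6, 1, 2, 3, 2, 1, 6, 3, 6, 1, 2, 3, 2, 1, 6, 4],
  [2, 3, 6, 1, 2, 3, 2, 1, 6, 3, 6, 1, 2, 3, 2, 1, 6],
  [2, 3, 6, 1, 2, 3, 2, 1, 6, 5, 3, 4, 6, 1, 2, 3, 2, 1, 6],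
  [2, 6, 1, 2, 3, 2, 1, 6, 5, 3, 6, 1, 2, 3, 2, 1, 6, 3, 6, 1, 2, 3, 2, 1, 6],
  [6, 1, 2, 3, 2, 1, 6, 0, 3, 2, 3, 5],
  [2, 3, 0, 1, 0, 1, 6, 1, 2, 3, 2, 1, 6, 3, 6, 1, 2, 3, 2, 1, 6, 3],
  [2, 3, 0, 1, 0, 1, 6, 1, 2, 3, 2, 1, 6, 3, 6, 1, 2, 3, 2, 1, 6],
  [2, 3, 0, 1, 0, 1, 6, 1, 2, 3, 2, 1, 6, 3, 6, 1, 2, 3, 2, 1, 6, 4],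
  [6, 1, 2, 3, 2, 1, 6, 3, 2, 3, 4, 5],
  [2, 3, 6, 1, 2, 3, 2, 1, 6, 3, 6, 1, 2, 3, 2, 1, 6, 3, 5],
  [2, 5, 3, 6, 1, 2, 3, 2, 1, 6, 3, 6, 1, 2, 3, 2, 1, 6, 3],
  [6, 1, 2, 3, 2, 1, 6, 0, 3, 2, 3, 4, 5, 3],
  [6, 1, 2, 3, 2, 1, 6, 3, 2, 3, 4, 5, 3],
  [2, 3, 6, 1, 2, 3, 2, 1, 6, 3, 6, 1, 2, 3, 2, 1, 6, 4],
  [6, 1, 2, 3, 2, 1, 6, 0, 3, 2, 3, 4, 5],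
  [2, 3, 6, 1, 2, 3, 2, 1, 6, 3, 6, 1, 2, 3, 2, 1, 6, 3],
  [2, 3, 6, 1, 2, 3, 2, 1, 6, 3, 6, 1, 2, 3, 2, 1, 6, 5, 3],
  [6, 1, 2, 3, 2, 1, 6, 0, 3, 2, 3],
  [2, 3, 6, 1, 2, 3, 2, 1, 6, 5, 3, 0, 1, 0, 1, 6, 1, 2, 3, 2, 1, 6, 3],
  [6, 1, 2, 3, 2, 1, 6, 0, 3, 2, 3, 4],
  [2, 5, 3, 6, 1, 2, 3, 2, 1, 6, 3, 6, 1, 2, 3, 2, 1, 6, 5],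
  [2, 3, 6, 1, 2, 3, 2, 1, 6, 0, 5, 3, 6, 1, 2, 3, 2, 1, 6, 3],
  [6, 1, 2, 3, 2, 1, 6, 3, 2, 3],
  [6, 1, 2, 3, 2, 1, 6, 3, 2, 3, 4],
  [2, 3, 2, 3],
  [2, 3, 2, 3, 0, 1, 0, 1],
  [2, 3, 2, 6, 1, 2, 3, 2, 1, 6, 3, 2, 3, 5, 3, 2, 4, 6, 1, 2, 3, 2, 1, 6, 3],
  [2, 3, 2, 3, 6, 1, 2, 3, 2, 1, 6, 5, 6, 1, 2, 3, 2, 1, 6],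
  [2, 3, 2, 4, 5, 6, 1, 2, 3, 2, 1, 6, 3, 2, 6, 1, 2, 3, 2, 1, 6, 3, 2, 5, 3],
  [2, 3, 2, 3, 0, 1, 0, 1, 6, 1, 2, 3, 2, 1, 6, 5, 6, 1, 2, 3, 2, 1, 6],
  [2, 6, 1, 2, 3, 2, 1, 6, 3, 2, 5, 0, 1, 0, 1, 6, 1, 2, 3, 2, 1, 6, 3, 2, 3],
  [2, 3, 2, 6, 1, 2, 3, 2, 1, 6, 3, 2, 3, 6, 1, 2, 3, 2, 1, 6, 3, 6, 1, 2, 3, 2, 1, 6],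
  [2, 3, 2, 0, 1, 0, 1, 6, 1, 2, 3, 2, 1, 6, 3, 2, 3, 6, 1, 2, 3, 2, 1, 6, 3, 6, 1, 2, 3, 2, 1, 6],
  [2, 6, 1, 2, 3, 2, 1, 6, 0, 3, 2, 5, 6, 1, 2, 3, 2, 1, 6, 3, 2, 4, 3],
  [2, 6, 1, 2, 3, 2, 1, 6, 3, 2, 6, 1, 2, 3, 2, 1, 6, 4, 3, 2, 3, 6, 1, 2, 3, 2, 1, 6],
  [6, 1, 2, 3, 2, 1, 6, 3, 2, 3, 2, 5, 3, 2, 3, 6, 1, 2, 3, 2, 1, 6, 0],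
  [6, 1, 2, 3, 2, 1, 6, 3, 2, 3, 2, 5, 3, 2, 3, 6, 1, 2, 3, 2, 1, 6],
  [2, 5, 3, 2, 6, 1, 2, 3, 2, 1, 6, 3, 4, 3, 2, 3, 6, 1, 2, 3, 2, 1, 6, 3],
  [2, 3, 2, 6, 1, 2, 3, 2, 1, 6, 3, 2, 3, 6, 1, 2, 3, 2, 1, 6, 3, 6, 1, 2, 3, 2, 1, 6, 5],
  [2, 6, 1, 2, 3, 2, 1, 6, 3, 2, 6, 1, 2, 3, 2, 1, 6, 3, 2, 4, 3, 5, 6, 1, 2, 3, 2, 1, 6],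
  [2, 4, 6, 1, 2, 3, 2, 1, 6, 3, 2, 6, 1, 2, 3, 2, 1, 6, 3, 2, 4, 3, 6, 1, 2, 3, 2, 1, 6],
  [6, 1, 2, 3, 2, 1, 6, 3, 2, 3, 2, 5, 3, 2, 3, 6, 1, 2, 3, 2, 1, 6, 0, 1, 0, 1],
  [2, 3, 2, 6, 1, 2, 3, 2, 1, 6, 3, 2, 6, 1, 2, 3, 2, 1, 6, 4, 3, 2, 3],
  [2, 5, 3, 6, 1, 2, 3, 2, 1, 6, 5, 3, 2, 3, 6, 1, 2, 3, 2, 1, 6],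
  [2, 3, 0, 1, 0, 1, 6, 1, 2, 3, 2, 1, 6, 5, 3, 2, 3, 6, 1, 2, 3, 2, 1, 6],
  [2, 3, 2, 0, 1, 0, 1, 6, 1, 2, 3, 2, 1, 6, 3, 2, 6, 1, 2, 3, 2, 1, 6, 3, 2, 4, 3],
  [2, 3, 5, 3, 2, 3],
  [2, 3, 5, 3, 2, 3, 0, 1, 0, 1],
  [6, 1, 2, 3, 2, 1, 6, 3],
  [6, 1, 2, 3, 2, 1, 6, 0, 3],
  [2, 3, 2],
  [2, 3, 2, 3, 6, 1, 2, 3, 2, 1, 6, 5, 6, 1, 2, 3, 2, 1, 6, 3],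
  [2, 3, 2, 6, 1, 2, 3, 2, 1, 6, 3, 2, 3, 5, 3, 2, 4, 6, 1, 2, 3, 2, 1, 6],
  [2, 3, 2, 0, 1, 0, 1],
  [2, 3, 2, 4, 5, 6, 1, 2, 3, 2, 1, 6, 3, 2, 6, 1, 2, 3, 2, 1, 6, 3, 2, 5],
  [2, 3, 2, 3, 0, 1, 0, 1, 6, 1, 2, 3, 2, 1, 6, 5, 6, 1, 2, 3, 2, 1, 6, 3],
  [6, 1, 2, 3, 2, 1, 6, 3, 2, 3, 2, 6, 1, 2, 3, 2, 1, 6, 4, 5, 3, 2],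
  [2, 3, 2, 6, 1, 2, 3, 2, 1, 6, 3, 4, 3, 2, 3, 6, 1, 2, 3, 2, 1, 6, 5],
  [2, 5, 3, 6, 1, 2, 3, 2, 1, 6, 3, 2, 6, 1, 2, 3, 2, 1, 6, 3, 2, 4],
  [2, 4, 6, 1, 2, 3, 2, 1, 6, 3, 2, 3, 6, 1, 2, 3, 2, 1, 6, 3, 2, 5],
  [2, 4, 5, 3, 2, 6, 1, 2, 3, 2, 1, 6, 3, 2, 3, 6, 1, 2, 3, 2, 1, 6],
  [2, 6, 1, 2, 3, 2, 1, 6, 0, 3, 2, 5, 6, 1, 2, 3, 2, 1, 6, 3, 2, 4],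
  [2, 3, 0, 1, 0, 1, 2, 6, 1, 2, 3, 2, 1, 6, 3, 2, 3, 6, 1, 2, 3, 2, 1, 6, 5],
  [2, 6, 1, 2, 3, 2, 1, 6, 3, 2, 5, 0, 1, 0, 1, 6, 1, 2, 3, 2, 1, 6, 3, 2],
  [2, 6, 1, 2, 3, 2, 1, 6, 3, 2, 6, 1, 2, 3, 2, 1, 6, 3, 2, 5, 6, 1, 2, 3, 2, 1, 6, 5],
  [2, 3, 5, 0, 1, 0, 1, 2, 6, 1, 2, 3, 2, 1, 6, 3, 2, 3, 6, 1, 2, 3, 2, 1, 6],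
  [2, 5, 3, 2, 6, 1, 2, 3, 2, 1, 6, 3, 4, 3, 2, 3, 6, 1, 2, 3, 2, 1, 6],
  [2, 4, 5, 3, 2, 6, 1, 2, 3, 2, 1, 6, 3, 2, 3, 6, 1, 2, 3, 2, 1, 6, 0, 1, 0, 1],
  [2, 3, 2, 0, 1, 0, 1, 6, 1, 2, 3, 2, 1, 6, 3, 6, 1, 2, 3, 2, 1, 6, 4],
  [2, 3, 2, 6, 1, 2, 3, 2, 1, 6, 3, 6, 1, 2, 3, 2, 1, 6, 4],
  [2, 3, 2, 6, 1, 2, 3, 2, 1, 6, 3, 6, 1, 2, 3, 2, 1, 6, 3],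
  [2, 3, 2, 0, 1, 0, 1, 6, 1, 2, 3, 2, 1, 6, 3, 6, 1, 2, 3, 2, 1, 6, 3],
  [2, 3, 2, 6, 1, 2, 3, 2, 1, 6, 5, 3, 0, 1, 0, 1, 6, 1, 2, 3, 2, 1, 6],
  [2, 3, 2, 6, 1, 2, 3, 2, 1, 6, 0, 5, 3, 6, 1, 2, 3, 2, 1, 6],
  [2, 3, 2, 3, 6, 1, 2, 3, 2, 1, 6, 3, 2, 6, 1, 2, 3, 2, 1, 6, 3, 2, 4, 3, 6, 1, 2, 3, 2, 1, 6],
  [2, 3, 2, 3, 6, 1, 2, 3, 2, 1, 6, 3, 2, 6, 1, 2, 3, 2, 1, 6, 3, 0, 1, 0, 1, 2, 3, 6, 1, 2, 3, 2, 1, 6],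
  [2, 3, 2, 6, 1, 2, 3, 2, 1, 6, 3, 6, 1, 2, 3, 2, 1, 6],
  [2, 3, 2, 0, 1, 0, 1, 6, 1, 2, 3, 2, 1, 6, 3, 6, 1, 2, 3, 2, 1, 6],
  [2, 3, 2, 6, 1, 2, 3, 2, 1, 6, 3, 6, 1, 2, 3, 2, 1, 6, 4, 5],
  [2, 3, 2, 0, 1, 0, 1, 6, 1, 2, 3, 2, 1, 6, 3, 6, 1, 2, 3, 2, 1, 6, 4, 5],
  [2, 4, 5, 3, 2, 6, 1, 2, 3, 2, 1, 6, 3, 2, 6, 1, 2, 3, 2, 1, 6, 3, 0, 1, 0, 1, 2],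
  [2, 4, 5, 3, 2, 6, 1, 2, 3, 2, 1, 6, 3, 2, 6, 1, 2, 3, 2, 1, 6, 3, 2, 4],
  [2, 3, 2, 6, 1, 2, 3, 2, 1, 6, 3, 6, 1, 2, 3, 2, 1, 6, 5],
  [2, 3, 2, 0, 1, 0, 1, 6, 1, 2, 3, 2, 1, 6, 3, 6, 1, 2, 3, 2, 1, 6, 5],
  [2, 4, 5, 3, 2, 6, 1, 2, 3, 2, 1, 6, 3, 2, 6, 1, 2, 3, 2, 1, 6, 3, 2],
  [2, 4, 5, 3, 2, 6, 1, 2, 3, 2, 1, 6, 3, 2, 6, 1, 2, 3, 2, 1, 6, 3, 2, 0, 1, 0, 1],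
  [2, 3, 2, 6, 1, 2, 3, 2, 1, 6, 3, 2, 6, 1, 2, 3, 2, 1, 6, 3, 0, 1, 0, 1, 2],
  [2, 3, 2, 6, 1, 2, 3, 2, 1, 6, 3, 2, 6, 1, 2, 3, 2, 1, 6, 4, 3, 2],
  [2, 3, 2, 6, 1, 2, 3, 2, 1, 6, 3, 2, 6, 1, 2, 3, 2, 1, 6, 3, 2, 4],
  [2, 3, 2, 0, 1, 0, 1, 6, 1, 2, 3, 2, 1, 6, 3, 2, 6, 1, 2, 3, 2, 1, 6, 3, 2, 4],
  [2, 3, 5, 3, 2],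
  [2, 3, 5, 3, 2, 0, 1, 0, 1],
  [6, 1, 2, 3, 2, 1, 6, 0],
  [6, 1, 2, 3, 2, 1, 6],
  [2],
  [2, 5, 3, 6, 1, 2, 3, 2, 1, 6, 3, 2, 6, 1, 2, 3, 2, 1, 6, 0, 1, 0, 1],
  [2, 5, 3, 6, 1, 2, 3, 2, 1, 6, 3, 2, 6, 1, 2, 3, 2, 1, 6, 4],
  [2, 3, 0, 1, 0, 1, 2],
  [2, 3, 2, 4],
  [2, 3, 2, 0, 1, 0, 1, 6, 1, 2, 3, 2, 1, 6, 5, 6, 1, 2, 3, 2, 1, 6, 3, 6, 1, 2, 3, 2, 1, 6],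
  [2, 3, 2, 3, 6, 1, 2, 3, 2, 1, 6, 3, 2, 6, 1, 2, 3, 2, 1, 6, 3, 2, 5, 6, 1, 2, 3, 2, 1, 6],
  [2, 3, 2, 6, 1, 2, 3, 2, 1, 6, 0, 3, 2, 3, 5, 3, 2, 6, 1, 2, 3, 2, 1, 6],
  [2, 3, 2, 6, 1, 2, 3, 2, 1, 6, 5, 6, 1, 2, 3, 2, 1, 6, 3, 6, 1, 2, 3, 2, 1, 6],
  [5, 6, 1, 2, 3, 2, 1, 6, 3, 2, 3, 6, 1, 2, 3, 2, 1, 6, 0, 1, 0, 1, 2, 3, 2],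
  [2, 5, 3, 6, 1, 2, 3, 2, 1, 6, 3, 2, 6, 1, 2, 3, 2, 1, 6, 3, 2, 0, 1, 0, 1],
  [6, 1, 2, 3, 2, 1, 6, 3, 2, 3, 6, 1, 2, 3, 2, 1, 6, 5, 0, 1, 0, 1, 2, 3, 2],
  [2, 5, 3, 6, 1, 2, 3, 2, 1, 6, 0, 1, 0, 1, 2, 3, 2, 3, 4, 6, 1, 2, 3, 2, 1, 6],
  [2, 3, 5, 0, 1, 0, 1, 2, 6, 1, 2, 3, 2, 1, 6, 3, 2, 3, 6, 1, 2, 3, 2, 1, 6, 4],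
  [2, 4, 5, 3, 6, 1, 2, 3, 2, 1, 6, 3, 2, 6, 1, 2, 3, 2, 1, 6, 3, 2],
  [2, 6, 1, 2, 3, 2, 1, 6, 0, 3, 2, 5, 6, 1, 2, 3, 2, 1, 6, 3, 2],
  [2, 5, 6, 1, 2, 3, 2, 1, 6, 0, 3, 2, 5, 6, 1, 2, 3, 2, 1, 6, 3, 2],
  [2, 4, 5, 3, 2, 6, 1, 2, 3, 2, 1, 6, 3, 2, 3, 6, 1, 2, 3, 2, 1, 6, 4],
  [2, 5, 3, 6, 1, 2, 3, 2, 1, 6, 3, 2, 6, 1, 2, 3, 2, 1, 6, 3, 2],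
  [2, 3, 2, 6, 1, 2, 3, 2, 1, 6, 0, 3, 2, 3, 6, 1, 2, 3, 2, 1, 6, 3, 6, 1, 2, 3, 2, 1, 6],
  [2, 6, 1, 2, 3, 2, 1, 6, 0, 3, 2, 5, 6, 1, 2, 3, 2, 1, 6, 3, 2, 0, 1, 0, 1],
  [2, 3, 2, 3, 6, 1, 2, 3, 2, 1, 6, 3, 4, 5, 6, 1, 2, 3, 2, 1, 6],
  [2, 3, 2, 6, 1, 2, 3, 2, 1, 6, 3, 2, 6, 1, 2, 3, 2, 1, 6, 4, 5, 3, 2],
  [2, 3, 2, 5],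
  [2, 3, 5, 0, 1, 0, 1, 2, 6, 1, 2, 3, 2, 1, 6, 3, 6, 1, 2, 3, 2, 1, 6, 4],
  [2, 3, 2, 4, 5, 6, 1, 2, 3, 2, 1, 6, 3, 2, 6, 1, 2, 3, 2, 1, 6, 3, 2],
  [2, 3, 2, 5, 0, 1, 0, 1],
  [2, 4, 6, 1, 2, 3, 2, 1, 6, 3, 2, 3, 6, 1, 2, 3, 2, 1, 6, 3, 2],
  [2, 4, 6, 1, 2, 3, 2, 1, 6, 3, 2, 3, 6, 1, 2, 3, 2, 1, 6, 0, 3, 2],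
  [2, 6, 1, 2, 3, 2, 1, 6, 3, 2, 6, 1, 2, 3, 2, 1, 6, 3, 2, 5, 6, 1, 2, 3, 2, 1, 6],
  [2, 5, 6, 1, 2, 3, 2, 1, 6, 3, 2, 6, 1, 2, 3, 2, 1, 6, 3, 2, 5, 6, 1, 2, 3, 2, 1, 6],
  [2, 3, 0, 1, 0, 1, 2, 6, 1, 2, 3, 2, 1, 6, 3, 2, 3, 6, 1, 2, 3, 2, 1, 6, 0, 1, 0, 1],
  [2, 3, 2, 6, 1, 2, 3, 2, 1, 6, 3, 4, 3, 2, 3, 6, 1, 2, 3, 2, 1, 6],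
  [2, 3, 0, 1, 0, 1, 2, 6, 1, 2, 3, 2, 1, 6, 3, 2, 3, 6, 1, 2, 3, 2, 1, 6, 0],
  [2, 3, 0, 1, 0, 1, 2, 6, 1, 2, 3, 2, 1, 6, 3, 2, 3, 6, 1, 2, 3, 2, 1, 6],
  [2, 3, 5, 3, 0, 1, 0, 1, 2, 6, 1, 2, 3, 2, 1, 6, 3, 2, 3, 6, 1, 2, 3, 2, 1, 6],
  [2, 3, 6, 1, 2, 3, 2, 1, 6, 3, 2, 3, 6, 1, 2, 3, 2, 1, 6, 5, 3, 2, 6, 1, 2, 3, 2, 1, 6],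
  [2, 3, 5, 3, 2, 6, 1, 2, 3, 2, 1, 6, 4, 3, 2, 3, 6, 1, 2, 3, 2, 1, 6],
  [2, 3, 0, 1, 0, 1, 6, 1, 2, 3, 2, 1, 6, 3, 2, 3, 6, 1, 2, 3, 2, 1, 6, 5, 3, 2],
  [2, 3, 2, 6, 1, 2, 3, 2, 1, 6, 3, 2, 6, 1, 2, 3, 2, 1, 6, 0, 1, 0, 1],
  [2, 3, 2, 6, 1, 2, 3, 2, 1, 6, 3, 2, 6, 1, 2, 3, 2, 1, 6, 4],
  [2, 3, 2, 0, 1, 0, 1, 6, 1, 2, 3, 2, 1, 6, 3, 2, 6, 1, 2, 3, 2, 1, 6, 3, 2],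
  [2, 3, 2, 6, 1, 2, 3, 2, 1, 6, 3, 2, 6, 1, 2, 3, 2, 1, 6, 3, 2],
  [2, 3, 2, 0, 1, 0, 1, 6, 1, 2, 3, 2, 1, 6, 3, 2, 6, 1, 2, 3, 2, 1, 6, 3, 2, 0, 1, 0, 1],
  [2, 3, 2, 6, 1, 2, 3, 2, 1, 6, 3, 2, 6, 1, 2, 3, 2, 1, 6, 3, 2, 0, 1, 0, 1],
  [2, 3, 5, 3, 0, 1, 0, 1, 2],
  [2, 3, 5, 3, 2, 4],
  [6, 1, 2, 3, 2, 1, 6, 4],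
  [4, 6, 1, 2, 3, 2, 1, 6],
  [2, 5, 3, 2],
  [2, 3, 2, 6, 1, 2, 3, 2, 1, 6, 3, 2, 6, 1, 2, 3, 2, 1, 6, 4, 3, 2, 5],
  [2, 3, 2, 3, 6, 1, 2, 3, 2, 1, 6, 5, 6, 1, 2, 3, 2, 1, 6, 3, 2, 3, 2],
  [2, 5, 3, 2, 0, 1, 0, 1],
  [2, 3, 2, 6, 1, 2, 3, 2, 1, 6, 3, 2, 6, 1, 2, 3, 2, 1, 6, 3, 2, 4, 5],
  [2, 3, 2, 0, 1, 0, 1, 6, 1, 2, 3, 2, 1, 6, 3, 2, 6, 1, 2, 3, 2, 1, 6, 3, 2, 4, 5],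
  [6, 1, 2, 3, 2, 1, 6, 0, 5],
  [6, 1, 2, 3, 2, 1, 6, 5],
  [4, 3, 6, 1, 2, 3, 2, 1, 6, 0],
  [5, 6, 1, 2, 3, 2, 1, 6, 0],
  [5, 6, 1, 2, 3, 2, 1, 6, 4],
  [2, 3],
  [2, 5, 3, 6, 1, 2, 3, 2, 1, 6, 3, 2, 6, 1, 2, 3, 2, 1, 6, 3, 0, 1, 0, 1],
  [2, 5, 3, 6, 1, 2, 3, 2, 1, 6, 3, 2, 6, 1, 2, 3, 2, 1, 6, 4, 3],
  [2, 4],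
  [2, 5, 3, 6, 1, 2, 3, 2, 1, 6, 3, 2, 6, 1, 2, 3, 2, 1, 6],
  [2, 4, 5, 3, 6, 1, 2, 3, 2, 1, 6, 3, 2, 6, 1, 2, 3, 2, 1, 6],
  [2, 5],
  [2, 3, 6, 1, 2, 3, 2, 1, 6, 0, 5, 3, 6, 1, 2, 3, 2, 1, 6, 3, 2],
  [2, 3, 6, 1, 2, 3, 2, 1, 6, 3, 6, 1, 2, 3, 2, 1, 6, 5, 3, 2, 0, 1, 0, 1],
  [2, 3, 2, 0, 1, 0, 1, 6, 1, 2, 3, 2, 1, 6, 3, 2, 6, 1, 2, 3, 2, 1, 6, 5, 3, 2],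
  [2, 3, 5, 0, 1, 0, 1, 2, 6, 1, 2, 3, 2, 1, 6, 3, 6, 1, 2, 3, 2, 1, 6],
  [2, 3, 5, 0, 1, 0, 1, 2],
  [2, 3, 2, 3, 6, 1, 2, 3, 2, 1, 6, 3, 2, 5, 0, 1, 0, 1, 6, 1, 2, 3, 2, 1, 6, 3, 2],
  [2, 3, 2, 4, 5, 6, 1, 2, 3, 2, 1, 6, 3, 6, 1, 2, 3, 2, 1, 6],
  [2, 3, 2, 4, 5],
  [2, 4, 6, 1, 2, 3, 2, 1, 6, 3, 2, 3, 6, 1, 2, 3, 2, 1, 6, 3, 2, 4],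
  [2, 3, 4, 6, 1, 2, 3, 2, 1, 6, 3, 2, 3, 6, 1, 2, 3, 2, 1, 6, 3, 2],
  [2, 4, 6, 1, 2, 3, 2, 1, 6, 3, 2, 3, 6, 1, 2, 3, 2, 1, 6, 3, 0, 1, 0, 1, 2],
  [2, 6, 1, 2, 3, 2, 1, 6, 0, 3, 2, 4, 3, 6, 1, 2, 3, 2, 1, 6, 3, 2],
  [6, 1, 2, 3, 2, 1, 6, 3, 2, 3, 2, 3, 5, 3, 2, 0, 1, 0, 1, 6, 1, 2, 3, 2, 1, 6],
  [2, 6, 1, 2, 3, 2, 1, 6, 3, 2, 3, 2, 5, 3, 2, 6, 1, 2, 3, 2, 1, 6, 0],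
  [2, 3, 6, 1, 2, 3, 2, 1, 6, 0, 1, 0, 1, 2, 3, 2, 3, 4, 6, 1, 2, 3, 2, 1, 6],
  [2, 6, 1, 2, 3, 2, 1, 6, 3, 2, 3, 2, 5, 3, 2, 6, 1, 2, 3, 2, 1, 6],
  [2, 3, 0, 1, 0, 1, 2, 6, 1, 2, 3, 2, 1, 6, 3, 2, 3, 6, 1, 2, 3, 2, 1, 6, 4],
  [2, 5, 3, 6, 1, 2, 3, 2, 1, 6, 3, 2, 6, 1, 2, 3, 2, 1, 6, 3, 2, 5],
  [6, 1, 2, 3, 2, 1, 6, 3, 2, 6, 1, 2, 3, 2, 1, 6, 3, 2, 5, 3, 2, 3],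
  [2, 6, 1, 2, 3, 2, 1, 6, 3, 2, 3, 2, 5, 3, 2, 6, 1, 2, 3, 2, 1, 6, 0, 1, 0, 1],
  [2, 3, 2, 3, 6, 1, 2, 3, 2, 1, 6, 0, 1, 0, 1],
  [2, 3, 2, 3, 6, 1, 2, 3, 2, 1, 6, 0],
  [2, 3, 2, 6, 1, 2, 3, 2, 1, 6, 3, 2, 6, 1, 2, 3, 2, 1, 6, 4, 3],
  [2, 3, 2, 6, 1, 2, 3, 2, 1, 6, 3, 2, 6, 1, 2, 3, 2, 1, 6, 3, 0, 1, 0, 1],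
  [2, 3, 2, 6, 1, 2, 3, 2, 1, 6, 3, 2, 6, 1, 2, 3, 2, 1, 6],
  [2, 3, 2, 0, 1, 0, 1, 6, 1, 2, 3, 2, 1, 6, 3, 2, 6, 1, 2, 3, 2, 1, 6],
  [2, 3, 2, 6, 1, 2, 3, 2, 1, 6, 3, 2, 6, 1, 2, 3, 2, 1, 6, 4, 5],
  [2, 3, 2, 6, 1, 2, 3, 2, 1, 6, 3, 2, 6, 1, 2, 3, 2, 1, 6, 5, 0, 1, 0, 1],
  [2, 4, 5, 3, 2],
  [2, 5, 3, 2, 4],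
  [2, 3, 2, 0, 1, 0, 1, 6, 1, 2, 3, 2, 1, 6, 3, 2, 6, 1, 2, 3, 2, 1, 6, 3, 2, 5],
  [2, 3, 2, 6, 1, 2, 3, 2, 1, 6, 3, 2, 6, 1, 2, 3, 2, 1, 6, 3, 2, 5],
  [2, 3, 4, 3, 5, 3, 2, 6, 1, 2, 3, 2, 1, 6, 3, 6, 1, 2, 3, 2, 1, 6],
  [2, 3, 2, 0, 1, 0, 1, 6, 1, 2, 3, 2, 1, 6, 3, 2, 6, 1, 2, 3, 2, 1, 6, 3, 2, 5, 0, 1, 0, 1],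
  [4, 6, 1, 2, 3, 2, 1, 6, 5],
  [6, 1, 2, 3, 2, 1, 6, 4, 5],
  [4, 3, 6, 1, 2, 3, 2, 1, 6],
  [5, 6, 1, 2, 3, 2, 1, 6],
  [4, 5, 6, 1, 2, 3, 2, 1, 6],
  [6, 1, 2, 3, 2, 1, 6, 5, 6, 1, 2, 3, 2, 1, 6],
  [6, 1, 2, 3, 2, 1, 6, 3, 6, 1, 2, 3, 2, 1, 6],
  [5, 6, 1, 2, 3, 2, 1, 6, 0, 3],
  [5, 6, 1, 2, 3, 2, 1, 6, 4, 5],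
  [5, 6, 1, 2, 3, 2, 1, 6, 5, 3],
  [5, 6, 1, 2, 3, 2, 1, 6, 0, 5],
  [2, 3, 4],
  [2, 5, 3, 6, 1, 2, 3, 2, 1, 6, 3, 2, 6, 1, 2, 3, 2, 1, 6, 3, 4, 3],
  [2, 5, 3, 6, 1, 2, 3, 2, 1, 6, 3, 2, 6, 1, 2, 3, 2, 1, 6, 3, 4, 0, 1, 0, 1],
  [2, 3, 5],
  [2, 5, 3, 6, 1, 2, 3, 2, 1, 6, 3, 2, 6, 1, 2, 3, 2, 1, 6, 3, 5, 0, 1, 0, 1],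
  [2, 3, 0, 1, 0, 1, 2, 6, 1, 2, 3, 2, 1, 6, 3, 2, 3, 2, 6, 1, 2, 3, 2, 1, 6],
  [2, 3, 0, 1, 0, 1],
  [2, 4, 5, 3, 6, 1, 2, 3, 2, 1, 6, 3, 2, 6, 1, 2, 3, 2, 1, 6, 3],
  [2, 5, 3, 6, 1, 2, 3, 2, 1, 6, 3, 2, 6, 1, 2, 3, 2, 1, 6, 3],
  [2, 4, 5],
  [2, 5, 3, 6, 1, 2, 3, 2, 1, 6, 3, 2, 6, 1, 2, 3, 2, 1, 6, 5],
  [2, 3, 6, 1, 2, 3, 2, 1, 6, 3, 6, 1, 2, 3, 2, 1, 6, 5, 3, 2],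
  [2, 5, 3],
  [2, 3, 6, 1, 2, 3, 2, 1, 6, 3, 6, 1, 2, 3, 2, 1, 6, 5, 3, 2, 3, 0, 1, 0, 1],
  [2, 3, 6, 1, 2, 3, 2, 1, 6, 0, 5, 3, 6, 1, 2, 3, 2, 1, 6, 3, 2, 3],
  [2, 3, 2, 4, 5, 3],
  [2, 3, 2, 0, 1, 0, 1, 6, 1, 2, 3, 2, 1, 6, 3, 2, 6, 1, 2, 3, 2, 1, 6, 5, 3, 2, 3],
  [2, 3, 5, 0, 1, 0, 1, 2, 6, 1, 2, 3, 2, 1, 6, 3, 6, 1, 2, 3, 2, 1, 6, 3],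
  [2, 3, 2, 4, 5, 6, 1, 2, 3, 2, 1, 6, 3, 6, 1, 2, 3, 2, 1, 6, 3],
  [2, 3, 2, 3, 6, 1, 2, 3, 2, 1, 6, 3, 2, 5, 0, 1, 0, 1, 6, 1, 2, 3, 2, 1, 6, 3, 2, 3],
  [2, 3, 5, 0, 1, 0, 1, 2, 3],
  [6, 1, 2, 3, 2, 1, 6, 3, 2, 6, 1, 2, 3, 2, 1, 6, 3, 2, 5, 3, 2],
  [4, 3, 6, 1, 2, 3, 2, 1, 6, 3, 2, 3, 2, 5, 3, 2],
  [2, 4, 5, 3, 2, 6, 1, 2, 3, 2, 1, 6, 3, 2, 5, 3, 0, 1, 0, 1, 6, 1, 2, 3, 2, 1, 6],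
  [2, 3, 2, 3, 6, 1, 2, 3, 2, 1, 6, 3, 0, 1, 0, 1, 2, 3, 4, 6, 1, 2, 3, 2, 1, 6],
  [6, 1, 2, 3, 2, 1, 6, 3, 2, 6, 1, 2, 3, 2, 1, 6, 3, 2, 5, 3, 0, 1, 0, 1, 2],
  [2, 5, 3, 6, 1, 2, 3, 2, 1, 6, 0, 1, 0, 1, 2, 3, 2, 5, 3, 6, 1, 2, 3, 2, 1, 6, 0, 1, 0, 1],
  [2, 5, 3, 6, 1, 2, 3, 2, 1, 6, 0, 1, 0, 1, 2, 3, 2, 5, 3, 6, 1, 2, 3, 2, 1, 6],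
  [2, 3, 2, 3, 0, 1, 0, 1, 6, 1, 2, 3, 2, 1, 6, 3, 2, 3, 6, 1, 2, 3, 2, 1, 6],
  [6, 1, 2, 3, 2, 1, 6, 3, 2, 6, 1, 2, 3, 2, 1, 6, 3, 2, 5, 3, 2, 0, 1, 0, 1],
  [6, 1, 2, 3, 2, 1, 6, 3, 2, 6, 1, 2, 3, 2, 1, 6, 3, 2, 5, 3, 2, 4],
  [2, 4, 5, 3, 2, 6, 1, 2, 3, 2, 1, 6, 3, 2, 5, 3, 4, 6, 1, 2, 3, 2, 1, 6],
  [2, 3, 2, 3, 6, 1, 2, 3, 2, 1, 6, 0, 3, 2, 4, 3, 6, 1, 2, 3, 2, 1, 6],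
  [2, 3, 2, 3, 0, 1, 0, 1, 6, 1, 2, 3, 2, 1, 6],
  [2, 3, 2, 3, 6, 1, 2, 3, 2, 1, 6],
  [2, 3, 2, 3, 6, 1, 2, 3, 2, 1, 6, 0, 3],
  [2, 3, 2, 3, 6, 1, 2, 3, 2, 1, 6, 3, 0, 1, 0, 1],
  [2, 3, 2, 3, 6, 1, 2, 3, 2, 1, 6, 0, 5],
  [2, 3, 2, 3, 6, 1, 2, 3, 2, 1, 6, 5, 0, 1, 0, 1],
  [2, 3, 2, 3, 6, 1, 2, 3, 2, 1, 6, 3, 2, 3, 5, 6, 1, 2, 3, 2, 1, 6],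
  [2, 3, 2, 6, 1, 2, 3, 2, 1, 6, 3, 2, 6, 1, 2, 3, 2, 1, 6, 3, 4, 3],
  [2, 3, 2, 3, 6, 1, 2, 3, 2, 1, 6, 5, 6, 1, 2, 3, 2, 1, 6, 3, 2, 3],
  [2, 3, 2, 6, 1, 2, 3, 2, 1, 6, 3, 2, 6, 1, 2, 3, 2, 1, 6, 4, 3, 5],
  [2, 3, 2, 6, 1, 2, 3, 2, 1, 6, 3, 2, 6, 1, 2, 3, 2, 1, 6, 3],
  [2, 3, 2, 0, 1, 0, 1, 6, 1, 2, 3, 2, 1, 6, 3, 2, 6, 1, 2, 3, 2, 1, 6, 3],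
  [2, 3, 2, 0, 1, 0, 1, 6, 1, 2, 3, 2, 1, 6, 3, 2, 6, 1, 2, 3, 2, 1, 6, 5],
  [2, 3, 2, 6, 1, 2, 3, 2, 1, 6, 3, 2, 6, 1, 2, 3, 2, 1, 6, 5],
  [2, 3, 2, 6, 1, 2, 3, 2, 1, 6, 3, 2, 6, 1, 2, 3, 2, 1, 6, 4, 5, 3],
  [2, 3, 2, 3, 6, 1, 2, 3, 2, 1, 6, 3, 2, 4, 5, 6, 1, 2, 3, 2, 1, 6],
  [5, 3, 6, 1, 2, 3, 2, 1, 6],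
  [4, 6, 1, 2, 3, 2, 1, 6, 5, 3],
  [2, 3, 4, 3, 5, 3, 2, 6, 1, 2, 3, 2, 1, 6, 3, 6, 1, 2, 3, 2, 1, 6, 3],
  [2, 3, 2, 0, 1, 0, 1, 6, 1, 2, 3, 2, 1, 6, 3, 2, 6, 1, 2, 3, 2, 1, 6, 3, 2, 5, 3, 0, 1, 0, 1],
  [2, 3, 2, 6, 1, 2, 3, 2, 1, 6, 3, 2, 6, 1, 2, 3, 2, 1, 6, 3, 2, 5, 3],
  [2, 3, 2, 0, 1, 0, 1, 6, 1, 2, 3, 2, 1, 6, 3, 2, 6, 1, 2, 3, 2, 1, 6, 3, 2, 5, 3],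
  [2, 5, 3, 2, 4, 3],
  [2, 4, 5, 3, 2, 3],
  [4, 5, 6, 1, 2, 3, 2, 1, 6, 3],
  [4, 3, 6, 1, 2, 3, 2, 1, 6, 3],
  [5, 6, 1, 2, 3, 2, 1, 6, 3],
  [4, 5, 6, 1, 2, 3, 2, 1, 6, 5],
  [4, 3, 6, 1, 2, 3, 2, 1, 6, 5],
  [5, 6, 1, 2, 3, 2, 1, 6, 5],
  [6, 1, 2, 3, 2, 1, 6, 5, 6, 1, 2, 3, 2, 1, 6, 4],
  [6, 1, 2, 3, 2, 1, 6, 3, 6, 1, 2, 3, 2, 1, 6, 4],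
  [4, 6, 1, 2, 3, 2, 1, 6, 5, 6, 1, 2, 3, 2, 1, 6, 3],
  [2, 3, 4, 3],
  [2, 4, 5, 3, 6, 1, 2, 3, 2, 1, 6, 3, 2, 6, 1, 2, 3, 2, 1, 6, 3, 4],
  [2, 5, 3, 6, 1, 2, 3, 2, 1, 6, 3, 2, 6, 1, 2, 3, 2, 1, 6, 3, 4],
  [2, 3, 4, 5],
  [2, 3, 0, 1, 0, 1, 6, 1, 2, 3, 2, 1, 6, 3, 2, 3, 2, 3, 4, 6, 1, 2, 3, 2, 1, 6],
  [2, 3, 5, 3, 6, 1, 2, 3, 2, 1, 6, 3, 2, 3, 6, 1, 2, 3, 2, 1, 6, 3, 6, 1, 2, 3, 2, 1, 6],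
  [2, 3, 5, 3],
  [6, 1, 2, 3, 2, 1, 6, 3, 2, 3, 2, 5, 6, 1, 2, 3, 2, 1, 6, 3, 2, 4],
  [5, 6, 1, 2, 3, 2, 1, 6, 3, 2, 3, 2, 5, 3, 2, 0, 1, 0, 1],
  [2, 3, 5, 0, 1, 0, 1],
  [2, 4, 5, 3, 6, 1, 2, 3, 2, 1, 6, 3, 2, 6, 1, 2, 3, 2, 1, 6, 3, 5],
  [2, 5, 3, 6, 1, 2, 3, 2, 1, 6, 3, 2, 6, 1, 2, 3, 2, 1, 6, 3, 5],
  [2, 4, 5, 3],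
  [2, 3, 6, 1, 2, 3, 2, 1, 6, 3, 6, 1, 2, 3, 2, 1, 6, 5, 3, 2, 3],
  [2, 5, 3, 6, 1, 2, 3, 2, 1, 6, 3, 2, 6, 1, 2, 3, 2, 1, 6, 5, 3],
  [2, 3, 2, 6, 1, 2, 3, 2, 1, 6, 3, 2, 3, 5, 3, 4, 6, 1, 2, 3, 2, 1, 6],
  [2, 3, 2, 3, 6, 1, 2, 3, 2, 1, 6, 5, 6, 1, 2, 3, 2, 1, 6, 3, 2],
  [2, 5, 3, 4],
  [6, 1, 2, 3, 2, 1, 6, 3, 2, 3, 2, 5, 6, 1, 2, 3, 2, 1, 6, 3, 2, 5],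
  [2, 3, 5, 6, 1, 2, 3, 2, 1, 6, 3, 2, 4, 3, 2, 6, 1, 2, 3, 2, 1, 6],
  [2, 4, 5, 3, 4],
  [2, 5, 3, 6, 1, 2, 3, 2, 1, 6, 3, 2, 6, 1, 2, 3, 2, 1, 6, 5, 3, 4],
  [2, 3, 6, 1, 2, 3, 2, 1, 6, 3, 6, 1, 2, 3, 2, 1, 6, 5, 3, 2, 3, 4],
  [5, 6, 1, 2, 3, 2, 1, 6, 3, 2, 6, 1, 2, 3, 2, 1, 6],
  [5, 6, 1, 2, 3, 2, 1, 6, 3, 2, 6, 1, 2, 3, 2, 1, 6, 4],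
  [2, 4, 5, 3, 2, 6, 1, 2, 3, 2, 1, 6, 3, 2, 6, 1, 2, 3, 2, 1, 6, 4, 3, 2, 3],
  [2, 3, 4, 6, 1, 2, 3, 2, 1, 6, 5, 3, 2, 3, 6, 1, 2, 3, 2, 1, 6],
  [2, 6, 1, 2, 3, 2, 1, 6, 5, 3, 2, 6, 1, 2, 3, 2, 1, 6, 3, 6, 1, 2, 3, 2, 1, 6],
  [2, 5, 3, 2, 4, 6, 1, 2, 3, 2, 1, 6, 3, 2, 6, 1, 2, 3, 2, 1, 6, 3, 2, 4, 3],
  [2, 3, 4, 3, 5, 3, 2, 3],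
  [2, 3, 4, 5, 3, 2, 4, 3],
  [2, 3, 2, 3, 6, 1, 2, 3, 2, 1, 6, 3],
  [2, 3, 2, 3, 0, 1, 0, 1, 6, 1, 2, 3, 2, 1, 6, 3],
  [2, 3, 2, 3, 6, 1, 2, 3, 2, 1, 6, 5],
  [2, 3, 2, 3, 0, 1, 0, 1, 6, 1, 2, 3, 2, 1, 6, 5],
  [2, 6, 1, 2, 3, 2, 1, 6],
  [2, 3, 6, 1, 2, 3, 2, 1, 6, 3, 4, 3, 2, 3, 4, 5],
  [2, 6, 1, 2, 3, 2, 1, 6, 3, 2, 4, 6, 1, 2, 3, 2, 1, 6, 3, 5],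
  [2, 4, 5, 3, 2, 6, 1, 2, 3, 2, 1, 6, 3, 2, 3, 4, 5],
  [2, 4, 5, 3, 2, 6, 1, 2, 3, 2, 1, 6, 3, 2, 3, 5, 0, 1, 0, 1],
  [2, 3, 2, 3, 6, 1, 2, 3, 2, 1, 6, 3, 4, 0, 1, 0, 1],
  [2, 3, 2, 3, 6, 1, 2, 3, 2, 1, 6, 0, 3, 4],
  [2, 3, 2, 4, 5, 6, 1, 2, 3, 2, 1, 6, 3],
  [2, 3, 5, 0, 1, 0, 1, 2, 6, 1, 2, 3, 2, 1, 6, 3],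
  [2, 3, 2, 4, 5, 6, 1, 2, 3, 2, 1, 6, 5],
  [2, 3, 5, 0, 1, 0, 1, 2, 6, 1, 2, 3, 2, 1, 6, 5],
  [2, 3, 2, 0, 1, 0, 1, 6, 1, 2, 3, 2, 1, 6, 3, 2, 6, 1, 2, 3, 2, 1, 6, 3, 4],
  [2, 3, 2, 6, 1, 2, 3, 2, 1, 6, 3, 2, 6, 1, 2, 3, 2, 1, 6, 3, 4],
  [2, 3, 2, 6, 1, 2, 3, 2, 1, 6, 3, 2, 6, 1, 2, 3, 2, 1, 6, 3, 4, 3, 5],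
  [2, 3, 2, 3, 6, 1, 2, 3, 2, 1, 6, 3, 2, 3, 5, 6, 1, 2, 3, 2, 1, 6, 5],
  [2, 3, 2, 0, 1, 0, 1, 6, 1, 2, 3, 2, 1, 6, 3, 2, 6, 1, 2, 3, 2, 1, 6, 3, 5],
  [2, 3, 2, 6, 1, 2, 3, 2, 1, 6, 3, 2, 6, 1, 2, 3, 2, 1, 6, 3, 5],
  [2, 3, 2, 0, 1, 0, 1, 6, 1, 2, 3, 2, 1, 6, 3, 2, 6, 1, 2, 3, 2, 1, 6, 5, 3],
  [2, 3, 2, 6, 1, 2, 3, 2, 1, 6, 3, 2, 6, 1, 2, 3, 2, 1, 6, 5, 3],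
  [2, 3, 2, 4, 5, 6, 1, 2, 3, 2, 1, 6, 3, 2, 6, 1, 2, 3, 2, 1, 6],
  [2, 3, 2, 3, 6, 1, 2, 3, 2, 1, 6, 3, 2, 5, 0, 1, 0, 1, 6, 1, 2, 3, 2, 1, 6, 3],
  [2, 3, 2, 3, 6, 1, 2, 3, 2, 1, 6, 3, 2, 5, 0, 1, 0, 1, 6, 1, 2, 3, 2, 1, 6],
  [2, 3, 2, 4, 5, 6, 1, 2, 3, 2, 1, 6, 3, 2, 6, 1, 2, 3, 2, 1, 6, 3],
  [2, 4, 5, 3, 2, 6, 1, 2, 3, 2, 1, 6, 3, 2, 6, 1, 2, 3, 2, 1, 6, 3, 4],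
  [2, 4, 5, 3, 2, 6, 1, 2, 3, 2, 1, 6, 3, 2, 6, 1, 2, 3, 2, 1, 6, 3, 0, 1, 0, 1],
  [2, 3, 2, 6, 1, 2, 3, 2, 1, 6, 3, 2, 5, 3, 6, 1, 2, 3, 2, 1, 6, 0, 1, 0, 1, 2, 3],
  [2, 4, 5, 3, 2, 6, 1, 2, 3, 2, 1, 6, 3, 2, 6, 1, 2, 3, 2, 1, 6, 3, 4, 0, 1, 0, 1],
  [2, 4, 5, 3, 2, 6, 1, 2, 3, 2, 1, 6, 3, 2, 6, 1, 2, 3, 2, 1, 6, 3],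
  [2, 3, 2, 3, 6, 1, 2, 3, 2, 1, 6, 3, 2, 6, 1, 2, 3, 2, 1, 6, 3, 2, 4, 6, 1, 2, 3, 2, 1, 6, 3],
  [2, 3, 2, 3, 6, 1, 2, 3, 2, 1, 6, 3, 2, 6, 1, 2, 3, 2, 1, 6, 3, 0, 1, 0, 1, 2, 6, 1, 2, 3, 2, 1, 6, 3],
  [2, 3, 2, 6, 1, 2, 3, 2, 1, 6, 3, 2, 5, 3, 2, 6, 1, 2, 3, 2, 1, 6, 4, 3],
  [5, 6, 1, 2, 3, 2, 1, 6, 3, 2, 6, 1, 2, 3, 2, 1, 6, 3, 2, 4, 3],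
  [4, 3, 6, 1, 2, 3, 2, 1, 6, 3, 2, 3, 2, 4, 3, 6, 1, 2, 3, 2, 1, 6],
  [6, 1, 2, 3, 2, 1, 6, 3, 2, 6, 1, 2, 3, 2, 1, 6, 3, 5, 0, 1, 0, 1, 2, 3, 6, 1, 2, 3, 2, 1, 6, 3],
  [6, 1, 2, 3, 2, 1, 6, 0, 3, 2, 6, 1, 2, 3, 2, 1, 6, 3, 2, 3, 6, 1, 2, 3, 2, 1, 6],
  [6, 1, 2, 3, 2, 1, 6, 3, 2, 6, 1, 2, 3, 2, 1, 6, 3, 2, 4, 5, 3, 6, 1, 2, 3, 2, 1, 6, 3],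
  [5, 6, 1, 2, 3, 2, 1, 6, 3, 2, 6, 1, 2, 3, 2, 1, 6, 3, 0, 1, 0, 1, 2, 3],
  [2, 3, 2, 6, 1, 2, 3, 2, 1, 6, 3, 2, 5, 3, 2, 6, 1, 2, 3, 2, 1, 6, 5, 3],
  [2, 3, 2, 6, 1, 2, 3, 2, 1, 6, 3, 2, 5, 3, 2, 6, 1, 2, 3, 2, 1, 6, 0, 5, 3],
  [2, 3, 2, 4, 5, 6, 1, 2, 3, 2, 1, 6, 3, 2, 6, 1, 2, 3, 2, 1, 6, 3, 2, 6, 1, 2, 3, 2, 1, 6, 3],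
  [2, 5, 3, 6, 1, 2, 3, 2, 1, 6, 0, 1, 0, 1, 2, 3, 2, 5, 3, 2, 6, 1, 2, 3, 2, 1, 6],
  [4, 6, 1, 2, 3, 2, 1, 6, 5, 6, 1, 2, 3, 2, 1, 6],
  [6, 1, 2, 3, 2, 1, 6, 0, 3, 6, 1, 2, 3, 2, 1, 6],
  [5, 6, 1, 2, 3, 2, 1, 6, 3, 4],
  [6, 1, 2, 3, 2, 1, 6, 3, 2, 6, 1, 2, 3, 2, 1, 6],
  [2, 6, 1, 2, 3, 2, 1, 6, 3, 2, 6, 1, 2, 3, 2, 1, 6, 3, 0, 1, 0, 1, 6, 1, 2, 3, 2, 1, 6, 3],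
  [2, 6, 1, 2, 3, 2, 1, 6, 3, 2, 4, 3, 6, 1, 2, 3, 2, 1, 6, 3],
  [2, 3, 4, 3, 6, 1, 2, 3, 2, 1, 6, 5, 6, 1, 2, 3, 2, 1, 6, 3, 2, 3, 2],
  [2, 4, 5, 3, 6, 1, 2, 3, 2, 1, 6, 3, 2, 3, 5, 3],
  [2, 3, 4, 3, 5],
  [2, 5, 3, 6, 1, 2, 3, 2, 1, 6, 3, 2, 6, 1, 2, 3, 2, 1, 6, 3, 4, 5],
  [2, 3, 2, 6, 1, 2, 3, 2, 1, 6, 3, 4, 3, 2, 3, 2, 6, 1, 2, 3, 2, 1, 6],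
  [2, 3, 4, 5, 3],
  [2, 3, 0, 1, 0, 1, 6, 1, 2, 3, 2, 1, 6, 3, 2, 3, 2, 3, 4, 6, 1, 2, 3, 2, 1, 6, 3],
  [6, 1, 2, 3, 2, 1, 6, 3, 2, 3, 2, 5, 6, 1, 2, 3, 2, 1, 6, 3, 2, 3, 4],
  [2, 3, 5, 3, 4],
  [6, 1, 2, 3, 2, 1, 6, 3, 2, 3, 2, 5, 6, 1, 2, 3, 2, 1, 6, 3, 2],
  [5, 6, 1, 2, 3, 2, 1, 6, 3, 2, 3, 2, 5, 6, 1, 2, 3, 2, 1, 6, 3, 2],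
  [2, 3, 5, 3, 0, 1, 0, 1],
  [5, 6, 1, 2, 3, 2, 1, 6, 3, 2, 3, 2, 5, 3, 2],
  [2, 3, 6, 1, 2, 3, 2, 1, 6, 3, 6, 1, 2, 3, 2, 1, 6, 5, 3, 2, 3, 5],
  [2, 3, 2, 3, 0, 1, 0, 1, 6, 1, 2, 3, 2, 1, 6, 5, 6, 1, 2, 3, 2, 1, 6, 3, 2],
  [2, 3, 2, 4, 5, 6, 1, 2, 3, 2, 1, 6, 3, 2, 6, 1, 2, 3, 2, 1, 6, 3, 5],
  [2, 3, 2, 4, 5, 6, 1, 2, 3, 2, 1, 6],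
  [2, 3, 5, 0, 1, 0, 1, 2, 6, 1, 2, 3, 2, 1, 6],
  [2, 3, 2, 6, 1, 2, 3, 2, 1, 6, 5, 6, 1, 2, 3, 2, 1, 6, 3, 2, 6, 1, 2, 3, 2, 1, 6],
  [2, 3, 2, 6, 1, 2, 3, 2, 1, 6, 0, 3, 2, 3, 5, 3, 6, 1, 2, 3, 2, 1, 6],
  [2, 3, 2, 3, 6, 1, 2, 3, 2, 1, 6, 3, 2, 6, 1, 2, 3, 2, 1, 6, 3, 5, 6, 1, 2, 3, 2, 1, 6],
  [2, 3, 2, 3, 6, 1, 2, 3, 2, 1, 6, 5, 6, 1, 2, 3, 2, 1, 6, 3, 2, 0, 1, 0, 1],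
  [2, 3, 5, 3, 4, 0, 1, 0, 1],
  [6, 1, 2, 3, 2, 1, 6, 3, 2, 3, 2, 5, 6, 1, 2, 3, 2, 1, 6, 3, 2, 0, 1, 0, 1],
  [5, 6, 1, 2, 3, 2, 1, 6, 3, 2, 3, 2, 5, 3, 2, 4],
  [2, 4, 5, 3, 2, 6, 1, 2, 3, 2, 1, 6, 3, 6, 1, 2, 3, 2, 1, 6],
  [2, 5, 3, 2, 4, 6, 1, 2, 3, 2, 1, 6, 3, 2, 6, 1, 2, 3, 2, 1, 6, 3, 2, 4],
  [5, 6, 1, 2, 3, 2, 1, 6, 3, 2, 6, 1, 2, 3, 2, 1, 6, 3, 0, 1, 0, 1],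
  [2, 3, 4, 5, 3, 2, 4],
  [2, 3, 4, 3, 5, 3, 2],
  [2, 5, 3, 2, 4, 6, 1, 2, 3, 2, 1, 6, 3, 6, 1, 2, 3, 2, 1, 6],
  [2, 4, 5, 3, 2, 6, 1, 2, 3, 2, 1, 6, 3, 2, 6, 1, 2, 3, 2, 1, 6, 4, 3, 2],
  [5, 6, 1, 2, 3, 2, 1, 6, 3, 2, 6, 1, 2, 3, 2, 1, 6, 3],
  [2, 6, 1, 2, 3, 2, 1, 6, 0],
  [2, 6, 1, 2, 3, 2, 1, 6, 3, 0, 1, 0, 1, 2, 6, 1, 2, 3, 2, 1, 6, 3, 4, 5],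
  [2, 6, 1, 2, 3, 2, 1, 6, 3, 2, 5, 3, 6, 1, 2, 3, 2, 1, 6, 3],
  [6, 1, 2, 3, 2, 1, 6, 3, 2, 3, 2, 5, 3, 2, 6, 1, 2, 3, 2, 1, 6, 0, 1, 0, 1],
  [6, 1, 2, 3, 2, 1, 6, 3, 2, 3, 2, 5, 3, 2, 6, 1, 2, 3, 2, 1, 6, 4],
  [2, 3, 6, 1, 2, 3, 2, 1, 6, 0, 1, 0, 1, 2, 3, 6, 1, 2, 3, 2, 1, 6],
  [2, 3, 2, 3, 6, 1, 2, 3, 2, 1, 6, 3, 4],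
  [2, 3, 2, 3, 6, 1, 2, 3, 2, 1, 6, 3, 5],
  [2, 3, 5, 6, 1, 2, 3, 2, 1, 6, 0, 1, 0, 1, 2, 3],
  [2, 3, 2, 3, 6, 1, 2, 3, 2, 1, 6, 5, 3],
  [2, 3, 2, 6, 1, 2, 3, 2, 1, 6, 5, 0, 1, 0, 1, 6, 1, 2, 3, 2, 1, 6],
  [2, 6, 1, 2, 3, 2, 1, 6, 3],
  [2, 6, 1, 2, 3, 2, 1, 6, 3, 2, 5, 3, 6, 1, 2, 3, 2, 1, 6, 0],
  [2, 3, 0, 1, 0, 1, 6, 1, 2, 3, 2, 1, 6, 3, 2, 3, 4, 5, 3, 2],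
  [2, 6, 1, 2, 3, 2, 1, 6, 3, 6, 1, 2, 3, 2, 1, 6, 0, 1, 0, 1, 2, 3, 6, 1, 2, 3, 2, 1, 6, 5],
  [2, 4, 5, 3, 2, 6, 1, 2, 3, 2, 1, 6, 3, 2, 3, 5, 3, 0, 1, 0, 1],
  [2, 6, 1, 2, 3, 2, 1, 6, 4],
  [2, 4, 5, 3, 2, 6, 1, 2, 3, 2, 1, 6, 3, 2, 3, 5],
  [6, 1, 2, 3, 2, 1, 6, 3, 2, 3, 2, 5, 3, 6, 1, 2, 3, 2, 1, 6, 0, 1, 0, 1, 2],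
  [2, 6, 1, 2, 3, 2, 1, 6, 3, 2, 4, 6, 1, 2, 3, 2, 1, 6, 3, 4, 5],
  [2, 3, 6, 1, 2, 3, 2, 1, 6, 3, 4, 3, 2, 3, 5],
  [2, 6, 1, 2, 3, 2, 1, 6, 5],
  [2, 4, 5, 3, 2, 6, 1, 2, 3, 2, 1, 6, 3, 2, 3, 0, 1, 0, 1],
  [2, 6, 1, 2, 3, 2, 1, 6, 3, 2, 4, 6, 1, 2, 3, 2, 1, 6, 3],
  [2, 4, 5, 3, 2, 6, 1, 2, 3, 2, 1, 6, 3, 2, 3, 4],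
  [2, 3, 6, 1, 2, 3, 2, 1, 6, 3, 4, 3, 2, 3, 4],
  [2, 3, 5, 0, 1, 0, 1, 2, 6, 1, 2, 3, 2, 1, 6, 3, 4],
  [2, 3, 2, 3, 6, 1, 2, 3, 2, 1, 6, 3, 5, 6, 1, 2, 3, 2, 1, 6],
  [2, 4, 5, 6, 1, 2, 3, 2, 1, 6, 5],
  [2, 3, 0, 1, 0, 1, 6, 1, 2, 3, 2, 1, 6, 3, 2, 3, 4, 6, 1, 2, 3, 2, 1, 6],
  [2, 3, 6, 1, 2, 3, 2, 1, 6, 3, 2, 4, 3, 6, 1, 2, 3, 2, 1, 6],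
  [2, 5, 6, 1, 2, 3, 2, 1, 6, 5, 3, 2],
  [2, 3, 2, 5, 6, 1, 2, 3, 2, 1, 6, 0, 5],
  [2, 3, 2, 5, 0, 1, 0, 1, 6, 1, 2, 3, 2, 1, 6, 5],
  [2, 3, 2, 5, 6, 1, 2, 3, 2, 1, 6, 5],
  [2, 3, 2, 0, 1, 0, 1, 6, 1, 2, 3, 2, 1, 6, 3, 2, 6, 1, 2, 3, 2, 1, 6, 3, 4, 5],
  [2, 3, 2, 6, 1, 2, 3, 2, 1, 6, 3, 2, 6, 1, 2, 3, 2, 1, 6, 3, 4, 5],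
  [2, 3, 2, 3, 0, 1, 0, 1, 6, 1, 2, 3, 2, 1, 6, 3, 2, 3, 5, 6, 1, 2, 3, 2, 1, 6],
  [2, 3, 2, 6, 1, 2, 3, 2, 1, 6, 5, 6, 1, 2, 3, 2, 1, 6, 3, 2, 6, 1, 2, 3, 2, 1, 6, 3, 4],
  [5, 6, 1, 2, 3, 2, 1, 6, 3, 2, 6, 1, 2, 3, 2, 1, 6, 3, 0, 1, 0, 1, 2],
  [2, 5, 3, 2, 4, 6, 1, 2, 3, 2, 1, 6, 3, 2, 6, 1, 2, 3, 2, 1, 6, 3, 4],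
  [2, 4, 5, 3, 2, 6, 1, 2, 3, 2, 1, 6, 3, 2, 6, 1, 2, 3, 2, 1, 6],
  [6, 1, 2, 3, 2, 1, 6, 3, 2, 6, 1, 2, 3, 2, 1, 6, 3, 2, 4, 5, 3, 6, 1, 2, 3, 2, 1, 6],
  [6, 1, 2, 3, 2, 1, 6, 0, 3, 2, 6, 1, 2, 3, 2, 1, 6, 3, 2, 3, 6, 1, 2, 3, 2, 1, 6, 3],
  [6, 1, 2, 3, 2, 1, 6, 3, 2, 6, 1, 2, 3, 2, 1, 6, 3, 5, 0, 1, 0, 1, 2, 3, 6, 1, 2, 3, 2, 1, 6],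
  [2, 3, 2, 6, 1, 2, 3, 2, 1, 6, 5, 6, 1, 2, 3, 2, 1, 6, 3, 2, 6, 1, 2, 3, 2, 1, 6, 3, 2],
  [5, 6, 1, 2, 3, 2, 1, 6, 3, 2, 6, 1, 2, 3, 2, 1, 6, 3, 2, 4],
  [2, 4, 5, 3, 2, 6, 1, 2, 3, 2, 1, 6, 3, 2, 6, 1, 2, 3, 2, 1, 6, 3, 4, 3],
  [2, 4, 5, 3, 2, 6, 1, 2, 3, 2, 1, 6, 3, 2, 6, 1, 2, 3, 2, 1, 6, 0, 1, 0, 1],
  [2, 3, 2, 6, 1, 2, 3, 2, 1, 6, 3, 2, 5, 3, 2, 6, 1, 2, 3, 2, 1, 6, 4],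
  [2, 3, 2, 3, 6, 1, 2, 3, 2, 1, 6, 3, 2, 6, 1, 2, 3, 2, 1, 6, 3, 0, 1, 0, 1, 2, 6, 1, 2, 3, 2, 1, 6],
  [2, 3, 2, 6, 1, 2, 3, 2, 1, 6, 3, 2, 5, 3, 6, 1, 2, 3, 2, 1, 6, 0, 1, 0, 1, 2],
  [2, 3, 2, 3, 6, 1, 2, 3, 2, 1, 6, 3, 2, 6, 1, 2, 3, 2, 1, 6, 3, 2, 4, 6, 1, 2, 3, 2, 1, 6],
  [2, 3, 2, 4, 5, 6, 1, 2, 3, 2, 1, 6, 3, 2, 6, 1, 2, 3, 2, 1, 6, 3, 2, 6, 1, 2, 3, 2, 1, 6],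
  [2, 3, 2, 6, 1, 2, 3, 2, 1, 6, 3, 2, 5, 3, 2, 6, 1, 2, 3, 2, 1, 6, 0, 5],
  [2, 3, 2, 6, 1, 2, 3, 2, 1, 6, 3, 2, 5, 3, 2, 6, 1, 2, 3, 2, 1, 6, 5],
  [2, 3, 2, 4, 6, 1, 2, 3, 2, 1, 6, 3, 2, 6, 1, 2, 3, 2, 1, 6, 3, 2, 6, 1, 2, 3, 2, 1, 6, 5],
  [2, 3, 5, 6, 1, 2, 3, 2, 1, 6, 0, 3, 2, 3, 6, 1, 2, 3, 2, 1, 6],
  [2, 3, 4, 3, 6, 1, 2, 3, 2, 1, 6, 3],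
  [5, 6, 1, 2, 3, 2, 1, 6, 3, 2, 3, 6, 1, 2, 3, 2, 1, 6, 0, 1, 0, 1, 2, 3, 5],
  [2, 3, 4, 6, 1, 2, 3, 2, 1, 6, 3, 2, 3, 6, 1, 2, 3, 2, 1, 6, 3],
  [4, 3, 6, 1, 2, 3, 2, 1, 6, 3, 2],
  [2, 6, 1, 2, 3, 2, 1, 6, 3, 2, 5, 6, 1, 2, 3, 2, 1, 6, 3, 5],
  [2, 3, 6, 1, 2, 3, 2, 1, 6, 4, 3, 2, 3, 5, 6, 1, 2, 3, 2, 1, 6],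
  [2, 3, 4, 5, 3, 6, 1, 2, 3, 2, 1, 6, 3, 2, 3, 5],
  [2, 3, 6, 1, 2, 3, 2, 1, 6, 3, 2, 6, 1, 2, 3, 2, 1, 6, 5, 6, 1, 2, 3, 2, 1, 6, 3, 2],
  [6, 1, 2, 3, 2, 1, 6, 3, 2, 6, 1, 2, 3, 2, 1, 6, 4],
  [2, 3, 5, 6, 1, 2, 3, 2, 1, 6, 4, 3, 2, 3, 5],
  [2, 6, 1, 2, 3, 2, 1, 6, 0, 3, 2, 6, 1, 2, 3, 2, 1, 6, 3, 5, 6, 1, 2, 3, 2, 1, 6],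
  [2, 4, 5, 3, 6, 1, 2, 3, 2, 1, 6, 3, 2, 3, 5, 3, 4],
  [2, 5, 3, 6, 1, 2, 3, 2, 1, 6, 3, 2, 4, 3, 5, 3],
  [5, 6, 1, 2, 3, 2, 1, 6, 3, 2, 4],
  [2, 3, 5, 6, 1, 2, 3, 2, 1, 6, 4, 3, 2, 3],
  [2, 5, 6, 1, 2, 3, 2, 1, 6, 3, 2, 4, 5, 3, 4],
  [2, 5, 3, 6, 1, 2, 3, 2, 1, 6, 3, 2, 4, 5, 3],
  [2, 4, 5, 3, 6, 1, 2, 3, 2, 1, 6, 3, 2, 5, 3, 4],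
  [6, 1, 2, 3, 2, 1, 6, 3, 2, 6, 1, 2, 3, 2, 1, 6, 3],
  [2, 3, 2, 6, 1, 2, 3, 2, 1, 6, 5, 6, 1, 2, 3, 2, 1, 6, 3, 0, 1, 0, 1, 2, 3, 2],
  [2, 4, 5, 3, 6, 1, 2, 3, 2, 1, 6, 3, 2, 3, 5],
  [2, 6, 1, 2, 3, 2, 1, 6, 3, 2, 6, 1, 2, 3, 2, 1, 6, 3, 0, 1, 0, 1, 6, 1, 2, 3, 2, 1, 6],
  [2, 6, 1, 2, 3, 2, 1, 6, 3, 2, 4, 3, 6, 1, 2, 3, 2, 1, 6],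
  [5, 6, 1, 2, 3, 2, 1, 6, 3, 2],
  [2, 5, 6, 1, 2, 3, 2, 1, 6, 3, 2, 4, 5, 3],
  [2, 3, 5, 6, 1, 2, 3, 2, 1, 6, 4, 3, 2, 3, 4],
  [2, 4, 5, 3, 6, 1, 2, 3, 2, 1, 6, 3, 2, 5, 3],
  [2, 3, 6, 1, 2, 3, 2, 1, 6, 3, 2, 4, 3, 2, 6, 1, 2, 3, 2, 1, 6, 3],
  [2, 4, 5, 6, 1, 2, 3, 2, 1, 6],
  [5, 6, 1, 2, 3, 2, 1, 6, 3, 2, 3, 2, 5, 3, 6, 1, 2, 3, 2, 1, 6],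
  [2, 3, 6, 1, 2, 3, 2, 1, 6, 3, 2, 4, 3, 6, 1, 2, 3, 2, 1, 6, 5],
  [2, 3, 4, 3, 5, 3],
  [2, 5, 3, 6, 1, 2, 3, 2, 1, 6, 3, 2, 6, 1, 2, 3, 2, 1, 6, 3, 4, 5, 3],
  [2, 3, 2, 6, 1, 2, 3, 2, 1, 6, 3, 4, 3, 2, 3, 2, 6, 1, 2, 3, 2, 1, 6, 3] ]
def cp1 : List (List ℕ) := [
  [2, 3, 4, 5, 3, 4],
  [5, 6, 1, 2, 3, 2, 1, 6, 3, 2, 3, 2, 5, 6, 1, 2, 3, 2, 1, 6, 3, 2, 3],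
  [6, 1, 2, 3, 2, 1, 6, 3, 2, 3, 2, 5, 6, 1, 2, 3, 2, 1, 6, 3, 2, 3],
  [2, 3, 2, 5, 6, 1, 2, 3, 2, 1, 6],
  [2, 3, 2, 5, 0, 1, 0, 1, 6, 1, 2, 3, 2, 1, 6],
  [2, 3, 2, 3, 0, 1, 0, 1, 6, 1, 2, 3, 2, 1, 6, 5, 6, 1, 2, 3, 2, 1, 6, 3, 2, 3],
  [2, 3, 2, 6, 1, 2, 3, 2, 1, 6, 5, 6, 1, 2, 3, 2, 1, 6, 3, 2, 6, 1, 2, 3, 2, 1, 6, 3, 5],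
  [2, 3, 2, 5, 6, 1, 2, 3, 2, 1, 6, 4],
  [2, 3, 5, 6, 1, 2, 3, 2, 1, 6, 0, 1, 0, 1, 2],
  [2, 3, 2, 5, 6, 1, 2, 3, 2, 1, 6, 0],
  [2, 3, 2, 5, 6, 1, 2, 3, 2, 1, 6, 0, 1, 0, 1],
  [2, 3, 2, 6, 1, 2, 3, 2, 1, 6, 5, 6, 1, 2, 3, 2, 1, 6, 3, 2, 6, 1, 2, 3, 2, 1, 6, 3],
  [2, 6, 1, 2, 3, 2, 1, 6, 3, 2, 6, 1, 2, 3, 2, 1, 6, 3, 0, 1, 0, 1, 2, 6, 1, 2, 3, 2, 1, 6, 3, 6, 1, 2, 3, 2, 1, 6],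
  [2, 3, 4, 3, 5, 3, 4],
  [5, 6, 1, 2, 3, 2, 1, 6, 3, 2, 3, 2, 5, 3, 2, 4, 3],
  [2, 5, 3, 6, 1, 2, 3, 2, 1, 6, 3, 2, 5, 3, 6, 1, 2, 3, 2, 1, 6, 3, 6, 1, 2, 3, 2, 1, 6],
  [2, 5, 3, 2, 4, 6, 1, 2, 3, 2, 1, 6, 3, 6, 1, 2, 3, 2, 1, 6, 4],
  [2, 5, 3, 2, 4, 6, 1, 2, 3, 2, 1, 6, 3, 2, 6, 1, 2, 3, 2, 1, 6, 3, 2, 0, 1, 0, 1],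
  [2, 3, 4, 5, 3, 2, 0, 1, 0, 1],
  [5, 6, 1, 2, 3, 2, 1, 6, 3, 2, 6, 1, 2, 3, 2, 1, 6, 3, 4],
  [5, 6, 1, 2, 3, 2, 1, 6, 3, 2, 6, 1, 2, 3, 2, 1, 6, 3, 4, 3],
  [2, 3, 4, 5, 3, 2],
  [2, 5, 3, 2, 4, 6, 1, 2, 3, 2, 1, 6, 3, 2, 6, 1, 2, 3, 2, 1, 6, 3, 2],
  [2, 4, 5, 3, 2, 6, 1, 2, 3, 2, 1, 6, 3, 6, 1, 2, 3, 2, 1, 6, 4],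
  [2, 4, 6, 1, 2, 3, 2, 1, 6],
  [6, 1, 2, 3, 2, 1, 6, 3, 2, 3, 2, 5, 3, 2, 6, 1, 2, 3, 2, 1, 6],
  [6, 1, 2, 3, 2, 1, 6, 3, 2, 3, 2, 4, 5, 3, 2, 6, 1, 2, 3, 2, 1, 6],
  [2, 6, 1, 2, 3, 2, 1, 6, 3, 0, 1, 0, 1, 2, 6, 1, 2, 3, 2, 1, 6, 3, 5],
  [2, 5, 6, 1, 2, 3, 2, 1, 6, 3, 2, 3, 5, 3, 6, 1, 2, 3, 2, 1, 6],
  [2, 6, 1, 2, 3, 2, 1, 6, 0, 3],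
  [2, 6, 1, 2, 3, 2, 1, 6, 3, 2, 5, 3, 6, 1, 2, 3, 2, 1, 6],
  [6, 1, 2, 3, 2, 1, 6, 3, 2, 3, 2, 5, 3, 2, 6, 1, 2, 3, 2, 1, 6, 3, 0, 1, 0, 1],
  [2, 3, 6, 1, 2, 3, 2, 1, 6, 3, 0, 1, 0, 1, 2, 3, 4, 5, 3, 2],
  [2, 3, 4, 5, 6, 1, 2, 3, 2, 1, 6, 3, 2, 6, 1, 2, 3, 2, 1, 6, 3, 6, 1, 2, 3, 2, 1, 6],
  [2, 6, 1, 2, 3, 2, 1, 6, 0, 5],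
  [2, 5, 3, 2, 6, 1, 2, 3, 2, 1, 6, 3, 4, 3, 2, 3],
  [2, 5, 3, 6, 1, 2, 3, 2, 1, 6, 0, 1, 0, 1, 2, 3, 2, 3, 4],
  [2, 3, 4, 3, 6, 1, 2, 3, 2, 1, 6, 3, 2, 3],
  [2, 6, 1, 2, 3, 2, 1, 6, 3, 0, 1, 0, 1, 2, 6, 1, 2, 3, 2, 1, 6, 3, 4],
  [2, 3, 5, 6, 1, 2, 3, 2, 1, 6, 0, 1, 0, 1, 2, 3, 4],
  [2, 3, 2, 3, 6, 1, 2, 3, 2, 1, 6, 3, 4, 5],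
  [2, 5, 6, 1, 2, 3, 2, 1, 6, 4, 5],
  [2, 3, 6, 1, 2, 3, 2, 1, 6, 3, 2, 4, 3, 6, 1, 2, 3, 2, 1, 6, 0],
  [2, 3, 6, 1, 2, 3, 2, 1, 6, 3, 0, 1, 0, 1, 2, 3, 6, 1, 2, 3, 2, 1, 6, 4],
  [2, 3, 4, 6, 1, 2, 3, 2, 1, 6, 0, 1, 0, 1],
  [2, 6, 1, 2, 3, 2, 1, 6, 3, 2, 3, 5, 6, 1, 2, 3, 2, 1, 6, 0, 1, 0, 1, 2],
  [2, 6, 1, 2, 3, 2, 1, 6, 3, 2, 3, 5, 3, 6, 1, 2, 3, 2, 1, 6, 3, 0, 1, 0, 1],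
  [6, 1, 2, 3, 2, 1, 6, 3, 2, 3, 2, 6, 1, 2, 3, 2, 1, 6, 5, 3, 0, 1, 0, 1, 2, 6, 1, 2, 3, 2, 1, 6],
  [2, 5, 3, 2, 4, 6, 1, 2, 3, 2, 1, 6, 3, 2, 3, 4, 6, 1, 2, 3, 2, 1, 6, 3],
  [2, 6, 1, 2, 3, 2, 1, 6, 3, 2, 3, 5, 3, 6, 1, 2, 3, 2, 1, 6],
  [2, 6, 1, 2, 3, 2, 1, 6, 3, 4],
  [2, 4, 5, 3, 2, 6, 1, 2, 3, 2, 1, 6, 3, 2, 5, 3, 0, 1, 0, 1],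
  [2, 6, 1, 2, 3, 2, 1, 6, 3, 6, 1, 2, 3, 2, 1, 6, 0, 1, 0, 1, 2, 3, 6, 1, 2, 3, 2, 1, 6],
  [2, 3, 6, 1, 2, 3, 2, 1, 6, 3, 2, 3, 4, 5, 3, 0, 1, 0, 1, 2],
  [2, 6, 1, 2, 3, 2, 1, 6, 3, 5],
  [2, 6, 1, 2, 3, 2, 1, 6, 3, 2, 4, 6, 1, 2, 3, 2, 1, 6, 5, 3],
  [2, 3, 2, 6, 1, 2, 3, 2, 1, 6, 3, 2, 5, 3, 6, 1, 2, 3, 2, 1, 6, 0, 5],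
  [2, 3, 2, 3, 6, 1, 2, 3, 2, 1, 6, 3, 2, 5, 6, 1, 2, 3, 2, 1, 6, 3, 2],
  [2, 5, 6, 1, 2, 3, 2, 1, 6, 3, 2, 6, 1, 2, 3, 2, 1, 6, 0, 3, 2, 6, 1, 2, 3, 2, 1, 6],
  [2, 3, 4, 6, 1, 2, 3, 2, 1, 6, 3, 2, 5, 3, 6, 1, 2, 3, 2, 1, 6],
  [2, 5, 6, 1, 2, 3, 2, 1, 6, 3, 2, 5, 3, 6, 1, 2, 3, 2, 1, 6, 0, 3],
  [2, 5, 6, 1, 2, 3, 2, 1, 6, 3, 2, 4, 5, 6, 1, 2, 3, 2, 1, 6, 3, 6, 1, 2, 3, 2, 1, 6],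
  [5, 6, 1, 2, 3, 2, 1, 6, 3, 2, 3, 2, 6, 1, 2, 3, 2, 1, 6, 3, 2, 6, 1, 2, 3, 2, 1, 6],
  [2, 4, 5, 3, 2, 6, 1, 2, 3, 2, 1, 6, 3, 2, 3, 5, 3],
  [2, 5, 6, 1, 2, 3, 2, 1, 6, 3, 0, 1, 0, 1, 2, 6, 1, 2, 3, 2, 1, 6, 3, 5],
  [2, 6, 1, 2, 3, 2, 1, 6, 3, 0, 1, 0, 1],
  [2, 6, 1, 2, 3, 2, 1, 6, 4, 5],
  [2, 4, 5, 3, 2, 6, 1, 2, 3, 2, 1, 6, 3, 2, 3],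
  [2, 4, 5, 3, 2, 6, 1, 2, 3, 2, 1, 6, 3, 2, 3, 4, 0, 1, 0, 1],
  [2, 3, 6, 1, 2, 3, 2, 1, 6, 3, 4, 3, 2, 3],
  [2, 6, 1, 2, 3, 2, 1, 6, 3, 2, 4, 6, 1, 2, 3, 2, 1, 6, 3, 4],
  [2, 6, 1, 2, 3, 2, 1, 6, 3, 2, 4, 6, 1, 2, 3, 2, 1, 6],
  [2, 4, 5, 3, 2, 6, 1, 2, 3, 2, 1, 6, 3, 2, 3, 4, 3],
  [2, 6, 1, 2, 3, 2, 1, 6, 5, 3],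
  [2, 3, 6, 1, 2, 3, 2, 1, 6, 4, 3, 2, 3, 4],
  [2, 4, 5, 3, 2, 6, 1, 2, 3, 2, 1, 6, 3, 2, 0, 1, 0, 1],
  [2, 3, 2, 5, 6, 1, 2, 3, 2, 1, 6, 3, 4, 0, 1, 0, 1],
  [2, 3, 2, 5, 6, 1, 2, 3, 2, 1, 6, 0, 3, 4],
  [2, 3, 5, 6, 1, 2, 3, 2, 1, 6, 4, 5],
  [2, 6, 1, 2, 3, 2, 1, 6, 3, 2, 3, 2, 6, 1, 2, 3, 2, 1, 6, 3, 4],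
  [2, 3, 6, 1, 2, 3, 2, 1, 6, 3, 2, 4, 3, 6, 1, 2, 3, 2, 1, 6, 3],
  [2, 5, 6, 1, 2, 3, 2, 1, 6, 0, 5],
  [2, 3, 6, 1, 2, 3, 2, 1, 6, 3, 2, 4, 3, 6, 1, 2, 3, 2, 1, 6, 4],
  [2, 3, 6, 1, 2, 3, 2, 1, 6, 3, 2, 4, 3, 6, 1, 2, 3, 2, 1, 6, 0, 1, 0, 1],
  [2, 5, 6, 1, 2, 3, 2, 1, 6, 5],
  [2, 3, 6, 1, 2, 3, 2, 1, 6, 3, 0, 1, 0, 1, 2, 3, 6, 1, 2, 3, 2, 1, 6],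
  [2, 3, 6, 1, 2, 3, 2, 1, 6, 0, 3, 2, 3, 4, 3, 6, 1, 2, 3, 2, 1, 6],
  [6, 1, 2, 3, 2, 1, 6, 3, 2, 6, 1, 2, 3, 2, 1, 6, 3, 2, 4, 5, 3, 2, 6, 1, 2, 3, 2, 1, 6],
  [2, 3, 2, 6, 1, 2, 3, 2, 1, 6, 3, 2, 6, 1, 2, 3, 2, 1, 6, 3, 4, 5, 3],
  [5, 6, 1, 2, 3, 2, 1, 6, 3, 2, 6, 1, 2, 3, 2, 1, 6, 3, 2],
  [6, 1, 2, 3, 2, 1, 6, 3, 2, 3, 4, 6, 1, 2, 3, 2, 1, 6, 3, 2, 3, 6, 1, 2, 3, 2, 1, 6],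
  [6, 1, 2, 3, 2, 1, 6, 3, 2, 6, 1, 2, 3, 2, 1, 6, 3, 2, 4, 5, 3, 6, 1, 2, 3, 2, 1, 6, 4],
  [2, 5, 3, 2, 4, 6, 1, 2, 3, 2, 1, 6, 3, 2, 6, 1, 2, 3, 2, 1, 6],
  [2, 4, 5, 3, 2, 6, 1, 2, 3, 2, 1, 6, 3, 2, 6, 1, 2, 3, 2, 1, 6, 4, 3],
  [6, 1, 2, 3, 2, 1, 6, 3, 2, 3, 6, 1, 2, 3, 2, 1, 6, 4, 3, 2, 3, 6, 1, 2, 3, 2, 1, 6],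
  [6, 1, 2, 3, 2, 1, 6, 0, 3, 2, 6, 1, 2, 3, 2, 1, 6, 3, 2, 3, 6, 1, 2, 3, 2, 1, 6, 3, 5],
  [2, 4, 5, 3, 2, 6, 1, 2, 3, 2, 1, 6, 3, 2, 6, 1, 2, 3, 2, 1, 6, 4],
  [2, 5, 3, 2, 4, 6, 1, 2, 3, 2, 1, 6, 3, 2, 6, 1, 2, 3, 2, 1, 6, 3],
  [5, 6, 1, 2, 3, 2, 1, 6, 3, 2, 6, 1, 2, 3, 2, 1, 6, 3, 2, 0, 1, 0, 1],
  [2, 3, 2, 4, 6, 1, 2, 3, 2, 1, 6, 3, 2, 6, 1, 2, 3, 2, 1, 6, 3, 2, 6, 1, 2, 3, 2, 1, 6],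
  [2, 3, 2, 6, 1, 2, 3, 2, 1, 6, 3, 2, 5, 3, 2, 6, 1, 2, 3, 2, 1, 6, 0, 1, 0, 1],
  [2, 3, 2, 6, 1, 2, 3, 2, 1, 6, 3, 2, 5, 3, 2, 6, 1, 2, 3, 2, 1, 6, 0],
  [2, 3, 2, 6, 1, 2, 3, 2, 1, 6, 3, 2, 5, 3, 2, 6, 1, 2, 3, 2, 1, 6],
  [2, 3, 2, 6, 1, 2, 3, 2, 1, 6, 3, 2, 3, 4, 6, 1, 2, 3, 2, 1, 6, 5, 3, 2],
  [2, 3, 2, 3, 6, 1, 2, 3, 2, 1, 6, 3, 2, 6, 1, 2, 3, 2, 1, 6, 3, 2, 4, 6, 1, 2, 3, 2, 1, 6, 5],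
  [2, 3, 2, 0, 1, 0, 1, 6, 1, 2, 3, 2, 1, 6, 3, 2, 6, 1, 2, 3, 2, 1, 6, 5, 3, 2, 6, 1, 2, 3, 2, 1, 6],
  [2, 3, 2, 6, 1, 2, 3, 2, 1, 6, 3, 2, 5, 3, 2, 6, 1, 2, 3, 2, 1, 6, 5, 6, 1, 2, 3, 2, 1, 6],
  [2, 6, 1, 2, 3, 2, 1, 6, 3, 2, 5, 6, 1, 2, 3, 2, 1, 6, 3, 2],
  [2, 6, 1, 2, 3, 2, 1, 6, 3, 4, 6, 1, 2, 3, 2, 1, 6],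
  [6, 1, 2, 3, 2, 1, 6, 3, 2, 3, 6, 1, 2, 3, 2, 1, 6, 5, 0, 1, 0, 1, 2, 3, 5],
  [2, 4, 6, 1, 2, 3, 2, 1, 6, 3, 2, 3, 6, 1, 2, 3, 2, 1, 6, 3, 4],
  [2, 3, 4, 6, 1, 2, 3, 2, 1, 6, 3, 2, 3, 6, 1, 2, 3, 2, 1, 6],
  [6, 1, 2, 3, 2, 1, 6, 0, 3, 2, 3, 2, 6, 1, 2, 3, 2, 1, 6, 3, 5],
  [2, 3, 6, 1, 2, 3, 2, 1, 6, 3, 2, 3, 0, 1, 0, 1],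
  [2, 3, 5, 6, 1, 2, 3, 2, 1, 6, 0, 1, 0, 1, 2, 3, 2, 3, 4],
  [2, 3, 4, 3, 6, 1, 2, 3, 2, 1, 6],
  [2, 3, 5, 6, 1, 2, 3, 2, 1, 6, 0, 3, 2, 3, 6, 1, 2, 3, 2, 1, 6, 3],
  [2, 6, 1, 2, 3, 2, 1, 6, 0, 3, 6, 1, 2, 3, 2, 1, 6],
  [2, 3, 6, 1, 2, 3, 2, 1, 6, 3, 2, 3, 6, 1, 2, 3, 2, 1, 6, 5, 6, 1, 2, 3, 2, 1, 6],
  [2, 5, 6, 1, 2, 3, 2, 1, 6, 3, 4, 6, 1, 2, 3, 2, 1, 6],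
  [2, 6, 1, 2, 3, 2, 1, 6, 3, 2, 4, 3, 6, 1, 2, 3, 2, 1, 6, 3, 2],
  [2, 4, 6, 1, 2, 3, 2, 1, 6, 3, 2, 5, 3, 2, 3, 4],
  [2, 3, 2, 3, 6, 1, 2, 3, 2, 1, 6, 3, 2, 3, 2, 4],
  [2, 6, 1, 2, 3, 2, 1, 6, 3, 2, 3, 5, 0, 1, 0, 1, 2],
  [2, 4, 6, 1, 2, 3, 2, 1, 6, 3, 2, 3, 6, 1, 2, 3, 2, 1, 6, 0, 3],
  [2, 3, 6, 1, 2, 3, 2, 1, 6, 3, 2, 5, 3, 0, 1, 0, 1, 6, 1, 2, 3, 2, 1, 6, 3],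
  [5, 6, 1, 2, 3, 2, 1, 6, 3, 2, 3, 6, 1, 2, 3, 2, 1, 6, 0, 1, 0, 1, 2, 3, 4],
  [2, 6, 1, 2, 3, 2, 1, 6, 3, 2, 5, 0, 1, 0, 1, 6, 1, 2, 3, 2, 1, 6, 3],
  [2, 6, 1, 2, 3, 2, 1, 6, 3, 2, 5, 0, 1, 0, 1, 6, 1, 2, 3, 2, 1, 6, 3, 4],
  [5, 6, 1, 2, 3, 2, 1, 6, 3, 2, 3, 6, 1, 2, 3, 2, 1, 6, 0, 1, 0, 1, 2, 3],
  [2, 3, 5, 6, 1, 2, 3, 2, 1, 6, 4, 3, 2, 3, 2],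
  [2, 6, 1, 2, 3, 2, 1, 6, 3, 0, 1, 0, 1, 6, 1, 2, 3, 2, 1, 6],
  [2, 6, 1, 2, 3, 2, 1, 6, 3, 2, 6, 1, 2, 3, 2, 1, 6, 3, 5, 6, 1, 2, 3, 2, 1, 6],
  [2, 3, 5, 0, 1, 0, 1, 6, 1, 2, 3, 2, 1, 6, 3, 2, 3, 6, 1, 2, 3, 2, 1, 6, 3],
  [6, 1, 2, 3, 2, 1, 6, 0, 3, 2, 6, 1, 2, 3, 2, 1, 6],
  [2, 6, 1, 2, 3, 2, 1, 6, 3, 0, 1, 0, 1, 2, 3, 6, 1, 2, 3, 2, 1, 6, 3],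
  [2, 6, 1, 2, 3, 2, 1, 6, 3, 2, 5, 6, 1, 2, 3, 2, 1, 6, 3, 4, 5],
  [2, 3, 6, 1, 2, 3, 2, 1, 6, 3, 4, 5, 3, 2, 3, 5],
  [2, 5, 3, 6, 1, 2, 3, 2, 1, 6, 3, 2, 3, 5, 3, 6, 1, 2, 3, 2, 1, 6],
  [4, 6, 1, 2, 3, 2, 1, 6, 5, 6, 1, 2, 3, 2, 1, 6, 3, 2],
  [2, 3, 4, 5, 6, 1, 2, 3, 2, 1, 6, 3, 2, 3],
  [2, 6, 1, 2, 3, 2, 1, 6, 3, 2, 5, 6, 1, 2, 3, 2, 1, 6, 3, 4],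
  [2, 3, 4, 5, 3, 6, 1, 2, 3, 2, 1, 6, 3, 2, 3, 4],
  [2, 3, 6, 1, 2, 3, 2, 1, 6, 3, 4, 5, 3, 2, 3],
  [4, 3, 6, 1, 2, 3, 2, 1, 6, 3, 2, 3],
  [2, 3, 2, 0, 1, 0, 1, 6, 1, 2, 3, 2, 1, 6, 5, 6, 1, 2, 3, 2, 1, 6, 3, 2, 3, 2],
  [2, 6, 1, 2, 3, 2, 1, 6, 3, 2, 6, 1, 2, 3, 2, 1, 6, 0, 3, 6, 1, 2, 3, 2, 1, 6, 0, 1, 0, 1],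
  [2, 5, 3, 6, 1, 2, 3, 2, 1, 6, 3, 0, 1, 0, 1, 2, 3, 5],
  [2, 6, 1, 2, 3, 2, 1, 6, 3, 2, 4, 3, 6, 1, 2, 3, 2, 1, 6, 0],
  [5, 6, 1, 2, 3, 2, 1, 6, 0, 3, 2],
  [2, 6, 1, 2, 3, 2, 1, 6, 3, 2, 5, 6, 1, 2, 3, 2, 1, 6, 3],
  [2, 3, 4, 5, 6, 1, 2, 3, 2, 1, 6, 3, 2, 3, 4],
  [2, 3, 4, 5, 3, 6, 1, 2, 3, 2, 1, 6, 3, 2, 3],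
  [2, 3, 6, 1, 2, 3, 2, 1, 6, 3, 4, 5, 3, 2, 3, 4],
  [2, 5, 6, 1, 2, 3, 2, 1, 6],
  [2, 3, 6, 1, 2, 3, 2, 1, 6, 3, 0, 1, 0, 1, 2, 3, 6, 1, 2, 3, 2, 1, 6, 5],
  [5, 6, 1, 2, 3, 2, 1, 6, 3, 2, 3, 2, 5, 6, 1, 2, 3, 2, 1, 6, 3, 6, 1, 2, 3, 2, 1, 6],
  [6, 1, 2, 3, 2, 1, 6, 3, 2, 6, 1, 2, 3, 2, 1, 6, 3, 0, 1, 0, 1],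
  [2, 4, 5, 6, 1, 2, 3, 2, 1, 6, 3, 2, 3, 5],
  [2, 6, 1, 2, 3, 2, 1, 6, 3, 6, 1, 2, 3, 2, 1, 6, 3, 5, 3, 2, 3, 6, 1, 2, 3, 2, 1, 6],
  [2, 6, 1, 2, 3, 2, 1, 6, 3, 2, 6, 1, 2, 3, 2, 1, 6, 0, 3, 6, 1, 2, 3, 2, 1, 6, 0],
  [2, 5, 3, 6, 1, 2, 3, 2, 1, 6, 3, 2, 4, 3, 5],
  [2, 3, 5, 6, 1, 2, 3, 2, 1, 6, 4, 3, 2],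
  [2, 3, 6, 1, 2, 3, 2, 1, 6, 3, 2, 4, 3, 2, 6, 1, 2, 3, 2, 1, 6, 0, 1, 0, 1],
  [2, 5, 3, 6, 1, 2, 3, 2, 1, 6, 3, 2, 4, 5],
  [5, 6, 1, 2, 3, 2, 1, 6, 3, 2, 3, 0, 1, 0, 1],
  [2, 5, 6, 1, 2, 3, 2, 1, 6, 3, 2, 5, 3, 4],
  [2, 3, 2, 3, 6, 1, 2, 3, 2, 1, 6, 3, 0, 1, 0, 1, 2],
  [2, 3, 6, 1, 2, 3, 2, 1, 6, 3, 0, 1, 0, 1, 2, 3, 4, 5],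
  [6, 1, 2, 3, 2, 1, 6, 3, 2, 6, 1, 2, 3, 2, 1, 6, 3, 4],
  [2, 6, 1, 2, 3, 2, 1, 6, 3, 2, 4, 3, 6, 1, 2, 3, 2, 1, 6, 4],
  [2, 5, 3, 6, 1, 2, 3, 2, 1, 6, 3, 2, 3, 4, 3, 5, 3],
  [2, 4, 5, 3, 6, 1, 2, 3, 2, 1, 6, 3, 2, 3, 4, 5],
  [2, 4, 6, 1, 2, 3, 2, 1, 6, 3, 2, 3, 4, 6, 1, 2, 3, 2, 1, 6, 3],
  [2, 3, 5, 3, 6, 1, 2, 3, 2, 1, 6, 3, 2, 6, 1, 2, 3, 2, 1, 6, 4, 3, 6, 1, 2, 3, 2, 1, 6],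
  [2, 6, 1, 2, 3, 2, 1, 6, 3, 2, 6, 1, 2, 3, 2, 1, 6, 3, 0, 1, 0, 1, 6, 1, 2, 3, 2, 1, 6, 5],
  [2, 5, 6, 1, 2, 3, 2, 1, 6, 3, 2, 4, 3],
  [2, 4, 5, 3, 6, 1, 2, 3, 2, 1, 6, 3, 2, 3],
  [6, 1, 2, 3, 2, 1, 6, 3, 2, 6, 1, 2, 3, 2, 1, 6, 3, 5],
  [2, 4, 5, 3, 6, 1, 2, 3, 2, 1, 6, 3, 2, 5],
  [5, 6, 1, 2, 3, 2, 1, 6, 3, 2, 3],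
  [2, 5, 6, 1, 2, 3, 2, 1, 6, 3, 2, 4, 5],
  [2, 5, 6, 1, 2, 3, 2, 1, 6, 3, 2, 5, 3, 4, 0, 1, 0, 1],
  [2, 3, 6, 1, 2, 3, 2, 1, 6, 3, 2, 4, 3, 2, 6, 1, 2, 3, 2, 1, 6],
  [2, 5, 6, 1, 2, 3, 2, 1, 6, 5, 6, 1, 2, 3, 2, 1, 6],
  [2, 4, 6, 1, 2, 3, 2, 1, 6, 5, 6, 1, 2, 3, 2, 1, 6],
  [6, 1, 2, 3, 2, 1, 6, 3, 2, 3, 2, 3, 5, 3, 2, 6, 1, 2, 3, 2, 1, 6, 3],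
  [2, 3, 5, 3, 2, 4, 6, 1, 2, 3, 2, 1, 6, 3, 2],
  [2, 3, 6, 1, 2, 3, 2, 1, 6, 3, 2, 3, 6, 1, 2, 3, 2, 1, 6, 5, 3, 2, 3],
  [6, 1, 2, 3, 2, 1, 6, 3, 2, 3, 4, 6, 1, 2, 3, 2, 1, 6, 3, 2],
  [4, 3, 6, 1, 2, 3, 2, 1, 6, 3, 2, 3, 2, 6, 1, 2, 3, 2, 1, 6],
  [2, 3, 5, 3, 0, 1, 0, 1, 2, 6, 1, 2, 3, 2, 1, 6, 3, 2],
  [2, 5, 6, 1, 2, 3, 2, 1, 6, 4],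
  [2, 3, 6, 1, 2, 3, 2, 1, 6, 3, 0, 1, 0, 1, 2, 3, 6, 1, 2, 3, 2, 1, 6, 4, 5],
  [2, 3, 6, 1, 2, 3, 2, 1, 6, 3, 2, 4, 3, 6, 1, 2, 3, 2, 1, 6, 0, 5],
  [2, 3, 6, 1, 2, 3, 2, 1, 6, 3, 2, 4, 3, 6, 1, 2, 3, 2, 1, 6, 5, 3],
  [2, 4, 5, 6, 1, 2, 3, 2, 1, 6, 3],
  [5, 6, 1, 2, 3, 2, 1, 6, 3, 2, 3, 2, 5, 3, 6, 1, 2, 3, 2, 1, 6, 3],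
  [2, 5, 6, 1, 2, 3, 2, 1, 6, 0],
  [2, 3, 6, 1, 2, 3, 2, 1, 6, 3, 2, 4, 3, 6, 1, 2, 3, 2, 1, 6, 5, 0, 1, 0, 1],
  [2, 3, 6, 1, 2, 3, 2, 1, 6, 3, 2, 4, 3, 6, 1, 2, 3, 2, 1, 6, 4, 5],
  [2, 3, 2, 5, 6, 1, 2, 3, 2, 1, 6, 3],
  [2, 3, 2, 5, 0, 1, 0, 1, 6, 1, 2, 3, 2, 1, 6, 3],
  [2, 3, 2, 5, 6, 1, 2, 3, 2, 1, 6, 0, 3],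
  [2, 3, 2, 5, 6, 1, 2, 3, 2, 1, 6, 3, 0, 1, 0, 1],
  [2, 6, 1, 2, 3, 2, 1, 6, 3, 2, 6, 1, 2, 3, 2, 1, 6, 4, 3, 6, 1, 2, 3, 2, 1, 6, 5],
  [2, 5, 3, 2, 6, 1, 2, 3, 2, 1, 6, 4, 3, 2, 3, 6, 1, 2, 3, 2, 1, 6],
  [2, 6, 1, 2, 3, 2, 1, 6, 3, 2, 5, 3, 6, 1, 2, 3, 2, 1, 6, 0, 1, 0, 1],
  [6, 1, 2, 3, 2, 1, 6, 3, 2, 3, 2, 5, 3, 2, 6, 1, 2, 3, 2, 1, 6, 3],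
  [2, 4, 6, 1, 2, 3, 2, 1, 6, 3],
  [2, 4, 6, 1, 2, 3, 2, 1, 6, 5],
  [2, 3, 6, 1, 2, 3, 2, 1, 6, 3, 2, 3, 4, 5, 3, 2, 6, 1, 2, 3, 2, 1, 6],
  [2, 5, 3, 6, 1, 2, 3, 2, 1, 6, 0, 1, 0, 1, 2, 3, 2, 3],
  [2, 3, 4, 3, 6, 1, 2, 3, 2, 1, 6, 3, 2, 3, 4],
  [2, 6, 1, 2, 3, 2, 1, 6, 3, 0, 1, 0, 1, 2, 6, 1, 2, 3, 2, 1, 6, 3],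
  [2, 4, 6, 1, 2, 3, 2, 1, 6, 3, 2, 6, 1, 2, 3, 2, 1, 6, 3, 4, 6, 1, 2, 3, 2, 1, 6, 5],
  [2, 3, 6, 1, 2, 3, 2, 1, 6, 3, 2, 3, 5, 3, 6, 1, 2, 3, 2, 1, 6, 3, 2],
  [2, 6, 1, 2, 3, 2, 1, 6, 3, 2, 5, 3, 6, 1, 2, 3, 2, 1, 6, 4],
  [2, 3, 6, 1, 2, 3, 2, 1, 6, 3, 2, 3, 4, 3, 5, 3, 2, 3],
  [2, 6, 1, 2, 3, 2, 1, 6, 0, 3, 4],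
  [2, 3, 5, 3, 2, 3, 6, 1, 2, 3, 2, 1, 6, 3, 2, 4, 3],
  [2, 6, 1, 2, 3, 2, 1, 6, 3, 2, 6, 1, 2, 3, 2, 1, 6, 4, 3, 6, 1, 2, 3, 2, 1, 6, 0, 1, 0, 1],
  [2, 5, 3, 6, 1, 2, 3, 2, 1, 6, 0, 1, 0, 1, 2, 3, 2, 3, 6, 1, 2, 3, 2, 1, 6],
  [2, 5, 6, 1, 2, 3, 2, 1, 6, 3, 2, 4, 6, 1, 2, 3, 2, 1, 6, 3],
  [2, 6, 1, 2, 3, 2, 1, 6, 0, 3, 5],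
  [2, 3, 2, 6, 1, 2, 3, 2, 1, 6, 3, 2, 5, 3, 6, 1, 2, 3, 2, 1, 6, 5],
  [2, 5, 3, 6, 1, 2, 3, 2, 1, 6, 3, 2, 6, 1, 2, 3, 2, 1, 6, 3, 4, 6, 1, 2, 3, 2, 1, 6],
  [2, 3, 2, 6, 1, 2, 3, 2, 1, 6, 3, 2, 3, 0, 1, 0, 1, 6, 1, 2, 3, 2, 1, 6, 3, 5],
  [2, 3, 4, 6, 1, 2, 3, 2, 1, 6, 3, 2, 5, 3, 6, 1, 2, 3, 2, 1, 6, 0],
  [2, 5, 6, 1, 2, 3, 2, 1, 6, 3, 2, 5, 3, 6, 1, 2, 3, 2, 1, 6, 3],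
  [2, 3, 4, 3, 6, 1, 2, 3, 2, 1, 6, 3, 2],
  [2, 5, 3, 2, 6, 1, 2, 3, 2, 1, 6, 4, 3, 2, 3, 4, 0, 1, 0, 1],
  [2, 6, 1, 2, 3, 2, 1, 6, 0, 5, 3],
  [2, 3, 4, 6, 1, 2, 3, 2, 1, 6, 3, 2, 3, 4],
  [2, 5, 3, 2, 6, 1, 2, 3, 2, 1, 6, 3, 4, 3, 2],
  [2, 3, 2, 5, 6, 1, 2, 3, 2, 1, 6, 3, 4],
  [2, 3, 2, 5, 0, 1, 0, 1, 6, 1, 2, 3, 2, 1, 6, 3, 4],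
  [2, 3, 4, 5, 6, 1, 2, 3, 2, 1, 6, 5],
  [2, 3, 6, 1, 2, 3, 2, 1, 6, 3, 2, 6, 1, 2, 3, 2, 1, 6, 3, 4, 3, 6, 1, 2, 3, 2, 1, 6],
  [2, 6, 1, 2, 3, 2, 1, 6, 3, 2, 3, 6, 1, 2, 3, 2, 1, 6, 0, 1, 0, 1, 2],
  [2, 3, 6, 1, 2, 3, 2, 1, 6, 0, 3, 2],
  [2, 3, 2, 4, 5, 6, 1, 2, 3, 2, 1, 6, 3, 2, 3, 4],
  [2, 6, 1, 2, 3, 2, 1, 6, 3, 5, 0, 1, 0, 1, 2, 3, 2, 6, 1, 2, 3, 2, 1, 6],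
  [2, 3, 0, 1, 0, 1, 6, 1, 2, 3, 2, 1, 6],
  [2, 3, 4, 6, 1, 2, 3, 2, 1, 6, 5, 0, 1, 0, 1],
  [5, 6, 1, 2, 3, 2, 1, 6, 3, 2, 3, 2, 4, 3],
  [2, 6, 1, 2, 3, 2, 1, 6, 3, 4, 3],
  [2, 6, 1, 2, 3, 2, 1, 6, 3, 2, 3, 5, 3, 6, 1, 2, 3, 2, 1, 6, 0, 1, 0, 1],
  [2, 4, 5, 3, 2, 6, 1, 2, 3, 2, 1, 6, 3, 2, 3, 5, 3, 4],
  [2, 6, 1, 2, 3, 2, 1, 6, 3, 2, 3, 5, 3, 6, 1, 2, 3, 2, 1, 6, 3],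
  [2, 5, 3, 2, 4, 6, 1, 2, 3, 2, 1, 6, 3, 2, 3, 4, 6, 1, 2, 3, 2, 1, 6],
  [2, 6, 1, 2, 3, 2, 1, 6, 3, 6, 1, 2, 3, 2, 1, 6, 0, 1, 0, 1, 2, 3, 6, 1, 2, 3, 2, 1, 6, 4],
  [2, 4, 5, 3, 2, 6, 1, 2, 3, 2, 1, 6, 3, 2, 5, 3, 4, 0, 1, 0, 1],
  [2, 6, 1, 2, 3, 2, 1, 6, 3, 2, 3, 5, 3, 6, 1, 2, 3, 2, 1, 6, 5],
  [2, 4, 5, 3, 2, 6, 1, 2, 3, 2, 1, 6, 3, 2, 3, 4, 6, 1, 2, 3, 2, 1, 6],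
  [2, 6, 1, 2, 3, 2, 1, 6, 3, 4, 5],
  [2, 3, 2, 6, 1, 2, 3, 2, 1, 6, 3, 2, 5, 3, 6, 1, 2, 3, 2, 1, 6, 5, 6, 1, 2, 3, 2, 1, 6],
  [2, 4, 5, 3, 6, 1, 2, 3, 2, 1, 6, 3, 2, 6, 1, 2, 3, 2, 1, 6, 3, 6, 1, 2, 3, 2, 1, 6],
  [2, 6, 1, 2, 3, 2, 1, 6, 3, 2, 6, 1, 2, 3, 2, 1, 6, 3, 2, 6, 1, 2, 3, 2, 1, 6, 5, 6, 1, 2, 3, 2, 1, 6],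
  [2, 3, 6, 1, 2, 3, 2, 1, 6, 3, 2, 3, 2, 3, 5, 3],
  [2, 6, 1, 2, 3, 2, 1, 6, 5, 6, 1, 2, 3, 2, 1, 6, 3, 2, 4, 3, 6, 1, 2, 3, 2, 1, 6],
  [2, 3, 6, 1, 2, 3, 2, 1, 6, 3, 2, 3, 0, 1, 0, 1, 6, 1, 2, 3, 2, 1, 6, 5, 3, 2],
  [2, 6, 1, 2, 3, 2, 1, 6, 3, 2, 4, 6, 1, 2, 3, 2, 1, 6, 5],
  [2, 6, 1, 2, 3, 2, 1, 6, 3, 5, 3],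
  [2, 4, 5, 3, 2, 6, 1, 2, 3, 2, 1, 6, 3, 2, 5, 0, 1, 0, 1],
  [2, 3, 6, 1, 2, 3, 2, 1, 6, 4, 3, 2, 3, 4, 5],
  [2, 3, 2, 3, 6, 1, 2, 3, 2, 1, 6, 3, 2, 6, 1, 2, 3, 2, 1, 6, 3, 0, 1, 0, 1, 6, 1, 2, 3, 2, 1, 6],
  [2, 4, 5, 3, 6, 1, 2, 3, 2, 1, 6, 3, 2, 6, 1, 2, 3, 2, 1, 6, 3, 6, 1, 2, 3, 2, 1, 6, 5],
  [2, 3, 6, 1, 2, 3, 2, 1, 6, 3, 2, 3, 2, 5, 3],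
  [2, 3, 2, 0, 1, 0, 1, 6, 1, 2, 3, 2, 1, 6, 3, 2, 6, 1, 2, 3, 2, 1, 6, 3, 6, 1, 2, 3, 2, 1, 6, 3],
  [2, 5, 6, 1, 2, 3, 2, 1, 6, 0, 3, 2, 3, 6, 1, 2, 3, 2, 1, 6, 0, 1, 0, 1],
  [2, 3, 4, 6, 1, 2, 3, 2, 1, 6, 3, 2, 5, 3, 6, 1, 2, 3, 2, 1, 6, 3],
  [2, 3, 5, 6, 1, 2, 3, 2, 1, 6, 0, 1, 0, 1, 2, 3, 2, 3, 6, 1, 2, 3, 2, 1, 6, 4],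
  [2, 5, 3, 6, 1, 2, 3, 2, 1, 6, 3, 0, 1, 0, 1, 2, 3, 6, 1, 2, 3, 2, 1, 6, 5],
  [2, 5, 6, 1, 2, 3, 2, 1, 6, 3, 2, 5, 3, 6, 1, 2, 3, 2, 1, 6, 0],
  [2, 3, 2, 3, 6, 1, 2, 3, 2, 1, 6, 3, 2, 6, 1, 2, 3, 2, 1, 6, 5, 3, 6, 1, 2, 3, 2, 1, 6],
  [2, 3, 2, 6, 1, 2, 3, 2, 1, 6, 3, 2, 5, 3, 6, 1, 2, 3, 2, 1, 6, 0],
  [2, 6, 1, 2, 3, 2, 1, 6, 3, 2, 6, 1, 2, 3, 2, 1, 6, 3, 6, 1, 2, 3, 2, 1, 6, 0, 3],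
  [2, 3, 6, 1, 2, 3, 2, 1, 6, 3, 0, 1, 0, 1, 2, 3, 2, 5, 6, 1, 2, 3, 2, 1, 6, 3],
  [2, 6, 1, 2, 3, 2, 1, 6, 3, 2, 3, 6, 1, 2, 3, 2, 1, 6, 5, 6, 1, 2, 3, 2, 1, 6, 0, 1, 0, 1],
  [2, 3, 2, 6, 1, 2, 3, 2, 1, 6, 0, 3, 2, 3, 6, 1, 2, 3, 2, 1, 6, 3, 0, 1, 0, 1],
  [2, 3, 6, 1, 2, 3, 2, 1, 6],
  [2, 6, 1, 2, 3, 2, 1, 6, 3, 2, 3, 2, 5, 6, 1, 2, 3, 2, 1, 6],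
  [2, 6, 1, 2, 3, 2, 1, 6, 3, 2, 6, 1, 2, 3, 2, 1, 6, 4, 3, 6, 1, 2, 3, 2, 1, 6, 0],
  [2, 4, 5, 3, 2, 6, 1, 2, 3, 2, 1, 6, 3, 2, 5, 3],
  [2, 5, 6, 1, 2, 3, 2, 1, 6, 3, 0, 1, 0, 1, 2, 6, 1, 2, 3, 2, 1, 6, 3],
  [2, 4, 5, 3, 2, 6, 1, 2, 3, 2, 1, 6, 3, 2, 3, 0, 1, 0, 1, 6, 1, 2, 3, 2, 1, 6],
  [2, 6, 1, 2, 3, 2, 1, 6, 3, 5, 0, 1, 0, 1],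
  [2, 3, 2, 3, 6, 1, 2, 3, 2, 1, 6, 3, 2, 6, 1, 2, 3, 2, 1, 6, 3, 4, 6, 1, 2, 3, 2, 1, 6, 5],
  [2, 3, 5, 0, 1, 0, 1, 6, 1, 2, 3, 2, 1, 6, 3, 2, 3, 2, 3, 4],
  [2, 3, 2, 6, 1, 2, 3, 2, 1, 6, 0, 3, 2, 3, 6, 1, 2, 3, 2, 1, 6, 3, 5],
  [2, 4, 6, 1, 2, 3, 2, 1, 6, 3, 2, 5, 6, 1, 2, 3, 2, 1, 6, 3, 6, 1, 2, 3, 2, 1, 6, 3],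
  [2, 6, 1, 2, 3, 2, 1, 6, 3, 2, 3, 5, 6, 1, 2, 3, 2, 1, 6, 5, 6, 1, 2, 3, 2, 1, 6],
  [2, 6, 1, 2, 3, 2, 1, 6, 4, 5, 3],
  [2, 4, 5, 3, 2, 6, 1, 2, 3, 2, 1, 6, 3, 2],
  [2, 3, 6, 1, 2, 3, 2, 1, 6, 3, 4, 3, 2],
  [2, 3, 6, 1, 2, 3, 2, 1, 6, 4, 3, 2, 3, 4, 0, 1, 0, 1],
  [2, 5, 3, 2, 4, 6, 1, 2, 3, 2, 1, 6, 3, 2, 3, 4],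
  [2, 6, 1, 2, 3, 2, 1, 6, 5, 3, 4],
  [2, 5, 3, 2, 4, 6, 1, 2, 3, 2, 1, 6, 3, 2],
  [2, 3, 6, 1, 2, 3, 2, 1, 6, 4, 3, 2, 0, 1, 0, 1],
  [2, 3, 6, 1, 2, 3, 2, 1, 6, 4, 3, 2, 3],
  [2, 4, 5, 3, 2, 6, 1, 2, 3, 2, 1, 6, 3, 2, 4, 3],
  [2, 3, 5, 6, 1, 2, 3, 2, 1, 6, 5],
  [2, 6, 1, 2, 3, 2, 1, 6, 3, 2, 3, 2, 6, 1, 2, 3, 2, 1, 6, 3],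
  [2, 6, 1, 2, 3, 2, 1, 6, 3, 2, 3, 2, 6, 1, 2, 3, 2, 1, 6, 0, 1, 0, 1],
  [2, 3, 5, 6, 1, 2, 3, 2, 1, 6, 4],
  [2, 6, 1, 2, 3, 2, 1, 6, 3, 2, 3, 2, 6, 1, 2, 3, 2, 1, 6, 3, 4, 5],
  [2, 5, 6, 1, 2, 3, 2, 1, 6, 3, 2, 3, 6, 1, 2, 3, 2, 1, 6, 0, 1, 0, 1, 2],
  [2, 3, 0, 1, 0, 1, 2, 6, 1, 2, 3, 2, 1, 6, 3, 2, 3, 2, 5],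
  [2, 3, 5, 3, 6, 1, 2, 3, 2, 1, 6, 3, 2, 6, 1, 2, 3, 2, 1, 6, 3, 4, 0, 1, 0, 1],
  [2, 5, 6, 1, 2, 3, 2, 1, 6, 0, 5, 3],
  [2, 3, 6, 1, 2, 3, 2, 1, 6, 3, 2, 6, 1, 2, 3, 2, 1, 6, 3, 4, 6, 1, 2, 3, 2, 1, 6],
  [2, 6, 1, 2, 3, 2, 1, 6, 3, 2, 3, 2, 6, 1, 2, 3, 2, 1, 6, 4],
  [2, 5, 6, 1, 2, 3, 2, 1, 6, 5, 3],
  [2, 3, 0, 1, 0, 1, 6, 1, 2, 3, 2, 1, 6, 3, 2, 6, 1, 2, 3, 2, 1, 6, 3, 6, 1, 2, 3, 2, 1, 6, 4],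
  [6, 1, 2, 3, 2, 1, 6, 3, 2, 3, 2, 3, 4, 6, 1, 2, 3, 2, 1, 6],
  [2, 3, 5, 6, 1, 2, 3, 2, 1, 6, 3, 2, 3, 2, 5],
  [2, 3, 0, 1, 0, 1, 6, 1, 2, 3, 2, 1, 6, 3, 2, 3, 6, 1, 2, 3, 2, 1, 6, 5],
  [2, 3, 6, 1, 2, 3, 2, 1, 6, 0, 3, 2, 3],
  [2, 3, 2, 3, 6, 1, 2, 3, 2, 1, 6, 3, 2, 5, 6, 1, 2, 3, 2, 1, 6, 3, 4],
  [2, 6, 1, 2, 3, 2, 1, 6, 0, 3, 6, 1, 2, 3, 2, 1, 6, 0],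
  [2, 3, 5, 6, 1, 2, 3, 2, 1, 6, 3, 2, 3, 4, 6, 1, 2, 3, 2, 1, 6],
  [2, 6, 1, 2, 3, 2, 1, 6, 3, 4, 6, 1, 2, 3, 2, 1, 6, 5],
  [2, 6, 1, 2, 3, 2, 1, 6, 3, 2, 5, 6, 1, 2, 3, 2, 1, 6, 3, 2, 5],
  [2, 3, 5, 6, 1, 2, 3, 2, 1, 6, 3, 2, 3, 6, 1, 2, 3, 2, 1, 6, 3, 6, 1, 2, 3, 2, 1, 6],
  [2, 3, 4, 5, 3, 2, 6, 1, 2, 3, 2, 1, 6, 3, 6, 1, 2, 3, 2, 1, 6],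
  [2, 4, 6, 1, 2, 3, 2, 1, 6, 3, 2, 5, 3, 2, 4],
  [2, 4, 6, 1, 2, 3, 2, 1, 6, 3, 2, 3, 6, 1, 2, 3, 2, 1, 6, 3],
  [2, 3, 6, 1, 2, 3, 2, 1, 6, 3, 2, 3, 6, 1, 2, 3, 2, 1, 6, 5, 3, 6, 1, 2, 3, 2, 1, 6],
  [6, 1, 2, 3, 2, 1, 6, 3, 2, 3, 6, 1, 2, 3, 2, 1, 6, 5, 0, 1, 0, 1, 2, 3, 4],
  [2, 4, 6, 1, 2, 3, 2, 1, 6, 3, 2, 3, 6, 1, 2, 3, 2, 1, 6, 3, 5],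
  [6, 1, 2, 3, 2, 1, 6, 3, 2, 3, 6, 1, 2, 3, 2, 1, 6, 0, 1, 0, 1, 2, 3, 5],
  [2, 3, 4, 6, 1, 2, 3, 2, 1, 6, 3, 2, 3, 6, 1, 2, 3, 2, 1, 6, 0],
  [2, 4, 6, 1, 2, 3, 2, 1, 6, 3, 2, 3, 6, 1, 2, 3, 2, 1, 6, 3, 4, 5],
  [6, 1, 2, 3, 2, 1, 6, 3, 2, 3, 6, 1, 2, 3, 2, 1, 6, 5, 0, 1, 0, 1, 2, 3],
  [2, 3, 4, 5, 6, 1, 2, 3, 2, 1, 6, 3, 2, 3, 2],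
  [2, 3, 6, 1, 2, 3, 2, 1, 6, 3, 4, 3],
  [2, 5, 6, 1, 2, 3, 2, 1, 6, 3, 2, 6, 1, 2, 3, 2, 1, 6, 3, 5, 6, 1, 2, 3, 2, 1, 6],
  [2, 3, 0, 1, 0, 1, 6, 1, 2, 3, 2, 1, 6, 3, 2, 3, 6, 1, 2, 3, 2, 1, 6, 5, 3],
  [2, 6, 1, 2, 3, 2, 1, 6, 3, 5, 6, 1, 2, 3, 2, 1, 6],
  [2, 4, 5, 3, 2, 6, 1, 2, 3, 2, 1, 6, 3, 2, 3, 2],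
  [2, 3, 0, 1, 0, 1, 6, 1, 2, 3, 2, 1, 6, 3, 2, 5, 3, 6, 1, 2, 3, 2, 1, 6, 0, 1, 0, 1],
  [2, 3, 4, 6, 1, 2, 3, 2, 1, 6, 3, 2, 3, 6, 1, 2, 3, 2, 1, 6, 4],
  [2, 3, 5, 6, 1, 2, 3, 2, 1, 6, 3, 2, 3, 4, 3, 6, 1, 2, 3, 2, 1, 6],
  [2, 3, 5, 6, 1, 2, 3, 2, 1, 6, 3, 2, 3, 0, 1, 0, 1, 2],
  [6, 1, 2, 3, 2, 1, 6, 0, 3, 2, 3, 2, 6, 1, 2, 3, 2, 1, 6, 3, 4],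
  [2, 3, 4, 6, 1, 2, 3, 2, 1, 6, 3, 2, 3, 6, 1, 2, 3, 2, 1, 6, 5],
  [6, 1, 2, 3, 2, 1, 6, 0, 3, 2, 3, 2, 6, 1, 2, 3, 2, 1, 6, 3],
  [2, 3, 4, 6, 1, 2, 3, 2, 1, 6, 3, 2, 3, 6, 1, 2, 3, 2, 1, 6, 0, 1, 0, 1],
  [2, 3, 5, 0, 1, 0, 1, 6, 1, 2, 3, 2, 1, 6, 3, 2, 3, 6, 1, 2, 3, 2, 1, 6],
  [2, 3, 6, 1, 2, 3, 2, 1, 6, 0, 3, 2, 3, 0, 1, 0, 1],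
  [2, 3, 5, 0, 1, 0, 1, 2, 6, 1, 2, 3, 2, 1, 6, 3, 2, 3, 4],
  [2, 3, 2, 3, 6, 1, 2, 3, 2, 1, 6, 3, 2, 5, 3, 4, 0, 1, 0, 1],
  [2, 3, 6, 1, 2, 3, 2, 1, 6, 3, 2, 0, 1, 0, 1],
  [2, 3, 6, 1, 2, 3, 2, 1, 6, 3, 2, 3, 4, 0, 1, 0, 1],
  [2, 3, 5, 6, 1, 2, 3, 2, 1, 6, 0, 1, 0, 1, 2, 3, 2, 3],
  [2, 6, 1, 2, 3, 2, 1, 6, 3, 2, 6, 1, 2, 3, 2, 1, 6, 3, 2, 0, 1, 0, 1, 6, 1, 2, 3, 2, 1, 6, 3],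
  [2, 3, 6, 1, 2, 3, 2, 1, 6, 3, 2, 3, 5, 0, 1, 0, 1],
  [2, 6, 1, 2, 3, 2, 1, 6, 3, 2, 3, 2, 5, 6, 1, 2, 3, 2, 1, 6, 0, 1, 0, 1],
  [2, 3, 6, 1, 2, 3, 2, 1, 6, 0, 1, 0, 1],
  [2, 3, 4, 3, 6, 1, 2, 3, 2, 1, 6, 5],
  [5, 6, 1, 2, 3, 2, 1, 6, 0, 3, 2, 3, 2, 4, 3],
  [2, 3, 6, 1, 2, 3, 2, 1, 6, 3, 2, 3, 6, 1, 2, 3, 2, 1, 6, 5, 6, 1, 2, 3, 2, 1, 6, 3],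
  [2, 3, 6, 1, 2, 3, 2, 1, 6, 3, 4, 0, 1, 0, 1],
  [2, 6, 1, 2, 3, 2, 1, 6, 0, 3, 6, 1, 2, 3, 2, 1, 6, 5],
  [2, 3, 6, 1, 2, 3, 2, 1, 6, 3, 2, 3, 5, 6, 1, 2, 3, 2, 1, 6, 5, 6, 1, 2, 3, 2, 1, 6],
  [2, 3, 2, 3, 6, 1, 2, 3, 2, 1, 6, 3, 2, 3, 2],
  [2, 6, 1, 2, 3, 2, 1, 6, 3, 5, 0, 1, 0, 1, 2, 3, 2],
  [2, 4, 6, 1, 2, 3, 2, 1, 6, 3, 2, 5, 3, 2, 3],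
  [6, 1, 2, 3, 2, 1, 6, 3, 2, 3, 5, 6, 1, 2, 3, 2, 1, 6, 0, 1, 0, 1, 2],
  [2, 4, 5, 3, 6, 1, 2, 3, 2, 1, 6, 4],
  [2, 3, 6, 1, 2, 3, 2, 1, 6, 5, 3, 0, 1, 0, 1, 2, 6, 1, 2, 3, 2, 1, 6, 3],
  [6, 1, 2, 3, 2, 1, 6, 3, 2, 3, 2, 4, 5, 3],
  [6, 1, 2, 3, 2, 1, 6, 3, 2, 3, 2, 3, 0, 1, 0, 1],
  [2, 3, 2, 3, 6, 1, 2, 3, 2, 1, 6, 3, 2, 3, 2, 4, 3],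
  [2, 6, 1, 2, 3, 2, 1, 6, 3, 2, 3, 5, 0, 1, 0, 1, 2, 3],
  [2, 3, 5, 3, 0, 1, 0, 1, 6, 1, 2, 3, 2, 1, 6, 3, 2, 3, 2, 0, 1, 0, 1],
  [6, 1, 2, 3, 2, 1, 6, 3, 2, 3, 2, 4, 5, 3, 4],
  [2, 6, 1, 2, 3, 2, 1, 6, 3, 2, 3, 0, 1, 0, 1, 2],
  [2, 3, 6, 1, 2, 3, 2, 1, 6, 0, 5, 3, 2, 6, 1, 2, 3, 2, 1, 6, 3, 6, 1, 2, 3, 2, 1, 6],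
  [2, 3, 4, 6, 1, 2, 3, 2, 1, 6, 3],
  [2, 3, 5, 6, 1, 2, 3, 2, 1, 6, 3, 2, 3, 0, 1, 0, 1, 6, 1, 2, 3, 2, 1, 6],
  [2, 6, 1, 2, 3, 2, 1, 6, 3, 2, 3, 2, 5, 3, 6, 1, 2, 3, 2, 1, 6, 0],
  [2, 6, 1, 2, 3, 2, 1, 6, 0, 3, 2, 4, 3, 6, 1, 2, 3, 2, 1, 6, 3],
  [2, 4, 6, 1, 2, 3, 2, 1, 6, 3, 2, 3, 6, 1, 2, 3, 2, 1, 6, 0],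
  [2, 3, 6, 1, 2, 3, 2, 1, 6, 3, 2, 5, 3, 0, 1, 0, 1, 6, 1, 2, 3, 2, 1, 6],
  [2, 6, 1, 2, 3, 2, 1, 6, 3, 2, 5, 0, 1, 0, 1, 6, 1, 2, 3, 2, 1, 6],
  [6, 1, 2, 3, 2, 1, 6, 3, 2, 3, 2, 6, 1, 2, 3, 2, 1, 6, 5, 3, 4, 0, 1, 0, 1],
  [2, 3, 4, 5, 6, 1, 2, 3, 2, 1, 6, 3, 2, 6, 1, 2, 3, 2, 1, 6, 3, 4],
  [5, 6, 1, 2, 3, 2, 1, 6, 3, 2, 3, 6, 1, 2, 3, 2, 1, 6, 0, 1, 0, 1, 2],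
  [2, 3, 5, 0, 1, 0, 1, 2, 6, 1, 2, 3, 2, 1, 6, 3, 2, 3],
  [2, 3, 6, 1, 2, 3, 2, 1, 6, 0, 3, 2, 3, 4, 0, 1, 0, 1],
  [2, 3, 2, 4, 5, 6, 1, 2, 3, 2, 1, 6, 3, 2, 3, 2],
  [2, 3, 6, 1, 2, 3, 2, 1, 6, 0, 3, 4],
  [2, 6, 1, 2, 3, 2, 1, 6, 3, 0, 1, 0, 1, 6, 1, 2, 3, 2, 1, 6, 5],
  [2, 3, 5, 6, 1, 2, 3, 2, 1, 6, 4, 3, 2, 3, 2, 5],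
  [6, 1, 2, 3, 2, 1, 6, 3, 2, 3, 2, 3, 5, 3],
  [2, 3, 6, 1, 2, 3, 2, 1, 6, 3, 5, 3, 2, 3, 4, 6, 1, 2, 3, 2, 1, 6],
  [2, 6, 1, 2, 3, 2, 1, 6, 3, 2, 3, 2, 5],
  [2, 5, 6, 1, 2, 3, 2, 1, 6, 0, 3, 2, 5, 6, 1, 2, 3, 2, 1, 6, 3],
  [6, 1, 2, 3, 2, 1, 6, 3, 2, 3, 2, 6, 1, 2, 3, 2, 1, 6, 4, 5, 3, 4],
  [6, 1, 2, 3, 2, 1, 6, 3, 2, 3, 2, 6, 1, 2, 3, 2, 1, 6, 4, 5, 3],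
  [2, 6, 1, 2, 3, 2, 1, 6, 3, 2, 6, 1, 2, 3, 2, 1, 6, 3, 5, 6, 1, 2, 3, 2, 1, 6, 5],
  [6, 1, 2, 3, 2, 1, 6, 0, 3, 2, 6, 1, 2, 3, 2, 1, 6, 3],
  [2, 6, 1, 2, 3, 2, 1, 6, 3, 0, 1, 0, 1, 2, 3, 6, 1, 2, 3, 2, 1, 6],
  [2, 3, 6, 1, 2, 3, 2, 1, 6, 3, 2, 6, 1, 2, 3, 2, 1, 6, 3, 2, 6, 1, 2, 3, 2, 1, 6, 3, 2],
  [2, 6, 1, 2, 3, 2, 1, 6, 3, 2, 6, 1, 2, 3, 2, 1, 6, 0, 3, 6, 1, 2, 3, 2, 1, 6],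
  [2, 3, 6, 1, 2, 3, 2, 1, 6, 3, 2, 4, 3, 2, 3, 6, 1, 2, 3, 2, 1, 6],
  [2, 3, 4, 5, 6, 1, 2, 3, 2, 1, 6, 3, 2],
  [2, 3, 0, 1, 0, 1, 6, 1, 2, 3, 2, 1, 6, 3, 2, 3, 2, 4, 6, 1, 2, 3, 2, 1, 6],
  [2, 3, 6, 1, 2, 3, 2, 1, 6, 3, 4, 5, 3, 2],
  [4, 6, 1, 2, 3, 2, 1, 6, 5, 6, 1, 2, 3, 2, 1, 6, 3, 2, 3],
  [2, 5, 6, 1, 2, 3, 2, 1, 6, 0, 3, 2, 5, 3, 4],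
  [2, 3, 2, 3, 0, 1, 0, 1, 6, 1, 2, 3, 2, 1, 6, 3, 2],
  [2, 3, 0, 1, 0, 1, 6, 1, 2, 3, 2, 1, 6, 3, 2, 3, 4, 5],
  [4, 3, 6, 1, 2, 3, 2, 1, 6, 3, 2, 3, 4],
  [2, 6, 1, 2, 3, 2, 1, 6, 3, 2, 4, 3, 5, 6, 1, 2, 3, 2, 1, 6],
  [2, 5, 3, 6, 1, 2, 3, 2, 1, 6, 3, 0, 1, 0, 1, 2, 3, 4, 5],
  [2, 3, 2, 4, 6, 1, 2, 3, 2, 1, 6, 3, 2, 6, 1, 2, 3, 2, 1, 6, 5, 3, 2, 0, 1, 0, 1],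
  [2, 6, 1, 2, 3, 2, 1, 6, 3, 0, 1, 0, 1, 2, 3, 6, 1, 2, 3, 2, 1, 6, 4, 3],
  [2, 3, 2, 0, 1, 0, 1, 6, 1, 2, 3, 2, 1, 6, 5, 6, 1, 2, 3, 2, 1, 6, 3, 2, 3, 2, 5],
  [2, 5, 6, 1, 2, 3, 2, 1, 6, 0, 3, 2, 4, 3],
  [2, 4, 6, 1, 2, 3, 2, 1, 6, 3, 2, 3, 6, 1, 2, 3, 2, 1, 6, 3, 5, 6, 1, 2, 3, 2, 1, 6],
  [4, 3, 6, 1, 2, 3, 2, 1, 6, 3, 2, 3, 5],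
  [2, 5, 3, 6, 1, 2, 3, 2, 1, 6, 3, 0, 1, 0, 1, 2, 3],
  [2, 3, 4, 5, 3, 6, 1, 2, 3, 2, 1, 6, 3, 2],
  [5, 6, 1, 2, 3, 2, 1, 6, 0, 3, 2, 3],
  [2, 6, 1, 2, 3, 2, 1, 6, 3, 2, 5, 6, 1, 2, 3, 2, 1, 6],
  [2, 4, 6, 1, 2, 3, 2, 1, 6, 3, 2, 5, 6, 1, 2, 3, 2, 1, 6, 3, 4],
  [2, 3, 6, 1, 2, 3, 2, 1, 6, 3, 2, 4, 3, 2, 6, 1, 2, 3, 2, 1, 6, 0],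
  [2, 6, 1, 2, 3, 2, 1, 6, 5, 6, 1, 2, 3, 2, 1, 6],
  [2, 6, 1, 2, 3, 2, 1, 6, 5, 6, 1, 2, 3, 2, 1, 6, 4],
  [2, 3, 5, 3, 2, 3, 6, 1, 2, 3, 2, 1, 6, 3, 2, 3, 6, 1, 2, 3, 2, 1, 6, 0, 1, 0, 1],
  [6, 1, 2, 3, 2, 1, 6, 3, 2, 3, 6, 1, 2, 3, 2, 1, 6, 4, 3, 2],
  [6, 1, 2, 3, 2, 1, 6, 3, 2, 6, 1, 2, 3, 2, 1, 6, 3, 2, 0, 1, 0, 1, 6, 1, 2, 3, 2, 1, 6],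
  [2, 3, 5, 3, 2, 6, 1, 2, 3, 2, 1, 6, 4, 3, 2],
  [2, 3, 5, 3, 2, 3, 6, 1, 2, 3, 2, 1, 6, 3, 2, 3, 6, 1, 2, 3, 2, 1, 6],
  [2, 3, 5, 3, 6, 1, 2, 3, 2, 1, 6, 0, 1, 0, 1, 2, 3, 2],
  [2, 5, 6, 1, 2, 3, 2, 1, 6, 3],
  [6, 1, 2, 3, 2, 1, 6, 3, 2, 3, 2, 5, 3, 6, 1, 2, 3, 2, 1, 6, 4],
  [2, 3, 0, 1, 0, 1, 6, 1, 2, 3, 2, 1, 6, 3, 2, 6, 1, 2, 3, 2, 1, 6, 5, 3, 4, 6, 1, 2, 3, 2, 1, 6],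
  [2, 3, 2, 3, 6, 1, 2, 3, 2, 1, 6, 3, 2],
  [2, 3, 6, 1, 2, 3, 2, 1, 6, 3, 2, 4, 3, 5],
  [2, 3, 2, 3, 6, 1, 2, 3, 2, 1, 6, 3, 2, 6, 1, 2, 3, 2, 1, 6, 5, 3, 2],
  [6, 1, 2, 3, 2, 1, 6, 3, 2, 6, 1, 2, 3, 2, 1, 6, 3, 4, 3],
  [2, 5, 3, 6, 1, 2, 3, 2, 1, 6, 3, 2, 3, 4, 3, 5],
  [2, 6, 1, 2, 3, 2, 1, 6, 3, 2, 6, 1, 2, 3, 2, 1, 6, 3, 4, 6, 1, 2, 3, 2, 1, 6],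
  [2, 4, 6, 1, 2, 3, 2, 1, 6, 3, 2, 3, 4, 6, 1, 2, 3, 2, 1, 6],
  [2, 4, 5, 6, 1, 2, 3, 2, 1, 6, 3, 2, 3],
  [6, 1, 2, 3, 2, 1, 6, 3, 2, 6, 1, 2, 3, 2, 1, 6, 3, 5, 0, 1, 0, 1],
  [2, 5, 3, 6, 1, 2, 3, 2, 1, 6, 3, 2, 4, 3],
  [2, 6, 1, 2, 3, 2, 1, 6, 3, 6, 1, 2, 3, 2, 1, 6, 3, 5, 3, 2, 3, 6, 1, 2, 3, 2, 1, 6, 5],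
  [2, 5, 6, 1, 2, 3, 2, 1, 6, 0, 3, 2, 5, 6, 1, 2, 3, 2, 1, 6, 3, 6, 1, 2, 3, 2, 1, 6],
  [2, 3, 2, 3, 6, 1, 2, 3, 2, 1, 6, 0, 3, 2, 3, 6, 1, 2, 3, 2, 1, 6, 0],
  [2, 5, 3, 6, 1, 2, 3, 2, 1, 6, 3, 2, 3, 0, 1, 0, 1, 6, 1, 2, 3, 2, 1, 6],
  [2, 3, 4, 3, 5, 3, 2, 6, 1, 2, 3, 2, 1, 6, 3, 2],
  [2, 3, 6, 1, 2, 3, 2, 1, 6, 0, 1, 0, 1, 2],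
  [2, 3, 2, 4, 6, 1, 2, 3, 2, 1, 6, 3, 2, 6, 1, 2, 3, 2, 1, 6, 3, 2, 5],
  [2, 5, 3, 6, 1, 2, 3, 2, 1, 6, 3, 2, 5],
  [5, 6, 1, 2, 3, 2, 1, 6, 3, 2, 3, 4, 3],
  [2, 5, 6, 1, 2, 3, 2, 1, 6, 3, 2, 5, 0, 1, 0, 1],
  [2, 5, 6, 1, 2, 3, 2, 1, 6, 3, 2, 5, 3],
  [2, 3, 6, 1, 2, 3, 2, 1, 6, 3, 0, 1, 0, 1, 2, 3, 2, 6, 1, 2, 3, 2, 1, 6],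
  [2, 4, 5, 6, 1, 2, 3, 2, 1, 6, 3, 2],
  [2, 5, 6, 1, 2, 3, 2, 1, 6, 3, 2, 3, 5, 3, 4],
  [5, 6, 1, 2, 3, 2, 1, 6, 3, 2, 3, 5, 0, 1, 0, 1],
  [2, 3, 6, 1, 2, 3, 2, 1, 6, 3, 2, 4, 3, 2, 6, 1, 2, 3, 2, 1, 6, 5, 0, 1, 0, 1],
  [2, 5, 3, 6, 1, 2, 3, 2, 1, 6, 3, 2, 4],
  [2, 3, 6, 1, 2, 3, 2, 1, 6, 3, 2, 6, 1, 2, 3, 2, 1, 6, 3, 6, 1, 2, 3, 2, 1, 6, 5, 6, 1, 2, 3, 2, 1, 6],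
  [2, 3, 5, 6, 1, 2, 3, 2, 1, 6, 3, 5, 6, 1, 2, 3, 2, 1, 6],
  [2, 3, 2, 3, 6, 1, 2, 3, 2, 1, 6, 3, 0, 1, 0, 1, 2, 3],
  [2, 3, 6, 1, 2, 3, 2, 1, 6, 3, 0, 1, 0, 1, 2, 3, 4, 5, 3],
  [2, 3, 2, 3, 6, 1, 2, 3, 2, 1, 6, 0, 3, 2, 0, 1, 0, 1],
  [2, 3, 6, 1, 2, 3, 2, 1, 6, 3, 0, 1, 0, 1, 2, 3, 5],
  [2, 3, 5, 0, 1, 0, 1, 2, 6, 1, 2, 3, 2, 1, 6, 3, 2],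
  [2, 3, 6, 1, 2, 3, 2, 1, 6, 3, 0, 1, 0, 1, 2, 3, 4],
  [2, 5, 6, 1, 2, 3, 2, 1, 6, 3, 2, 3, 4, 3],
  [2, 4, 5, 3, 6, 1, 2, 3, 2, 1, 6, 3, 2, 3, 4],
  [2, 5, 3, 6, 1, 2, 3, 2, 1, 6, 3, 2, 3, 4, 5, 3],
  [6, 1, 2, 3, 2, 1, 6, 3, 2, 6, 1, 2, 3, 2, 1, 6, 3, 4, 5],
  [2, 4, 6, 1, 2, 3, 2, 1, 6, 3, 2, 3, 4, 6, 1, 2, 3, 2, 1, 6, 3, 5],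
  [2, 6, 1, 2, 3, 2, 1, 6, 3, 0, 1, 0, 1, 2, 6, 1, 2, 3, 2, 1, 6, 3, 5, 6, 1, 2, 3, 2, 1, 6],
  [2, 4, 5, 3, 6, 1, 2, 3, 2, 1, 6, 3, 2],
  [2, 5, 6, 1, 2, 3, 2, 1, 6, 3, 2, 4],
  [5, 6, 1, 2, 3, 2, 1, 6, 3, 2, 3, 5],
  [2, 3, 6, 1, 2, 3, 2, 1, 6, 3, 2, 4, 3, 2, 6, 1, 2, 3, 2, 1, 6, 5],
  [2, 5, 3, 6, 1, 2, 3, 2, 1, 6, 3, 2, 3, 4, 5, 3, 0, 1, 0, 1],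
  [2, 5, 6, 1, 2, 3, 2, 1, 6, 3, 2, 3, 4, 5, 3],
  [2, 4, 5, 6, 1, 2, 3, 2, 1, 6, 3, 2, 3, 4],
  [5, 6, 1, 2, 3, 2, 1, 6, 3, 2, 3, 4, 6, 1, 2, 3, 2, 1, 6, 3],
  [2, 5, 3, 6, 1, 2, 3, 2, 1, 6, 3, 2, 3, 4, 3],
  [2, 3, 2, 6, 1, 2, 3, 2, 1, 6],
  [2, 3, 2, 6, 1, 2, 3, 2, 1, 6, 3, 2, 3, 5, 3, 2, 4],
  [2, 5, 6, 1, 2, 3, 2, 1, 6, 3, 2, 5],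
  [2, 5, 3, 6, 1, 2, 3, 2, 1, 6, 3, 2, 5, 3],
  [2, 5, 3, 6, 1, 2, 3, 2, 1, 6, 3, 2, 5, 0, 1, 0, 1],
  [5, 6, 1, 2, 3, 2, 1, 6, 3, 2, 3, 4],
  [2, 5, 6, 1, 2, 3, 2, 1, 6, 3, 2, 5, 3, 0, 1, 0, 1],
  [2, 3, 5, 3, 0, 1, 0, 1, 2, 6, 1, 2, 3, 2, 1, 6, 3, 2, 3] ]
def cp2 : List (List ℕ) := [
  [2, 5, 6, 1, 2, 3, 2, 1, 6, 5, 6, 1, 2, 3, 2, 1, 6, 3],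
  [2, 3, 6, 1, 2, 3, 2, 1, 6, 3, 2, 3, 6, 1, 2, 3, 2, 1, 6, 5, 3, 2],
  [2, 3, 5, 3, 2, 4, 6, 1, 2, 3, 2, 1, 6, 3, 2, 3],
  [6, 1, 2, 3, 2, 1, 6, 3, 2, 3, 4, 6, 1, 2, 3, 2, 1, 6, 3, 2, 3],
  [4, 3, 6, 1, 2, 3, 2, 1, 6, 3, 2, 3, 2, 6, 1, 2, 3, 2, 1, 6, 3],
  [6, 1, 2, 3, 2, 1, 6, 3, 2, 3, 2, 3, 5, 3, 2, 6, 1, 2, 3, 2, 1, 6],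
  [2, 4, 6, 1, 2, 3, 2, 1, 6, 5, 6, 1, 2, 3, 2, 1, 6, 3],
  [2, 3, 2, 6, 1, 2, 3, 2, 1, 6, 3, 2, 5, 3, 2],
  [2, 3, 2, 6, 1, 2, 3, 2, 1, 6, 4, 5],
  [6, 1, 2, 3, 2, 1, 6, 3, 2, 3, 2, 5, 3, 4, 0, 1, 0, 1, 6, 1, 2, 3, 2, 1, 6],
  [2, 5, 6, 1, 2, 3, 2, 1, 6, 3, 0, 1, 0, 1],
  [2, 3, 6, 1, 2, 3, 2, 1, 6, 3, 2, 5, 3, 6, 1, 2, 3, 2, 1, 6, 5, 6, 1, 2, 3, 2, 1, 6],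
  [2, 3, 5, 6, 1, 2, 3, 2, 1, 6, 3, 2, 3, 2],
  [2, 3, 0, 1, 0, 1, 6, 1, 2, 3, 2, 1, 6, 3, 2, 3, 6, 1, 2, 3, 2, 1, 6],
  [2, 4, 5, 6, 1, 2, 3, 2, 1, 6, 3, 4],
  [2, 3, 0, 1, 0, 1, 6, 1, 2, 3, 2, 1, 6, 3, 2, 5, 3, 6, 1, 2, 3, 2, 1, 6, 5],
  [6, 1, 2, 3, 2, 1, 6, 3, 2, 3, 2, 4, 5, 3, 6, 1, 2, 3, 2, 1, 6],
  [2, 3, 5, 6, 1, 2, 3, 2, 1, 6, 4, 3],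
  [2, 5, 6, 1, 2, 3, 2, 1, 6, 3, 2, 3, 6, 1, 2, 3, 2, 1, 6, 0, 1, 0, 1, 2, 3],
  [2, 3, 0, 1, 0, 1, 6, 1, 2, 3, 2, 1, 6, 3, 2, 5, 3, 6, 1, 2, 3, 2, 1, 6, 4],
  [6, 1, 2, 3, 2, 1, 6, 0, 3, 2, 3, 2, 5, 3, 4, 6, 1, 2, 3, 2, 1, 6],
  [2, 5, 6, 1, 2, 3, 2, 1, 6, 0, 3],
  [2, 3, 6, 1, 2, 3, 2, 1, 6, 3, 2, 6, 1, 2, 3, 2, 1, 6, 5, 3, 6, 1, 2, 3, 2, 1, 6, 4],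
  [6, 1, 2, 3, 2, 1, 6, 3, 2, 3, 2, 5, 3, 4, 0, 1, 0, 1],
  [2, 6, 1, 2, 3, 2, 1, 6, 0, 3, 2, 3, 0, 1, 0, 1, 2],
  [2, 3, 4, 5, 3, 2, 6, 1, 2, 3, 2, 1, 6, 3, 6, 1, 2, 3, 2, 1, 6, 5],
  [2, 3, 2, 3, 6, 1, 2, 3, 2, 1, 6, 3, 2, 5, 6, 1, 2, 3, 2, 1, 6, 3, 5],
  [2, 3, 6, 1, 2, 3, 2, 1, 6, 0, 3, 2, 3, 4, 5],
  [2, 3, 6, 1, 2, 3, 2, 1, 6, 0],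
  [2, 5, 6, 1, 2, 3, 2, 1, 6, 3, 2, 3, 2, 5, 6, 1, 2, 3, 2, 1, 6],
  [2, 4, 6, 1, 2, 3, 2, 1, 6, 3, 4],
  [6, 1, 2, 3, 2, 1, 6, 3, 2, 3, 2, 5, 3, 2, 6, 1, 2, 3, 2, 1, 6, 3, 4],
  [2, 6, 1, 2, 3, 2, 1, 6, 3, 2, 5, 3, 4, 0, 1, 0, 1, 6, 1, 2, 3, 2, 1, 6],
  [2, 6, 1, 2, 3, 2, 1, 6, 3, 2, 3, 4, 6, 1, 2, 3, 2, 1, 6, 3, 5],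
  [2, 3, 6, 1, 2, 3, 2, 1, 6, 3, 2, 3, 4, 3, 5, 3, 2],
  [2, 6, 1, 2, 3, 2, 1, 6, 3, 2, 6, 1, 2, 3, 2, 1, 6, 4, 3, 6, 1, 2, 3, 2, 1, 6],
  [2, 5, 3, 6, 1, 2, 3, 2, 1, 6, 0, 1, 0, 1, 2, 3, 2, 5, 3],
  [2, 6, 1, 2, 3, 2, 1, 6, 3, 0, 1, 0, 1, 2, 6, 1, 2, 3, 2, 1, 6, 5, 3],
  [2, 3, 6, 1, 2, 3, 2, 1, 6, 3, 2, 3, 4, 5, 3, 2, 4],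
  [2, 4, 6, 1, 2, 3, 2, 1, 6, 3, 5],
  [2, 3, 2, 0, 1, 0, 1, 6, 1, 2, 3, 2, 1, 6, 3, 2, 6, 1, 2, 3, 2, 1, 6, 5, 3, 6, 1, 2, 3, 2, 1, 6],
  [2, 3, 5, 0, 1, 0, 1, 2, 6, 1, 2, 3, 2, 1, 6, 3, 2, 3, 2, 4],
  [2, 5, 6, 1, 2, 3, 2, 1, 6, 3, 2, 5, 3, 6, 1, 2, 3, 2, 1, 6, 3, 0, 1, 0, 1],
  [2, 5, 6, 1, 2, 3, 2, 1, 6, 0, 3, 2, 6, 1, 2, 3, 2, 1, 6, 3, 6, 1, 2, 3, 2, 1, 6],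
  [2, 5, 6, 1, 2, 3, 2, 1, 6, 3, 2, 6, 1, 2, 3, 2, 1, 6, 3, 2, 0, 1, 0, 1, 6, 1, 2, 3, 2, 1, 6],
  [2, 5, 3, 6, 1, 2, 3, 2, 1, 6, 0, 1, 0, 1, 2, 3, 2],
  [2, 4, 6, 1, 2, 3, 2, 1, 6, 5, 3],
  [2, 6, 1, 2, 3, 2, 1, 6, 3, 0, 1, 0, 1, 2, 6, 1, 2, 3, 2, 1, 6],
  [2, 6, 1, 2, 3, 2, 1, 6, 0, 3, 2, 6, 1, 2, 3, 2, 1, 6, 3, 4],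
  [2, 5, 3, 2, 6, 1, 2, 3, 2, 1, 6, 4, 3, 2, 3, 4],
  [2, 4, 6, 1, 2, 3, 2, 1, 6, 3, 2, 6, 1, 2, 3, 2, 1, 6, 3, 4, 6, 1, 2, 3, 2, 1, 6],
  [2, 3, 5, 3, 2, 3, 6, 1, 2, 3, 2, 1, 6, 3, 2, 3, 4, 3],
  [2, 5, 6, 1, 2, 3, 2, 1, 6, 3, 2, 4, 6, 1, 2, 3, 2, 1, 6, 3, 4],
  [2, 3, 6, 1, 2, 3, 2, 1, 6, 3, 2, 3, 4, 5, 3, 2, 0, 1, 0, 1],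
  [2, 5, 6, 1, 2, 3, 2, 1, 6, 3, 5, 6, 1, 2, 3, 2, 1, 6],
  [2, 3, 2, 6, 1, 2, 3, 2, 1, 6, 3, 2, 3, 4, 6, 1, 2, 3, 2, 1, 6, 5, 3],
  [2, 3, 5, 0, 1, 0, 1, 2, 6, 1, 2, 3, 2, 1, 6, 3, 2, 3, 2, 0, 1, 0, 1],
  [2, 3, 2, 6, 1, 2, 3, 2, 1, 6, 3, 2, 3, 2, 5, 3],
  [2, 5, 6, 1, 2, 3, 2, 1, 6, 3, 2, 3, 0, 1, 0, 1, 6, 1, 2, 3, 2, 1, 6, 5],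
  [2, 5, 6, 1, 2, 3, 2, 1, 6, 3, 2, 6, 1, 2, 3, 2, 1, 6, 3, 2, 4, 6, 1, 2, 3, 2, 1, 6],
  [6, 1, 2, 3, 2, 1, 6, 3, 2, 3, 2, 5, 3, 2, 4, 6, 1, 2, 3, 2, 1, 6],
  [2, 5, 6, 1, 2, 3, 2, 1, 6, 3, 2, 4, 6, 1, 2, 3, 2, 1, 6],
  [2, 6, 1, 2, 3, 2, 1, 6, 0, 3, 5, 3],
  [2, 3, 5, 3, 2, 3, 6, 1, 2, 3, 2, 1, 6, 3, 2, 4],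
  [2, 3, 4, 6, 1, 2, 3, 2, 1, 6, 3, 2, 3, 4, 5],
  [2, 3, 2, 6, 1, 2, 3, 2, 1, 6, 3, 2, 5, 3, 6, 1, 2, 3, 2, 1, 6, 4],
  [2, 6, 1, 2, 3, 2, 1, 6, 3, 2, 6, 1, 2, 3, 2, 1, 6, 3, 6, 1, 2, 3, 2, 1, 6, 3, 4],
  [2, 3, 5, 3, 0, 1, 0, 1, 6, 1, 2, 3, 2, 1, 6, 3, 2, 6, 1, 2, 3, 2, 1, 6, 3, 6, 1, 2, 3, 2, 1, 6],
  [2, 5, 6, 1, 2, 3, 2, 1, 6, 3, 2, 3, 0, 1, 0, 1, 6, 1, 2, 3, 2, 1, 6],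
  [2, 3, 2, 6, 1, 2, 3, 2, 1, 6, 3, 2, 3, 0, 1, 0, 1, 6, 1, 2, 3, 2, 1, 6, 3, 4],
  [2, 3, 0, 1, 0, 1, 6, 1, 2, 3, 2, 1, 6, 3, 2, 5, 3, 2, 4],
  [2, 3, 2, 6, 1, 2, 3, 2, 1, 6, 3, 2, 5, 3, 6, 1, 2, 3, 2, 1, 6, 5, 3],
  [2, 5, 3, 6, 1, 2, 3, 2, 1, 6, 3, 2, 4, 3, 6, 1, 2, 3, 2, 1, 6, 4],
  [2, 5, 6, 1, 2, 3, 2, 1, 6, 3, 2, 5, 3, 6, 1, 2, 3, 2, 1, 6],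
  [2, 3, 5, 3, 6, 1, 2, 3, 2, 1, 6, 3, 2, 6, 1, 2, 3, 2, 1, 6, 3, 2, 6, 1, 2, 3, 2, 1, 6],
  [2, 3, 2, 6, 1, 2, 3, 2, 1, 6, 3, 2, 5, 3, 6, 1, 2, 3, 2, 1, 6],
  [2, 5, 3, 6, 1, 2, 3, 2, 1, 6, 3, 2, 6, 1, 2, 3, 2, 1, 6, 3, 4, 6, 1, 2, 3, 2, 1, 6, 5],
  [2, 6, 1, 2, 3, 2, 1, 6, 3, 2, 6, 1, 2, 3, 2, 1, 6, 3, 6, 1, 2, 3, 2, 1, 6, 3],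
  [2, 3, 2, 6, 1, 2, 3, 2, 1, 6, 3, 2, 3, 0, 1, 0, 1, 6, 1, 2, 3, 2, 1, 6, 3],
  [2, 5, 6, 1, 2, 3, 2, 1, 6, 3, 2, 3, 4, 6, 1, 2, 3, 2, 1, 6, 0, 1, 0, 1],
  [2, 6, 1, 2, 3, 2, 1, 6, 0, 5, 3, 4],
  [2, 5, 3, 2, 6, 1, 2, 3, 2, 1, 6, 4, 3, 2],
  [2, 5, 3, 2, 6, 1, 2, 3, 2, 1, 6, 4, 3, 2, 3, 0, 1, 0, 1],
  [2, 6, 1, 2, 3, 2, 1, 6, 0, 3, 2, 6, 1, 2, 3, 2, 1, 6],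
  [2, 3, 4, 6, 1, 2, 3, 2, 1, 6, 3, 2, 3],
  [2, 3, 5, 6, 1, 2, 3, 2, 1, 6, 0, 5],
  [2, 6, 1, 2, 3, 2, 1, 6, 3, 2, 3, 2, 6, 1, 2, 3, 2, 1, 6, 0, 3],
  [6, 1, 2, 3, 2, 1, 6, 3, 2, 3, 2, 3, 0, 1, 0, 1, 6, 1, 2, 3, 2, 1, 6],
  [2, 3, 4, 5, 6, 1, 2, 3, 2, 1, 6],
  [2, 3, 6, 1, 2, 3, 2, 1, 6, 3, 2, 6, 1, 2, 3, 2, 1, 6, 3, 4, 3, 6, 1, 2, 3, 2, 1, 6, 5],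
  [2, 6, 1, 2, 3, 2, 1, 6, 3, 2, 3, 6, 1, 2, 3, 2, 1, 6, 5, 0, 1, 0, 1, 2],
  [2, 3, 0, 1, 0, 1, 6, 1, 2, 3, 2, 1, 6, 3, 2, 3, 2, 3, 5],
  [2, 5, 6, 1, 2, 3, 2, 1, 6, 3, 5, 6, 1, 2, 3, 2, 1, 6, 3, 2, 6, 1, 2, 3, 2, 1, 6, 3, 4],
  [2, 3, 6, 1, 2, 3, 2, 1, 6, 3, 2],
  [2, 3, 2, 3, 6, 1, 2, 3, 2, 1, 6, 3, 2, 5, 3, 4],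
  [2, 3, 2, 4, 5, 6, 1, 2, 3, 2, 1, 6, 3, 2, 3],
  [2, 3, 6, 1, 2, 3, 2, 1, 6, 0, 3, 2, 4],
  [2, 3, 6, 1, 2, 3, 2, 1, 6, 0, 3, 2, 5],
  [2, 3, 2, 6, 1, 2, 3, 2, 1, 6, 3, 2, 4, 3, 6, 1, 2, 3, 2, 1, 6, 0, 1, 0, 1],
  [2, 3, 5, 6, 1, 2, 3, 2, 1, 6, 3, 2, 6, 1, 2, 3, 2, 1, 6, 4, 3, 6, 1, 2, 3, 2, 1, 6],
  [2, 3, 0, 1, 0, 1, 6, 1, 2, 3, 2, 1, 6, 3],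
  [2, 3, 0, 1, 0, 1, 6, 1, 2, 3, 2, 1, 6, 5],
  [2, 6, 1, 2, 3, 2, 1, 6, 5, 6, 1, 2, 3, 2, 1, 6, 3, 2, 4, 3, 2],
  [2, 6, 1, 2, 3, 2, 1, 6, 5, 3, 6, 1, 2, 3, 2, 1, 6, 4],
  [5, 6, 1, 2, 3, 2, 1, 6, 3, 2, 3, 2, 4],
  [2, 6, 1, 2, 3, 2, 1, 6, 3, 2, 3, 2, 5, 6, 1, 2, 3, 2, 1, 6, 4],
  [2, 3, 6, 1, 2, 3, 2, 1, 6, 4],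
  [2, 4, 5, 3, 2, 6, 1, 2, 3, 2, 1, 6, 3, 2, 5, 3, 4],
  [2, 6, 1, 2, 3, 2, 1, 6, 0, 3, 2, 3, 6, 1, 2, 3, 2, 1, 6, 4, 3],
  [2, 6, 1, 2, 3, 2, 1, 6, 3, 4, 3, 5],
  [2, 3, 6, 1, 2, 3, 2, 1, 6, 0, 3, 2, 3, 4, 5, 3, 2],
  [2, 4, 6, 1, 2, 3, 2, 1, 6, 3, 2, 6, 1, 2, 3, 2, 1, 6, 5, 3, 2],
  [2, 3, 2, 4, 5, 6, 1, 2, 3, 2, 1, 6, 3, 2, 6, 1, 2, 3, 2, 1, 6, 3, 6, 1, 2, 3, 2, 1, 6],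
  [2, 3, 5, 0, 1, 0, 1, 6, 1, 2, 3, 2, 1, 6, 3, 2, 3, 2, 3],
  [2, 5, 6, 1, 2, 3, 2, 1, 6, 3, 2, 6, 1, 2, 3, 2, 1, 6, 3, 0, 1, 0, 1, 2, 6, 1, 2, 3, 2, 1, 6],
  [2, 5, 6, 1, 2, 3, 2, 1, 6, 0, 3, 2, 3, 6, 1, 2, 3, 2, 1, 6, 5],
  [2, 3, 6, 1, 2, 3, 2, 1, 6, 3, 2, 3, 2, 3, 5, 3, 0, 1, 0, 1],
  [2, 5, 3, 2, 4, 6, 1, 2, 3, 2, 1, 6, 3, 2, 5, 3, 4],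
  [2, 4, 6, 1, 2, 3, 2, 1, 6, 3, 2, 3, 5, 3, 6, 1, 2, 3, 2, 1, 6],
  [2, 6, 1, 2, 3, 2, 1, 6, 3, 4, 5, 3],
  [2, 5, 6, 1, 2, 3, 2, 1, 6, 0, 3, 2, 6, 1, 2, 3, 2, 1, 6, 3, 4],
  [2, 4, 5, 3, 2, 6, 1, 2, 3, 2, 1, 6, 3, 2, 3, 4, 6, 1, 2, 3, 2, 1, 6, 3],
  [2, 3, 6, 1, 2, 3, 2, 1, 6, 3, 2, 3, 2, 3, 5],
  [2, 3, 2, 3, 6, 1, 2, 3, 2, 1, 6, 3, 2, 4, 3, 6, 1, 2, 3, 2, 1, 6, 5],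
  [2, 3, 5, 0, 1, 0, 1, 6, 1, 2, 3, 2, 1, 6, 3, 2, 3, 2, 0, 1, 0, 1],
  [2, 5, 6, 1, 2, 3, 2, 1, 6, 3, 2, 6, 1, 2, 3, 2, 1, 6, 3, 4, 0, 1, 0, 1, 6, 1, 2, 3, 2, 1, 6],
  [2, 4, 6, 1, 2, 3, 2, 1, 6, 3, 2, 6, 1, 2, 3, 2, 1, 6, 3, 6, 1, 2, 3, 2, 1, 6, 0, 1, 0, 1, 2],
  [2, 5, 3, 2, 4, 6, 1, 2, 3, 2, 1, 6, 3, 2, 5],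
  [2, 5, 6, 1, 2, 3, 2, 1, 6, 0, 3, 2, 6, 1, 2, 3, 2, 1, 6],
  [2, 3, 6, 1, 2, 3, 2, 1, 6, 4, 3, 2, 3, 5],
  [2, 3, 5, 3, 0, 1, 0, 1, 6, 1, 2, 3, 2, 1, 6],
  [6, 1, 2, 3, 2, 1, 6, 0, 3, 2, 3, 2, 5, 3, 2, 6, 1, 2, 3, 2, 1, 6],
  [2, 5, 3, 2, 4, 6, 1, 2, 3, 2, 1, 6, 3, 2, 3, 5],
  [2, 3, 6, 1, 2, 3, 2, 1, 6, 4, 3, 2, 5],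
  [2, 3, 5, 3, 6, 1, 2, 3, 2, 1, 6, 0],
  [2, 6, 1, 2, 3, 2, 1, 6, 0, 3, 2, 3, 6, 1, 2, 3, 2, 1, 6, 3],
  [2, 4, 5, 3, 2, 6, 1, 2, 3, 2, 1, 6, 3, 2, 4, 5],
  [2, 3, 2, 3, 6, 1, 2, 3, 2, 1, 6, 3, 2, 6, 1, 2, 3, 2, 1, 6, 3, 0, 1, 0, 1, 6, 1, 2, 3, 2, 1, 6, 3],
  [2, 3, 6, 1, 2, 3, 2, 1, 6, 3, 2, 3, 2, 5],
  [2, 3, 6, 1, 2, 3, 2, 1, 6, 0, 3, 2, 3, 0, 1, 0, 1, 2],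
  [2, 3, 2, 0, 1, 0, 1, 6, 1, 2, 3, 2, 1, 6, 3, 2, 6, 1, 2, 3, 2, 1, 6, 3, 6, 1, 2, 3, 2, 1, 6],
  [6, 1, 2, 3, 2, 1, 6, 0, 3, 2, 3, 2, 6, 1, 2, 3, 2, 1, 6, 3, 2, 3, 6, 1, 2, 3, 2, 1, 6],
  [2, 3, 0, 1, 0, 1, 6, 1, 2, 3, 2, 1, 6, 3, 2, 3, 2, 4, 5],
  [2, 3, 6, 1, 2, 3, 2, 1, 6, 3, 2, 4, 3, 2],
  [2, 3, 0, 1, 0, 1, 6, 1, 2, 3, 2, 1, 6, 3, 2, 3, 2, 6, 1, 2, 3, 2, 1, 6, 3, 2],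
  [2, 3, 6, 1, 2, 3, 2, 1, 6, 3, 5, 0, 1, 0, 1, 2, 3, 2],
  [2, 5, 3, 6, 1, 2, 3, 2, 1, 6, 3, 2, 4, 3, 6, 1, 2, 3, 2, 1, 6, 0],
  [2, 3, 5, 6, 1, 2, 3, 2, 1, 6, 0, 1, 0, 1, 2, 3, 2, 3, 6, 1, 2, 3, 2, 1, 6],
  [2, 3, 6, 1, 2, 3, 2, 1, 6, 3, 2, 4, 3, 5, 3, 2],
  [2, 5, 6, 1, 2, 3, 2, 1, 6, 3, 2, 6, 1, 2, 3, 2, 1, 6, 3, 6, 1, 2, 3, 2, 1, 6, 3],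
  [2, 5, 3, 6, 1, 2, 3, 2, 1, 6, 3, 2, 6, 1, 2, 3, 2, 1, 6, 3, 2, 6, 1, 2, 3, 2, 1, 6],
  [2, 3, 6, 1, 2, 3, 2, 1, 6, 3, 2, 3, 5, 3, 2, 6, 1, 2, 3, 2, 1, 6],
  [2, 5, 3, 6, 1, 2, 3, 2, 1, 6, 3, 0, 1, 0, 1, 2, 3, 6, 1, 2, 3, 2, 1, 6],
  [2, 3, 2, 0, 1, 0, 1, 6, 1, 2, 3, 2, 1, 6, 5, 6, 1, 2, 3, 2, 1, 6, 3, 2, 3, 4, 6, 1, 2, 3, 2, 1, 6],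
  [2, 3, 2, 6, 1, 2, 3, 2, 1, 6, 3, 2, 3, 0, 1, 0, 1, 2],
  [2, 3, 2, 3, 0, 1, 0, 1, 6, 1, 2, 3, 2, 1, 6, 3, 2, 3, 4, 6, 1, 2, 3, 2, 1, 6],
  [2, 6, 1, 2, 3, 2, 1, 6, 3, 2, 6, 1, 2, 3, 2, 1, 6, 3, 6, 1, 2, 3, 2, 1, 6, 0],
  [2, 3, 2, 6, 1, 2, 3, 2, 1, 6, 0, 3, 2, 3, 6, 1, 2, 3, 2, 1, 6, 0, 1, 0, 1],
  [2, 3, 6, 1, 2, 3, 2, 1, 6, 3, 0, 1, 0, 1, 2, 3, 2, 5, 6, 1, 2, 3, 2, 1, 6],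
  [2, 3, 2, 3, 6, 1, 2, 3, 2, 1, 6, 3, 2, 5, 3],
  [2, 3, 6, 1, 2, 3, 2, 1, 6, 3, 2, 4],
  [2, 6, 1, 2, 3, 2, 1, 6, 3, 2, 3, 2, 5, 6, 1, 2, 3, 2, 1, 6, 3],
  [2, 3, 6, 1, 2, 3, 2, 1, 6, 3],
  [2, 3, 6, 1, 2, 3, 2, 1, 6, 5],
  [2, 6, 1, 2, 3, 2, 1, 6, 3, 2, 3, 2, 5, 6, 1, 2, 3, 2, 1, 6, 5],
  [2, 4, 5, 3, 2, 6, 1, 2, 3, 2, 1, 6, 3, 2, 5],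
  [2, 5, 6, 1, 2, 3, 2, 1, 6, 3, 0, 1, 0, 1, 2, 6, 1, 2, 3, 2, 1, 6],
  [2, 6, 1, 2, 3, 2, 1, 6, 0, 3, 2, 3, 6, 1, 2, 3, 2, 1, 6, 3, 4],
  [2, 3, 5, 3, 4, 6, 1, 2, 3, 2, 1, 6],
  [6, 1, 2, 3, 2, 1, 6, 3, 2, 3, 2, 5, 3, 0, 1, 0, 1, 2, 6, 1, 2, 3, 2, 1, 6],
  [2, 3, 2, 4, 6, 1, 2, 3, 2, 1, 6, 3, 2, 6, 1, 2, 3, 2, 1, 6, 3, 6, 1, 2, 3, 2, 1, 6, 0],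
  [2, 3, 5, 0, 1, 0, 1, 6, 1, 2, 3, 2, 1, 6, 3, 2, 3, 2, 3, 5],
  [2, 3, 6, 1, 2, 3, 2, 1, 6, 3, 2, 3, 2, 5, 3, 0, 1, 0, 1],
  [2, 3, 2, 6, 1, 2, 3, 2, 1, 6, 0, 3, 2, 3, 6, 1, 2, 3, 2, 1, 6, 3, 4],
  [2, 5, 6, 1, 2, 3, 2, 1, 6, 0, 3, 2, 3, 6, 1, 2, 3, 2, 1, 6],
  [2, 4, 6, 1, 2, 3, 2, 1, 6, 3, 6, 1, 2, 3, 2, 1, 6, 5, 3, 2, 3, 6, 1, 2, 3, 2, 1, 6],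
  [2, 3, 5, 6, 1, 2, 3, 2, 1, 6, 0, 1, 0, 1, 2, 3, 2, 3, 6, 1, 2, 3, 2, 1, 6, 5],
  [2, 5, 3, 6, 1, 2, 3, 2, 1, 6, 3, 2, 6, 1, 2, 3, 2, 1, 6, 3, 2, 6, 1, 2, 3, 2, 1, 6, 4],
  [2, 3, 6, 1, 2, 3, 2, 1, 6, 3, 2, 4, 5, 3, 2],
  [2, 4, 6, 1, 2, 3, 2, 1, 6, 3, 2, 5, 6, 1, 2, 3, 2, 1, 6, 3, 6, 1, 2, 3, 2, 1, 6],
  [2, 3, 2, 3, 6, 1, 2, 3, 2, 1, 6, 3, 2, 6, 1, 2, 3, 2, 1, 6, 3, 4, 6, 1, 2, 3, 2, 1, 6],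
  [2, 6, 1, 2, 3, 2, 1, 6, 3, 2, 6, 1, 2, 3, 2, 1, 6, 3, 2, 0, 1, 0, 1, 6, 1, 2, 3, 2, 1, 6, 3, 2],
  [2, 6, 1, 2, 3, 2, 1, 6, 0, 3, 2, 0, 1, 0, 1, 6, 1, 2, 3, 2, 1, 6, 3, 6, 1, 2, 3, 2, 1, 6, 3],
  [2, 3, 2, 6, 1, 2, 3, 2, 1, 6, 0, 3, 2, 3, 6, 1, 2, 3, 2, 1, 6, 3],
  [2, 6, 1, 2, 3, 2, 1, 6, 3, 2, 3, 6, 1, 2, 3, 2, 1, 6, 5, 6, 1, 2, 3, 2, 1, 6],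
  [2, 3, 6, 1, 2, 3, 2, 1, 6, 4, 3, 2],
  [2, 5, 3, 2, 4, 6, 1, 2, 3, 2, 1, 6, 3, 2, 3],
  [2, 6, 1, 2, 3, 2, 1, 6, 4, 5, 3, 4],
  [2, 3, 6, 1, 2, 3, 2, 1, 6, 4, 3, 2, 3, 0, 1, 0, 1],
  [2, 4, 5, 3, 2, 6, 1, 2, 3, 2, 1, 6, 3, 2, 4],
  [2, 3, 5, 6, 1, 2, 3, 2, 1, 6, 3, 2, 3],
  [2, 6, 1, 2, 3, 2, 1, 6, 3, 4, 5, 3, 2, 3],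
  [2, 3, 5, 6, 1, 2, 3, 2, 1, 6, 0, 3, 2, 3, 4, 5],
  [2, 3, 5, 6, 1, 2, 3, 2, 1, 6, 5, 3],
  [2, 6, 1, 2, 3, 2, 1, 6, 3, 2, 3, 2, 6, 1, 2, 3, 2, 1, 6, 3, 0, 1, 0, 1],
  [2, 6, 1, 2, 3, 2, 1, 6, 3, 2, 3, 2, 6, 1, 2, 3, 2, 1, 6],
  [2, 6, 1, 2, 3, 2, 1, 6, 3, 2, 3, 2, 6, 1, 2, 3, 2, 1, 6, 3, 5],
  [2, 3, 5, 6, 1, 2, 3, 2, 1, 6],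
  [2, 6, 1, 2, 3, 2, 1, 6, 3, 2, 3, 2, 6, 1, 2, 3, 2, 1, 6, 5, 0, 1, 0, 1],
  [2, 6, 1, 2, 3, 2, 1, 6, 0, 5, 3, 6, 1, 2, 3, 2, 1, 6, 3, 2, 5, 3],
  [2, 3, 5, 3, 6, 1, 2, 3, 2, 1, 6, 3, 2, 6, 1, 2, 3, 2, 1, 6, 3, 0, 1, 0, 1],
  [2, 3, 0, 1, 0, 1, 2, 6, 1, 2, 3, 2, 1, 6, 3, 2, 3, 2, 4],
  [2, 3, 5, 3, 6, 1, 2, 3, 2, 1, 6, 3, 2, 3, 6, 1, 2, 3, 2, 1, 6, 3],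
  [2, 6, 1, 2, 3, 2, 1, 6, 3, 6, 1, 2, 3, 2, 1, 6, 3, 5, 3, 2, 3, 4],
  [2, 3, 5, 3, 0, 1, 0, 1, 6, 1, 2, 3, 2, 1, 6, 3, 2, 6, 1, 2, 3, 2, 1, 6, 3, 4],
  [2, 3, 5, 3, 6, 1, 2, 3, 2, 1, 6, 3, 2, 3, 6, 1, 2, 3, 2, 1, 6, 3, 4],
  [2, 3, 0, 1, 0, 1, 2, 6, 1, 2, 3, 2, 1, 6, 3, 2, 3, 2],
  [2, 3, 5, 0, 1, 0, 1, 6, 1, 2, 3, 2, 1, 6, 5],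
  [2, 3, 0, 1, 0, 1, 6, 1, 2, 3, 2, 1, 6, 3, 2, 6, 1, 2, 3, 2, 1, 6, 3, 6, 1, 2, 3, 2, 1, 6],
  [2, 6, 1, 2, 3, 2, 1, 6, 3, 2, 3, 2, 6, 1, 2, 3, 2, 1, 6, 0],
  [2, 3, 6, 1, 2, 3, 2, 1, 6, 3, 2, 6, 1, 2, 3, 2, 1, 6, 3, 4, 6, 1, 2, 3, 2, 1, 6, 5],
  [2, 3, 4, 3, 5, 6, 1, 2, 3, 2, 1, 6],
  [2, 6, 1, 2, 3, 2, 1, 6, 3, 2, 3, 2, 6, 1, 2, 3, 2, 1, 6, 4, 5],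
  [2, 3, 5, 3, 6, 1, 2, 3, 2, 1, 6, 3, 6, 1, 2, 3, 2, 1, 6, 0, 1, 0, 1, 2, 3, 4],
  [2, 3, 5, 3, 6, 1, 2, 3, 2, 1, 6, 3, 2, 6, 1, 2, 3, 2, 1, 6, 3, 4],
  [2, 3, 5, 6, 1, 2, 3, 2, 1, 6, 3, 6, 1, 2, 3, 2, 1, 6, 0, 1, 0, 1, 2, 3, 4, 6, 1, 2, 3, 2, 1, 6],
  [2, 3, 4, 5, 6, 1, 2, 3, 2, 1, 6, 0, 1, 0, 1],
  [2, 5, 6, 1, 2, 3, 2, 1, 6, 3, 2, 3, 2, 6, 1, 2, 3, 2, 1, 6, 4],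
  [2, 3, 5, 6, 1, 2, 3, 2, 1, 6, 3, 2, 5, 3, 4, 6, 1, 2, 3, 2, 1, 6],
  [2, 6, 1, 2, 3, 2, 1, 6, 3, 2, 3, 4, 3, 6, 1, 2, 3, 2, 1, 6, 3],
  [2, 3, 5, 6, 1, 2, 3, 2, 1, 6, 3, 2, 3, 2, 4],
  [2, 3, 0, 1, 0, 1, 6, 1, 2, 3, 2, 1, 6, 3, 2, 3, 6, 1, 2, 3, 2, 1, 6, 4],
  [2, 3, 6, 1, 2, 3, 2, 1, 6, 3, 2, 3],
  [2, 3, 2, 3, 6, 1, 2, 3, 2, 1, 6, 3, 2, 4, 5, 3, 4],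
  [2, 3, 6, 1, 2, 3, 2, 1, 6, 0, 3, 2, 3, 4],
  [2, 3, 2, 3, 6, 1, 2, 3, 2, 1, 6, 3, 2, 5, 6, 1, 2, 3, 2, 1, 6, 3],
  [2, 6, 1, 2, 3, 2, 1, 6, 3, 2, 6, 1, 2, 3, 2, 1, 6, 0, 3, 2, 6, 1, 2, 3, 2, 1, 6, 3],
  [2, 3, 6, 1, 2, 3, 2, 1, 6, 0, 3, 2, 3, 5],
  [2, 3, 0, 1, 0, 1, 6, 1, 2, 3, 2, 1, 6, 3, 4],
  [2, 3, 5, 6, 1, 2, 3, 2, 1, 6, 3, 2, 3, 4, 6, 1, 2, 3, 2, 1, 6, 3],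
  [2, 3, 5, 6, 1, 2, 3, 2, 1, 6, 3, 2, 3, 4, 6, 1, 2, 3, 2, 1, 6, 5],
  [2, 5, 6, 1, 2, 3, 2, 1, 6, 0, 3, 6, 1, 2, 3, 2, 1, 6],
  [2, 3, 2, 3, 6, 1, 2, 3, 2, 1, 6, 0, 3, 2, 3, 2],
  [2, 4, 6, 1, 2, 3, 2, 1, 6, 3, 2, 5, 3, 2],
  [2, 6, 1, 2, 3, 2, 1, 6, 3, 5, 0, 1, 0, 1, 2, 3, 2, 3],
  [5, 6, 1, 2, 3, 2, 1, 6, 3, 2, 3, 2, 4, 5],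
  [2, 4, 5, 3, 4, 6, 1, 2, 3, 2, 1, 6],
  [2, 3, 6, 1, 2, 3, 2, 1, 6, 0, 5, 3, 2, 6, 1, 2, 3, 2, 1, 6, 3],
  [6, 1, 2, 3, 2, 1, 6, 3, 2, 3, 2, 5, 3, 0, 1, 0, 1],
  [2, 6, 1, 2, 3, 2, 1, 6, 3, 2, 3, 2, 0, 1, 0, 1],
  [2, 4, 6, 1, 2, 3, 2, 1, 6, 3, 2, 5, 3, 2, 4, 3],
  [2, 3, 4, 5, 3, 2, 6, 1, 2, 3, 2, 1, 6, 3, 6, 1, 2, 3, 2, 1, 6, 3],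
  [2, 6, 1, 2, 3, 2, 1, 6, 3, 2, 3, 5, 0, 1, 0, 1, 2, 3, 4],
  [2, 3, 6, 1, 2, 3, 2, 1, 6, 4, 3],
  [2, 3, 4, 5, 6, 1, 2, 3, 2, 1, 6, 3, 2, 3, 2, 4],
  [2, 6, 1, 2, 3, 2, 1, 6, 3, 2, 3, 2, 5, 3, 6, 1, 2, 3, 2, 1, 6],
  [2, 4, 6, 1, 2, 3, 2, 1, 6, 3, 2, 3, 6, 1, 2, 3, 2, 1, 6, 3, 0, 1, 0, 1],
  [2, 4, 6, 1, 2, 3, 2, 1, 6, 3, 2, 3, 6, 1, 2, 3, 2, 1, 6],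
  [2, 6, 1, 2, 3, 2, 1, 6, 3, 2, 4, 6, 1, 2, 3, 2, 1, 6, 3, 2, 6, 1, 2, 3, 2, 1, 6],
  [2, 5, 6, 1, 2, 3, 2, 1, 6, 3, 2, 5, 0, 1, 0, 1, 6, 1, 2, 3, 2, 1, 6],
  [5, 6, 1, 2, 3, 2, 1, 6, 3, 2, 3, 2, 6, 1, 2, 3, 2, 1, 6, 3, 4, 0, 1, 0, 1],
  [2, 5, 6, 1, 2, 3, 2, 1, 6, 3, 4, 5],
  [6, 1, 2, 3, 2, 1, 6, 3, 2, 3, 2, 5, 3, 6, 1, 2, 3, 2, 1, 6, 5],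
  [2, 3, 5, 6, 1, 2, 3, 2, 1, 6, 3, 2, 5, 6, 1, 2, 3, 2, 1, 6, 3, 6, 1, 2, 3, 2, 1, 6],
  [2, 3, 6, 1, 2, 3, 2, 1, 6, 4, 3, 2, 3, 4, 6, 1, 2, 3, 2, 1, 6],
  [2, 3, 6, 1, 2, 3, 2, 1, 6, 3, 2, 3, 4, 3, 6, 1, 2, 3, 2, 1, 6, 5],
  [2, 3, 4, 5, 6, 1, 2, 3, 2, 1, 6, 3, 2, 3, 6, 1, 2, 3, 2, 1, 6],
  [6, 1, 2, 3, 2, 1, 6, 3, 2, 3, 6, 1, 2, 3, 2, 1, 6, 0, 1, 0, 1, 2, 3],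
  [2, 6, 1, 2, 3, 2, 1, 6, 3, 5, 0, 1, 0, 1, 2, 6, 1, 2, 3, 2, 1, 6, 3, 4],
  [6, 1, 2, 3, 2, 1, 6, 3, 2, 3, 6, 1, 2, 3, 2, 1, 6, 5, 0, 1, 0, 1, 2],
  [2, 3, 6, 1, 2, 3, 2, 1, 6, 3, 2, 3, 4],
  [2, 3, 2, 3, 6, 1, 2, 3, 2, 1, 6, 3, 2, 4, 5, 3],
  [2, 3, 2, 3, 6, 1, 2, 3, 2, 1, 6, 3, 2, 5, 3, 2],
  [2, 3, 6, 1, 2, 3, 2, 1, 6, 3, 4],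
  [2, 5, 6, 1, 2, 3, 2, 1, 6, 3, 0, 1, 0, 1, 6, 1, 2, 3, 2, 1, 6],
  [2, 6, 1, 2, 3, 2, 1, 6, 3, 0, 1, 0, 1, 2, 3, 6, 1, 2, 3, 2, 1, 6, 3, 2],
  [2, 6, 1, 2, 3, 2, 1, 6, 3, 2, 3, 2, 5, 3],
  [2, 3, 2, 3, 6, 1, 2, 3, 2, 1, 6, 3, 2, 3, 2, 0, 1, 0, 1],
  [6, 1, 2, 3, 2, 1, 6, 3, 2, 3, 2, 3, 5],
  [2, 6, 1, 2, 3, 2, 1, 6, 0, 3, 2, 5, 6, 1, 2, 3, 2, 1, 6, 3],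
  [2, 6, 1, 2, 3, 2, 1, 6, 3, 2, 3, 2, 5, 3, 6, 1, 2, 3, 2, 1, 6, 5],
  [5, 6, 1, 2, 3, 2, 1, 6, 3, 2, 3, 2, 6, 1, 2, 3, 2, 1, 6, 4, 3],
  [2, 6, 1, 2, 3, 2, 1, 6, 0, 3, 2, 5, 6, 1, 2, 3, 2, 1, 6, 3, 4],
  [2, 6, 1, 2, 3, 2, 1, 6, 3, 5, 6, 1, 2, 3, 2, 1, 6, 3, 2, 3, 2],
  [2, 3, 6, 1, 2, 3, 2, 1, 6, 3, 2, 3, 4, 3, 6, 1, 2, 3, 2, 1, 6],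
  [2, 6, 1, 2, 3, 2, 1, 6, 3, 2, 3, 2, 6, 1, 2, 3, 2, 1, 6, 4, 5, 3],
  [2, 6, 1, 2, 3, 2, 1, 6, 3, 2, 6, 1, 2, 3, 2, 1, 6, 5, 6, 1, 2, 3, 2, 1, 6, 3, 2],
  [2, 5, 6, 1, 2, 3, 2, 1, 6, 0, 3, 5],
  [2, 3, 2, 6, 1, 2, 3, 2, 1, 6, 3, 2, 4, 3, 2, 3, 6, 1, 2, 3, 2, 1, 6],
  [2, 5, 3, 6, 1, 2, 3, 2, 1, 6, 3, 0, 1, 0, 1, 2, 3, 2],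
  [2, 6, 1, 2, 3, 2, 1, 6, 3, 5, 6, 1, 2, 3, 2, 1, 6, 3],
  [6, 1, 2, 3, 2, 1, 6, 3, 2, 3, 2, 5, 3, 6, 1, 2, 3, 2, 1, 6, 0],
  [2, 3, 6, 1, 2, 3, 2, 1, 6, 3, 2, 6, 1, 2, 3, 2, 1, 6, 5, 3, 6, 1, 2, 3, 2, 1, 6],
  [2, 5, 6, 1, 2, 3, 2, 1, 6, 0, 3, 4],
  [2, 6, 1, 2, 3, 2, 1, 6, 0, 3, 2, 6, 1, 2, 3, 2, 1, 6, 3, 4, 6, 1, 2, 3, 2, 1, 6],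
  [2, 3, 5, 0, 1, 0, 1, 6, 1, 2, 3, 2, 1, 6, 3, 2, 3, 6, 1, 2, 3, 2, 1, 6, 4],
  [2, 3, 6, 1, 2, 3, 2, 1, 6, 3, 2, 5, 3, 4, 6, 1, 2, 3, 2, 1, 6, 0, 1, 0, 1],
  [2, 4, 6, 1, 2, 3, 2, 1, 6, 3, 2, 3, 5, 6, 1, 2, 3, 2, 1, 6],
  [2, 6, 1, 2, 3, 2, 1, 6, 3, 2, 3, 5, 6, 1, 2, 3, 2, 1, 6, 0, 1, 0, 1],
  [2, 3, 6, 1, 2, 3, 2, 1, 6, 3, 2, 3, 4, 0, 1, 0, 1, 6, 1, 2, 3, 2, 1, 6],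
  [6, 1, 2, 3, 2, 1, 6, 0, 3, 2, 3, 2, 6, 1, 2, 3, 2, 1, 6],
  [2, 4, 6, 1, 2, 3, 2, 1, 6, 3, 2, 6, 1, 2, 3, 2, 1, 6, 3, 5, 6, 1, 2, 3, 2, 1, 6],
  [2, 3, 4, 5, 6, 1, 2, 3, 2, 1, 6, 3],
  [2, 6, 1, 2, 3, 2, 1, 6, 3, 2, 3, 6, 1, 2, 3, 2, 1, 6, 5, 0, 1, 0, 1, 2, 3],
  [2, 3, 6, 1, 2, 3, 2, 1, 6, 3, 5, 0, 1, 0, 1, 2, 3, 4, 6, 1, 2, 3, 2, 1, 6],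
  [2, 6, 1, 2, 3, 2, 1, 6, 3, 2, 3, 5, 6, 1, 2, 3, 2, 1, 6, 3],
  [2, 3, 6, 1, 2, 3, 2, 1, 6, 3, 2, 3, 6, 1, 2, 3, 2, 1, 6, 4, 3],
  [2, 3, 5, 6, 1, 2, 3, 2, 1, 6, 0, 3, 2, 3, 2],
  [6, 1, 2, 3, 2, 1, 6, 3, 2, 3, 2, 6, 1, 2, 3, 2, 1, 6, 4, 3],
  [2, 3, 2, 6, 1, 2, 3, 2, 1, 6, 3, 2, 4, 3, 6, 1, 2, 3, 2, 1, 6, 5],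
  [2, 3, 6, 1, 2, 3, 2, 1, 6, 0, 3, 2, 0, 1, 0, 1],
  [2, 3, 6, 1, 2, 3, 2, 1, 6, 0, 1, 0, 1, 2, 3, 2, 3, 5, 6, 1, 2, 3, 2, 1, 6],
  [2, 3, 6, 1, 2, 3, 2, 1, 6, 0, 3, 2, 3, 5, 0, 1, 0, 1],
  [2, 3, 6, 1, 2, 3, 2, 1, 6, 3, 0, 1, 0, 1, 2],
  [2, 3, 2, 4, 5, 6, 1, 2, 3, 2, 1, 6, 3, 2, 3, 0, 1, 0, 1],
  [2, 3, 0, 1, 0, 1, 6, 1, 2, 3, 2, 1, 6, 3, 2],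
  [2, 3, 2, 3, 6, 1, 2, 3, 2, 1, 6, 3, 2, 5, 3, 0, 1, 0, 1],
  [2, 3, 6, 1, 2, 3, 2, 1, 6, 3, 2, 5, 0, 1, 0, 1],
  [2, 3, 2, 6, 1, 2, 3, 2, 1, 6, 3, 2, 4, 3, 6, 1, 2, 3, 2, 1, 6, 0],
  [2, 3, 5, 6, 1, 2, 3, 2, 1, 6, 0, 1, 0, 1, 2, 3, 2],
  [2, 3, 0, 1, 0, 1, 6, 1, 2, 3, 2, 1, 6, 3, 2, 3, 4],
  [2, 3, 5, 6, 1, 2, 3, 2, 1, 6, 0, 1, 0, 1, 2, 3, 2, 3, 5],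
  [2, 3, 6, 1, 2, 3, 2, 1, 6, 3, 2, 3, 4, 5, 0, 1, 0, 1],
  [2, 6, 1, 2, 3, 2, 1, 6, 3, 2, 6, 1, 2, 3, 2, 1, 6, 3, 2, 0, 1, 0, 1, 6, 1, 2, 3, 2, 1, 6],
  [2, 3, 6, 1, 2, 3, 2, 1, 6, 3, 2, 3, 5, 3, 0, 1, 0, 1],
  [2, 6, 1, 2, 3, 2, 1, 6, 3, 2, 3, 2, 5, 6, 1, 2, 3, 2, 1, 6, 3, 0, 1, 0, 1],
  [2, 3, 6, 1, 2, 3, 2, 1, 6, 3, 0, 1, 0, 1],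
  [2, 5, 6, 1, 2, 3, 2, 1, 6, 3, 2, 3, 2, 4, 3],
  [2, 3, 6, 1, 2, 3, 2, 1, 6, 5, 0, 1, 0, 1],
  [2, 3, 4, 3, 6, 1, 2, 3, 2, 1, 6, 5, 3],
  [5, 6, 1, 2, 3, 2, 1, 6, 0, 3, 2, 3, 2, 4],
  [2, 3, 5, 6, 1, 2, 3, 2, 1, 6, 0, 3, 6, 1, 2, 3, 2, 1, 6],
  [2, 3, 2, 6, 1, 2, 3, 2, 1, 6, 3, 2, 4, 3, 2, 6, 1, 2, 3, 2, 1, 6],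
  [2, 3, 6, 1, 2, 3, 2, 1, 6, 3, 0, 1, 0, 1, 2, 3, 6, 1, 2, 3, 2, 1, 6, 5, 6, 1, 2, 3, 2, 1, 6],
  [2, 4, 5, 3, 6, 1, 2, 3, 2, 1, 6, 3, 4],
  [2, 6, 1, 2, 3, 2, 1, 6, 3, 4, 3, 5, 3, 2, 3, 6, 1, 2, 3, 2, 1, 6],
  [2, 5, 3, 6, 1, 2, 3, 2, 1, 6, 3, 2, 3, 2, 5],
  [5, 6, 1, 2, 3, 2, 1, 6, 0, 3, 2, 3, 2, 5],
  [2, 4, 5, 3, 6, 1, 2, 3, 2, 1, 6],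
  [6, 1, 2, 3, 2, 1, 6, 3, 2, 3, 2, 4, 5],
  [2, 3, 6, 1, 2, 3, 2, 1, 6, 5, 3, 0, 1, 0, 1, 2, 6, 1, 2, 3, 2, 1, 6],
  [6, 1, 2, 3, 2, 1, 6, 3, 2, 3, 2, 0, 1, 0, 1],
  [4, 3, 6, 1, 2, 3, 2, 1, 6, 3, 2, 3, 2, 4, 3],
  [6, 1, 2, 3, 2, 1, 6, 0, 3, 2, 6, 1, 2, 3, 2, 1, 6, 3, 2, 3, 5],
  [2, 3, 2, 3, 6, 1, 2, 3, 2, 1, 6, 3, 2, 3, 0, 1, 0, 1, 2, 3],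
  [2, 3, 5, 3, 6, 1, 2, 3, 2, 1, 6, 3, 2, 5, 3, 2],
  [2, 6, 1, 2, 3, 2, 1, 6, 3, 2, 3, 2, 4, 5, 3],
  [2, 3, 6, 1, 2, 3, 2, 1, 6, 5, 3, 2, 4, 6, 1, 2, 3, 2, 1, 6, 3, 4],
  [6, 1, 2, 3, 2, 1, 6, 3, 2, 3, 2, 5, 3, 4],
  [2, 6, 1, 2, 3, 2, 1, 6, 3, 2, 3, 2, 4],
  [2, 6, 1, 2, 3, 2, 1, 6, 3, 2, 4, 5, 3, 2, 6, 1, 2, 3, 2, 1, 6],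
  [2, 3, 4, 6, 1, 2, 3, 2, 1, 6],
  [2, 3, 4, 6, 1, 2, 3, 2, 1, 6, 3, 5],
  [6, 1, 2, 3, 2, 1, 6, 3, 2, 3, 2, 5, 6, 1, 2, 3, 2, 1, 6, 4, 3],
  [2, 3, 2, 3, 6, 1, 2, 3, 2, 1, 6, 3, 2, 3, 0, 1, 0, 1, 2],
  [2, 6, 1, 2, 3, 2, 1, 6, 3, 2, 3, 2, 4, 5],
  [6, 1, 2, 3, 2, 1, 6, 3, 2, 3, 2, 3, 5, 3, 4],
  [2, 3, 6, 1, 2, 3, 2, 1, 6, 0, 3, 2, 5, 3, 6, 1, 2, 3, 2, 1, 6, 0],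
  [2, 6, 1, 2, 3, 2, 1, 6, 0, 3, 2, 4, 3, 6, 1, 2, 3, 2, 1, 6],
  [6, 1, 2, 3, 2, 1, 6, 0, 3, 2, 6, 1, 2, 3, 2, 1, 6, 3, 2, 3],
  [4, 3, 6, 1, 2, 3, 2, 1, 6, 3, 2, 3, 2, 4, 3, 5],
  [2, 3, 5, 6, 1, 2, 3, 2, 1, 6, 3, 2, 4, 3, 6, 1, 2, 3, 2, 1, 6, 4],
  [2, 3, 6, 1, 2, 3, 2, 1, 6, 3, 4, 5, 3],
  [2, 6, 1, 2, 3, 2, 1, 6, 5, 6, 1, 2, 3, 2, 1, 6, 3, 2, 3],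
  [2, 3, 6, 1, 2, 3, 2, 1, 6, 3, 2, 4, 5, 3, 6, 1, 2, 3, 2, 1, 6, 0],
  [2, 3, 4, 5, 6, 1, 2, 3, 2, 1, 6, 3, 2, 6, 1, 2, 3, 2, 1, 6],
  [6, 1, 2, 3, 2, 1, 6, 3, 2, 3, 2, 6, 1, 2, 3, 2, 1, 6, 5, 3, 0, 1, 0, 1],
  [2, 6, 1, 2, 3, 2, 1, 6, 5, 6, 1, 2, 3, 2, 1, 6, 3, 2],
  [6, 1, 2, 3, 2, 1, 6, 3, 2, 3, 2, 3, 5, 3, 6, 1, 2, 3, 2, 1, 6, 0],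
  [6, 1, 2, 3, 2, 1, 6, 3, 2, 3, 2, 6, 1, 2, 3, 2, 1, 6, 5, 0, 1, 0, 1],
  [2, 3, 4, 5, 6, 1, 2, 3, 2, 1, 6, 3, 2, 6, 1, 2, 3, 2, 1, 6, 3],
  [6, 1, 2, 3, 2, 1, 6, 0, 3, 2, 6, 1, 2, 3, 2, 1, 6, 3, 2],
  [2, 3, 2, 3, 6, 1, 2, 3, 2, 1, 6, 3, 2, 4, 3, 2],
  [2, 3, 5, 0, 1, 0, 1, 2, 6, 1, 2, 3, 2, 1, 6, 3, 2, 3, 5],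
  [2, 3, 5, 6, 1, 2, 3, 2, 1, 6, 3, 2, 3, 5, 0, 1, 0, 1, 6, 1, 2, 3, 2, 1, 6],
  [2, 5, 6, 1, 2, 3, 2, 1, 6, 3, 2, 3, 2, 5, 6, 1, 2, 3, 2, 1, 6, 3],
  [2, 3, 6, 1, 2, 3, 2, 1, 6, 0, 3],
  [6, 1, 2, 3, 2, 1, 6, 3, 2, 3, 2, 5, 6, 1, 2, 3, 2, 1, 6, 3, 4],
  [2, 5, 3, 6, 1, 2, 3, 2, 1, 6, 3, 4],
  [2, 6, 1, 2, 3, 2, 1, 6, 3, 2, 3, 2],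
  [6, 1, 2, 3, 2, 1, 6, 3, 2, 3, 2, 5, 3],
  [2, 3, 6, 1, 2, 3, 2, 1, 6, 5, 3, 2, 4, 6, 1, 2, 3, 2, 1, 6, 3],
  [6, 1, 2, 3, 2, 1, 6, 3, 2, 3, 2, 6, 1, 2, 3, 2, 1, 6, 5, 3, 4],
  [2, 5, 6, 1, 2, 3, 2, 1, 6, 0, 3, 2, 5, 6, 1, 2, 3, 2, 1, 6],
  [2, 6, 1, 2, 3, 2, 1, 6, 3, 2, 4, 5, 6, 1, 2, 3, 2, 1, 6, 3, 4],
  [6, 1, 2, 3, 2, 1, 6, 3, 2, 3, 2, 6, 1, 2, 3, 2, 1, 6, 4, 5],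
  [2, 6, 1, 2, 3, 2, 1, 6, 3, 2, 6, 1, 2, 3, 2, 1, 6, 3, 2, 0, 1, 0, 1],
  [2, 5, 6, 1, 2, 3, 2, 1, 6, 3, 2, 6, 1, 2, 3, 2, 1, 6, 0, 3, 2],
  [2, 5, 6, 1, 2, 3, 2, 1, 6, 3, 2, 6, 1, 2, 3, 2, 1, 6, 3, 2, 5],
  [2, 6, 1, 2, 3, 2, 1, 6, 3, 2, 3, 6, 1, 2, 3, 2, 1, 6, 3, 2, 0, 1, 0, 1],
  [2, 4, 6, 1, 2, 3, 2, 1, 6, 3, 6, 1, 2, 3, 2, 1, 6, 4, 5],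
  [2, 5, 6, 1, 2, 3, 2, 1, 6, 3, 2, 6, 1, 2, 3, 2, 1, 6, 0, 3, 2, 5, 3],
  [2, 3, 4, 5, 3, 2, 0, 1, 0, 1, 6, 1, 2, 3, 2, 1, 6, 3, 2],
  [2, 6, 1, 2, 3, 2, 1, 6, 3, 2, 6, 1, 2, 3, 2, 1, 6, 3, 2, 5, 3],
  [2, 3, 5, 3, 6, 1, 2, 3, 2, 1, 6, 5, 6, 1, 2, 3, 2, 1, 6],
  [2, 6, 1, 2, 3, 2, 1, 6, 3, 4, 3, 6, 1, 2, 3, 2, 1, 6],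
  [2, 4, 5, 3, 6, 1, 2, 3, 2, 1, 6, 5, 6, 1, 2, 3, 2, 1, 6],
  [2, 6, 1, 2, 3, 2, 1, 6, 3, 2, 3, 6, 1, 2, 3, 2, 1, 6, 3, 2],
  [2, 5, 6, 1, 2, 3, 2, 1, 6, 3, 2, 6, 1, 2, 3, 2, 1, 6, 3, 2, 5, 0, 1, 0, 1],
  [2, 3, 2, 5, 6, 1, 2, 3, 2, 1, 6, 3, 2, 6, 1, 2, 3, 2, 1, 6, 4, 3, 6, 1, 2, 3, 2, 1, 6],
  [2, 6, 1, 2, 3, 2, 1, 6, 3, 6, 1, 2, 3, 2, 1, 6, 4],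
  [2, 5, 6, 1, 2, 3, 2, 1, 6, 3, 6, 1, 2, 3, 2, 1, 6, 5, 6, 1, 2, 3, 2, 1, 6],
  [2, 5, 6, 1, 2, 3, 2, 1, 6, 3, 2, 6, 1, 2, 3, 2, 1, 6, 0, 3, 2, 0, 1, 0, 1],
  [2, 6, 1, 2, 3, 2, 1, 6, 3, 2, 6, 1, 2, 3, 2, 1, 6, 3, 2],
  [2, 6, 1, 2, 3, 2, 1, 6, 3, 2, 6, 1, 2, 3, 2, 1, 6, 0, 3, 2, 0, 1, 0, 1],
  [2, 5, 6, 1, 2, 3, 2, 1, 6, 3, 2, 6, 1, 2, 3, 2, 1, 6, 3, 2],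
  [2, 6, 1, 2, 3, 2, 1, 6, 3, 2, 6, 1, 2, 3, 2, 1, 6, 3, 2, 5, 0, 1, 0, 1],
  [2, 6, 1, 2, 3, 2, 1, 6, 3, 4, 3, 6, 1, 2, 3, 2, 1, 6, 5],
  [2, 3, 6, 1, 2, 3, 2, 1, 6, 3, 5, 3, 2, 3, 2],
  [2, 5, 6, 1, 2, 3, 2, 1, 6, 3, 2, 6, 1, 2, 3, 2, 1, 6, 0, 3, 2, 5],
  [2, 5, 3, 6, 1, 2, 3, 2, 1, 6, 5, 6, 1, 2, 3, 2, 1, 6],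
  [2, 5, 6, 1, 2, 3, 2, 1, 6, 3, 2, 6, 1, 2, 3, 2, 1, 6, 3, 2, 5, 3, 0, 1, 0, 1],
  [2, 5, 6, 1, 2, 3, 2, 1, 6, 3, 2, 6, 1, 2, 3, 2, 1, 6, 3, 2, 5, 3],
  [2, 4, 6, 1, 2, 3, 2, 1, 6, 3, 2, 3, 6, 1, 2, 3, 2, 1, 6, 3, 2, 6, 1, 2, 3, 2, 1, 6],
  [2, 4, 6, 1, 2, 3, 2, 1, 6, 3, 6, 1, 2, 3, 2, 1, 6, 4],
  [2, 6, 1, 2, 3, 2, 1, 6, 3, 6, 1, 2, 3, 2, 1, 6, 4, 5],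
  [2, 6, 1, 2, 3, 2, 1, 6, 0, 3, 4, 6, 1, 2, 3, 2, 1, 6],
  [2, 5, 6, 1, 2, 3, 2, 1, 6, 3, 2, 6, 1, 2, 3, 2, 1, 6, 3, 2, 0, 1, 0, 1],
  [2, 3, 2, 3, 6, 1, 2, 3, 2, 1, 6, 3, 2, 3, 6, 1, 2, 3, 2, 1, 6],
  [2, 6, 1, 2, 3, 2, 1, 6, 5, 3, 4, 6, 1, 2, 3, 2, 1, 6],
  [2, 6, 1, 2, 3, 2, 1, 6, 3, 2, 6, 1, 2, 3, 2, 1, 6, 3, 2, 5],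
  [2, 6, 1, 2, 3, 2, 1, 6, 3, 2, 6, 1, 2, 3, 2, 1, 6, 0, 3, 2],
  [2, 3, 2, 3, 6, 1, 2, 3, 2, 1, 6, 0, 3, 2],
  [2, 3, 6, 1, 2, 3, 2, 1, 6, 0, 3, 2, 4, 3, 5],
  [2, 3, 2, 4, 6, 1, 2, 3, 2, 1, 6, 3, 2, 6, 1, 2, 3, 2, 1, 6, 5, 3, 2],
  [6, 1, 2, 3, 2, 1, 6, 0, 3, 2, 6, 1, 2, 3, 2, 1, 6, 3, 4],
  [2, 3, 5, 3, 0, 1, 0, 1, 6, 1, 2, 3, 2, 1, 6, 3, 2, 3, 4, 6, 1, 2, 3, 2, 1, 6],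
  [2, 6, 1, 2, 3, 2, 1, 6, 3, 0, 1, 0, 1, 2, 3, 6, 1, 2, 3, 2, 1, 6, 4],
  [2, 6, 1, 2, 3, 2, 1, 6, 3, 2, 4, 3, 5, 6, 1, 2, 3, 2, 1, 6, 3],
  [2, 5, 6, 1, 2, 3, 2, 1, 6, 3, 0, 1, 0, 1, 2, 3],
  [6, 1, 2, 3, 2, 1, 6, 0, 3, 2, 6, 1, 2, 3, 2, 1, 6, 3, 5],
  [2, 3, 5, 3, 6, 1, 2, 3, 2, 1, 6, 3, 6, 1, 2, 3, 2, 1, 6, 0, 1, 0, 1, 2, 3, 6, 1, 2, 3, 2, 1, 6],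
  [2, 5, 3, 6, 1, 2, 3, 2, 1, 6, 0, 3, 2, 4, 3],
  [2, 6, 1, 2, 3, 2, 1, 6, 3, 2, 6, 1, 2, 3, 2, 1, 6, 0, 3, 6, 1, 2, 3, 2, 1, 6, 5],
  [2, 3, 2, 5, 6, 1, 2, 3, 2, 1, 6, 3, 2, 6, 1, 2, 3, 2, 1, 6, 3, 4],
  [2, 5, 3, 6, 1, 2, 3, 2, 1, 6, 0, 3, 2, 3, 6, 1, 2, 3, 2, 1, 6],
  [2, 6, 1, 2, 3, 2, 1, 6, 3, 2, 3, 2, 6, 1, 2, 3, 2, 1, 6, 3, 2, 3],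
  [2, 3, 0, 1, 0, 1, 2, 6, 1, 2, 3, 2, 1, 6],
  [2, 3, 2, 3, 6, 1, 2, 3, 2, 1, 6, 3, 2, 6, 1, 2, 3, 2, 1, 6, 3, 2, 5],
  [2, 5, 3, 6, 1, 2, 3, 2, 1, 6, 0, 3, 2, 5],
  [6, 1, 2, 3, 2, 1, 6, 3, 2, 3, 5, 6, 1, 2, 3, 2, 1, 6, 5],
  [2, 5, 6, 1, 2, 3, 2, 1, 6, 0, 3, 2, 5, 3],
  [2, 3, 4, 5, 3, 6, 1, 2, 3, 2, 1, 6, 3, 2, 4, 3],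
  [2, 4, 6, 1, 2, 3, 2, 1, 6, 3, 2, 5, 6, 1, 2, 3, 2, 1, 6],
  [2, 5, 6, 1, 2, 3, 2, 1, 6, 3, 0, 1, 0, 1, 2],
  [2, 6, 1, 2, 3, 2, 1, 6, 3, 2, 4, 6, 1, 2, 3, 2, 1, 6, 3, 5, 6, 1, 2, 3, 2, 1, 6],
  [6, 1, 2, 3, 2, 1, 6, 3, 2, 3, 5, 6, 1, 2, 3, 2, 1, 6, 4],
  [5, 6, 1, 2, 3, 2, 1, 6, 3, 2, 3, 2, 5, 3, 2, 6, 1, 2, 3, 2, 1, 6],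
  [2, 5, 3, 6, 1, 2, 3, 2, 1, 6, 0, 3, 2, 4],
  [2, 3, 2, 3, 0, 1, 0, 1, 6, 1, 2, 3, 2, 1, 6, 3, 2, 3],
  [2, 3, 0, 1, 0, 1, 6, 1, 2, 3, 2, 1, 6, 3, 2, 3, 4, 5, 3],
  [2, 3, 2, 3, 6, 1, 2, 3, 2, 1, 6, 3, 2, 0, 1, 0, 1],
  [2, 3, 0, 1, 0, 1, 6, 1, 2, 3, 2, 1, 6, 3, 2, 3, 5],
  [2, 5, 6, 1, 2, 3, 2, 1, 6, 0, 3, 2, 3, 4, 3],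
  [2, 5, 3, 6, 1, 2, 3, 2, 1, 6, 3, 0, 1, 0, 1, 2, 3, 4],
  [2, 3, 0, 1, 0, 1, 2, 6, 1, 2, 3, 2, 1, 6, 3, 2, 3, 2, 5, 6, 1, 2, 3, 2, 1, 6],
  [6, 1, 2, 3, 2, 1, 6, 3, 2, 6, 1, 2, 3, 2, 1, 6, 3, 5, 6, 1, 2, 3, 2, 1, 6],
  [2, 6, 1, 2, 3, 2, 1, 6, 3, 2, 3, 5, 0, 1, 0, 1, 6, 1, 2, 3, 2, 1, 6, 3],
  [2, 3, 6, 1, 2, 3, 2, 1, 6, 3, 2, 6, 1, 2, 3, 2, 1, 6, 4, 5, 3, 2],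
  [2, 5, 3, 6, 1, 2, 3, 2, 1, 6, 3, 0, 1, 0, 1, 2],
  [2, 3, 6, 1, 2, 3, 2, 1, 6, 3, 2, 4, 3, 2, 6, 1, 2, 3, 2, 1, 6, 0, 5],
  [2, 5, 6, 1, 2, 3, 2, 1, 6, 0, 3, 2, 4],
  [5, 6, 1, 2, 3, 2, 1, 6, 0, 3, 2, 3, 5],
  [2, 6, 1, 2, 3, 2, 1, 6, 3, 4, 5, 3, 2, 3, 5, 6, 1, 2, 3, 2, 1, 6, 3],
  [2, 5, 6, 1, 2, 3, 2, 1, 6, 0, 3, 2, 3, 4, 5, 3],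
  [2, 5, 6, 1, 2, 3, 2, 1, 6, 3, 0, 1, 0, 1, 2, 3, 4],
  [2, 5, 3, 6, 1, 2, 3, 2, 1, 6, 0, 3, 2, 3, 4, 3],
  [6, 1, 2, 3, 2, 1, 6, 0, 3, 2, 6, 1, 2, 3, 2, 1, 6, 3, 4, 5],
  [2, 3, 2, 6, 1, 2, 3, 2, 1, 6, 3, 2, 3, 5, 3, 2, 6, 1, 2, 3, 2, 1, 6],
  [2, 3, 2, 6, 1, 2, 3, 2, 1, 6, 0],
  [2, 5, 6, 1, 2, 3, 2, 1, 6, 0, 3, 2, 5],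
  [2, 5, 3, 6, 1, 2, 3, 2, 1, 6, 0, 3, 2, 5, 3],
  [2, 3, 4, 5, 3, 6, 1, 2, 3, 2, 1, 6, 3, 2, 4],
  [5, 6, 1, 2, 3, 2, 1, 6, 0, 3, 2, 3, 4],
  [2, 4, 6, 1, 2, 3, 2, 1, 6, 3, 2, 5, 6, 1, 2, 3, 2, 1, 6, 3],
  [2, 3, 5, 3, 6, 1, 2, 3, 2, 1, 6, 0, 1, 0, 1, 2, 3, 2, 3],
  [2, 6, 1, 2, 3, 2, 1, 6, 5, 6, 1, 2, 3, 2, 1, 6, 3],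
  [6, 1, 2, 3, 2, 1, 6, 3, 2, 6, 1, 2, 3, 2, 1, 6, 3, 2, 0, 1, 0, 1, 6, 1, 2, 3, 2, 1, 6, 3],
  [2, 3, 5, 6, 1, 2, 3, 2, 1, 6, 3, 2, 3, 6, 1, 2, 3, 2, 1, 6, 3, 2],
  [2, 3, 5, 3, 2, 6, 1, 2, 3, 2, 1, 6, 4, 3, 2, 3],
  [2, 6, 1, 2, 3, 2, 1, 6, 5, 6, 1, 2, 3, 2, 1, 6, 3, 0, 1, 0, 1],
  [6, 1, 2, 3, 2, 1, 6, 3, 2, 3, 6, 1, 2, 3, 2, 1, 6, 4, 3, 2, 3],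
  [2, 3, 5, 6, 1, 2, 3, 2, 1, 6, 3, 2, 3, 6, 1, 2, 3, 2, 1, 6, 3, 2, 0, 1, 0, 1],
  [2, 3, 2, 6, 1, 2, 3, 2, 1, 6, 0, 3, 2, 5, 3, 2],
  [2, 3, 2, 4, 6, 1, 2, 3, 2, 1, 6, 5],
  [6, 1, 2, 3, 2, 1, 6, 3, 2, 3, 2, 5, 3, 6, 1, 2, 3, 2, 1, 6],
  [2, 3, 6, 1, 2, 3, 2, 1, 6, 3, 2, 6, 1, 2, 3, 2, 1, 6, 5, 3, 6, 1, 2, 3, 2, 1, 6, 0],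
  [2, 5, 6, 1, 2, 3, 2, 1, 6, 3, 4],
  [2, 5, 6, 1, 2, 3, 2, 1, 6, 3, 2, 3, 2, 6, 1, 2, 3, 2, 1, 6, 4, 3],
  [2, 3, 0, 1, 0, 1, 6, 1, 2, 3, 2, 1, 6, 5, 6, 1, 2, 3, 2, 1, 6, 3, 2, 3, 2],
  [2, 5, 6, 1, 2, 3, 2, 1, 6, 3, 5],
  [2, 3, 6, 1, 2, 3, 2, 1, 6, 5, 3, 2, 0, 1, 0, 1, 6, 1, 2, 3, 2, 1, 6, 3, 4],
  [6, 1, 2, 3, 2, 1, 6, 0, 3, 2, 3, 2, 5, 3, 4],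
  [6, 1, 2, 3, 2, 1, 6, 3, 2, 3, 2, 3, 4],
  [2, 3, 2, 3, 6, 1, 2, 3, 2, 1, 6, 3, 2, 4, 3, 5, 3],
  [2, 3, 6, 1, 2, 3, 2, 1, 6, 3, 2, 3, 4, 5],
  [2, 3, 2, 5, 6, 1, 2, 3, 2, 1, 6, 3, 2, 6, 1, 2, 3, 2, 1, 6, 3, 0, 1, 0, 1],
  [2, 5, 3, 6, 1, 2, 3, 2, 1, 6, 3, 2, 3, 0, 1, 0, 1, 6, 1, 2, 3, 2, 1, 6, 5],
  [2, 3, 2, 3, 6, 1, 2, 3, 2, 1, 6, 5, 6, 1, 2, 3, 2, 1, 6, 3, 2, 3, 6, 1, 2, 3, 2, 1, 6],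
  [2, 3, 2, 6, 1, 2, 3, 2, 1, 6, 3, 0, 1, 0, 1, 2, 3, 2, 6, 1, 2, 3, 2, 1, 6],
  [2, 3, 6, 1, 2, 3, 2, 1, 6, 3, 5],
  [2, 3, 2, 3, 6, 1, 2, 3, 2, 1, 6, 3, 2, 3],
  [2, 3, 6, 1, 2, 3, 2, 1, 6, 3, 2, 4, 3, 5, 3],
  [2, 3, 2, 3, 6, 1, 2, 3, 2, 1, 6, 3, 2, 4],
  [2, 3, 6, 1, 2, 3, 2, 1, 6, 3, 2, 3, 4, 3, 5],
  [2, 3, 2, 3, 6, 1, 2, 3, 2, 1, 6, 3, 2, 5],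
  [2, 3, 6, 1, 2, 3, 2, 1, 6, 3, 2, 4, 3],
  [2, 3, 2, 3, 6, 1, 2, 3, 2, 1, 6, 0, 3, 2, 3, 6, 1, 2, 3, 2, 1, 6],
  [2, 5, 3, 6, 1, 2, 3, 2, 1, 6, 0, 3, 2, 3, 6, 1, 2, 3, 2, 1, 6, 0, 1, 0, 1],
  [2, 3, 4, 5, 3, 6, 1, 2, 3, 2, 1, 6, 0, 1, 0, 1, 2, 3, 2] ]
def cp3 : List (List ℕ) := [
  [2, 3, 2, 5, 6, 1, 2, 3, 2, 1, 6, 3, 6, 1, 2, 3, 2, 1, 6, 0, 1, 0, 1, 2, 3, 4],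
  [2, 3, 0, 1, 0, 1, 6, 1, 2, 3, 2, 1, 6, 3, 2, 3, 2, 6, 1, 2, 3, 2, 1, 6, 5],
  [2, 3, 6, 1, 2, 3, 2, 1, 6, 3, 2, 6, 1, 2, 3, 2, 1, 6, 3, 2, 4, 6, 1, 2, 3, 2, 1, 6],
  [2, 3, 2, 3, 6, 1, 2, 3, 2, 1, 6, 3, 2, 3, 4, 6, 1, 2, 3, 2, 1, 6],
  [2, 6, 1, 2, 3, 2, 1, 6, 3, 6, 1, 2, 3, 2, 1, 6, 5, 3, 2, 3, 6, 1, 2, 3, 2, 1, 6],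
  [2, 3, 2, 3, 6, 1, 2, 3, 2, 1, 6, 0, 3, 2, 3, 6, 1, 2, 3, 2, 1, 6, 5],
  [2, 3, 4, 5, 3, 6, 1, 2, 3, 2, 1, 6, 3, 2, 3, 6, 1, 2, 3, 2, 1, 6, 3],
  [2, 3, 0, 1, 0, 1, 6, 1, 2, 3, 2, 1, 6, 3, 2, 3, 2, 3],
  [2, 3, 2, 3, 6, 1, 2, 3, 2, 1, 6, 3, 2, 6, 1, 2, 3, 2, 1, 6, 3, 2, 6, 1, 2, 3, 2, 1, 6, 4],
  [2, 3, 6, 1, 2, 3, 2, 1, 6, 0, 1, 0, 1, 2, 3],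
  [2, 3, 2, 6, 1, 2, 3, 2, 1, 6, 3, 2, 3, 5, 3, 0, 1, 0, 1, 2],
  [2, 3, 2, 0, 1, 0, 1, 6, 1, 2, 3, 2, 1, 6],
  [2, 3, 2, 4, 6, 1, 2, 3, 2, 1, 6, 3, 2, 6, 1, 2, 3, 2, 1, 6, 3, 2],
  [2, 3, 6, 1, 2, 3, 2, 1, 6, 5, 0, 1, 0, 1, 2],
  [2, 5, 3, 6, 1, 2, 3, 2, 1, 6, 3, 2],
  [2, 5, 6, 1, 2, 3, 2, 1, 6, 3, 2, 3, 5, 3],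
  [5, 6, 1, 2, 3, 2, 1, 6, 3, 2, 3, 5, 6, 1, 2, 3, 2, 1, 6],
  [2, 5, 6, 1, 2, 3, 2, 1, 6, 3, 2, 0, 1, 0, 1],
  [2, 3, 6, 1, 2, 3, 2, 1, 6, 3, 0, 1, 0, 1, 2, 3, 2, 6, 1, 2, 3, 2, 1, 6, 5],
  [2, 3, 6, 1, 2, 3, 2, 1, 6, 3, 4, 5],
  [2, 3, 5, 6, 1, 2, 3, 2, 1, 6, 3, 2, 6, 1, 2, 3, 2, 1, 6, 3, 4, 6, 1, 2, 3, 2, 1, 6],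
  [2, 5, 3, 6, 1, 2, 3, 2, 1, 6, 3, 4, 5],
  [6, 1, 2, 3, 2, 1, 6, 3, 2, 3, 2, 5, 6, 1, 2, 3, 2, 1, 6, 3, 4, 5],
  [2, 3, 5, 6, 1, 2, 3, 2, 1, 6, 3, 2, 6, 1, 2, 3, 2, 1, 6, 0, 3, 6, 1, 2, 3, 2, 1, 6],
  [2, 3, 6, 1, 2, 3, 2, 1, 6, 0, 3, 5],
  [2, 3, 6, 1, 2, 3, 2, 1, 6, 3, 2, 3, 5, 3, 6, 1, 2, 3, 2, 1, 6, 3],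
  [2, 3, 2, 3, 6, 1, 2, 3, 2, 1, 6, 3, 0, 1, 0, 1, 2, 3, 4],
  [6, 1, 2, 3, 2, 1, 6, 3, 2, 3, 2, 5, 3, 6, 1, 2, 3, 2, 1, 6, 5, 6, 1, 2, 3, 2, 1, 6],
  [2, 3, 2, 3, 6, 1, 2, 3, 2, 1, 6, 3, 0, 1, 0, 1, 2, 3, 5],
  [6, 1, 2, 3, 2, 1, 6, 3, 2, 3, 2, 6, 1, 2, 3, 2, 1, 6, 5, 3, 0, 1, 0, 1, 6, 1, 2, 3, 2, 1, 6],
  [2, 3, 2, 3, 0, 1, 0, 1, 6, 1, 2, 3, 2, 1, 6, 3, 2, 3, 4],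
  [2, 3, 2, 3, 6, 1, 2, 3, 2, 1, 6, 0, 3, 2, 3, 0, 1, 0, 1],
  [2, 3, 6, 1, 2, 3, 2, 1, 6, 3, 5, 0, 1, 0, 1, 2, 3, 5],
  [2, 3, 2, 4, 5, 6, 1, 2, 3, 2, 1, 6, 3, 2, 0, 1, 0, 1],
  [2, 3, 6, 1, 2, 3, 2, 1, 6, 3, 0, 1, 0, 1, 2, 3],
  [2, 3, 2, 3, 6, 1, 2, 3, 2, 1, 6, 3, 2, 4, 5],
  [2, 3, 6, 1, 2, 3, 2, 1, 6, 3, 2, 3, 4, 3],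
  [5, 6, 1, 2, 3, 2, 1, 6, 3, 2, 3, 4, 6, 1, 2, 3, 2, 1, 6, 5],
  [2, 5, 3, 6, 1, 2, 3, 2, 1, 6, 3, 2, 3, 4, 5],
  [2, 5, 6, 1, 2, 3, 2, 1, 6, 3, 2, 3, 4],
  [2, 4, 6, 1, 2, 3, 2, 1, 6, 3, 2, 5, 3, 6, 1, 2, 3, 2, 1, 6, 4],
  [2, 5, 3, 6, 1, 2, 3, 2, 1, 6, 3, 2, 3, 4, 0, 1, 0, 1],
  [2, 3, 2, 6, 1, 2, 3, 2, 1, 6, 3, 2, 5, 3, 2, 4],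
  [2, 3, 2, 6, 1, 2, 3, 2, 1, 6, 5],
  [2, 5, 6, 1, 2, 3, 2, 1, 6, 3, 2],
  [2, 4, 6, 1, 2, 3, 2, 1, 6, 3, 2, 5, 3, 6, 1, 2, 3, 2, 1, 6, 3],
  [5, 6, 1, 2, 3, 2, 1, 6, 3, 2, 3, 4, 5],
  [2, 5, 3, 6, 1, 2, 3, 2, 1, 6, 3, 2, 3, 5, 3],
  [2, 5, 3, 6, 1, 2, 3, 2, 1, 6, 3, 2, 0, 1, 0, 1],
  [2, 5, 3, 6, 1, 2, 3, 2, 1, 6, 3, 2, 3, 4],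
  [2, 5, 6, 1, 2, 3, 2, 1, 6, 3, 2, 3, 4, 0, 1, 0, 1],
  [2, 5, 6, 1, 2, 3, 2, 1, 6, 3, 2, 3, 4, 5],
  [2, 5, 3, 6, 1, 2, 3, 2, 1, 6, 3, 2, 3, 4, 5, 0, 1, 0, 1],
  [5, 6, 1, 2, 3, 2, 1, 6, 3, 2, 3, 4, 6, 1, 2, 3, 2, 1, 6],
  [2, 3, 2, 6, 1, 2, 3, 2, 1, 6, 3],
  [2, 3, 2, 6, 1, 2, 3, 2, 1, 6, 3, 2, 3, 5, 3, 2, 4, 3],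
  [2, 3, 2, 6, 1, 2, 3, 2, 1, 6, 3, 2, 3, 5, 3, 2],
  [2, 3, 2, 6, 1, 2, 3, 2, 1, 6, 4],
  [2, 3, 6, 1, 2, 3, 2, 1, 6, 0, 3, 2, 5, 3],
  [2, 6, 1, 2, 3, 2, 1, 6, 3, 2, 6, 1, 2, 3, 2, 1, 6, 0, 3, 2, 6, 1, 2, 3, 2, 1, 6, 5],
  [2, 4, 6, 1, 2, 3, 2, 1, 6, 3, 2, 6, 1, 2, 3, 2, 1, 6, 3, 4, 5],
  [2, 6, 1, 2, 3, 2, 1, 6, 0, 3, 2, 4, 6, 1, 2, 3, 2, 1, 6, 3, 5],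
  [6, 1, 2, 3, 2, 1, 6, 3, 2, 3, 2, 3, 5, 3, 2, 0, 1, 0, 1],
  [2, 4, 6, 1, 2, 3, 2, 1, 6, 5, 6, 1, 2, 3, 2, 1, 6, 3, 4],
  [2, 3, 5, 6, 1, 2, 3, 2, 1, 6, 3, 2, 3, 6, 1, 2, 3, 2, 1, 6, 3, 0, 1, 0, 1, 2],
  [4, 3, 6, 1, 2, 3, 2, 1, 6, 3, 2, 3, 2, 6, 1, 2, 3, 2, 1, 6, 3, 4],
  [6, 1, 2, 3, 2, 1, 6, 3, 2, 3, 4, 6, 1, 2, 3, 2, 1, 6, 3, 2, 3, 4],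
  [2, 3, 6, 1, 2, 3, 2, 1, 6, 5, 6, 1, 2, 3, 2, 1, 6, 3, 6, 1, 2, 3, 2, 1, 6],
  [6, 1, 2, 3, 2, 1, 6, 3, 2, 3, 2, 3, 5, 3, 2],
  [2, 3, 5, 3, 2, 4, 6, 1, 2, 3, 2, 1, 6, 3, 2, 3, 6, 1, 2, 3, 2, 1, 6],
  [4, 3, 6, 1, 2, 3, 2, 1, 6, 3, 2, 3, 2, 6, 1, 2, 3, 2, 1, 6, 3, 5],
  [6, 1, 2, 3, 2, 1, 6, 3, 2, 3, 2, 4, 5, 3, 2],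
  [6, 1, 2, 3, 2, 1, 6, 3, 2, 3, 2, 6, 1, 2, 3, 2, 1, 6, 5, 3, 2, 0, 1, 0, 1],
  [6, 1, 2, 3, 2, 1, 6, 3, 2, 3, 2, 6, 1, 2, 3, 2, 1, 6, 5, 3, 2],
  [6, 1, 2, 3, 2, 1, 6, 3, 2, 3, 4, 6, 1, 2, 3, 2, 1, 6, 3, 2, 3, 5],
  [2, 6, 1, 2, 3, 2, 1, 6, 3, 4, 5, 6, 1, 2, 3, 2, 1, 6],
  [2, 5, 6, 1, 2, 3, 2, 1, 6, 5, 6, 1, 2, 3, 2, 1, 6, 3, 5],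
  [6, 1, 2, 3, 2, 1, 6, 3, 2, 3, 2, 5, 3, 2, 4],
  [2, 3, 2, 3, 6, 1, 2, 3, 2, 1, 6, 3, 2, 6, 1, 2, 3, 2, 1, 6, 3, 2],
  [2, 3, 0, 1, 0, 1, 2, 6, 1, 2, 3, 2, 1, 6, 5],
  [6, 1, 2, 3, 2, 1, 6, 3, 2, 3, 2, 5, 3, 0, 1, 0, 1, 6, 1, 2, 3, 2, 1, 6],
  [6, 1, 2, 3, 2, 1, 6, 3, 2, 3, 2, 5, 3, 4, 6, 1, 2, 3, 2, 1, 6],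
  [6, 1, 2, 3, 2, 1, 6, 3, 2, 3, 2, 5, 3, 6, 1, 2, 3, 2, 1, 6, 3],
  [6, 1, 2, 3, 2, 1, 6, 3, 2, 3, 2, 5, 3, 6, 1, 2, 3, 2, 1, 6, 0, 1, 0, 1],
  [2, 5, 6, 1, 2, 3, 2, 1, 6, 3, 4, 3],
  [2, 3, 5, 6, 1, 2, 3, 2, 1, 6, 3, 2, 3, 2, 3],
  [6, 1, 2, 3, 2, 1, 6, 3, 2, 3, 2, 0, 1, 0, 1, 6, 1, 2, 3, 2, 1, 6],
  [2, 3, 6, 1, 2, 3, 2, 1, 6, 3, 2, 3, 4, 5, 3, 6, 1, 2, 3, 2, 1, 6],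
  [2, 3, 0, 1, 0, 1, 6, 1, 2, 3, 2, 1, 6, 3, 2, 5, 3, 6, 1, 2, 3, 2, 1, 6],
  [2, 6, 1, 2, 3, 2, 1, 6, 3, 5, 6, 1, 2, 3, 2, 1, 6, 0, 1, 0, 1],
  [2, 3, 6, 1, 2, 3, 2, 1, 6, 0, 3, 2, 3, 4, 5, 3],
  [6, 1, 2, 3, 2, 1, 6, 3, 2, 6, 1, 2, 3, 2, 1, 6, 3, 2, 4, 5, 3, 2],
  [2, 3, 6, 1, 2, 3, 2, 1, 6, 0, 5],
  [2, 5, 6, 1, 2, 3, 2, 1, 6, 3, 2, 3, 0, 1, 0, 1, 2, 3],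
  [2, 5, 3, 6, 1, 2, 3, 2, 1, 6, 0, 1, 0, 1, 2, 3, 2, 5, 3, 4],
  [2, 6, 1, 2, 3, 2, 1, 6, 3, 2, 3, 4, 6, 1, 2, 3, 2, 1, 6, 3],
  [2, 4, 6, 1, 2, 3, 2, 1, 6, 3, 4, 5],
  [2, 3, 6, 1, 2, 3, 2, 1, 6, 3, 2, 3, 4, 5, 3, 2],
  [2, 6, 1, 2, 3, 2, 1, 6, 3, 0, 1, 0, 1, 2, 6, 1, 2, 3, 2, 1, 6, 5, 3, 4],
  [2, 3, 2, 4, 6, 1, 2, 3, 2, 1, 6, 3, 2, 6, 1, 2, 3, 2, 1, 6, 3, 6, 1, 2, 3, 2, 1, 6, 5],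
  [2, 3, 5, 0, 1, 0, 1, 2, 6, 1, 2, 3, 2, 1, 6, 3, 2, 3, 2],
  [2, 5, 6, 1, 2, 3, 2, 1, 6, 3, 2, 6, 1, 2, 3, 2, 1, 6, 0, 3, 6, 1, 2, 3, 2, 1, 6, 0, 1, 0, 1, 2],
  [2, 6, 1, 2, 3, 2, 1, 6, 5, 6, 1, 2, 3, 2, 1, 6, 3, 0, 1, 0, 1, 2, 3, 6, 1, 2, 3, 2, 1, 6],
  [2, 3, 6, 1, 2, 3, 2, 1, 6, 4, 3, 2, 3, 6, 1, 2, 3, 2, 1, 6, 3, 5],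
  [2, 5, 3, 6, 1, 2, 3, 2, 1, 6, 0, 1, 0, 1, 2, 3, 2, 5],
  [2, 6, 1, 2, 3, 2, 1, 6, 3, 0, 1, 0, 1, 2, 6, 1, 2, 3, 2, 1, 6, 5],
  [2, 6, 1, 2, 3, 2, 1, 6, 0, 3, 2, 6, 1, 2, 3, 2, 1, 6, 3, 4, 5],
  [2, 3, 5, 3, 6, 1, 2, 3, 2, 1, 6, 4],
  [2, 3, 6, 1, 2, 3, 2, 1, 6, 3, 2, 5, 3, 6, 1, 2, 3, 2, 1, 6, 5, 3, 2],
  [2, 3, 2, 4, 6, 1, 2, 3, 2, 1, 6, 3, 2, 6, 1, 2, 3, 2, 1, 6, 3, 6, 1, 2, 3, 2, 1, 6],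
  [2, 3, 6, 1, 2, 3, 2, 1, 6, 4, 3, 2, 3, 6, 1, 2, 3, 2, 1, 6, 3],
  [2, 3, 5, 0, 1, 0, 1, 2, 6, 1, 2, 3, 2, 1, 6, 3, 2, 3, 2, 5],
  [2, 6, 1, 2, 3, 2, 1, 6, 3, 2, 5, 0, 1, 0, 1, 6, 1, 2, 3, 2, 1, 6, 3, 2, 6, 1, 2, 3, 2, 1, 6],
  [2, 5, 6, 1, 2, 3, 2, 1, 6, 0, 3, 2, 3, 6, 1, 2, 3, 2, 1, 6, 0],
  [2, 4, 5, 3, 6, 1, 2, 3, 2, 1, 6, 3, 2, 3, 4, 6, 1, 2, 3, 2, 1, 6],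
  [2, 3, 2, 6, 1, 2, 3, 2, 1, 6, 5, 6, 1, 2, 3, 2, 1, 6, 3, 0, 1, 0, 1, 2, 3, 6, 1, 2, 3, 2, 1, 6],
  [2, 4, 6, 1, 2, 3, 2, 1, 6, 3, 2, 6, 1, 2, 3, 2, 1, 6, 3, 2, 6, 1, 2, 3, 2, 1, 6, 3, 4],
  [2, 3, 5, 6, 1, 2, 3, 2, 1, 6, 3, 2, 5, 6, 1, 2, 3, 2, 1, 6, 3, 2],
  [2, 5, 6, 1, 2, 3, 2, 1, 6, 3, 2, 5, 3, 6, 1, 2, 3, 2, 1, 6, 0, 1, 0, 1],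
  [2, 3, 2, 6, 1, 2, 3, 2, 1, 6, 3, 2, 5, 3, 6, 1, 2, 3, 2, 1, 6, 0, 1, 0, 1],
  [2, 6, 1, 2, 3, 2, 1, 6, 3, 2, 6, 1, 2, 3, 2, 1, 6, 3, 6, 1, 2, 3, 2, 1, 6, 3, 0, 1, 0, 1],
  [2, 3, 5, 6, 1, 2, 3, 2, 1, 6, 3, 2, 4, 3, 2, 5, 3],
  [2, 3, 2, 6, 1, 2, 3, 2, 1, 6, 0, 3, 2, 3, 6, 1, 2, 3, 2, 1, 6, 0, 3],
  [2, 5, 6, 1, 2, 3, 2, 1, 6, 3, 2, 3, 4, 6, 1, 2, 3, 2, 1, 6],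
  [2, 5, 3, 2, 6, 1, 2, 3, 2, 1, 6, 4, 3, 2, 3],
  [2, 3, 4, 6, 1, 2, 3, 2, 1, 6, 3, 2],
  [2, 3, 5, 3, 6, 1, 2, 3, 2, 1, 6, 5],
  [2, 6, 1, 2, 3, 2, 1, 6, 0, 3, 2, 6, 1, 2, 3, 2, 1, 6, 3],
  [2, 5, 3, 2, 6, 1, 2, 3, 2, 1, 6, 4, 3, 2, 0, 1, 0, 1],
  [2, 3, 5, 3, 2, 3, 6, 1, 2, 3, 2, 1, 6, 3, 2, 3, 4],
  [2, 6, 1, 2, 3, 2, 1, 6, 3, 2, 3, 4, 6, 1, 2, 3, 2, 1, 6, 0, 1, 0, 1],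
  [2, 6, 1, 2, 3, 2, 1, 6, 3, 2, 3, 4, 6, 1, 2, 3, 2, 1, 6, 5],
  [2, 5, 6, 1, 2, 3, 2, 1, 6, 3, 5, 6, 1, 2, 3, 2, 1, 6, 3],
  [2, 3, 6, 1, 2, 3, 2, 1, 6, 3, 2, 3, 4, 5, 3, 2, 3, 0, 1, 0, 1],
  [2, 3, 2, 6, 1, 2, 3, 2, 1, 6, 3, 2, 3, 2, 5],
  [2, 3, 5, 6, 1, 2, 3, 2, 1, 6, 3, 2, 3, 4, 3, 2],
  [2, 3, 2, 6, 1, 2, 3, 2, 1, 6, 5, 6, 1, 2, 3, 2, 1, 6, 3, 2, 6, 1, 2, 3, 2, 1, 6, 3, 6, 1, 2, 3, 2, 1, 6],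
  [2, 5, 6, 1, 2, 3, 2, 1, 6, 3, 2, 3, 0, 1, 0, 1, 6, 1, 2, 3, 2, 1, 6, 5, 3],
  [2, 3, 2, 6, 1, 2, 3, 2, 1, 6, 3, 2, 3, 4, 6, 1, 2, 3, 2, 1, 6, 5],
  [2, 3, 5, 3, 2, 3, 6, 1, 2, 3, 2, 1, 6, 3, 2],
  [2, 6, 1, 2, 3, 2, 1, 6, 0, 3, 2, 6, 1, 2, 3, 2, 1, 6, 5],
  [2, 3, 4, 6, 1, 2, 3, 2, 1, 6, 3, 2, 3, 5],
  [2, 3, 5, 3, 6, 1, 2, 3, 2, 1, 6, 0, 1, 0, 1],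
  [2, 5, 3, 2, 6, 1, 2, 3, 2, 1, 6, 4, 3, 2, 3, 5, 0, 1, 0, 1],
  [2, 5, 3, 2, 6, 1, 2, 3, 2, 1, 6, 4, 3, 2, 3, 5],
  [2, 3, 4, 6, 1, 2, 3, 2, 1, 6, 3, 2, 5],
  [2, 6, 1, 2, 3, 2, 1, 6, 0, 3, 2, 6, 1, 2, 3, 2, 1, 6, 3, 5],
  [2, 3, 5, 3, 6, 1, 2, 3, 2, 1, 6],
  [2, 3, 5, 3, 2, 3, 6, 1, 2, 3, 2, 1, 6, 3, 2, 0, 1, 0, 1],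
  [2, 3, 2, 6, 1, 2, 3, 2, 1, 6, 3, 2, 3, 4, 6, 1, 2, 3, 2, 1, 6, 3, 5],
  [2, 3, 6, 1, 2, 3, 2, 1, 6, 3, 2, 3, 0, 1, 0, 1, 2],
  [2, 3, 6, 1, 2, 3, 2, 1, 6, 0, 3, 2, 3, 2, 5],
  [2, 3, 2, 0, 1, 0, 1, 6, 1, 2, 3, 2, 1, 6, 3, 2, 6, 1, 2, 3, 2, 1, 6, 3, 6, 1, 2, 3, 2, 1, 6, 0],
  [2, 3, 5, 3, 0, 1, 0, 1, 6, 1, 2, 3, 2, 1, 6, 3, 2, 6, 1, 2, 3, 2, 1, 6, 3, 6, 1, 2, 3, 2, 1, 6, 3],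
  [2, 3, 6, 1, 2, 3, 2, 1, 6, 0, 3, 2, 4, 3, 2],
  [2, 3, 6, 1, 2, 3, 2, 1, 6, 3, 2, 4, 3, 2, 5, 0, 1, 0, 1],
  [2, 3, 6, 1, 2, 3, 2, 1, 6, 3, 2, 6, 1, 2, 3, 2, 1, 6, 3, 2, 6, 1, 2, 3, 2, 1, 6, 3, 6, 1, 2, 3, 2, 1, 6],
  [2, 5, 3, 6, 1, 2, 3, 2, 1, 6, 3, 2, 4, 3, 6, 1, 2, 3, 2, 1, 6],
  [2, 3, 5, 6, 1, 2, 3, 2, 1, 6, 0, 1, 0, 1, 2, 3, 2, 3, 6, 1, 2, 3, 2, 1, 6, 0],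
  [2, 3, 0, 1, 0, 1, 6, 1, 2, 3, 2, 1, 6, 3, 2, 5, 3, 2],
  [2, 5, 6, 1, 2, 3, 2, 1, 6, 3, 2, 5, 3, 6, 1, 2, 3, 2, 1, 6, 4],
  [2, 5, 6, 1, 2, 3, 2, 1, 6, 3, 2, 5, 3, 6, 1, 2, 3, 2, 1, 6, 5],
  [2, 4, 6, 1, 2, 3, 2, 1, 6, 3, 2, 6, 1, 2, 3, 2, 1, 6, 3, 2, 6, 1, 2, 3, 2, 1, 6, 3],
  [2, 5, 6, 1, 2, 3, 2, 1, 6, 3, 2, 5, 3, 4, 0, 1, 0, 1, 6, 1, 2, 3, 2, 1, 6],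
  [2, 5, 3, 6, 1, 2, 3, 2, 1, 6, 3, 2, 4, 3, 6, 1, 2, 3, 2, 1, 6, 0, 1, 0, 1],
  [2, 3, 6, 1, 2, 3, 2, 1, 6, 0, 1, 0, 1, 2, 3, 2, 3, 6, 1, 2, 3, 2, 1, 6, 5, 6, 1, 2, 3, 2, 1, 6],
  [2, 3, 2, 6, 1, 2, 3, 2, 1, 6, 0, 3, 2, 3, 0, 1, 0, 1, 2],
  [2, 3, 2, 6, 1, 2, 3, 2, 1, 6, 3, 2, 5, 3, 6, 1, 2, 3, 2, 1, 6, 3],
  [2, 6, 1, 2, 3, 2, 1, 6, 3, 2, 6, 1, 2, 3, 2, 1, 6, 3, 6, 1, 2, 3, 2, 1, 6],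
  [2, 3, 2, 6, 1, 2, 3, 2, 1, 6, 3, 2, 3, 0, 1, 0, 1, 6, 1, 2, 3, 2, 1, 6],
  [2, 3, 5, 6, 1, 2, 3, 2, 1, 6, 3, 2, 3, 5, 3, 2, 4],
  [2, 3, 5, 3, 6, 1, 2, 3, 2, 1, 6, 0, 3, 2, 3],
  [2, 6, 1, 2, 3, 2, 1, 6, 3, 5, 6, 1, 2, 3, 2, 1, 6, 3, 2, 3],
  [2, 3, 4, 6, 1, 2, 3, 2, 1, 6, 3, 2, 3, 2, 6, 1, 2, 3, 2, 1, 6],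
  [2, 6, 1, 2, 3, 2, 1, 6, 3, 2, 3, 2, 6, 1, 2, 3, 2, 1, 6, 0, 3, 5],
  [2, 3, 5, 6, 1, 2, 3, 2, 1, 6, 0],
  [2, 5, 6, 1, 2, 3, 2, 1, 6, 3, 2, 3, 2, 6, 1, 2, 3, 2, 1, 6, 0, 1, 0, 1],
  [2, 5, 6, 1, 2, 3, 2, 1, 6, 3, 5, 6, 1, 2, 3, 2, 1, 6, 3, 2, 6, 1, 2, 3, 2, 1, 6, 3],
  [2, 3, 5, 3, 6, 1, 2, 3, 2, 1, 6, 3, 2, 6, 1, 2, 3, 2, 1, 6, 4, 3],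
  [2, 3, 0, 1, 0, 1, 6, 1, 2, 3, 2, 1, 6, 3, 2, 3, 2, 3, 6, 1, 2, 3, 2, 1, 6],
  [2, 3, 0, 1, 0, 1, 6, 1, 2, 3, 2, 1, 6, 3, 2, 3, 2, 3, 4],
  [2, 3, 2, 6, 1, 2, 3, 2, 1, 6, 3, 0, 1, 0, 1, 2, 3, 6, 1, 2, 3, 2, 1, 6],
  [2, 3, 6, 1, 2, 3, 2, 1, 6, 3, 2, 5],
  [2, 3, 2, 4, 5, 6, 1, 2, 3, 2, 1, 6, 3, 2],
  [2, 3, 6, 1, 2, 3, 2, 1, 6, 0, 3, 2, 4, 3],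
  [2, 3, 2, 4, 5, 6, 1, 2, 3, 2, 1, 6, 3, 2, 3, 5],
  [2, 3, 5, 6, 1, 2, 3, 2, 1, 6, 3, 2, 5, 6, 1, 2, 3, 2, 1, 6],
  [5, 6, 1, 2, 3, 2, 1, 6, 3, 2, 3, 2, 3, 4, 5, 3],
  [2, 3, 0, 1, 0, 1, 6, 1, 2, 3, 2, 1, 6, 3, 5],
  [2, 3, 0, 1, 0, 1, 6, 1, 2, 3, 2, 1, 6, 5, 3],
  [5, 6, 1, 2, 3, 2, 1, 6, 3, 2, 3, 2, 3, 4],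
  [2, 6, 1, 2, 3, 2, 1, 6, 0, 5, 3, 6, 1, 2, 3, 2, 1, 6, 3, 2, 3],
  [2, 5, 3, 6, 1, 2, 3, 2, 1, 6, 0, 3, 2, 3, 2],
  [5, 6, 1, 2, 3, 2, 1, 6, 3, 2, 3, 2],
  [2, 6, 1, 2, 3, 2, 1, 6, 5, 3, 6, 1, 2, 3, 2, 1, 6],
  [5, 6, 1, 2, 3, 2, 1, 6, 3, 2, 3, 0, 1, 0, 1, 2, 3],
  [2, 3, 6, 1, 2, 3, 2, 1, 6, 4, 5],
  [2, 3, 6, 1, 2, 3, 2, 1, 6, 0, 3, 2, 3, 4, 5, 3, 2, 3],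
  [2, 6, 1, 2, 3, 2, 1, 6, 0, 3, 2, 3, 6, 1, 2, 3, 2, 1, 6, 4],
  [2, 6, 1, 2, 3, 2, 1, 6, 3, 4, 3, 5, 3],
  [2, 4, 5, 3, 2, 6, 1, 2, 3, 2, 1, 6, 3, 2, 4, 5, 3, 4],
  [2, 3, 6, 1, 2, 3, 2, 1, 6, 4, 3, 2, 5, 3, 4],
  [2, 3, 5, 0, 1, 0, 1, 6, 1, 2, 3, 2, 1, 6, 3, 2, 3, 2],
  [2, 3, 6, 1, 2, 3, 2, 1, 6, 3, 2, 3, 2, 3, 5, 0, 1, 0, 1],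
  [2, 5, 6, 1, 2, 3, 2, 1, 6, 3, 2, 6, 1, 2, 3, 2, 1, 6, 3, 6, 1, 2, 3, 2, 1, 6, 4],
  [2, 6, 1, 2, 3, 2, 1, 6, 3, 2, 6, 1, 2, 3, 2, 1, 6, 4, 3, 2, 0, 1, 0, 1, 6, 1, 2, 3, 2, 1, 6],
  [6, 1, 2, 3, 2, 1, 6, 3, 2, 3, 4, 6, 1, 2, 3, 2, 1, 6, 3, 2, 3, 2],
  [2, 3, 2, 4, 6, 1, 2, 3, 2, 1, 6, 3, 2, 6, 1, 2, 3, 2, 1, 6, 3],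
  [2, 3, 2, 6, 1, 2, 3, 2, 1, 6, 0, 3, 2, 3, 5, 3],
  [6, 1, 2, 3, 2, 1, 6, 0, 3, 2, 3, 2, 5, 3, 2, 6, 1, 2, 3, 2, 1, 6, 3],
  [2, 6, 1, 2, 3, 2, 1, 6, 0, 3, 2, 3, 6, 1, 2, 3, 2, 1, 6, 0, 1, 0, 1],
  [2, 3, 5, 3, 0, 1, 0, 1, 6, 1, 2, 3, 2, 1, 6, 3],
  [2, 5, 3, 2, 4, 6, 1, 2, 3, 2, 1, 6, 3, 2, 5, 3],
  [2, 5, 6, 1, 2, 3, 2, 1, 6, 0, 3, 2, 6, 1, 2, 3, 2, 1, 6, 3],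
  [2, 3, 2, 3, 6, 1, 2, 3, 2, 1, 6, 3, 2, 4, 3, 6, 1, 2, 3, 2, 1, 6, 3],
  [2, 3, 6, 1, 2, 3, 2, 1, 6, 3, 2, 3, 2],
  [2, 3, 2, 6, 1, 2, 3, 2, 1, 6, 0, 3, 2, 3, 6, 1, 2, 3, 2, 1, 6, 4, 3],
  [2, 3, 4, 6, 1, 2, 3, 2, 1, 6, 3, 2, 3, 4, 6, 1, 2, 3, 2, 1, 6],
  [2, 3, 6, 1, 2, 3, 2, 1, 6, 3, 2, 4, 3, 2, 5, 6, 1, 2, 3, 2, 1, 6, 3],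
  [2, 6, 1, 2, 3, 2, 1, 6, 5, 6, 1, 2, 3, 2, 1, 6, 3, 2, 4, 3],
  [2, 3, 6, 1, 2, 3, 2, 1, 6, 3, 2, 3, 6, 1, 2, 3, 2, 1, 6, 5, 0, 1, 0, 1],
  [2, 3, 5, 6, 1, 2, 3, 2, 1, 6, 0, 3, 2, 4, 3, 2],
  [2, 5, 6, 1, 2, 3, 2, 1, 6, 3, 2, 6, 1, 2, 3, 2, 1, 6, 3, 6, 1, 2, 3, 2, 1, 6, 0, 1, 0, 1],
  [2, 3, 2, 6, 1, 2, 3, 2, 1, 6, 0, 3, 2, 3, 6, 1, 2, 3, 2, 1, 6, 5],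
  [6, 1, 2, 3, 2, 1, 6, 3, 2, 3, 6, 1, 2, 3, 2, 1, 6, 4, 3, 2, 3, 2],
  [2, 3, 6, 1, 2, 3, 2, 1, 6, 3, 2, 3, 2, 3, 4, 5],
  [2, 3, 6, 1, 2, 3, 2, 1, 6, 3, 2, 3, 2, 3],
  [2, 3, 2, 3, 6, 1, 2, 3, 2, 1, 6, 3, 2, 4, 3, 6, 1, 2, 3, 2, 1, 6],
  [2, 3, 2, 6, 1, 2, 3, 2, 1, 6, 0, 3, 2, 3, 6, 1, 2, 3, 2, 1, 6, 4],
  [2, 3, 4, 6, 1, 2, 3, 2, 1, 6, 3, 2, 3, 4, 6, 1, 2, 3, 2, 1, 6, 3],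
  [2, 3, 6, 1, 2, 3, 2, 1, 6, 3, 2, 4, 3, 2, 5, 6, 1, 2, 3, 2, 1, 6],
  [2, 4, 5, 3, 2, 6, 1, 2, 3, 2, 1, 6, 3, 2, 4, 5, 3],
  [2, 6, 1, 2, 3, 2, 1, 6, 0, 3, 2, 3, 6, 1, 2, 3, 2, 1, 6],
  [2, 3, 6, 1, 2, 3, 2, 1, 6, 4, 3, 2, 5, 3],
  [2, 3, 5, 3, 6, 1, 2, 3, 2, 1, 6, 0, 3],
  [2, 5, 3, 2, 4, 6, 1, 2, 3, 2, 1, 6, 3, 2, 3, 5, 3],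
  [2, 3, 5, 0, 1, 0, 1, 6, 1, 2, 3, 2, 1, 6, 3, 2, 3, 2, 5, 3],
  [2, 3, 6, 1, 2, 3, 2, 1, 6, 3, 2, 3, 2, 4, 5],
  [2, 3, 2, 3, 6, 1, 2, 3, 2, 1, 6, 3, 2, 4, 3, 6, 1, 2, 3, 2, 1, 6, 3, 0, 1, 0, 1],
  [2, 3, 2, 0, 1, 0, 1, 6, 1, 2, 3, 2, 1, 6, 3, 2, 6, 1, 2, 3, 2, 1, 6, 3, 6, 1, 2, 3, 2, 1, 6, 4],
  [2, 3, 6, 1, 2, 3, 2, 1, 6, 3, 2, 3, 2, 0, 1, 0, 1],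
  [2, 3, 0, 1, 0, 1, 2, 6, 1, 2, 3, 2, 1, 6, 3, 4],
  [2, 3, 2, 3, 6, 1, 2, 3, 2, 1, 6, 3, 2, 6, 1, 2, 3, 2, 1, 6, 3, 2, 6, 1, 2, 3, 2, 1, 6, 0],
  [2, 5, 3, 6, 1, 2, 3, 2, 1, 6, 3, 2, 3, 5, 0, 1, 0, 1, 2],
  [2, 3, 6, 1, 2, 3, 2, 1, 6, 3, 2, 4, 3, 2, 3],
  [2, 3, 6, 1, 2, 3, 2, 1, 6, 3, 2, 3, 4, 3, 2],
  [2, 3, 0, 1, 0, 1, 6, 1, 2, 3, 2, 1, 6, 3, 2, 3, 2, 5],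
  [2, 3, 6, 1, 2, 3, 2, 1, 6, 3, 2, 4, 3, 2, 5],
  [2, 3, 0, 1, 0, 1, 6, 1, 2, 3, 2, 1, 6, 3, 2, 3, 2, 4],
  [2, 3, 2, 6, 1, 2, 3, 2, 1, 6, 3, 2, 3, 5, 0, 1, 0, 1, 2],
  [2, 3, 5, 0, 1, 0, 1, 6, 1, 2, 3, 2, 1, 6, 3, 2, 3, 2, 4],
  [2, 5, 6, 1, 2, 3, 2, 1, 6, 3, 2, 6, 1, 2, 3, 2, 1, 6, 3, 6, 1, 2, 3, 2, 1, 6],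
  [6, 1, 2, 3, 2, 1, 6, 3, 2, 3, 4, 6, 1, 2, 3, 2, 1, 6, 3, 2, 3, 2, 4],
  [2, 4, 6, 1, 2, 3, 2, 1, 6, 3, 2, 6, 1, 2, 3, 2, 1, 6, 3, 2, 6, 1, 2, 3, 2, 1, 6, 0],
  [2, 6, 1, 2, 3, 2, 1, 6, 3, 2, 4, 5, 3, 6, 1, 2, 3, 2, 1, 6],
  [2, 3, 6, 1, 2, 3, 2, 1, 6, 3, 2, 3, 6, 1, 2, 3, 2, 1, 6, 0],
  [2, 3, 2, 3, 6, 1, 2, 3, 2, 1, 6, 3, 2, 4, 3, 6, 1, 2, 3, 2, 1, 6, 0, 1, 0, 1],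
  [2, 6, 1, 2, 3, 2, 1, 6, 3, 2, 6, 1, 2, 3, 2, 1, 6, 0, 3, 4, 6, 1, 2, 3, 2, 1, 6],
  [2, 3, 6, 1, 2, 3, 2, 1, 6, 3, 2, 3, 2, 3, 0, 1, 0, 1],
  [2, 3, 5, 0, 1, 0, 1, 6, 1, 2, 3, 2, 1, 6, 3, 2, 3, 2, 5],
  [2, 3, 2, 6, 1, 2, 3, 2, 1, 6, 0, 3, 2, 3, 4, 0, 1, 0, 1, 6, 1, 2, 3, 2, 1, 6],
  [2, 3, 2, 3, 6, 1, 2, 3, 2, 1, 6, 3, 2, 3, 5, 3],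
  [2, 3, 6, 1, 2, 3, 2, 1, 6, 3, 2, 4, 5],
  [2, 5, 6, 1, 2, 3, 2, 1, 6, 0, 3, 2, 3, 0, 1, 0, 1, 2],
  [2, 3, 6, 1, 2, 3, 2, 1, 6, 5, 3],
  [2, 3, 2, 3, 6, 1, 2, 3, 2, 1, 6, 3, 2, 4, 3, 6, 1, 2, 3, 2, 1, 6, 3, 4],
  [2, 3, 6, 1, 2, 3, 2, 1, 6, 3, 2, 3, 2, 5, 0, 1, 0, 1],
  [2, 3, 2, 0, 1, 0, 1, 6, 1, 2, 3, 2, 1, 6, 3, 2, 6, 1, 2, 3, 2, 1, 6, 3, 6, 1, 2, 3, 2, 1, 6, 0, 1, 0, 1],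
  [2, 3, 5, 0, 1, 0, 1, 6, 1, 2, 3, 2, 1, 6, 3, 2, 3, 2, 3, 5, 3],
  [2, 3, 6, 1, 2, 3, 2, 1, 6, 3, 2, 3, 2, 4],
  [2, 3, 4, 5, 3, 6, 1, 2, 3, 2, 1, 6, 3, 2, 3, 6, 1, 2, 3, 2, 1, 6],
  [2, 3, 0, 1, 0, 1, 6, 1, 2, 3, 2, 1, 6, 3, 2, 3, 2],
  [2, 3, 2, 3, 6, 1, 2, 3, 2, 1, 6, 3, 2, 4, 3, 6, 1, 2, 3, 2, 1, 6, 4],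
  [2, 6, 1, 2, 3, 2, 1, 6, 0, 3, 2, 0, 1, 0, 1, 6, 1, 2, 3, 2, 1, 6, 3, 6, 1, 2, 3, 2, 1, 6],
  [2, 3, 6, 1, 2, 3, 2, 1, 6, 3, 2, 3, 2, 3, 4],
  [2, 3, 4, 5, 3, 6, 1, 2, 3, 2, 1, 6, 3, 2, 3, 4, 6, 1, 2, 3, 2, 1, 6],
  [2, 3, 2, 6, 1, 2, 3, 2, 1, 6, 0, 3, 2, 3, 6, 1, 2, 3, 2, 1, 6],
  [2, 3, 5, 6, 1, 2, 3, 2, 1, 6, 0, 3, 2, 3, 4],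
  [2, 3, 5, 6, 1, 2, 3, 2, 1, 6, 3, 2, 3, 5],
  [2, 6, 1, 2, 3, 2, 1, 6, 3, 4, 5, 3, 2, 3, 5],
  [2, 3, 2, 5, 6, 1, 2, 3, 2, 1, 6, 3, 2, 3, 2],
  [6, 1, 2, 3, 2, 1, 6, 3, 2, 3, 2, 6, 1, 2, 3, 2, 1, 6, 4],
  [2, 3, 2, 6, 1, 2, 3, 2, 1, 6, 0, 3, 2, 3, 5, 0, 1, 0, 1],
  [2, 3, 2, 4, 6, 1, 2, 3, 2, 1, 6, 3, 2, 6, 1, 2, 3, 2, 1, 6, 0, 1, 0, 1],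
  [2, 5, 6, 1, 2, 3, 2, 1, 6, 3, 5, 6, 1, 2, 3, 2, 1, 6, 3, 2, 3],
  [2, 3, 5, 6, 1, 2, 3, 2, 1, 6, 0, 3, 2, 3],
  [2, 3, 5, 6, 1, 2, 3, 2, 1, 6, 3, 2, 3, 4, 5],
  [2, 3, 5, 6, 1, 2, 3, 2, 1, 6, 3, 2],
  [2, 6, 1, 2, 3, 2, 1, 6, 3, 4, 5, 3, 2],
  [5, 6, 1, 2, 3, 2, 1, 6, 0, 3, 2, 3, 2, 6, 1, 2, 3, 2, 1, 6, 5],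
  [2, 3, 5, 6, 1, 2, 3, 2, 1, 6, 3, 2, 3, 4],
  [2, 3, 5, 6, 1, 2, 3, 2, 1, 6, 0, 3, 2, 3, 5],
  [2, 6, 1, 2, 3, 2, 1, 6, 3, 4, 5, 3, 2, 3, 2],
  [2, 3, 5, 6, 1, 2, 3, 2, 1, 6, 3, 6, 1, 2, 3, 2, 1, 6, 4],
  [2, 3, 6, 1, 2, 3, 2, 1, 6, 3, 2, 6, 1, 2, 3, 2, 1, 6, 3, 4],
  [2, 3, 6, 1, 2, 3, 2, 1, 6, 3, 2, 6, 1, 2, 3, 2, 1, 6, 3, 4, 0, 1, 0, 1],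
  [2, 3, 2, 4, 6, 1, 2, 3, 2, 1, 6, 3, 2, 3, 5],
  [2, 3, 2, 6, 1, 2, 3, 2, 1, 6, 0, 3, 2, 3, 4, 6, 1, 2, 3, 2, 1, 6],
  [2, 3, 2, 4, 6, 1, 2, 3, 2, 1, 6, 3, 2, 3, 5, 0, 1, 0, 1],
  [2, 6, 1, 2, 3, 2, 1, 6, 3, 5, 6, 1, 2, 3, 2, 1, 6, 3, 6, 1, 2, 3, 2, 1, 6],
  [2, 4, 5, 6, 1, 2, 3, 2, 1, 6, 3, 2, 6, 1, 2, 3, 2, 1, 6, 3, 2],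
  [2, 3, 5, 6, 1, 2, 3, 2, 1, 6, 0, 1, 0, 1],
  [2, 3, 5, 0, 1, 0, 1, 6, 1, 2, 3, 2, 1, 6, 3, 2, 6, 1, 2, 3, 2, 1, 6, 3, 6, 1, 2, 3, 2, 1, 6],
  [2, 6, 1, 2, 3, 2, 1, 6, 3, 2, 3, 2, 6, 1, 2, 3, 2, 1, 6, 5],
  [2, 3, 5, 3, 6, 1, 2, 3, 2, 1, 6, 3, 6, 1, 2, 3, 2, 1, 6, 0, 1, 0, 1, 2, 3],
  [2, 3, 5, 3, 6, 1, 2, 3, 2, 1, 6, 3, 2, 6, 1, 2, 3, 2, 1, 6, 3],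
  [2, 3, 5, 6, 1, 2, 3, 2, 1, 6, 3],
  [2, 5, 3, 6, 1, 2, 3, 2, 1, 6, 3, 2, 4, 3, 2],
  [2, 6, 1, 2, 3, 2, 1, 6, 3, 2, 3, 2, 6, 1, 2, 3, 2, 1, 6, 3, 5, 3],
  [2, 3, 5, 3, 6, 1, 2, 3, 2, 1, 6, 3, 2, 6, 1, 2, 3, 2, 1, 6, 0, 1, 0, 1],
  [2, 6, 1, 2, 3, 2, 1, 6, 0, 5, 3, 6, 1, 2, 3, 2, 1, 6, 3, 2, 5],
  [2, 6, 1, 2, 3, 2, 1, 6, 0, 5, 3, 6, 1, 2, 3, 2, 1, 6, 3, 2, 3, 5],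
  [2, 3, 5, 3, 6, 1, 2, 3, 2, 1, 6, 3, 2, 3, 6, 1, 2, 3, 2, 1, 6],
  [2, 3, 5, 3, 0, 1, 0, 1, 6, 1, 2, 3, 2, 1, 6, 3, 2, 6, 1, 2, 3, 2, 1, 6, 3],
  [2, 6, 1, 2, 3, 2, 1, 6, 3, 6, 1, 2, 3, 2, 1, 6, 3, 5, 3, 2, 3],
  [2, 3, 0, 1, 0, 1, 6, 1, 2, 3, 2, 1, 6, 3, 2, 3, 2, 3, 0, 1, 0, 1],
  [2, 3, 6, 1, 2, 3, 2, 1, 6, 3, 0, 1, 0, 1, 2, 3, 2, 5, 3],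
  [2, 3, 6, 1, 2, 3, 2, 1, 6, 3, 0, 1, 0, 1, 2, 3, 2],
  [2, 3, 0, 1, 0, 1, 6, 1, 2, 3, 2, 1, 6, 3, 2, 3, 2, 5, 0, 1, 0, 1],
  [2, 3, 5, 0, 1, 0, 1, 6, 1, 2, 3, 2, 1, 6],
  [2, 3, 0, 1, 0, 1, 6, 1, 2, 3, 2, 1, 6, 3, 2, 6, 1, 2, 3, 2, 1, 6, 3, 6, 1, 2, 3, 2, 1, 6, 5],
  [2, 5, 6, 1, 2, 3, 2, 1, 6, 3, 2, 3, 2, 6, 1, 2, 3, 2, 1, 6],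
  [2, 3, 2, 6, 1, 2, 3, 2, 1, 6, 3, 4, 3, 2, 3, 2],
  [2, 3, 5, 3, 6, 1, 2, 3, 2, 1, 6, 3, 2, 6, 1, 2, 3, 2, 1, 6, 3, 5],
  [2, 3, 0, 1, 0, 1, 6, 1, 2, 3, 2, 1, 6, 3, 2, 3, 2, 5, 3],
  [2, 3, 0, 1, 0, 1, 2, 6, 1, 2, 3, 2, 1, 6, 3, 2, 3, 2, 0, 1, 0, 1],
  [2, 3, 2, 4, 6, 1, 2, 3, 2, 1, 6, 3, 2, 4, 3, 2],
  [2, 6, 1, 2, 3, 2, 1, 6, 3, 6, 1, 2, 3, 2, 1, 6, 3, 5, 3, 2, 3, 5],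
  [2, 6, 1, 2, 3, 2, 1, 6, 3, 2, 3, 4, 3, 6, 1, 2, 3, 2, 1, 6],
  [2, 6, 1, 2, 3, 2, 1, 6, 3, 0, 1, 0, 1, 2, 6, 1, 2, 3, 2, 1, 6, 3, 2, 6, 1, 2, 3, 2, 1, 6],
  [2, 5, 6, 1, 2, 3, 2, 1, 6, 3, 2, 3, 5, 6, 1, 2, 3, 2, 1, 6],
  [2, 3, 6, 1, 2, 3, 2, 1, 6, 0, 3, 2, 3, 4, 6, 1, 2, 3, 2, 1, 6],
  [2, 3, 2, 4, 6, 1, 2, 3, 2, 1, 6, 3, 2, 4, 3, 5, 6, 1, 2, 3, 2, 1, 6],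
  [2, 3, 6, 1, 2, 3, 2, 1, 6, 3, 2, 3, 5],
  [2, 3, 2, 3, 6, 1, 2, 3, 2, 1, 6, 3, 2, 5, 6, 1, 2, 3, 2, 1, 6],
  [2, 3, 6, 1, 2, 3, 2, 1, 6, 0, 3, 2, 3, 4, 3],
  [2, 6, 1, 2, 3, 2, 1, 6, 3, 2, 6, 1, 2, 3, 2, 1, 6, 0, 3, 2, 6, 1, 2, 3, 2, 1, 6],
  [2, 3, 6, 1, 2, 3, 2, 1, 6, 0, 3, 2, 3, 5, 3],
  [2, 3, 2, 6, 1, 2, 3, 2, 1, 6, 3, 2, 4, 3, 2, 6, 1, 2, 3, 2, 1, 6, 0],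
  [2, 3, 0, 1, 0, 1, 6, 1, 2, 3, 2, 1, 6, 3, 4, 5],
  [5, 6, 1, 2, 3, 2, 1, 6, 3, 2, 3, 2, 5, 3, 4],
  [2, 5, 3, 6, 1, 2, 3, 2, 1, 6, 3, 4, 0, 1, 0, 1],
  [2, 5, 3, 6, 1, 2, 3, 2, 1, 6, 0, 1, 0, 1],
  [5, 6, 1, 2, 3, 2, 1, 6, 3, 2, 3, 2, 5],
  [6, 1, 2, 3, 2, 1, 6, 3, 2, 3, 2, 5, 0, 1, 0, 1],
  [2, 3, 6, 1, 2, 3, 2, 1, 6, 0, 5, 3, 2, 6, 1, 2, 3, 2, 1, 6],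
  [6, 1, 2, 3, 2, 1, 6, 3, 2, 3, 2, 4],
  [6, 1, 2, 3, 2, 1, 6, 3, 2, 6, 1, 2, 3, 2, 1, 6, 3, 2, 4, 3],
  [6, 1, 2, 3, 2, 1, 6, 3, 2, 6, 1, 2, 3, 2, 1, 6, 3, 0, 1, 0, 1, 2, 3, 5],
  [2, 3, 4, 5, 3, 2, 0, 1, 0, 1, 6, 1, 2, 3, 2, 1, 6, 3, 6, 1, 2, 3, 2, 1, 6, 3],
  [2, 3, 5, 3, 0, 1, 0, 1, 6, 1, 2, 3, 2, 1, 6, 3, 2, 3, 2],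
  [2, 6, 1, 2, 3, 2, 1, 6, 3, 2, 4, 5, 3, 2, 3],
  [2, 3, 6, 1, 2, 3, 2, 1, 6, 4, 3, 5],
  [5, 6, 1, 2, 3, 2, 1, 6, 3, 2, 3, 5, 0, 1, 0, 1, 2, 3],
  [2, 3, 4, 5, 3, 2, 0, 1, 0, 1, 6, 1, 2, 3, 2, 1, 6, 3, 6, 1, 2, 3, 2, 1, 6],
  [2, 6, 1, 2, 3, 2, 1, 6, 3, 2, 3, 2, 5, 3, 4],
  [2, 6, 1, 2, 3, 2, 1, 6, 3, 2, 4, 5, 3, 2],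
  [2, 4, 6, 1, 2, 3, 2, 1, 6, 3, 2, 3, 6, 1, 2, 3, 2, 1, 6, 0, 1, 0, 1],
  [2, 3, 6, 1, 2, 3, 2, 1, 6, 0, 3, 2, 5, 3, 6, 1, 2, 3, 2, 1, 6],
  [6, 1, 2, 3, 2, 1, 6, 3, 2, 6, 1, 2, 3, 2, 1, 6, 3, 0, 1, 0, 1, 2, 3],
  [6, 1, 2, 3, 2, 1, 6, 3, 2, 6, 1, 2, 3, 2, 1, 6, 3, 2, 4, 3, 5],
  [2, 4, 6, 1, 2, 3, 2, 1, 6, 3, 2, 3, 6, 1, 2, 3, 2, 1, 6, 4],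
  [2, 6, 1, 2, 3, 2, 1, 6, 3, 2, 4, 6, 1, 2, 3, 2, 1, 6, 3, 2, 6, 1, 2, 3, 2, 1, 6, 4],
  [2, 4, 6, 1, 2, 3, 2, 1, 6, 3, 2, 3, 6, 1, 2, 3, 2, 1, 6, 5],
  [2, 3, 6, 1, 2, 3, 2, 1, 6, 3, 2, 4, 5, 3, 6, 1, 2, 3, 2, 1, 6],
  [5, 6, 1, 2, 3, 2, 1, 6, 3, 2, 3, 2, 6, 1, 2, 3, 2, 1, 6, 3, 0, 1, 0, 1],
  [2, 6, 1, 2, 3, 2, 1, 6, 3, 5, 0, 1, 0, 1, 2, 6, 1, 2, 3, 2, 1, 6],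
  [2, 5, 6, 1, 2, 3, 2, 1, 6, 5, 6, 1, 2, 3, 2, 1, 6, 3, 2],
  [6, 1, 2, 3, 2, 1, 6, 3, 2, 3, 2, 3, 5, 3, 6, 1, 2, 3, 2, 1, 6],
  [2, 6, 1, 2, 3, 2, 1, 6, 3, 2, 3, 2, 4, 5, 3, 6, 1, 2, 3, 2, 1, 6],
  [2, 4, 5, 3, 6, 1, 2, 3, 2, 1, 6, 3, 2, 3, 2],
  [2, 3, 6, 1, 2, 3, 2, 1, 6, 3, 5, 6, 1, 2, 3, 2, 1, 6],
  [2, 3, 4, 5, 6, 1, 2, 3, 2, 1, 6, 3, 2, 3, 6, 1, 2, 3, 2, 1, 6, 3],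
  [6, 1, 2, 3, 2, 1, 6, 3, 2, 3, 6, 1, 2, 3, 2, 1, 6, 0, 1, 0, 1, 2],
  [5, 6, 1, 2, 3, 2, 1, 6, 3, 2, 3, 2, 6, 1, 2, 3, 2, 1, 6, 0, 1, 0, 1],
  [2, 6, 1, 2, 3, 2, 1, 6, 3, 5, 0, 1, 0, 1, 2, 6, 1, 2, 3, 2, 1, 6, 3],
  [6, 1, 2, 3, 2, 1, 6, 3, 2, 6, 1, 2, 3, 2, 1, 6, 3, 0, 1, 0, 1, 2],
  [6, 1, 2, 3, 2, 1, 6, 3, 2, 6, 1, 2, 3, 2, 1, 6, 3, 2, 4, 3, 5, 3],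
  [2, 6, 1, 2, 3, 2, 1, 6, 3, 0, 1, 0, 1, 2, 3, 6, 1, 2, 3, 2, 1, 6, 3, 2, 3],
  [2, 5, 3, 6, 1, 2, 3, 2, 1, 6, 0, 3, 4],
  [6, 1, 2, 3, 2, 1, 6, 3, 2, 3, 2, 3],
  [6, 1, 2, 3, 2, 1, 6, 0, 3, 2, 3, 2, 5, 3],
  [2, 3, 6, 1, 2, 3, 2, 1, 6, 5, 3, 2, 0, 1, 0, 1, 6, 1, 2, 3, 2, 1, 6, 3],
  [5, 6, 1, 2, 3, 2, 1, 6, 3, 2, 3, 2, 6, 1, 2, 3, 2, 1, 6, 3, 4],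
  [2, 6, 1, 2, 3, 2, 1, 6, 0, 3, 2, 5, 6, 1, 2, 3, 2, 1, 6],
  [5, 6, 1, 2, 3, 2, 1, 6, 3, 2, 3, 2, 6, 1, 2, 3, 2, 1, 6, 4],
  [2, 3, 5, 6, 1, 2, 3, 2, 1, 6, 3, 2, 3, 2, 3, 5],
  [2, 4, 6, 1, 2, 3, 2, 1, 6, 3, 2, 5, 3, 4, 6, 1, 2, 3, 2, 1, 6],
  [6, 1, 2, 3, 2, 1, 6, 3, 2, 3, 2, 4, 6, 1, 2, 3, 2, 1, 6, 3, 4],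
  [2, 3, 6, 1, 2, 3, 2, 1, 6, 3, 2, 3, 2, 6, 1, 2, 3, 2, 1, 6, 5, 3],
  [2, 5, 6, 1, 2, 3, 2, 1, 6, 3, 2, 6, 1, 2, 3, 2, 1, 6, 3, 0, 1, 0, 1, 6, 1, 2, 3, 2, 1, 6],
  [2, 3, 5, 3, 0, 1, 0, 1, 6, 1, 2, 3, 2, 1, 6, 3, 2],
  [5, 6, 1, 2, 3, 2, 1, 6, 3, 2, 3, 2, 0, 1, 0, 1, 6, 1, 2, 3, 2, 1, 6],
  [2, 3, 5, 6, 1, 2, 3, 2, 1, 6, 3, 2, 4],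
  [2, 3, 5, 3, 0, 1, 0, 1, 6, 1, 2, 3, 2, 1, 6, 3, 2, 3, 6, 1, 2, 3, 2, 1, 6],
  [2, 3, 5, 3, 6, 1, 2, 3, 2, 1, 6, 3, 2, 3, 6, 1, 2, 3, 2, 1, 6, 0, 1, 0, 1],
  [2, 3, 2, 6, 1, 2, 3, 2, 1, 6, 3, 2, 4, 3, 5],
  [2, 3, 2, 6, 1, 2, 3, 2, 1, 6, 3, 0, 1, 0, 1, 2, 3, 4],
  [2, 3, 5, 6, 1, 2, 3, 2, 1, 6, 3, 5],
  [2, 5, 3, 6, 1, 2, 3, 2, 1, 6, 3, 2, 4, 3, 2, 5],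
  [2, 6, 1, 2, 3, 2, 1, 6, 3, 2, 3, 2, 6, 1, 2, 3, 2, 1, 6, 5, 3],
  [2, 3, 5, 6, 1, 2, 3, 2, 1, 6, 3, 4],
  [2, 3, 0, 1, 0, 1, 6, 1, 2, 3, 2, 1, 6, 3, 2, 5, 3, 6, 1, 2, 3, 2, 1, 6, 3],
  [2, 5, 3, 6, 1, 2, 3, 2, 1, 6, 3, 2, 3, 4, 3, 2],
  [5, 6, 1, 2, 3, 2, 1, 6, 3, 2, 3, 6, 1, 2, 3, 2, 1, 6, 0, 1, 0, 1, 2, 3, 6, 1, 2, 3, 2, 1, 6],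
  [2, 6, 1, 2, 3, 2, 1, 6, 5, 6, 1, 2, 3, 2, 1, 6, 3, 2, 6, 1, 2, 3, 2, 1, 6, 3, 2],
  [2, 4, 6, 1, 2, 3, 2, 1, 6, 3, 5, 6, 1, 2, 3, 2, 1, 6],
  [2, 4, 6, 1, 2, 3, 2, 1, 6, 3, 2, 3, 5, 6, 1, 2, 3, 2, 1, 6, 0, 1, 0, 1],
  [2, 3, 6, 1, 2, 3, 2, 1, 6, 3, 2, 5, 3, 4, 6, 1, 2, 3, 2, 1, 6],
  [6, 1, 2, 3, 2, 1, 6, 3, 2, 6, 1, 2, 3, 2, 1, 6, 3, 2, 5, 3, 0, 1, 0, 1],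
  [4, 3, 6, 1, 2, 3, 2, 1, 6, 3, 2, 3, 2, 5, 3, 4],
  [2, 5, 3, 6, 1, 2, 3, 2, 1, 6, 0, 3, 5],
  [2, 3, 5, 6, 1, 2, 3, 2, 1, 6, 3, 2, 4, 3, 6, 1, 2, 3, 2, 1, 6],
  [2, 6, 1, 2, 3, 2, 1, 6, 5, 6, 1, 2, 3, 2, 1, 6, 3, 2, 3, 4],
  [2, 3, 5, 6, 1, 2, 3, 2, 1, 6, 3, 2, 5, 6, 1, 2, 3, 2, 1, 6, 3, 4, 6, 1, 2, 3, 2, 1, 6],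
  [2, 3, 6, 1, 2, 3, 2, 1, 6, 3, 2, 3, 6, 1, 2, 3, 2, 1, 6, 0, 1, 0, 1],
  [2, 6, 1, 2, 3, 2, 1, 6, 3, 5, 0, 1, 0, 1, 2, 3, 6, 1, 2, 3, 2, 1, 6],
  [2, 6, 1, 2, 3, 2, 1, 6, 3, 2, 3, 5, 6, 1, 2, 3, 2, 1, 6, 5, 0, 1, 0, 1],
  [2, 3, 6, 1, 2, 3, 2, 1, 6, 3, 2, 3, 4, 0, 1, 0, 1, 6, 1, 2, 3, 2, 1, 6, 5],
  [2, 6, 1, 2, 3, 2, 1, 6, 3, 5, 0, 1, 0, 1, 2, 3, 6, 1, 2, 3, 2, 1, 6, 3],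
  [6, 1, 2, 3, 2, 1, 6, 3, 2, 3, 2, 6, 1, 2, 3, 2, 1, 6, 0, 1, 0, 1],
  [6, 1, 2, 3, 2, 1, 6, 3, 2, 6, 1, 2, 3, 2, 1, 6, 3, 2, 5, 0, 1, 0, 1],
  [6, 1, 2, 3, 2, 1, 6, 3, 2, 6, 1, 2, 3, 2, 1, 6, 3, 2, 5, 3, 6, 1, 2, 3, 2, 1, 6, 5],
  [2, 3, 6, 1, 2, 3, 2, 1, 6, 3, 2, 3, 6, 1, 2, 3, 2, 1, 6, 4],
  [2, 6, 1, 2, 3, 2, 1, 6, 3, 2, 3, 5, 6, 1, 2, 3, 2, 1, 6],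
  [2, 3, 5, 6, 1, 2, 3, 2, 1, 6, 0, 3, 2, 6, 1, 2, 3, 2, 1, 6],
  [2, 3, 2, 6, 1, 2, 3, 2, 1, 6, 3, 2, 4, 3, 6, 1, 2, 3, 2, 1, 6],
  [2, 4, 6, 1, 2, 3, 2, 1, 6, 3, 2, 3, 4, 6, 1, 2, 3, 2, 1, 6, 3, 2],
  [2, 3, 5, 6, 1, 2, 3, 2, 1, 6, 0, 3, 2, 6, 1, 2, 3, 2, 1, 6, 3, 5],
  [2, 3, 6, 1, 2, 3, 2, 1, 6, 3, 5, 0, 1, 0, 1, 2],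
  [2, 3, 2, 6, 1, 2, 3, 2, 1, 6, 3, 2, 4, 3, 6, 1, 2, 3, 2, 1, 6, 4],
  [2, 3, 2, 3, 6, 1, 2, 3, 2, 1, 6, 3, 2, 5, 0, 1, 0, 1],
  [2, 3, 0, 1, 0, 1, 6, 1, 2, 3, 2, 1, 6, 3, 2, 3],
  [2, 3, 0, 1, 0, 1, 6, 1, 2, 3, 2, 1, 6, 3, 2, 5],
  [2, 3, 2, 3, 6, 1, 2, 3, 2, 1, 6, 3, 2, 3, 5, 3, 0, 1, 0, 1],
  [2, 3, 6, 1, 2, 3, 2, 1, 6, 3, 2, 5, 3, 0, 1, 0, 1],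
  [2, 6, 1, 2, 3, 2, 1, 6, 3, 2, 3, 5, 0, 1, 0, 1, 6, 1, 2, 3, 2, 1, 6, 3, 2],
  [2, 3, 6, 1, 2, 3, 2, 1, 6, 3, 2, 3, 4, 5, 3, 0, 1, 0, 1],
  [2, 3, 2, 3, 0, 1, 0, 1, 6, 1, 2, 3, 2, 1, 6, 3, 2, 3, 5],
  [2, 6, 1, 2, 3, 2, 1, 6, 0, 3, 2, 6, 1, 2, 3, 2, 1, 6, 5, 3, 2],
  [2, 4, 5, 3, 6, 1, 2, 3, 2, 1, 6, 3, 2, 3, 2, 6, 1, 2, 3, 2, 1, 6],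
  [2, 3, 6, 1, 2, 3, 2, 1, 6, 3, 2, 3, 5, 3, 4, 0, 1, 0, 1],
  [2, 6, 1, 2, 3, 2, 1, 6, 3, 2, 6, 1, 2, 3, 2, 1, 6, 0, 3, 6, 1, 2, 3, 2, 1, 6, 0, 1, 0, 1, 2],
  [6, 1, 2, 3, 2, 1, 6, 3, 2, 3, 2, 3, 5, 6, 1, 2, 3, 2, 1, 6, 3],
  [2, 3, 6, 1, 2, 3, 2, 1, 6, 3, 5, 0, 1, 0, 1],
  [2, 3, 6, 1, 2, 3, 2, 1, 6, 5, 3, 0, 1, 0, 1],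
  [2, 5, 6, 1, 2, 3, 2, 1, 6, 3, 2, 3, 2, 4],
  [2, 4, 5, 3, 6, 1, 2, 3, 2, 1, 6, 3, 2, 3, 6, 1, 2, 3, 2, 1, 6, 0, 1, 0, 1],
  [2, 5, 3, 6, 1, 2, 3, 2, 1, 6, 3, 2, 3, 2],
  [5, 6, 1, 2, 3, 2, 1, 6, 0, 3, 2, 3, 2],
  [2, 4, 5, 3, 6, 1, 2, 3, 2, 1, 6, 5],
  [2, 3, 5, 6, 1, 2, 3, 2, 1, 6, 0, 3, 6, 1, 2, 3, 2, 1, 6, 3],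
  [2, 3, 5, 0, 1, 0, 1, 6, 1, 2, 3, 2, 1, 6, 3, 2, 3, 4, 6, 1, 2, 3, 2, 1, 6],
  [2, 5, 6, 1, 2, 3, 2, 1, 6, 3, 2, 4, 3, 2],
  [2, 3, 5, 6, 1, 2, 3, 2, 1, 6, 3, 2, 3, 6, 1, 2, 3, 2, 1, 6, 4, 3],
  [2, 4, 5, 3, 6, 1, 2, 3, 2, 1, 6, 3],
  [5, 6, 1, 2, 3, 2, 1, 6, 0, 3, 2, 3, 2, 5, 3],
  [2, 3, 2, 6, 1, 2, 3, 2, 1, 6, 3, 2, 3, 5, 3, 0, 1, 0, 1, 2, 3],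
  [2, 3, 2, 0, 1, 0, 1, 6, 1, 2, 3, 2, 1, 6, 3],
  [2, 3, 0, 1, 0, 1, 6, 1, 2, 3, 2, 1, 6, 3, 2, 3, 2, 4, 3],
  [2, 3, 5, 3, 6, 1, 2, 3, 2, 1, 6, 3, 2, 3, 5, 6, 1, 2, 3, 2, 1, 6],
  [6, 1, 2, 3, 2, 1, 6, 0, 3, 2, 3, 2],
  [6, 1, 2, 3, 2, 1, 6, 3, 2, 3, 2, 5],
  [2, 3, 6, 1, 2, 3, 2, 1, 6, 5, 3, 2, 4, 6, 1, 2, 3, 2, 1, 6],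
  [6, 1, 2, 3, 2, 1, 6, 3, 2, 6, 1, 2, 3, 2, 1, 6, 3, 2, 5, 3, 4],
  [4, 3, 6, 1, 2, 3, 2, 1, 6, 3, 2, 3, 2, 5, 3, 0, 1, 0, 1],
  [6, 1, 2, 3, 2, 1, 6, 0, 3, 2, 6, 1, 2, 3, 2, 1, 6, 3, 2, 3, 5, 3],
  [4, 3, 6, 1, 2, 3, 2, 1, 6, 3, 2, 3, 2, 4],
  [2, 6, 1, 2, 3, 2, 1, 6, 5, 6, 1, 2, 3, 2, 1, 6, 3, 0, 1, 0, 1, 2, 3, 2],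
  [2, 3, 4, 6, 1, 2, 3, 2, 1, 6, 5],
  [6, 1, 2, 3, 2, 1, 6, 3, 2, 3, 2, 5, 6, 1, 2, 3, 2, 1, 6, 4],
  [2, 5, 3, 6, 1, 2, 3, 2, 1, 6, 4],
  [2, 3, 5, 6, 1, 2, 3, 2, 1, 6, 3, 2, 5, 3, 6, 1, 2, 3, 2, 1, 6],
  [2, 3, 4, 5, 3, 6, 1, 2, 3, 2, 1, 6, 3],
  [2, 6, 1, 2, 3, 2, 1, 6, 5, 6, 1, 2, 3, 2, 1, 6, 3, 2, 3, 0, 1, 0, 1],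
  [2, 3, 6, 1, 2, 3, 2, 1, 6, 3, 5, 0, 1, 0, 1, 2, 3, 6, 1, 2, 3, 2, 1, 6],
  [2, 3, 6, 1, 2, 3, 2, 1, 6, 3, 2, 3, 4, 3, 5, 3],
  [2, 3, 2, 3, 6, 1, 2, 3, 2, 1, 6, 3, 2, 4, 3],
  [2, 5, 6, 1, 2, 3, 2, 1, 6, 0, 3, 2, 4, 3, 2],
  [2, 3, 6, 1, 2, 3, 2, 1, 6, 3, 2, 3, 6, 1, 2, 3, 2, 1, 6, 4, 5, 3],
  [2, 3, 6, 1, 2, 3, 2, 1, 6, 3, 2, 3, 6, 1, 2, 3, 2, 1, 6, 5, 3, 0, 1, 0, 1],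
  [2, 6, 1, 2, 3, 2, 1, 6, 5, 6, 1, 2, 3, 2, 1, 6, 3, 2, 4],
  [2, 3, 5, 6, 1, 2, 3, 2, 1, 6, 3, 2, 3, 6, 1, 2, 3, 2, 1, 6, 3, 0, 1, 0, 1],
  [2, 3, 6, 1, 2, 3, 2, 1, 6, 5, 6, 1, 2, 3, 2, 1, 6, 3, 2, 6, 1, 2, 3, 2, 1, 6],
  [2, 3, 2, 3, 6, 1, 2, 3, 2, 1, 6, 3, 2, 6, 1, 2, 3, 2, 1, 6, 5],
  [2, 3, 2, 6, 1, 2, 3, 2, 1, 6, 3, 2, 3],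
  [6, 1, 2, 3, 2, 1, 6, 3, 2, 6, 1, 2, 3, 2, 1, 6, 3, 2, 5, 3, 6, 1, 2, 3, 2, 1, 6],
  [6, 1, 2, 3, 2, 1, 6, 3, 2, 6, 1, 2, 3, 2, 1, 6, 3, 2, 0, 1, 0, 1],
  [6, 1, 2, 3, 2, 1, 6, 3, 2, 6, 1, 2, 3, 2, 1, 6, 3, 2, 5, 6, 1, 2, 3, 2, 1, 6, 3],
  [6, 1, 2, 3, 2, 1, 6, 0, 3, 2, 6, 1, 2, 3, 2, 1, 6, 3, 2, 5],
  [6, 1, 2, 3, 2, 1, 6, 3, 2, 3, 2, 5, 6, 1, 2, 3, 2, 1, 6, 3],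
  [2, 5, 3, 6, 1, 2, 3, 2, 1, 6, 3],
  [2, 5, 6, 1, 2, 3, 2, 1, 6, 3, 2, 4, 5, 6, 1, 2, 3, 2, 1, 6],
  [5, 6, 1, 2, 3, 2, 1, 6, 3, 2, 3, 2, 6, 1, 2, 3, 2, 1, 6, 3],
  [2, 6, 1, 2, 3, 2, 1, 6, 3, 2, 4, 5, 6, 1, 2, 3, 2, 1, 6],
  [6, 1, 2, 3, 2, 1, 6, 3, 2, 3, 2, 6, 1, 2, 3, 2, 1, 6, 5, 3],
  [2, 3, 6, 1, 2, 3, 2, 1, 6, 3, 2, 3, 6, 1, 2, 3, 2, 1, 6, 5, 3, 4],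
  [2, 6, 1, 2, 3, 2, 1, 6, 5, 6, 1, 2, 3, 2, 1, 6, 3, 2, 0, 1, 0, 1],
  [6, 1, 2, 3, 2, 1, 6, 3, 2, 3, 2, 6, 1, 2, 3, 2, 1, 6, 5],
  [2, 6, 1, 2, 3, 2, 1, 6, 3, 2, 4, 5, 6, 1, 2, 3, 2, 1, 6, 3] ]
def cp4 : List (List ℕ) := [
  [6, 1, 2, 3, 2, 1, 6, 3, 2, 6, 1, 2, 3, 2, 1, 6, 3, 5, 0, 1, 0, 1, 2, 3, 5],
  [6, 1, 2, 3, 2, 1, 6, 3, 2, 6, 1, 2, 3, 2, 1, 6, 3, 2, 4],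
  [2, 6, 1, 2, 3, 2, 1, 6, 3, 2, 3, 6, 1, 2, 3, 2, 1, 6, 3, 2, 6, 1, 2, 3, 2, 1, 6, 0, 1, 0, 1],
  [2, 6, 1, 2, 3, 2, 1, 6, 3, 2, 6, 1, 2, 3, 2, 1, 6, 3, 2, 4],
  [2, 5, 6, 1, 2, 3, 2, 1, 6, 3, 2, 6, 1, 2, 3, 2, 1, 6, 3, 0, 1, 0, 1, 2],
  [2, 6, 1, 2, 3, 2, 1, 6, 0, 5, 3, 6, 1, 2, 3, 2, 1, 6],
  [2, 6, 1, 2, 3, 2, 1, 6, 3, 2, 3, 6, 1, 2, 3, 2, 1, 6, 3, 2, 4],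
  [2, 6, 1, 2, 3, 2, 1, 6, 3, 6, 1, 2, 3, 2, 1, 6, 0, 5],
  [2, 6, 1, 2, 3, 2, 1, 6, 3, 6, 1, 2, 3, 2, 1, 6],
  [2, 6, 1, 2, 3, 2, 1, 6, 3, 6, 1, 2, 3, 2, 1, 6, 0, 1, 0, 1],
  [2, 6, 1, 2, 3, 2, 1, 6, 3, 6, 1, 2, 3, 2, 1, 6, 0, 1, 0, 1, 2, 3, 2, 5, 3],
  [2, 3, 2, 5, 6, 1, 2, 3, 2, 1, 6, 3, 2, 3, 4, 6, 1, 2, 3, 2, 1, 6, 3],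
  [2, 3, 4, 5, 3, 2, 6, 1, 2, 3, 2, 1, 6, 3, 2],
  [2, 6, 1, 2, 3, 2, 1, 6, 3, 2, 3, 6, 1, 2, 3, 2, 1, 6, 3, 2, 6, 1, 2, 3, 2, 1, 6],
  [2, 4, 6, 1, 2, 3, 2, 1, 6, 3, 6, 1, 2, 3, 2, 1, 6, 5],
  [2, 5, 6, 1, 2, 3, 2, 1, 6, 3, 2, 6, 1, 2, 3, 2, 1, 6, 0, 3, 2, 4],
  [2, 3, 4, 5, 3, 2, 6, 1, 2, 3, 2, 1, 6, 3, 2, 0, 1, 0, 1],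
  [2, 6, 1, 2, 3, 2, 1, 6, 3, 2, 6, 1, 2, 3, 2, 1, 6, 3, 5, 0, 1, 0, 1, 2],
  [2, 3, 6, 1, 2, 3, 2, 1, 6, 4, 5, 3, 6, 1, 2, 3, 2, 1, 6],
  [2, 6, 1, 2, 3, 2, 1, 6, 0, 3, 2, 0, 1, 0, 1, 6, 1, 2, 3, 2, 1, 6, 3, 2],
  [2, 5, 6, 1, 2, 3, 2, 1, 6, 3, 2, 6, 1, 2, 3, 2, 1, 6, 3, 5, 0, 1, 0, 1, 2],
  [2, 6, 1, 2, 3, 2, 1, 6, 3, 2, 6, 1, 2, 3, 2, 1, 6, 0, 3, 2, 4],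
  [2, 6, 1, 2, 3, 2, 1, 6, 3, 2, 6, 1, 2, 3, 2, 1, 6, 3, 2, 4, 5],
  [2, 5, 6, 1, 2, 3, 2, 1, 6, 0, 3, 2, 0, 1, 0, 1, 6, 1, 2, 3, 2, 1, 6, 3, 2],
  [2, 3, 2, 6, 1, 2, 3, 2, 1, 6, 3, 2, 3, 6, 1, 2, 3, 2, 1, 6, 5, 6, 1, 2, 3, 2, 1, 6, 3],
  [2, 6, 1, 2, 3, 2, 1, 6, 3, 6, 1, 2, 3, 2, 1, 6, 5],
  [2, 6, 1, 2, 3, 2, 1, 6, 3, 6, 1, 2, 3, 2, 1, 6, 0],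
  [2, 6, 1, 2, 3, 2, 1, 6, 3, 2, 3, 6, 1, 2, 3, 2, 1, 6, 3, 2, 6, 1, 2, 3, 2, 1, 6, 0],
  [2, 3, 6, 1, 2, 3, 2, 1, 6, 3, 5, 3, 2, 3, 2, 4],
  [2, 6, 1, 2, 3, 2, 1, 6, 0, 5, 3, 6, 1, 2, 3, 2, 1, 6, 0],
  [2, 6, 1, 2, 3, 2, 1, 6, 4, 5, 3, 6, 1, 2, 3, 2, 1, 6],
  [2, 3, 2, 3, 6, 1, 2, 3, 2, 1, 6, 3, 2, 3, 6, 1, 2, 3, 2, 1, 6, 4],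
  [2, 5, 6, 1, 2, 3, 2, 1, 6, 3, 2, 6, 1, 2, 3, 2, 1, 6, 3, 2, 4],
  [2, 4, 6, 1, 2, 3, 2, 1, 6, 3, 2, 6, 1, 2, 3, 2, 1, 6, 3, 2, 5, 3],
  [2, 4, 6, 1, 2, 3, 2, 1, 6, 3, 6, 1, 2, 3, 2, 1, 6],
  [2, 6, 1, 2, 3, 2, 1, 6, 3, 6, 1, 2, 3, 2, 1, 6, 5, 0, 1, 0, 1],
  [2, 6, 1, 2, 3, 2, 1, 6, 3, 2, 3, 6, 1, 2, 3, 2, 1, 6, 3, 0, 1, 0, 1, 2],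
  [2, 6, 1, 2, 3, 2, 1, 6, 3, 2, 6, 1, 2, 3, 2, 1, 6, 3, 0, 1, 0, 1, 2],
  [2, 3, 2, 5, 6, 1, 2, 3, 2, 1, 6, 3, 2, 6, 1, 2, 3, 2, 1, 6, 0, 3],
  [2, 5, 3, 6, 1, 2, 3, 2, 1, 6, 3, 2, 3, 4, 6, 1, 2, 3, 2, 1, 6],
  [2, 3, 2, 6, 1, 2, 3, 2, 1, 6, 3, 2, 6, 1, 2, 3, 2, 1, 6, 3, 5, 6, 1, 2, 3, 2, 1, 6],
  [2, 3, 2, 3, 6, 1, 2, 3, 2, 1, 6, 0, 3, 2, 3],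
  [2, 3, 5, 6, 1, 2, 3, 2, 1, 6, 3, 2, 5, 6, 1, 2, 3, 2, 1, 6, 3, 5],
  [2, 3, 2, 3, 6, 1, 2, 3, 2, 1, 6, 0, 3, 2, 4],
  [2, 3, 5, 6, 1, 2, 3, 2, 1, 6, 3, 2, 4, 3, 5, 6, 1, 2, 3, 2, 1, 6],
  [2, 3, 2, 3, 6, 1, 2, 3, 2, 1, 6, 3, 2, 3, 0, 1, 0, 1, 6, 1, 2, 3, 2, 1, 6],
  [2, 5, 3, 6, 1, 2, 3, 2, 1, 6, 0, 3, 2, 3, 6, 1, 2, 3, 2, 1, 6, 0],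
  [2, 3, 2, 5, 6, 1, 2, 3, 2, 1, 6, 3, 2, 6, 1, 2, 3, 2, 1, 6, 3, 5],
  [2, 3, 2, 5, 6, 1, 2, 3, 2, 1, 6, 3, 2, 6, 1, 2, 3, 2, 1, 6, 3, 4, 3],
  [2, 6, 1, 2, 3, 2, 1, 6, 3, 2, 3, 2, 6, 1, 2, 3, 2, 1, 6, 3, 2],
  [2, 5, 3, 6, 1, 2, 3, 2, 1, 6, 0, 3, 2, 3, 6, 1, 2, 3, 2, 1, 6, 3],
  [2, 3, 2, 5, 6, 1, 2, 3, 2, 1, 6, 3, 2, 6, 1, 2, 3, 2, 1, 6, 3],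
  [2, 5, 3, 6, 1, 2, 3, 2, 1, 6, 0, 3, 2, 3, 2, 6, 1, 2, 3, 2, 1, 6],
  [2, 3, 4, 5, 3, 2, 6, 1, 2, 3, 2, 1, 6, 4, 3, 2],
  [2, 3, 2, 6, 1, 2, 3, 2, 1, 6, 3, 2, 5, 3, 0, 1, 0, 1, 2, 6, 1, 2, 3, 2, 1, 6],
  [2, 3, 0, 1, 0, 1, 2, 6, 1, 2, 3, 2, 1, 6, 3],
  [2, 3, 2, 3, 6, 1, 2, 3, 2, 1, 6, 3, 2, 6, 1, 2, 3, 2, 1, 6, 3, 2, 4, 5],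
  [2, 3, 2, 6, 1, 2, 3, 2, 1, 6, 0, 1, 0, 1],
  [2, 3, 6, 1, 2, 3, 2, 1, 6, 3, 2, 6, 1, 2, 3, 2, 1, 6, 5, 3, 2],
  [2, 5, 3, 6, 1, 2, 3, 2, 1, 6, 0, 3, 2],
  [2, 5, 6, 1, 2, 3, 2, 1, 6, 0, 3, 2, 0, 1, 0, 1],
  [2, 3, 4, 5, 3, 6, 1, 2, 3, 2, 1, 6, 3, 2, 4, 3, 5],
  [6, 1, 2, 3, 2, 1, 6, 3, 2, 3, 5, 6, 1, 2, 3, 2, 1, 6],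
  [2, 3, 0, 1, 0, 1, 6, 1, 2, 3, 2, 1, 6, 3, 2, 3, 5, 3],
  [2, 3, 2, 3, 6, 1, 2, 3, 2, 1, 6, 3, 2, 3, 0, 1, 0, 1],
  [2, 5, 3, 6, 1, 2, 3, 2, 1, 6, 0, 3, 2, 3, 4, 5],
  [6, 1, 2, 3, 2, 1, 6, 3, 2, 3, 5, 6, 1, 2, 3, 2, 1, 6, 5, 6, 1, 2, 3, 2, 1, 6],
  [2, 5, 6, 1, 2, 3, 2, 1, 6, 0, 3, 2, 3, 4],
  [2, 6, 1, 2, 3, 2, 1, 6, 3, 2, 3, 5, 0, 1, 0, 1, 6, 1, 2, 3, 2, 1, 6],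
  [2, 6, 1, 2, 3, 2, 1, 6, 3, 6, 1, 2, 3, 2, 1, 6, 5, 3, 2, 3, 2],
  [2, 3, 2, 3, 6, 1, 2, 3, 2, 1, 6, 3, 2, 6, 1, 2, 3, 2, 1, 6, 3, 0, 1, 0, 1, 2],
  [2, 3, 2, 6, 1, 2, 3, 2, 1, 6, 0, 5],
  [2, 5, 6, 1, 2, 3, 2, 1, 6, 0, 3, 2],
  [2, 4, 6, 1, 2, 3, 2, 1, 6, 3, 2, 5, 6, 1, 2, 3, 2, 1, 6, 3, 5],
  [6, 1, 2, 3, 2, 1, 6, 3, 2, 3, 5, 6, 1, 2, 3, 2, 1, 6, 0, 1, 0, 1],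
  [2, 5, 3, 6, 1, 2, 3, 2, 1, 6, 0, 3, 2, 3, 5, 3],
  [2, 5, 3, 6, 1, 2, 3, 2, 1, 6, 0, 3, 2, 0, 1, 0, 1],
  [2, 5, 3, 6, 1, 2, 3, 2, 1, 6, 0, 3, 2, 3, 4],
  [2, 5, 6, 1, 2, 3, 2, 1, 6, 0, 3, 2, 3, 4, 0, 1, 0, 1],
  [2, 5, 6, 1, 2, 3, 2, 1, 6, 0, 3, 2, 3, 4, 5],
  [6, 1, 2, 3, 2, 1, 6, 3, 2, 3, 6, 1, 2, 3, 2, 1, 6, 5, 6, 1, 2, 3, 2, 1, 6],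
  [2, 6, 1, 2, 3, 2, 1, 6, 3, 4, 5, 3, 2, 3, 5, 6, 1, 2, 3, 2, 1, 6],
  [2, 3, 2, 6, 1, 2, 3, 2, 1, 6, 0, 3],
  [2, 3, 2, 6, 1, 2, 3, 2, 1, 6, 3, 2, 3, 5, 3, 2, 6, 1, 2, 3, 2, 1, 6, 3],
  [2, 3, 2, 6, 1, 2, 3, 2, 1, 6, 0, 3, 2, 3, 5, 3, 2],
  [2, 3, 2, 4, 6, 1, 2, 3, 2, 1, 6],
  [2, 3, 6, 1, 2, 3, 2, 1, 6, 3, 2, 5, 3],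
  [2, 3, 2, 6, 1, 2, 3, 2, 1, 6, 3, 0, 1, 0, 1, 2, 3, 6, 1, 2, 3, 2, 1, 6, 3],
  [2, 6, 1, 2, 3, 2, 1, 6, 3, 6, 1, 2, 3, 2, 1, 6, 0, 1, 0, 1, 2, 3, 4, 5],
  [2, 6, 1, 2, 3, 2, 1, 6, 3, 2, 6, 1, 2, 3, 2, 1, 6, 4, 3, 5],
  [2, 6, 1, 2, 3, 2, 1, 6, 3, 2, 3, 2, 5, 3, 2, 0, 1, 0, 1],
  [2, 3, 5, 3, 6, 1, 2, 3, 2, 1, 6, 0, 1, 0, 1, 2, 3, 2, 3, 6, 1, 2, 3, 2, 1, 6],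
  [2, 6, 1, 2, 3, 2, 1, 6, 0, 3, 5, 6, 1, 2, 3, 2, 1, 6, 5],
  [4, 3, 6, 1, 2, 3, 2, 1, 6, 3, 2, 3, 2, 6, 1, 2, 3, 2, 1, 6, 3, 6, 1, 2, 3, 2, 1, 6],
  [2, 6, 1, 2, 3, 2, 1, 6, 5, 6, 1, 2, 3, 2, 1, 6, 3, 4],
  [6, 1, 2, 3, 2, 1, 6, 3, 2, 6, 1, 2, 3, 2, 1, 6, 3, 2, 0, 1, 0, 1, 6, 1, 2, 3, 2, 1, 6, 3, 4],
  [2, 6, 1, 2, 3, 2, 1, 6, 3, 2, 3, 2, 5, 3, 2],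
  [2, 3, 5, 6, 1, 2, 3, 2, 1, 6, 3, 2, 3, 6, 1, 2, 3, 2, 1, 6, 3, 2, 4],
  [6, 1, 2, 3, 2, 1, 6, 3, 2, 3, 6, 1, 2, 3, 2, 1, 6, 4, 3, 2, 3, 5],
  [6, 1, 2, 3, 2, 1, 6, 3, 2, 3, 2, 5, 3, 0, 1, 0, 1, 2],
  [5, 6, 1, 2, 3, 2, 1, 6, 3, 2, 3, 2, 6, 1, 2, 3, 2, 1, 6, 3, 2, 0, 1, 0, 1],
  [6, 1, 2, 3, 2, 1, 6, 3, 2, 6, 1, 2, 3, 2, 1, 6, 3, 2, 0, 1, 0, 1, 6, 1, 2, 3, 2, 1, 6, 3, 5],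
  [2, 5, 6, 1, 2, 3, 2, 1, 6, 3, 4, 5, 6, 1, 2, 3, 2, 1, 6],
  [2, 6, 1, 2, 3, 2, 1, 6, 5, 6, 1, 2, 3, 2, 1, 6, 3, 5],
  [5, 6, 1, 2, 3, 2, 1, 6, 3, 2, 3, 2, 6, 1, 2, 3, 2, 1, 6, 3, 2],
  [6, 1, 2, 3, 2, 1, 6, 0, 3, 2, 3, 2, 5, 3, 2, 4],
  [2, 3, 6, 1, 2, 3, 2, 1, 6, 3, 2, 5, 3, 6, 1, 2, 3, 2, 1, 6, 5, 3],
  [2, 3, 6, 1, 2, 3, 2, 1, 6, 3, 2, 3, 0, 1, 0, 1, 6, 1, 2, 3, 2, 1, 6, 5, 3],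
  [2, 3, 6, 1, 2, 3, 2, 1, 6, 3, 2, 3, 4, 5, 3],
  [2, 3, 2, 3, 6, 1, 2, 3, 2, 1, 6, 3, 2, 4, 3, 5],
  [2, 3, 2, 5, 6, 1, 2, 3, 2, 1, 6, 3, 2, 6, 1, 2, 3, 2, 1, 6, 0, 1, 0, 1],
  [2, 5, 3, 6, 1, 2, 3, 2, 1, 6, 3, 2, 6, 1, 2, 3, 2, 1, 6, 3, 6, 1, 2, 3, 2, 1, 6, 4],
  [2, 6, 1, 2, 3, 2, 1, 6, 3, 2, 6, 1, 2, 3, 2, 1, 6, 3, 2, 6, 1, 2, 3, 2, 1, 6, 4, 5],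
  [2, 6, 1, 2, 3, 2, 1, 6, 3, 2, 6, 1, 2, 3, 2, 1, 6, 0, 3, 4],
  [2, 4, 6, 1, 2, 3, 2, 1, 6, 3, 2, 6, 1, 2, 3, 2, 1, 6],
  [6, 1, 2, 3, 2, 1, 6, 3, 2, 3, 2, 3, 5, 6, 1, 2, 3, 2, 1, 6, 0, 1, 0, 1],
  [2, 3, 6, 1, 2, 3, 2, 1, 6, 3, 5, 3],
  [2, 6, 1, 2, 3, 2, 1, 6, 0, 3, 2, 5, 3, 6, 1, 2, 3, 2, 1, 6],
  [2, 3, 6, 1, 2, 3, 2, 1, 6, 3, 2, 3, 5, 3, 2],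
  [2, 3, 6, 1, 2, 3, 2, 1, 6, 3, 2, 4, 3, 5, 3, 4],
  [2, 3, 2, 3, 6, 1, 2, 3, 2, 1, 6, 3, 2, 3, 4],
  [2, 3, 2, 3, 6, 1, 2, 3, 2, 1, 6, 3, 2, 3, 5],
  [2, 3, 6, 1, 2, 3, 2, 1, 6, 3, 2, 4, 5, 3],
  [2, 3, 2, 3, 6, 1, 2, 3, 2, 1, 6, 3, 2, 3, 4, 0, 1, 0, 1],
  [2, 3, 0, 1, 0, 1, 6, 1, 2, 3, 2, 1, 6, 3, 2, 3, 5, 3, 4],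
  [2, 3, 2, 3, 6, 1, 2, 3, 2, 1, 6, 0, 3, 2, 3, 6, 1, 2, 3, 2, 1, 6, 3],
  [2, 3, 5, 0, 1, 0, 1, 6, 1, 2, 3, 2, 1, 6, 3, 2, 3, 2, 6, 1, 2, 3, 2, 1, 6],
  [2, 6, 1, 2, 3, 2, 1, 6, 3, 2, 3, 2, 6, 1, 2, 3, 2, 1, 6, 3, 2, 0, 1, 0, 1],
  [2, 3, 2, 5, 0, 1, 0, 1, 6, 1, 2, 3, 2, 1, 6, 3, 2, 6, 1, 2, 3, 2, 1, 6, 3],
  [2, 3, 0, 1, 0, 1, 6, 1, 2, 3, 2, 1, 6, 3, 2, 6, 1, 2, 3, 2, 1, 6, 3, 2, 6, 1, 2, 3, 2, 1, 6],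
  [2, 3, 6, 1, 2, 3, 2, 1, 6, 3, 6, 1, 2, 3, 2, 1, 6, 5, 3, 2, 3, 6, 1, 2, 3, 2, 1, 6],
  [2, 3, 2, 0, 1, 0, 1, 6, 1, 2, 3, 2, 1, 6, 3, 2, 3, 5, 6, 1, 2, 3, 2, 1, 6],
  [2, 3, 2, 5, 6, 1, 2, 3, 2, 1, 6, 3, 6, 1, 2, 3, 2, 1, 6, 0, 1, 0, 1, 2, 3],
  [2, 3, 5, 6, 1, 2, 3, 2, 1, 6, 3, 2, 4, 3, 2, 0, 1, 0, 1, 6, 1, 2, 3, 2, 1, 6],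
  [2, 3, 0, 1, 0, 1, 6, 1, 2, 3, 2, 1, 6, 3, 2, 3, 2, 6, 1, 2, 3, 2, 1, 6],
  [2, 6, 1, 2, 3, 2, 1, 6, 3, 2, 6, 1, 2, 3, 2, 1, 6, 3, 2, 6, 1, 2, 3, 2, 1, 6, 4, 3],
  [2, 3, 0, 1, 0, 1, 2, 6, 1, 2, 3, 2, 1, 6, 5, 6, 1, 2, 3, 2, 1, 6, 3, 2, 3],
  [2, 3, 2, 5, 6, 1, 2, 3, 2, 1, 6, 0, 3, 2, 0, 1, 0, 1, 6, 1, 2, 3, 2, 1, 6],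
  [2, 6, 1, 2, 3, 2, 1, 6, 3, 6, 1, 2, 3, 2, 1, 6, 5, 3, 2, 3, 6, 1, 2, 3, 2, 1, 6, 3],
  [2, 5, 6, 1, 2, 3, 2, 1, 6, 3, 2, 6, 1, 2, 3, 2, 1, 6, 3, 2, 6, 1, 2, 3, 2, 1, 6, 4],
  [2, 6, 1, 2, 3, 2, 1, 6, 0, 3, 2, 4, 6, 1, 2, 3, 2, 1, 6],
  [2, 6, 1, 2, 3, 2, 1, 6, 3, 2, 6, 1, 2, 3, 2, 1, 6, 3, 4, 0, 1, 0, 1],
  [2, 3, 6, 1, 2, 3, 2, 1, 6, 0, 1, 0, 1, 2, 3, 4],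
  [2, 3, 2, 3, 6, 1, 2, 3, 2, 1, 6, 3, 2, 6, 1, 2, 3, 2, 1, 6, 3, 2, 6, 1, 2, 3, 2, 1, 6],
  [2, 3, 2, 6, 1, 2, 3, 2, 1, 6, 3, 2, 5, 3, 0, 1, 0, 1, 2],
  [2, 3, 2, 0, 1, 0, 1, 6, 1, 2, 3, 2, 1, 6, 5],
  [2, 5, 3, 6, 1, 2, 3, 2, 1, 6, 3, 2, 3, 5, 0, 1, 0, 1],
  [5, 6, 1, 2, 3, 2, 1, 6, 0, 3, 2, 3, 6, 1, 2, 3, 2, 1, 6, 0],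
  [2, 5, 6, 1, 2, 3, 2, 1, 6, 3, 2, 3, 0, 1, 0, 1],
  [2, 5, 6, 1, 2, 3, 2, 1, 6, 3, 2, 3, 5],
  [2, 5, 3, 6, 1, 2, 3, 2, 1, 6, 3, 2, 3],
  [2, 5, 3, 6, 1, 2, 3, 2, 1, 6, 3, 5],
  [6, 1, 2, 3, 2, 1, 6, 3, 2, 3, 2, 5, 6, 1, 2, 3, 2, 1, 6, 3, 5],
  [2, 4, 5, 3, 6, 1, 2, 3, 2, 1, 6, 3, 5],
  [2, 5, 6, 1, 2, 3, 2, 1, 6, 3, 2, 3, 2, 5, 3],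
  [2, 3, 6, 1, 2, 3, 2, 1, 6, 0, 3, 5, 3],
  [2, 4, 6, 1, 2, 3, 2, 1, 6, 3, 2, 5, 3, 2, 6, 1, 2, 3, 2, 1, 6],
  [2, 3, 2, 5, 6, 1, 2, 3, 2, 1, 6, 3, 2, 6, 1, 2, 3, 2, 1, 6, 3, 6, 1, 2, 3, 2, 1, 6],
  [2, 3, 6, 1, 2, 3, 2, 1, 6, 3, 2, 3, 5, 3, 6, 1, 2, 3, 2, 1, 6],
  [2, 6, 1, 2, 3, 2, 1, 6, 3, 2, 6, 1, 2, 3, 2, 1, 6, 3, 0, 1, 0, 1, 2, 6, 1, 2, 3, 2, 1, 6, 3],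
  [6, 1, 2, 3, 2, 1, 6, 3, 2, 3, 2, 6, 1, 2, 3, 2, 1, 6, 4, 5, 3, 6, 1, 2, 3, 2, 1, 6],
  [6, 1, 2, 3, 2, 1, 6, 0, 3, 2, 6, 1, 2, 3, 2, 1, 6, 3, 2, 5, 3, 2],
  [2, 3, 6, 1, 2, 3, 2, 1, 6, 3, 2, 3, 4, 5, 3, 4, 0, 1, 0, 1],
  [2, 6, 1, 2, 3, 2, 1, 6, 3, 2, 3, 6, 1, 2, 3, 2, 1, 6, 4, 3, 5],
  [2, 6, 1, 2, 3, 2, 1, 6, 3, 2, 3, 5, 3, 0, 1, 0, 1, 6, 1, 2, 3, 2, 1, 6],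
  [2, 3, 2, 6, 1, 2, 3, 2, 1, 6, 3, 2, 6, 1, 2, 3, 2, 1, 6, 3, 4, 6, 1, 2, 3, 2, 1, 6],
  [2, 3, 6, 1, 2, 3, 2, 1, 6, 3, 5, 0, 1, 0, 1, 2, 3],
  [2, 5, 6, 1, 2, 3, 2, 1, 6, 3, 2, 5, 3, 2, 6, 1, 2, 3, 2, 1, 6],
  [2, 3, 2, 3, 6, 1, 2, 3, 2, 1, 6, 0, 3, 2, 3, 4],
  [6, 1, 2, 3, 2, 1, 6, 3, 2, 3, 2, 4, 6, 1, 2, 3, 2, 1, 6, 3, 2],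
  [2, 3, 5, 6, 1, 2, 3, 2, 1, 6, 3, 2, 3, 2, 6, 1, 2, 3, 2, 1, 6],
  [2, 5, 6, 1, 2, 3, 2, 1, 6, 3, 2, 3],
  [2, 4, 6, 1, 2, 3, 2, 1, 6, 3, 2, 5, 3, 6, 1, 2, 3, 2, 1, 6],
  [2, 5, 3, 6, 1, 2, 3, 2, 1, 6, 3, 2, 3, 0, 1, 0, 1],
  [5, 6, 1, 2, 3, 2, 1, 6, 3, 2, 3, 0, 1, 0, 1, 6, 1, 2, 3, 2, 1, 6],
  [2, 5, 3, 6, 1, 2, 3, 2, 1, 6, 3, 2, 3, 5],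
  [2, 3, 2, 6, 1, 2, 3, 2, 1, 6, 3, 2, 5, 3, 2, 4, 3],
  [2, 3, 2, 6, 1, 2, 3, 2, 1, 6, 5, 3],
  [2, 3, 6, 1, 2, 3, 2, 1, 6, 3, 2, 3, 2, 6, 1, 2, 3, 2, 1, 6, 0],
  [2, 3, 5, 6, 1, 2, 3, 2, 1, 6, 4, 3, 2, 3, 6, 1, 2, 3, 2, 1, 6],
  [2, 3, 6, 1, 2, 3, 2, 1, 6, 3, 2, 5, 3, 6, 1, 2, 3, 2, 1, 6, 5],
  [2, 3, 6, 1, 2, 3, 2, 1, 6, 3, 2, 3, 0, 1, 0, 1, 6, 1, 2, 3, 2, 1, 6, 5],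
  [2, 3, 2, 6, 1, 2, 3, 2, 1, 6, 3, 4],
  [2, 3, 2, 6, 1, 2, 3, 2, 1, 6, 0, 3, 2, 5, 3, 2, 6, 1, 2, 3, 2, 1, 6, 3],
  [2, 3, 2, 6, 1, 2, 3, 2, 1, 6, 3, 5],
  [2, 4, 5, 3, 2, 6, 1, 2, 3, 2, 1, 6, 3, 2, 5, 3, 0, 1, 0, 1, 2],
  [2, 3, 2, 6, 1, 2, 3, 2, 1, 6, 3, 2, 3, 5, 3, 2, 3],
  [2, 3, 2, 6, 1, 2, 3, 2, 1, 6, 4, 3],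
  [2, 6, 1, 2, 3, 2, 1, 6, 3, 2, 6, 1, 2, 3, 2, 1, 6, 3, 6, 1, 2, 3, 2, 1, 6, 3, 2],
  [2, 4, 5, 3, 2, 6, 1, 2, 3, 2, 1, 6, 3],
  [2, 5, 6, 1, 2, 3, 2, 1, 6, 3, 2, 6, 1, 2, 3, 2, 1, 6, 4, 3],
  [2, 6, 1, 2, 3, 2, 1, 6, 0, 3, 2, 3, 6, 1, 2, 3, 2, 1, 6, 0, 1, 0, 1, 2],
  [2, 3, 6, 1, 2, 3, 2, 1, 6, 3, 2, 5, 3, 6, 1, 2, 3, 2, 1, 6, 3, 0, 1, 0, 1],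
  [2, 3, 6, 1, 2, 3, 2, 1, 6, 0, 3, 2, 5, 3, 4],
  [2, 3, 2, 6, 1, 2, 3, 2, 1, 6, 3, 2, 6, 1, 2, 3, 2, 1, 6, 3, 0, 1, 0, 1, 6, 1, 2, 3, 2, 1, 6, 3],
  [2, 6, 1, 2, 3, 2, 1, 6, 3, 2, 4, 3, 5, 6, 1, 2, 3, 2, 1, 6, 3, 2],
  [2, 3, 0, 1, 0, 1, 6, 1, 2, 3, 2, 1, 6, 3, 2, 3, 5, 3, 6, 1, 2, 3, 2, 1, 6],
  [2, 3, 5, 6, 1, 2, 3, 2, 1, 6, 0, 3, 2, 6, 1, 2, 3, 2, 1, 6, 3],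
  [2, 3, 2, 6, 1, 2, 3, 2, 1, 6, 3, 2, 4, 3, 6, 1, 2, 3, 2, 1, 6, 3],
  [2, 3, 5, 6, 1, 2, 3, 2, 1, 6, 0, 3, 4, 6, 1, 2, 3, 2, 1, 6],
  [2, 3, 0, 1, 0, 1, 6, 1, 2, 3, 2, 1, 6, 3, 2, 6, 1, 2, 3, 2, 1, 6, 3, 4],
  [2, 3, 6, 1, 2, 3, 2, 1, 6, 3, 2, 6, 1, 2, 3, 2, 1, 6, 3, 4, 3],
  [2, 3, 2, 6, 1, 2, 3, 2, 1, 6, 3, 2, 3, 6, 1, 2, 3, 2, 1, 6, 4],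
  [2, 5, 6, 1, 2, 3, 2, 1, 6, 3, 6, 1, 2, 3, 2, 1, 6, 0, 1, 0, 1, 2, 3, 2],
  [2, 3, 2, 6, 1, 2, 3, 2, 1, 6, 4, 3, 2, 3, 5],
  [2, 3, 2, 6, 1, 2, 3, 2, 1, 6, 3, 2, 3, 4, 3, 6, 1, 2, 3, 2, 1, 6],
  [2, 3, 6, 1, 2, 3, 2, 1, 6, 3, 4, 5, 6, 1, 2, 3, 2, 1, 6],
  [2, 3, 2, 6, 1, 2, 3, 2, 1, 6, 3, 2, 6, 1, 2, 3, 2, 1, 6, 4, 3, 2, 3, 6, 1, 2, 3, 2, 1, 6, 0, 1, 0, 1],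
  [2, 3, 6, 1, 2, 3, 2, 1, 6, 5, 3, 2, 4, 3],
  [2, 6, 1, 2, 3, 2, 1, 6, 0, 3, 2, 5, 3, 6, 1, 2, 3, 2, 1, 6, 0],
  [2, 5, 6, 1, 2, 3, 2, 1, 6, 3, 2, 5, 3, 0, 1, 0, 1, 6, 1, 2, 3, 2, 1, 6],
  [2, 5, 6, 1, 2, 3, 2, 1, 6, 0, 3, 2, 5, 3, 6, 1, 2, 3, 2, 1, 6, 3],
  [2, 4, 6, 1, 2, 3, 2, 1, 6, 3, 2, 6, 1, 2, 3, 2, 1, 6, 3, 5],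
  [2, 4, 6, 1, 2, 3, 2, 1, 6, 3, 2, 6, 1, 2, 3, 2, 1, 6, 3, 4],
  [2, 6, 1, 2, 3, 2, 1, 6, 0, 3, 2, 4, 6, 1, 2, 3, 2, 1, 6, 3],
  [6, 1, 2, 3, 2, 1, 6, 3, 2, 3, 2, 5, 3, 2],
  [4, 3, 6, 1, 2, 3, 2, 1, 6, 3, 2, 3, 2, 5, 3, 6, 1, 2, 3, 2, 1, 6, 0, 1, 0, 1],
  [6, 1, 2, 3, 2, 1, 6, 3, 2, 3, 2, 6, 1, 2, 3, 2, 1, 6, 5, 3, 2, 4],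
  [4, 3, 6, 1, 2, 3, 2, 1, 6, 3, 2, 3, 2, 5, 3, 6, 1, 2, 3, 2, 1, 6],
  [5, 6, 1, 2, 3, 2, 1, 6, 3, 2, 3, 2, 6, 1, 2, 3, 2, 1, 6, 3, 0, 1, 0, 1, 2],
  [2, 6, 1, 2, 3, 2, 1, 6, 3, 5, 0, 1, 0, 1, 6, 1, 2, 3, 2, 1, 6],
  [2, 5, 6, 1, 2, 3, 2, 1, 6, 0, 3, 5, 6, 1, 2, 3, 2, 1, 6],
  [6, 1, 2, 3, 2, 1, 6, 3, 2, 3, 2, 5, 3, 2, 0, 1, 0, 1],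
  [2, 3, 2, 3, 6, 1, 2, 3, 2, 1, 6, 3, 2, 6, 1, 2, 3, 2, 1, 6, 3, 2, 4],
  [2, 3, 2, 6, 1, 2, 3, 2, 1, 6, 5, 0, 1, 0, 1],
  [6, 1, 2, 3, 2, 1, 6, 3, 2, 3, 2, 5, 3, 0, 1, 0, 1, 6, 1, 2, 3, 2, 1, 6, 5],
  [6, 1, 2, 3, 2, 1, 6, 3, 2, 3, 2, 3, 6, 1, 2, 3, 2, 1, 6, 4, 5, 3],
  [2, 6, 1, 2, 3, 2, 1, 6, 3, 0, 1, 0, 1, 2, 6, 1, 2, 3, 2, 1, 6, 3, 2, 5],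
  [2, 3, 4, 6, 1, 2, 3, 2, 1, 6, 3, 2, 3, 2, 5, 6, 1, 2, 3, 2, 1, 6],
  [6, 1, 2, 3, 2, 1, 6, 0, 3, 2, 3, 2, 5, 3, 6, 1, 2, 3, 2, 1, 6, 0],
  [2, 3, 6, 1, 2, 3, 2, 1, 6, 0, 3, 2, 3, 6, 1, 2, 3, 2, 1, 6, 5, 3],
  [6, 1, 2, 3, 2, 1, 6, 3, 2, 3, 2, 6, 1, 2, 3, 2, 1, 6, 0],
  [2, 6, 1, 2, 3, 2, 1, 6, 3, 2, 4, 5, 3, 6, 1, 2, 3, 2, 1, 6, 3],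
  [6, 1, 2, 3, 2, 1, 6, 0, 3, 2, 6, 1, 2, 3, 2, 1, 6, 3, 2, 5, 3, 4],
  [4, 3, 6, 1, 2, 3, 2, 1, 6, 3, 2, 3, 2, 5],
  [5, 6, 1, 2, 3, 2, 1, 6, 3, 2, 3, 2, 6, 1, 2, 3, 2, 1, 6, 3, 6, 1, 2, 3, 2, 1, 6, 5],
  [2, 3, 2, 3, 6, 1, 2, 3, 2, 1, 6, 3, 2, 4, 3, 5, 6, 1, 2, 3, 2, 1, 6],
  [5, 6, 1, 2, 3, 2, 1, 6, 3, 2, 3, 2, 6, 1, 2, 3, 2, 1, 6, 3, 6, 1, 2, 3, 2, 1, 6, 4],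
  [2, 3, 2, 3, 6, 1, 2, 3, 2, 1, 6, 0, 3, 2, 4, 3],
  [2, 3, 5, 0, 1, 0, 1, 6, 1, 2, 3, 2, 1, 6, 3, 2, 3],
  [2, 3, 5, 6, 1, 2, 3, 2, 1, 6, 3, 2, 3, 4, 3, 5],
  [2, 3, 5, 3, 6, 1, 2, 3, 2, 1, 6, 3, 2, 4, 3],
  [2, 3, 6, 1, 2, 3, 2, 1, 6, 5, 6, 1, 2, 3, 2, 1, 6, 4, 3, 2],
  [2, 3, 2, 4, 6, 1, 2, 3, 2, 1, 6, 3, 2, 3, 2],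
  [2, 3, 6, 1, 2, 3, 2, 1, 6, 3, 2, 3, 5, 6, 1, 2, 3, 2, 1, 6, 3],
  [2, 3, 2, 5, 6, 1, 2, 3, 2, 1, 6, 3, 2, 4, 3],
  [2, 5, 6, 1, 2, 3, 2, 1, 6, 3, 6, 1, 2, 3, 2, 1, 6, 5, 3, 2],
  [2, 3, 5, 3, 0, 1, 0, 1, 2, 6, 1, 2, 3, 2, 1, 6],
  [2, 3, 2, 5, 6, 1, 2, 3, 2, 1, 6, 3, 2, 3, 0, 1, 0, 1],
  [2, 3, 2, 0, 1, 0, 1, 6, 1, 2, 3, 2, 1, 6, 3, 2, 6, 1, 2, 3, 2, 1, 6, 3, 2, 6, 1, 2, 3, 2, 1, 6],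
  [6, 1, 2, 3, 2, 1, 6, 3, 2, 3, 4, 6, 1, 2, 3, 2, 1, 6],
  [2, 3, 2, 5, 0, 1, 0, 1, 6, 1, 2, 3, 2, 1, 6, 3, 2, 3],
  [2, 6, 1, 2, 3, 2, 1, 6, 3, 2, 3, 2, 6, 1, 2, 3, 2, 1, 6, 5, 6, 1, 2, 3, 2, 1, 6],
  [2, 3, 6, 1, 2, 3, 2, 1, 6, 3, 2, 6, 1, 2, 3, 2, 1, 6, 5, 6, 1, 2, 3, 2, 1, 6, 3, 4],
  [2, 6, 1, 2, 3, 2, 1, 6, 0, 3, 2, 3, 6, 1, 2, 3, 2, 1, 6, 3, 2, 3],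
  [2, 3, 2, 5, 6, 1, 2, 3, 2, 1, 6, 3, 2, 3],
  [6, 1, 2, 3, 2, 1, 6, 3, 2, 3, 6, 1, 2, 3, 2, 1, 6, 4],
  [2, 3, 2, 6, 1, 2, 3, 2, 1, 6, 3, 2, 3, 4, 6, 1, 2, 3, 2, 1, 6, 3, 2],
  [2, 3, 2, 4, 6, 1, 2, 3, 2, 1, 6, 3, 2, 3, 2, 0, 1, 0, 1],
  [2, 3, 5, 3, 2, 6, 1, 2, 3, 2, 1, 6, 4],
  [2, 4, 5, 3, 2, 6, 1, 2, 3, 2, 1, 6, 3, 4, 5],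
  [2, 5, 6, 1, 2, 3, 2, 1, 6, 3, 2, 6, 1, 2, 3, 2, 1, 6, 3, 4, 3, 5],
  [2, 6, 1, 2, 3, 2, 1, 6, 3, 2, 6, 1, 2, 3, 2, 1, 6, 4, 3, 5, 6, 1, 2, 3, 2, 1, 6, 3],
  [2, 6, 1, 2, 3, 2, 1, 6, 3, 2, 5, 0, 1, 0, 1, 6, 1, 2, 3, 2, 1, 6, 3, 6, 1, 2, 3, 2, 1, 6],
  [2, 6, 1, 2, 3, 2, 1, 6, 3, 2, 6, 1, 2, 3, 2, 1, 6, 3, 6, 1, 2, 3, 2, 1, 6, 5, 6, 1, 2, 3, 2, 1, 6],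
  [2, 3, 5, 0, 1, 0, 1, 6, 1, 2, 3, 2, 1, 6, 3, 2],
  [2, 3, 5, 3, 6, 1, 2, 3, 2, 1, 6, 3, 2, 4],
  [5, 6, 1, 2, 3, 2, 1, 6, 0, 3, 2, 3, 2, 6, 1, 2, 3, 2, 1, 6, 0],
  [2, 5, 6, 1, 2, 3, 2, 1, 6, 3, 2, 3, 0, 1, 0, 1, 2],
  [2, 3, 6, 1, 2, 3, 2, 1, 6, 0, 5, 3],
  [2, 3, 6, 1, 2, 3, 2, 1, 6, 3, 2, 3, 4, 5, 3, 2, 3],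
  [2, 3, 5, 3, 2, 3, 6, 1, 2, 3, 2, 1, 6, 3, 2, 3, 4, 0, 1, 0, 1],
  [2, 3, 5, 3, 6, 1, 2, 3, 2, 1, 6, 3, 4],
  [2, 6, 1, 2, 3, 2, 1, 6, 3, 2, 3, 4, 6, 1, 2, 3, 2, 1, 6],
  [2, 3, 4, 6, 1, 2, 3, 2, 1, 6, 3, 2, 5, 3, 4],
  [2, 3, 5, 6, 1, 2, 3, 2, 1, 6, 3, 2, 5, 3, 2],
  [2, 6, 1, 2, 3, 2, 1, 6, 3, 2, 6, 1, 2, 3, 2, 1, 6, 3, 6, 1, 2, 3, 2, 1, 6, 4, 5],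
  [2, 6, 1, 2, 3, 2, 1, 6, 3, 5, 0, 1, 0, 1, 2, 6, 1, 2, 3, 2, 1, 6, 3, 6, 1, 2, 3, 2, 1, 6],
  [6, 1, 2, 3, 2, 1, 6, 3, 2, 6, 1, 2, 3, 2, 1, 6, 3, 2, 0, 1, 0, 1, 6, 1, 2, 3, 2, 1, 6, 3, 2],
  [2, 4, 6, 1, 2, 3, 2, 1, 6, 3, 2, 6, 1, 2, 3, 2, 1, 6, 3, 2, 6, 1, 2, 3, 2, 1, 6, 4],
  [2, 3, 2, 4, 6, 1, 2, 3, 2, 1, 6, 3, 2, 6, 1, 2, 3, 2, 1, 6, 3, 6, 1, 2, 3, 2, 1, 6, 3],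
  [2, 3, 6, 1, 2, 3, 2, 1, 6, 4, 3, 2, 3, 6, 1, 2, 3, 2, 1, 6],
  [2, 3, 2, 6, 1, 2, 3, 2, 1, 6, 3, 2, 6, 1, 2, 3, 2, 1, 6, 4, 3, 6, 1, 2, 3, 2, 1, 6],
  [2, 3, 6, 1, 2, 3, 2, 1, 6, 0, 3, 2, 3, 2, 4],
  [2, 3, 5, 0, 1, 0, 1, 2, 6, 1, 2, 3, 2, 1, 6, 3, 2, 3, 2, 5, 3],
  [2, 3, 2, 6, 1, 2, 3, 2, 1, 6, 3, 2, 5, 3, 6, 1, 2, 3, 2, 1, 6, 3, 0, 1, 0, 1],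
  [2, 6, 1, 2, 3, 2, 1, 6, 3, 2, 6, 1, 2, 3, 2, 1, 6, 3, 6, 1, 2, 3, 2, 1, 6, 0, 1, 0, 1],
  [2, 3, 2, 6, 1, 2, 3, 2, 1, 6, 3, 2, 3, 2, 4],
  [2, 3, 5, 6, 1, 2, 3, 2, 1, 6, 3, 2, 4, 3, 2, 5],
  [2, 3, 2, 6, 1, 2, 3, 2, 1, 6, 0, 3, 2, 3, 6, 1, 2, 3, 2, 1, 6, 0],
  [2, 3, 5, 3, 6, 1, 2, 3, 2, 1, 6, 3, 2, 3, 4],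
  [2, 6, 1, 2, 3, 2, 1, 6, 3, 5, 6, 1, 2, 3, 2, 1, 6, 3, 2, 3, 5],
  [2, 3, 5, 6, 1, 2, 3, 2, 1, 6, 3, 2, 3, 4, 0, 1, 0, 1],
  [2, 3, 2, 3, 6, 1, 2, 3, 2, 1, 6, 3, 2, 6, 1, 2, 3, 2, 1, 6, 3],
  [2, 3, 2, 6, 1, 2, 3, 2, 1, 6, 3, 2, 3, 5, 3],
  [2, 3, 5, 3, 2, 3, 6, 1, 2, 3, 2, 1, 6, 3, 2, 3, 5, 0, 1, 0, 1],
  [2, 6, 1, 2, 3, 2, 1, 6, 3, 2, 3, 0, 1, 0, 1, 6, 1, 2, 3, 2, 1, 6],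
  [2, 3, 5, 3, 2, 3, 6, 1, 2, 3, 2, 1, 6, 3, 2, 3],
  [2, 3, 5, 3, 6, 1, 2, 3, 2, 1, 6, 3, 5],
  [2, 6, 1, 2, 3, 2, 1, 6, 0, 3, 2, 6, 1, 2, 3, 2, 1, 6, 5, 3],
  [2, 3, 2, 5, 0, 1, 0, 1, 6, 1, 2, 3, 2, 1, 6, 3, 2, 6, 1, 2, 3, 2, 1, 6, 3, 6, 1, 2, 3, 2, 1, 6],
  [2, 3, 6, 1, 2, 3, 2, 1, 6, 3, 2, 3, 5, 0, 1, 0, 1, 2],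
  [2, 3, 6, 1, 2, 3, 2, 1, 6, 0, 3, 2, 3, 2],
  [2, 3, 2, 6, 1, 2, 3, 2, 1, 6, 3, 2, 3, 4, 6, 1, 2, 3, 2, 1, 6, 3],
  [2, 4, 5, 3, 6, 1, 2, 3, 2, 1, 6, 3, 2, 5, 3, 6, 1, 2, 3, 2, 1, 6, 3],
  [2, 3, 6, 1, 2, 3, 2, 1, 6, 4, 3, 2, 5, 3, 6, 1, 2, 3, 2, 1, 6],
  [2, 3, 5, 6, 1, 2, 3, 2, 1, 6, 3, 2, 3, 6, 1, 2, 3, 2, 1, 6, 0, 1, 0, 1],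
  [2, 3, 5, 6, 1, 2, 3, 2, 1, 6, 3, 2, 4, 3, 2],
  [2, 6, 1, 2, 3, 2, 1, 6, 3, 2, 6, 1, 2, 3, 2, 1, 6, 3, 6, 1, 2, 3, 2, 1, 6, 5, 0, 1, 0, 1],
  [2, 3, 2, 6, 1, 2, 3, 2, 1, 6, 3, 2, 3, 2, 4, 5],
  [2, 4, 6, 1, 2, 3, 2, 1, 6, 3, 2, 6, 1, 2, 3, 2, 1, 6, 3, 2, 6, 1, 2, 3, 2, 1, 6, 0, 1, 0, 1],
  [4, 3, 6, 1, 2, 3, 2, 1, 6, 3, 2, 3, 2, 6, 1, 2, 3, 2, 1, 6, 3, 2],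
  [2, 3, 2, 6, 1, 2, 3, 2, 1, 6, 3, 2, 3, 2],
  [2, 3, 2, 3, 6, 1, 2, 3, 2, 1, 6, 3, 2, 4, 3, 6, 1, 2, 3, 2, 1, 6, 0],
  [2, 3, 2, 6, 1, 2, 3, 2, 1, 6, 3, 2, 3, 4, 6, 1, 2, 3, 2, 1, 6],
  [2, 6, 1, 2, 3, 2, 1, 6, 3, 2, 6, 1, 2, 3, 2, 1, 6, 3, 4, 0, 1, 0, 1, 6, 1, 2, 3, 2, 1, 6],
  [2, 4, 5, 3, 6, 1, 2, 3, 2, 1, 6, 3, 2, 5, 3, 6, 1, 2, 3, 2, 1, 6],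
  [2, 3, 5, 3, 2, 3, 6, 1, 2, 3, 2, 1, 6, 3, 2, 3, 0, 1, 0, 1],
  [2, 6, 1, 2, 3, 2, 1, 6, 0, 3, 2, 3, 6, 1, 2, 3, 2, 1, 6, 0],
  [2, 3, 5, 3, 6, 1, 2, 3, 2, 1, 6, 3],
  [2, 3, 4, 6, 1, 2, 3, 2, 1, 6, 3, 2, 5, 3],
  [2, 3, 5, 3, 2, 3, 6, 1, 2, 3, 2, 1, 6, 3, 2, 3, 5],
  [2, 3, 5, 6, 1, 2, 3, 2, 1, 6, 3, 2, 3, 5, 3, 2, 3],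
  [2, 3, 2, 3, 6, 1, 2, 3, 2, 1, 6, 3, 0, 1, 0, 1, 2, 3, 6, 1, 2, 3, 2, 1, 6, 3],
  [2, 6, 1, 2, 3, 2, 1, 6, 3, 2, 6, 1, 2, 3, 2, 1, 6, 3, 6, 1, 2, 3, 2, 1, 6, 4, 3],
  [2, 3, 2, 0, 1, 0, 1, 6, 1, 2, 3, 2, 1, 6, 3, 2, 6, 1, 2, 3, 2, 1, 6, 3, 4, 6, 1, 2, 3, 2, 1, 6],
  [2, 3, 6, 1, 2, 3, 2, 1, 6, 0, 3, 2, 3, 2, 0, 1, 0, 1],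
  [2, 3, 2, 3, 6, 1, 2, 3, 2, 1, 6, 3, 2, 6, 1, 2, 3, 2, 1, 6, 3, 2, 6, 1, 2, 3, 2, 1, 6, 0, 1, 0, 1],
  [2, 3, 2, 4, 6, 1, 2, 3, 2, 1, 6, 3, 4],
  [2, 6, 1, 2, 3, 2, 1, 6, 3, 6, 1, 2, 3, 2, 1, 6, 5, 3, 2, 3, 4, 5],
  [2, 3, 6, 1, 2, 3, 2, 1, 6, 0, 3, 2, 4, 3, 2, 3],
  [2, 3, 0, 1, 0, 1, 6, 1, 2, 3, 2, 1, 6, 3, 2, 3, 2, 0, 1, 0, 1],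
  [2, 3, 6, 1, 2, 3, 2, 1, 6, 3, 0, 1, 0, 1, 2, 3, 2, 5],
  [2, 3, 6, 1, 2, 3, 2, 1, 6, 3, 2, 4, 3, 2, 0, 1, 0, 1],
  [2, 3, 6, 1, 2, 3, 2, 1, 6, 0, 3, 2, 4, 3, 2, 5],
  [2, 6, 1, 2, 3, 2, 1, 6, 3, 5, 0, 1, 0, 1, 2, 6, 1, 2, 3, 2, 1, 6, 3, 6, 1, 2, 3, 2, 1, 6, 4],
  [2, 3, 5, 6, 1, 2, 3, 2, 1, 6, 3, 2, 4, 3, 2, 0, 1, 0, 1],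
  [2, 3, 2, 6, 1, 2, 3, 2, 1, 6, 3, 2, 5, 3, 6, 1, 2, 3, 2, 1, 6, 3, 5],
  [2, 4, 6, 1, 2, 3, 2, 1, 6, 3, 2, 6, 1, 2, 3, 2, 1, 6, 3, 2, 6, 1, 2, 3, 2, 1, 6],
  [2, 6, 1, 2, 3, 2, 1, 6, 3, 2, 6, 1, 2, 3, 2, 1, 6, 3, 6, 1, 2, 3, 2, 1, 6, 5],
  [2, 6, 1, 2, 3, 2, 1, 6, 3, 2, 3, 5, 6, 1, 2, 3, 2, 1, 6, 4],
  [2, 3, 6, 1, 2, 3, 2, 1, 6, 3, 2, 3, 6, 1, 2, 3, 2, 1, 6],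
  [2, 3, 2, 3, 6, 1, 2, 3, 2, 1, 6, 3, 0, 1, 0, 1, 2, 3, 6, 1, 2, 3, 2, 1, 6],
  [2, 6, 1, 2, 3, 2, 1, 6, 3, 2, 6, 1, 2, 3, 2, 1, 6, 3, 6, 1, 2, 3, 2, 1, 6, 4],
  [2, 3, 2, 6, 1, 2, 3, 2, 1, 6, 3, 2, 3, 2, 0, 1, 0, 1],
  [2, 3, 5, 6, 1, 2, 3, 2, 1, 6, 3, 2, 3, 5, 3, 2],
  [2, 3, 2, 6, 1, 2, 3, 2, 1, 6, 3, 2, 3, 4, 6, 1, 2, 3, 2, 1, 6, 0, 1, 0, 1],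
  [2, 3, 2, 6, 1, 2, 3, 2, 1, 6, 3, 2, 3, 5, 0, 1, 0, 1],
  [2, 3, 2, 3, 6, 1, 2, 3, 2, 1, 6, 3, 2, 6, 1, 2, 3, 2, 1, 6, 0, 1, 0, 1],
  [2, 3, 5, 3, 6, 1, 2, 3, 2, 1, 6, 3, 2, 3],
  [2, 3, 5, 6, 1, 2, 3, 2, 1, 6, 3, 2, 3, 0, 1, 0, 1],
  [2, 3, 6, 1, 2, 3, 2, 1, 6, 3, 2, 3, 5, 0, 1, 0, 1, 6, 1, 2, 3, 2, 1, 6],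
  [2, 3, 5, 3, 6, 1, 2, 3, 2, 1, 6, 0, 3, 2],
  [6, 1, 2, 3, 2, 1, 6, 3, 2, 3, 2, 6, 1, 2, 3, 2, 1, 6, 5, 6, 1, 2, 3, 2, 1, 6],
  [2, 6, 1, 2, 3, 2, 1, 6, 3, 5, 6, 1, 2, 3, 2, 1, 6, 3, 2],
  [2, 3, 5, 3, 6, 1, 2, 3, 2, 1, 6, 3, 2, 3, 5],
  [2, 6, 1, 2, 3, 2, 1, 6, 3, 5, 6, 1, 2, 3, 2, 1, 6, 3, 2, 3, 4],
  [2, 3, 5, 6, 1, 2, 3, 2, 1, 6, 3, 2, 3, 5, 0, 1, 0, 1],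
  [2, 3, 5, 6, 1, 2, 3, 2, 1, 6, 0, 3],
  [2, 5, 6, 1, 2, 3, 2, 1, 6, 3, 2, 3, 2, 6, 1, 2, 3, 2, 1, 6, 3, 5],
  [2, 5, 3, 6, 1, 2, 3, 2, 1, 6, 0, 3, 2, 4, 3, 2],
  [2, 3, 5, 3, 6, 1, 2, 3, 2, 1, 6, 3, 2, 6, 1, 2, 3, 2, 1, 6, 4],
  [2, 5, 6, 1, 2, 3, 2, 1, 6, 3, 5, 6, 1, 2, 3, 2, 1, 6, 3, 2, 6, 1, 2, 3, 2, 1, 6],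
  [2, 3, 2, 3, 6, 1, 2, 3, 2, 1, 6, 0, 3, 2, 3, 5],
  [2, 3, 5, 6, 1, 2, 3, 2, 1, 6, 3, 2, 5, 6, 1, 2, 3, 2, 1, 6, 3],
  [2, 3, 4, 5, 3, 6, 1, 2, 3, 2, 1, 6, 4],
  [5, 6, 1, 2, 3, 2, 1, 6, 3, 2, 3, 2, 3, 4, 5],
  [2, 3, 2, 5, 6, 1, 2, 3, 2, 1, 6, 0, 3, 2, 6, 1, 2, 3, 2, 1, 6],
  [2, 3, 2, 6, 1, 2, 3, 2, 1, 6, 3, 2, 3, 4, 5, 3, 0, 1, 0, 1],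
  [5, 6, 1, 2, 3, 2, 1, 6, 3, 2, 3, 2, 3],
  [2, 6, 1, 2, 3, 2, 1, 6, 5, 3, 6, 1, 2, 3, 2, 1, 6, 3],
  [2, 6, 1, 2, 3, 2, 1, 6, 0, 5, 3, 6, 1, 2, 3, 2, 1, 6, 3, 2],
  [2, 6, 1, 2, 3, 2, 1, 6, 3, 6, 1, 2, 3, 2, 1, 6, 5, 3, 2, 6, 1, 2, 3, 2, 1, 6],
  [2, 6, 1, 2, 3, 2, 1, 6, 0, 5, 3, 6, 1, 2, 3, 2, 1, 6, 3, 2, 3, 4],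
  [2, 5, 3, 6, 1, 2, 3, 2, 1, 6, 0, 3, 2, 3, 2, 4],
  [5, 6, 1, 2, 3, 2, 1, 6, 3, 2, 3, 0, 1, 0, 1, 2],
  [2, 3, 6, 1, 2, 3, 2, 1, 6, 4, 5, 3],
  [2, 3, 2, 6, 1, 2, 3, 2, 1, 6, 0, 3, 2, 5, 3],
  [2, 3, 2, 4, 6, 1, 2, 3, 2, 1, 6, 3, 2, 6, 1, 2, 3, 2, 1, 6, 3, 5],
  [2, 5, 6, 1, 2, 3, 2, 1, 6, 3, 2, 3, 5, 6, 1, 2, 3, 2, 1, 6, 5],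
  [2, 3, 5, 6, 1, 2, 3, 2, 1, 6, 3, 2, 3, 6, 1, 2, 3, 2, 1, 6, 4],
  [2, 6, 1, 2, 3, 2, 1, 6, 3, 0, 1, 0, 1, 2, 3],
  [2, 6, 1, 2, 3, 2, 1, 6, 3, 2, 4, 6, 1, 2, 3, 2, 1, 6, 3, 6, 1, 2, 3, 2, 1, 6, 3],
  [2, 3, 2, 4, 6, 1, 2, 3, 2, 1, 6, 3, 2, 6, 1, 2, 3, 2, 1, 6],
  [2, 3, 2, 6, 1, 2, 3, 2, 1, 6, 0, 3, 2, 3, 5],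
  [2, 3, 2, 6, 1, 2, 3, 2, 1, 6, 3, 2, 5, 3, 0, 1, 0, 1],
  [2, 3, 2, 6, 1, 2, 3, 2, 1, 6, 3, 2, 3, 5, 3, 6, 1, 2, 3, 2, 1, 6],
  [2, 3, 6, 1, 2, 3, 2, 1, 6, 3, 2, 6, 1, 2, 3, 2, 1, 6, 3, 5],
  [2, 3, 2, 5, 6, 1, 2, 3, 2, 1, 6, 3, 2, 3, 6, 1, 2, 3, 2, 1, 6, 0, 1, 0, 1],
  [2, 3, 5, 6, 1, 2, 3, 2, 1, 6, 3, 6, 1, 2, 3, 2, 1, 6, 5, 0, 1, 0, 1],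
  [2, 3, 2, 4, 6, 1, 2, 3, 2, 1, 6, 3, 2, 3, 4],
  [2, 3, 6, 1, 2, 3, 2, 1, 6, 3, 2, 6, 1, 2, 3, 2, 1, 6, 3, 5, 0, 1, 0, 1],
  [2, 3, 2, 4, 6, 1, 2, 3, 2, 1, 6, 3, 2, 3, 4, 0, 1, 0, 1],
  [2, 3, 2, 5, 6, 1, 2, 3, 2, 1, 6, 3, 2, 3, 6, 1, 2, 3, 2, 1, 6],
  [2, 3, 5, 6, 1, 2, 3, 2, 1, 6, 3, 6, 1, 2, 3, 2, 1, 6, 5],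
  [2, 3, 2, 3, 6, 1, 2, 3, 2, 1, 6, 3, 2, 6, 1, 2, 3, 2, 1, 6, 3, 0, 1, 0, 1],
  [2, 3, 2, 6, 1, 2, 3, 2, 1, 6, 3, 2, 3, 5, 3, 0, 1, 0, 1],
  [2, 3, 2, 6, 1, 2, 3, 2, 1, 6, 3, 4, 0, 1, 0, 1],
  [6, 1, 2, 3, 2, 1, 6, 3, 2, 3, 2, 5, 3, 2, 6, 1, 2, 3, 2, 1, 6, 3, 2],
  [2, 5, 3, 4, 6, 1, 2, 3, 2, 1, 6],
  [5, 6, 1, 2, 3, 2, 1, 6, 3, 2, 3, 5, 0, 1, 0, 1, 2],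
  [2, 5, 3, 6, 1, 2, 3, 2, 1, 6, 3, 2, 3, 0, 1, 0, 1, 2],
  [2, 3, 6, 1, 2, 3, 2, 1, 6, 3, 2, 4, 3, 2, 3, 5],
  [2, 6, 1, 2, 3, 2, 1, 6, 5, 6, 1, 2, 3, 2, 1, 6, 3, 0, 1, 0, 1, 2, 3],
  [2, 3, 5, 6, 1, 2, 3, 2, 1, 6, 3, 2, 3, 6, 1, 2, 3, 2, 1, 6],
  [2, 3, 2, 5, 6, 1, 2, 3, 2, 1, 6, 3, 0, 1, 0, 1, 2, 6, 1, 2, 3, 2, 1, 6],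
  [2, 3, 2, 6, 1, 2, 3, 2, 1, 6, 3, 2, 3, 4, 5, 3, 4],
  [2, 3, 6, 1, 2, 3, 2, 1, 6, 5, 3, 4],
  [2, 5, 6, 1, 2, 3, 2, 1, 6, 3, 2, 3, 2, 0, 1, 0, 1],
  [2, 3, 2, 6, 1, 2, 3, 2, 1, 6, 3, 2, 5, 3, 4],
  [2, 3, 2, 3, 6, 1, 2, 3, 2, 1, 6, 3, 2, 6, 1, 2, 3, 2, 1, 6, 3, 4, 5],
  [2, 3, 5, 6, 1, 2, 3, 2, 1, 6, 0, 3, 2, 3, 4, 3],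
  [2, 3, 5, 6, 1, 2, 3, 2, 1, 6, 3, 2, 3, 5, 3],
  [2, 3, 5, 3, 6, 1, 2, 3, 2, 1, 6, 3, 2, 5, 3, 4],
  [2, 6, 1, 2, 3, 2, 1, 6, 3, 2, 4, 6, 1, 2, 3, 2, 1, 6, 3, 6, 1, 2, 3, 2, 1, 6, 0, 1, 0, 1],
  [2, 6, 1, 2, 3, 2, 1, 6, 0, 3, 2, 4],
  [6, 1, 2, 3, 2, 1, 6, 3, 2, 3, 2, 6, 1, 2, 3, 2, 1, 6],
  [2, 6, 1, 2, 3, 2, 1, 6, 3, 2, 3, 5, 6, 1, 2, 3, 2, 1, 6, 4, 3],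
  [6, 1, 2, 3, 2, 1, 6, 0, 3, 2, 6, 1, 2, 3, 2, 1, 6, 3, 2, 5, 3, 6, 1, 2, 3, 2, 1, 6],
  [6, 1, 2, 3, 2, 1, 6, 3, 2, 6, 1, 2, 3, 2, 1, 6, 3, 2, 5],
  [2, 3, 0, 1, 0, 1, 2, 6, 1, 2, 3, 2, 1, 6, 3, 2, 6, 1, 2, 3, 2, 1, 6],
  [2, 6, 1, 2, 3, 2, 1, 6, 3, 5, 0, 1, 0, 1, 2, 6, 1, 2, 3, 2, 1, 6, 3, 2, 6, 1, 2, 3, 2, 1, 6],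
  [2, 3, 0, 1, 0, 1, 2, 6, 1, 2, 3, 2, 1, 6, 3, 2, 6, 1, 2, 3, 2, 1, 6, 5],
  [2, 3, 2, 6, 1, 2, 3, 2, 1, 6, 0, 3, 2, 3, 4, 0, 1, 0, 1],
  [2, 3, 2, 6, 1, 2, 3, 2, 1, 6, 5, 6, 1, 2, 3, 2, 1, 6, 3, 0, 1, 0, 1, 2],
  [2, 3, 2, 6, 1, 2, 3, 2, 1, 6, 0, 3, 2, 3, 0, 1, 0, 1],
  [2, 3, 5, 6, 1, 2, 3, 2, 1, 6, 0, 3, 2],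
  [2, 5, 6, 1, 2, 3, 2, 1, 6, 3, 5, 6, 1, 2, 3, 2, 1, 6, 3, 2],
  [5, 6, 1, 2, 3, 2, 1, 6, 3, 2, 3, 0, 1, 0, 1, 2, 6, 1, 2, 3, 2, 1, 6],
  [2, 3, 2, 6, 1, 2, 3, 2, 1, 6, 3, 0, 1, 0, 1, 2, 3, 2, 5],
  [2, 3, 2, 6, 1, 2, 3, 2, 1, 6, 3, 2, 3, 4, 3, 2],
  [2, 3, 5, 6, 1, 2, 3, 2, 1, 6, 3, 2, 5],
  [2, 6, 1, 2, 3, 2, 1, 6, 3, 4, 3, 5, 3, 2],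
  [5, 6, 1, 2, 3, 2, 1, 6, 0, 3, 2, 3, 2, 6, 1, 2, 3, 2, 1, 6],
  [2, 3, 5, 6, 1, 2, 3, 2, 1, 6, 3, 2, 3, 4, 3],
  [2, 3, 5, 0, 1, 0, 1, 6, 1, 2, 3, 2, 1, 6, 3, 2, 3, 5],
  [2, 3, 5, 3, 0, 1, 0, 1, 6, 1, 2, 3, 2, 1, 6, 3, 2, 3, 4],
  [2, 3, 2, 4, 6, 1, 2, 3, 2, 1, 6, 5, 6, 1, 2, 3, 2, 1, 6, 3],
  [2, 3, 2, 3, 6, 1, 2, 3, 2, 1, 6, 3, 6, 1, 2, 3, 2, 1, 6, 5, 3],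
  [2, 3, 2, 4, 6, 1, 2, 3, 2, 1, 6, 3, 6, 1, 2, 3, 2, 1, 6, 3],
  [2, 3, 5, 6, 1, 2, 3, 2, 1, 6, 3, 6, 1, 2, 3, 2, 1, 6, 0, 1, 0, 1],
  [2, 3, 6, 1, 2, 3, 2, 1, 6, 3, 2, 6, 1, 2, 3, 2, 1, 6, 3, 0, 1, 0, 1],
  [2, 3, 6, 1, 2, 3, 2, 1, 6, 3, 2, 6, 1, 2, 3, 2, 1, 6, 3],
  [2, 3, 2, 6, 1, 2, 3, 2, 1, 6, 0, 3, 2, 4, 3, 6, 1, 2, 3, 2, 1, 6],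
  [2, 3, 2, 6, 1, 2, 3, 2, 1, 6, 0, 3, 2, 3, 0, 1, 0, 1, 6, 1, 2, 3, 2, 1, 6],
  [2, 3, 2, 4, 6, 1, 2, 3, 2, 1, 6, 3, 2, 3, 4, 5],
  [2, 3, 2, 6, 1, 2, 3, 2, 1, 6, 3, 2, 3, 6, 1, 2, 3, 2, 1, 6, 0],
  [2, 3, 5, 6, 1, 2, 3, 2, 1, 6, 3, 6, 1, 2, 3, 2, 1, 6],
  [2, 3, 4, 3, 6, 1, 2, 3, 2, 1, 6, 5, 6, 1, 2, 3, 2, 1, 6, 3],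
  [2, 3, 2, 5, 6, 1, 2, 3, 2, 1, 6, 3, 2, 4, 3, 2],
  [2, 3, 6, 1, 2, 3, 2, 1, 6, 3, 2, 6, 1, 2, 3, 2, 1, 6, 3, 4, 5],
  [2, 3, 2, 5, 6, 1, 2, 3, 2, 1, 6, 3, 2, 3, 6, 1, 2, 3, 2, 1, 6, 4],
  [2, 3, 2, 4, 6, 1, 2, 3, 2, 1, 6, 3, 2, 3, 0, 1, 0, 1],
  [2, 4, 5, 6, 1, 2, 3, 2, 1, 6, 3, 2, 6, 1, 2, 3, 2, 1, 6, 3, 2, 5],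
  [2, 3, 2, 4, 6, 1, 2, 3, 2, 1, 6, 3, 2, 3],
  [2, 3, 6, 1, 2, 3, 2, 1, 6, 5, 6, 1, 2, 3, 2, 1, 6, 4, 3],
  [2, 3, 5, 3, 6, 1, 2, 3, 2, 1, 6, 3, 6, 1, 2, 3, 2, 1, 6, 0, 1, 0, 1, 2],
  [2, 3, 5, 3, 6, 1, 2, 3, 2, 1, 6, 3, 2, 6, 1, 2, 3, 2, 1, 6],
  [2, 3, 2, 6, 1, 2, 3, 2, 1, 6, 3, 0, 1, 0, 1, 2, 3, 5],
  [2, 3, 2, 6, 1, 2, 3, 2, 1, 6, 3, 2, 3, 4, 3],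
  [2, 3, 2, 4, 6, 1, 2, 3, 2, 1, 6, 3, 2, 6, 1, 2, 3, 2, 1, 6, 5, 3, 6, 1, 2, 3, 2, 1, 6],
  [2, 3, 2, 6, 1, 2, 3, 2, 1, 6, 3, 4, 3, 2, 3, 4, 5],
  [2, 3, 0, 1, 0, 1, 6, 1, 2, 3, 2, 1, 6, 3, 2, 6, 1, 2, 3, 2, 1, 6, 5, 3],
  [2, 3, 6, 1, 2, 3, 2, 1, 6, 0, 1, 0, 1, 2, 3, 2, 3, 6, 1, 2, 3, 2, 1, 6, 5],
  [2, 5, 6, 1, 2, 3, 2, 1, 6, 3, 6, 1, 2, 3, 2, 1, 6],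
  [2, 3, 6, 1, 2, 3, 2, 1, 6, 3, 2, 6, 1, 2, 3, 2, 1, 6, 4, 5, 3],
  [2, 3, 6, 1, 2, 3, 2, 1, 6, 0, 1, 0, 1, 2, 3, 2, 3, 4, 5],
  [2, 5, 6, 1, 2, 3, 2, 1, 6, 3, 6, 1, 2, 3, 2, 1, 6, 0, 1, 0, 1],
  [2, 3, 5, 3, 0, 1, 0, 1, 6, 1, 2, 3, 2, 1, 6, 3, 2, 6, 1, 2, 3, 2, 1, 6],
  [2, 6, 1, 2, 3, 2, 1, 6, 3, 6, 1, 2, 3, 2, 1, 6, 3, 5, 3, 2],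
  [2, 3, 6, 1, 2, 3, 2, 1, 6, 3, 2, 4, 3, 2, 3, 0, 1, 0, 1],
  [2, 5, 3, 6, 1, 2, 3, 2, 1, 6, 3, 2, 3, 5, 6, 1, 2, 3, 2, 1, 6],
  [2, 3, 5, 0, 1, 0, 1, 6, 1, 2, 3, 2, 1, 6, 3],
  [2, 6, 1, 2, 3, 2, 1, 6, 3, 0, 1, 0, 1, 2, 6, 1, 2, 3, 2, 1, 6, 3, 2, 3, 6, 1, 2, 3, 2, 1, 6],
  [2, 5, 6, 1, 2, 3, 2, 1, 6, 3, 2, 3, 2, 6, 1, 2, 3, 2, 1, 6, 3],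
  [2, 4, 5, 3, 6, 1, 2, 3, 2, 1, 6, 3, 2, 3, 6, 1, 2, 3, 2, 1, 6, 5],
  [2, 6, 1, 2, 3, 2, 1, 6, 3, 6, 1, 2, 3, 2, 1, 6, 5, 3, 2, 3, 5],
  [6, 1, 2, 3, 2, 1, 6, 3, 2, 6, 1, 2, 3, 2, 1, 6, 3, 2, 5, 3, 4, 0, 1, 0, 1],
  [4, 3, 6, 1, 2, 3, 2, 1, 6, 3, 2, 3, 2, 5, 3],
  [2, 3, 6, 1, 2, 3, 2, 1, 6, 3, 2, 3, 5, 3],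
  [2, 6, 1, 2, 3, 2, 1, 6, 3, 2, 6, 1, 2, 3, 2, 1, 6, 0, 3, 2, 6, 1, 2, 3, 2, 1, 6, 0],
  [2, 3, 6, 1, 2, 3, 2, 1, 6, 4, 3, 2, 5, 3, 2],
  [2, 6, 1, 2, 3, 2, 1, 6, 0, 5, 3, 6, 1, 2, 3, 2, 1, 6, 3, 2, 3, 2],
  [2, 3, 5, 6, 1, 2, 3, 2, 1, 6, 3, 2, 5, 3, 6, 1, 2, 3, 2, 1, 6, 4],
  [2, 3, 4, 5, 3, 6, 1, 2, 3, 2, 1, 6, 3, 4],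
  [2, 5, 3, 6, 1, 2, 3, 2, 1, 6, 3, 0, 1, 0, 1],
  [5, 6, 1, 2, 3, 2, 1, 6, 3, 2, 3, 2, 5, 3],
  [6, 1, 2, 3, 2, 1, 6, 3, 2, 3, 2],
  [2, 3, 6, 1, 2, 3, 2, 1, 6, 5, 3, 2, 0, 1, 0, 1, 6, 1, 2, 3, 2, 1, 6],
  [6, 1, 2, 3, 2, 1, 6, 0, 3, 2, 3, 2, 5],
  [6, 1, 2, 3, 2, 1, 6, 3, 2, 6, 1, 2, 3, 2, 1, 6, 3, 2, 5, 3],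
  [4, 3, 6, 1, 2, 3, 2, 1, 6, 3, 2, 3, 2, 5, 3, 4, 0, 1, 0, 1],
  [2, 4, 6, 1, 2, 3, 2, 1, 6, 3, 2, 3, 6, 1, 2, 3, 2, 1, 6, 5, 0, 1, 0, 1],
  [2, 3, 6, 1, 2, 3, 2, 1, 6, 0, 3, 2, 5, 3, 6, 1, 2, 3, 2, 1, 6, 5],
  [2, 4, 6, 1, 2, 3, 2, 1, 6, 3, 2, 3, 6, 1, 2, 3, 2, 1, 6, 4, 5],
  [2, 3, 6, 1, 2, 3, 2, 1, 6, 3, 2, 4, 5, 3, 6, 1, 2, 3, 2, 1, 6, 4],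
  [2, 3, 2, 6, 1, 2, 3, 2, 1, 6, 0, 3, 2, 4, 3, 5],
  [2, 3, 2, 0, 1, 0, 1, 6, 1, 2, 3, 2, 1, 6, 3, 2, 3, 4],
  [2, 3, 5, 6, 1, 2, 3, 2, 1, 6, 0, 3, 4],
  [2, 4, 5, 3, 6, 1, 2, 3, 2, 1, 6, 3, 2, 3, 2, 5] ]
def cp5 : List (List ℕ) := [
  [2, 4, 5, 3, 6, 1, 2, 3, 2, 1, 6, 3, 2, 3, 2, 0, 1, 0, 1],
  [2, 6, 1, 2, 3, 2, 1, 6, 3, 5, 0, 1, 0, 1, 2, 6, 1, 2, 3, 2, 1, 6, 3, 5],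
  [6, 1, 2, 3, 2, 1, 6, 3, 2, 3, 2, 4, 6, 1, 2, 3, 2, 1, 6],
  [4, 3, 6, 1, 2, 3, 2, 1, 6, 3, 2, 3, 2, 5, 0, 1, 0, 1],
  [6, 1, 2, 3, 2, 1, 6, 3, 2, 6, 1, 2, 3, 2, 1, 6, 3, 2, 4, 5, 3, 4],
  [2, 3, 2, 4, 6, 1, 2, 3, 2, 1, 6, 3, 2, 6, 1, 2, 3, 2, 1, 6, 5],
  [2, 3, 2, 6, 1, 2, 3, 2, 1, 6, 0, 3, 2, 3],
  [6, 1, 2, 3, 2, 1, 6, 3, 2, 6, 1, 2, 3, 2, 1, 6, 3, 2, 5, 3, 6, 1, 2, 3, 2, 1, 6, 0],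
  [4, 3, 6, 1, 2, 3, 2, 1, 6, 3, 2, 3, 2, 0, 1, 0, 1],
  [6, 1, 2, 3, 2, 1, 6, 3, 2, 6, 1, 2, 3, 2, 1, 6, 3, 2, 4, 5, 3],
  [6, 1, 2, 3, 2, 1, 6, 3, 2, 6, 1, 2, 3, 2, 1, 6, 3, 5, 0, 1, 0, 1, 2],
  [5, 6, 1, 2, 3, 2, 1, 6, 3, 2, 3, 2, 5, 6, 1, 2, 3, 2, 1, 6, 3],
  [2, 5, 3, 6, 1, 2, 3, 2, 1, 6, 0, 3],
  [2, 3, 5, 6, 1, 2, 3, 2, 1, 6, 3, 2, 3, 6, 1, 2, 3, 2, 1, 6, 3, 4],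
  [2, 5, 6, 1, 2, 3, 2, 1, 6, 5, 6, 1, 2, 3, 2, 1, 6, 3, 2, 0, 1, 0, 1],
  [2, 5, 6, 1, 2, 3, 2, 1, 6, 3, 2, 4, 5, 6, 1, 2, 3, 2, 1, 6, 3],
  [5, 6, 1, 2, 3, 2, 1, 6, 3, 2, 3, 2, 6, 1, 2, 3, 2, 1, 6],
  [2, 5, 6, 1, 2, 3, 2, 1, 6, 3, 2, 6, 1, 2, 3, 2, 1, 6, 3, 0, 1, 0, 1, 6, 1, 2, 3, 2, 1, 6, 5],
  [2, 5, 6, 1, 2, 3, 2, 1, 6, 3, 2, 6, 1, 2, 3, 2, 1, 6, 3, 4, 6, 1, 2, 3, 2, 1, 6],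
  [2, 6, 1, 2, 3, 2, 1, 6, 3, 2, 4, 5, 3, 6, 1, 2, 3, 2, 1, 6, 0, 1, 0, 1],
  [6, 1, 2, 3, 2, 1, 6, 3, 2, 3, 2, 4, 6, 1, 2, 3, 2, 1, 6, 3],
  [2, 3, 6, 1, 2, 3, 2, 1, 6, 4, 3, 2, 5, 3, 6, 1, 2, 3, 2, 1, 6, 4],
  [2, 3, 5, 6, 1, 2, 3, 2, 1, 6, 3, 2, 3, 4, 0, 1, 0, 1, 6, 1, 2, 3, 2, 1, 6],
  [2, 3, 5, 6, 1, 2, 3, 2, 1, 6, 3, 2, 3, 2, 6, 1, 2, 3, 2, 1, 6, 3],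
  [2, 5, 6, 1, 2, 3, 2, 1, 6, 3, 2, 6, 1, 2, 3, 2, 1, 6, 0, 3, 6, 1, 2, 3, 2, 1, 6, 0, 1, 0, 1],
  [2, 3, 5, 3, 6, 1, 2, 3, 2, 1, 6, 3, 2, 5],
  [5, 6, 1, 2, 3, 2, 1, 6, 0, 3, 2, 3, 2, 6, 1, 2, 3, 2, 1, 6, 0, 1, 0, 1],
  [2, 3, 5, 6, 1, 2, 3, 2, 1, 6, 0, 3, 2, 4],
  [2, 3, 6, 1, 2, 3, 2, 1, 6, 3, 2, 3, 6, 1, 2, 3, 2, 1, 6, 0, 1, 0, 1, 2],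
  [2, 3, 6, 1, 2, 3, 2, 1, 6, 3, 2, 3, 2, 6, 1, 2, 3, 2, 1, 6, 5],
  [2, 4, 5, 6, 1, 2, 3, 2, 1, 6, 3, 2, 3, 4, 6, 1, 2, 3, 2, 1, 6, 3],
  [2, 6, 1, 2, 3, 2, 1, 6, 0, 3, 2, 5, 6, 1, 2, 3, 2, 1, 6, 3, 6, 1, 2, 3, 2, 1, 6],
  [2, 3, 2, 6, 1, 2, 3, 2, 1, 6, 3, 2, 4, 3, 2],
  [2, 3, 6, 1, 2, 3, 2, 1, 6, 3, 2, 6, 1, 2, 3, 2, 1, 6, 3, 6, 1, 2, 3, 2, 1, 6, 0],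
  [2, 3, 6, 1, 2, 3, 2, 1, 6, 3, 0, 1, 0, 1, 2, 3, 5, 6, 1, 2, 3, 2, 1, 6],
  [2, 3, 5, 3, 0, 1, 0, 1, 6, 1, 2, 3, 2, 1, 6, 3, 2, 3],
  [2, 3, 5, 6, 1, 2, 3, 2, 1, 6, 3, 2, 4, 3],
  [2, 5, 6, 1, 2, 3, 2, 1, 6, 3, 6, 1, 2, 3, 2, 1, 6, 0, 1, 0, 1, 2, 3, 5],
  [2, 3, 4, 6, 1, 2, 3, 2, 1, 6, 3, 2, 3, 5, 6, 1, 2, 3, 2, 1, 6, 3, 5],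
  [2, 5, 3, 2, 4, 6, 1, 2, 3, 2, 1, 6, 3, 5],
  [6, 1, 2, 3, 2, 1, 6, 3, 2, 3, 2, 5, 3, 2, 6, 1, 2, 3, 2, 1, 6, 3, 2, 4],
  [2, 3, 2, 6, 1, 2, 3, 2, 1, 6, 3, 0, 1, 0, 1],
  [5, 6, 1, 2, 3, 2, 1, 6, 3, 2, 3, 2, 5, 6, 1, 2, 3, 2, 1, 6],
  [2, 5, 3, 6, 1, 2, 3, 2, 1, 6, 0],
  [2, 6, 1, 2, 3, 2, 1, 6, 3, 6, 1, 2, 3, 2, 1, 6, 0, 5, 3, 2, 3],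
  [2, 4, 6, 1, 2, 3, 2, 1, 6, 3, 6, 1, 2, 3, 2, 1, 6, 5, 3, 2, 3],
  [2, 6, 1, 2, 3, 2, 1, 6, 0, 3, 2, 5, 3],
  [2, 4, 6, 1, 2, 3, 2, 1, 6, 3, 2, 6, 1, 2, 3, 2, 1, 6, 5, 3, 4, 6, 1, 2, 3, 2, 1, 6],
  [2, 3, 2, 6, 1, 2, 3, 2, 1, 6, 3, 2, 3, 4, 3, 5],
  [2, 3, 2, 6, 1, 2, 3, 2, 1, 6, 3, 0, 1, 0, 1, 2, 3],
  [2, 3, 2, 6, 1, 2, 3, 2, 1, 6, 3, 0, 1, 0, 1, 2, 3, 4, 5],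
  [2, 3, 2, 6, 1, 2, 3, 2, 1, 6, 3, 2, 4, 3],
  [2, 3, 0, 1, 0, 1, 6, 1, 2, 3, 2, 1, 6, 5, 6, 1, 2, 3, 2, 1, 6],
  [2, 3, 2, 6, 1, 2, 3, 2, 1, 6, 3, 4, 3, 2],
  [2, 3, 2, 6, 1, 2, 3, 2, 1, 6, 0, 3, 2, 5, 3, 6, 1, 2, 3, 2, 1, 6],
  [2, 3, 5, 6, 1, 2, 3, 2, 1, 6, 5, 6, 1, 2, 3, 2, 1, 6],
  [2, 4, 6, 1, 2, 3, 2, 1, 6, 3, 2, 5, 6, 1, 2, 3, 2, 1, 6, 3, 2, 3],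
  [2, 3, 6, 1, 2, 3, 2, 1, 6, 0, 1, 0, 1, 2, 3, 2],
  [2, 3, 2, 3, 6, 1, 2, 3, 2, 1, 6, 3, 2, 6, 1, 2, 3, 2, 1, 6, 3, 6, 1, 2, 3, 2, 1, 6, 4],
  [2, 5, 6, 1, 2, 3, 2, 1, 6, 3, 2, 5, 3, 2, 4, 3],
  [2, 3, 2, 3, 6, 1, 2, 3, 2, 1, 6, 3, 2, 3, 4, 3],
  [5, 6, 1, 2, 3, 2, 1, 6, 3, 2, 3, 2, 6, 1, 2, 3, 2, 1, 6, 3, 6, 1, 2, 3, 2, 1, 6, 0],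
  [2, 3, 4, 3, 5, 3, 6, 1, 2, 3, 2, 1, 6],
  [2, 5, 6, 1, 2, 3, 2, 1, 6, 3, 2, 3, 2, 5, 0, 1, 0, 1],
  [2, 3, 2, 6, 1, 2, 3, 2, 1, 6, 3, 2, 3, 4, 5],
  [2, 3, 2, 3, 6, 1, 2, 3, 2, 1, 6, 3, 2, 6, 1, 2, 3, 2, 1, 6, 4],
  [2, 4, 5, 6, 1, 2, 3, 2, 1, 6, 3, 2, 6, 1, 2, 3, 2, 1, 6, 3, 5],
  [2, 3, 5, 3, 2, 3, 6, 1, 2, 3, 2, 1, 6, 3],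
  [2, 3, 5, 6, 1, 2, 3, 2, 1, 6, 4, 3, 2, 3, 6, 1, 2, 3, 2, 1, 6, 3, 6, 1, 2, 3, 2, 1, 6],
  [2, 5, 3, 6, 1, 2, 3, 2, 1, 6, 3, 2, 3, 2, 4],
  [2, 5, 3, 6, 1, 2, 3, 2, 1, 6, 3, 2, 3, 4, 3, 6, 1, 2, 3, 2, 1, 6],
  [2, 6, 1, 2, 3, 2, 1, 6, 3, 2, 3, 5, 6, 1, 2, 3, 2, 1, 6, 5],
  [2, 3, 6, 1, 2, 3, 2, 1, 6, 3, 2, 3, 6, 1, 2, 3, 2, 1, 6, 4, 5],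
  [6, 1, 2, 3, 2, 1, 6, 3, 2, 3, 2, 3, 6, 1, 2, 3, 2, 1, 6, 5],
  [2, 4, 6, 1, 2, 3, 2, 1, 6, 3, 6, 1, 2, 3, 2, 1, 6, 5, 3, 2, 3, 2],
  [2, 3, 6, 1, 2, 3, 2, 1, 6, 3, 2, 6, 1, 2, 3, 2, 1, 6, 3, 5, 3, 6, 1, 2, 3, 2, 1, 6],
  [2, 6, 1, 2, 3, 2, 1, 6, 3, 2, 6, 1, 2, 3, 2, 1, 6, 3, 0, 1, 0, 1, 2, 6, 1, 2, 3, 2, 1, 6],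
  [2, 3, 0, 1, 0, 1, 6, 1, 2, 3, 2, 1, 6, 3, 2, 5, 3],
  [2, 3, 2, 3, 6, 1, 2, 3, 2, 1, 6, 3, 2, 3, 5, 0, 1, 0, 1],
  [6, 1, 2, 3, 2, 1, 6, 3, 2, 3, 2, 3, 6, 1, 2, 3, 2, 1, 6, 0],
  [2, 3, 2, 6, 1, 2, 3, 2, 1, 6, 3, 2, 4, 3, 2, 3],
  [2, 3, 6, 1, 2, 3, 2, 1, 6, 3, 2, 5, 3, 4, 0, 1, 0, 1],
  [2, 3, 2, 6, 1, 2, 3, 2, 1, 6, 3, 2, 6, 1, 2, 3, 2, 1, 6, 3, 6, 1, 2, 3, 2, 1, 6, 3],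
  [2, 6, 1, 2, 3, 2, 1, 6, 3, 2, 5, 3, 6, 1, 2, 3, 2, 1, 6, 3, 2],
  [2, 3, 6, 1, 2, 3, 2, 1, 6, 3, 2, 3, 4, 6, 1, 2, 3, 2, 1, 6, 5],
  [2, 6, 1, 2, 3, 2, 1, 6, 0, 3, 2, 6, 1, 2, 3, 2, 1, 6, 5, 3, 2, 3],
  [2, 6, 1, 2, 3, 2, 1, 6, 3, 2, 3, 2, 0, 1, 0, 1, 6, 1, 2, 3, 2, 1, 6, 5],
  [2, 6, 1, 2, 3, 2, 1, 6, 3, 2, 3, 2, 4, 6, 1, 2, 3, 2, 1, 6, 5],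
  [2, 3, 6, 1, 2, 3, 2, 1, 6, 3, 2, 5, 3, 6, 1, 2, 3, 2, 1, 6, 3, 5],
  [2, 3, 2, 4, 6, 1, 2, 3, 2, 1, 6, 3, 2, 4],
  [2, 3, 6, 1, 2, 3, 2, 1, 6, 5, 6, 1, 2, 3, 2, 1, 6, 0, 1, 0, 1],
  [2, 3, 2, 6, 1, 2, 3, 2, 1, 6, 0, 3, 2, 5, 3, 6, 1, 2, 3, 2, 1, 6, 0],
  [2, 5, 6, 1, 2, 3, 2, 1, 6, 3, 2, 5, 3, 0, 1, 0, 1, 2, 3],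
  [2, 3, 0, 1, 0, 1, 2, 6, 1, 2, 3, 2, 1, 6, 3, 2],
  [2, 5, 6, 1, 2, 3, 2, 1, 6, 3, 2, 3, 2, 6, 1, 2, 3, 2, 1, 6, 3, 6, 1, 2, 3, 2, 1, 6],
  [2, 3, 6, 1, 2, 3, 2, 1, 6, 5, 6, 1, 2, 3, 2, 1, 6],
  [2, 3, 2, 6, 1, 2, 3, 2, 1, 6, 3, 2, 5, 3, 0, 1, 0, 1, 6, 1, 2, 3, 2, 1, 6],
  [2, 3, 4, 5, 3, 4, 6, 1, 2, 3, 2, 1, 6],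
  [6, 1, 2, 3, 2, 1, 6, 3, 2, 3, 2, 3, 5, 6, 1, 2, 3, 2, 1, 6],
  [2, 3, 2, 6, 1, 2, 3, 2, 1, 6, 3, 2, 4, 5],
  [2, 3, 0, 1, 0, 1, 2, 6, 1, 2, 3, 2, 1, 6, 3, 2, 3, 5, 6, 1, 2, 3, 2, 1, 6, 0, 1, 0, 1],
  [2, 5, 6, 1, 2, 3, 2, 1, 6, 3, 2, 3, 2],
  [2, 3, 6, 1, 2, 3, 2, 1, 6, 5, 3, 6, 1, 2, 3, 2, 1, 6],
  [2, 3, 2, 0, 1, 0, 1, 6, 1, 2, 3, 2, 1, 6, 3, 5],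
  [2, 4, 5, 3, 2, 6, 1, 2, 3, 2, 1, 6, 3, 2, 5, 3, 2, 4],
  [2, 4, 6, 1, 2, 3, 2, 1, 6, 3, 6, 1, 2, 3, 2, 1, 6, 5, 3, 2, 6, 1, 2, 3, 2, 1, 6],
  [2, 6, 1, 2, 3, 2, 1, 6, 3, 6, 1, 2, 3, 2, 1, 6, 5, 3, 2, 0, 1, 0, 1],
  [2, 3, 2, 0, 1, 0, 1, 6, 1, 2, 3, 2, 1, 6, 3, 4],
  [2, 3, 2, 3, 6, 1, 2, 3, 2, 1, 6, 3, 2, 6, 1, 2, 3, 2, 1, 6, 3, 2, 6, 1, 2, 3, 2, 1, 6, 3],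
  [2, 3, 2, 6, 1, 2, 3, 2, 1, 6, 5, 6, 1, 2, 3, 2, 1, 6, 3, 2, 0, 1, 0, 1],
  [2, 3, 2, 6, 1, 2, 3, 2, 1, 6, 3, 2, 3, 4, 0, 1, 0, 1],
  [4, 3, 6, 1, 2, 3, 2, 1, 6, 3, 2, 3, 2],
  [2, 3, 2, 3, 0, 1, 0, 1, 6, 1, 2, 3, 2, 1, 6, 3, 2, 3, 2],
  [6, 1, 2, 3, 2, 1, 6, 3, 2, 6, 1, 2, 3, 2, 1, 6, 3, 2, 5, 6, 1, 2, 3, 2, 1, 6],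
  [6, 1, 2, 3, 2, 1, 6, 0, 3, 2, 6, 1, 2, 3, 2, 1, 6, 3, 2, 5, 3],
  [4, 6, 1, 2, 3, 2, 1, 6, 5, 6, 1, 2, 3, 2, 1, 6, 3, 2, 3, 2],
  [2, 3, 4, 6, 1, 2, 3, 2, 1, 6, 5, 3],
  [6, 1, 2, 3, 2, 1, 6, 3, 2, 3, 2, 5, 6, 1, 2, 3, 2, 1, 6],
  [2, 5, 3, 6, 1, 2, 3, 2, 1, 6],
  [2, 3, 2, 3, 6, 1, 2, 3, 2, 1, 6, 0, 3, 2, 3, 4, 3],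
  [5, 6, 1, 2, 3, 2, 1, 6, 3, 2, 3, 2, 6, 1, 2, 3, 2, 1, 6, 3, 6, 1, 2, 3, 2, 1, 6],
  [5, 6, 1, 2, 3, 2, 1, 6, 3, 2, 3, 2, 3, 5],
  [2, 3, 4, 5, 3, 6, 1, 2, 3, 2, 1, 6],
  [2, 6, 1, 2, 3, 2, 1, 6, 3, 2, 4, 5],
  [2, 6, 1, 2, 3, 2, 1, 6, 3, 0, 1, 0, 1, 2, 6, 1, 2, 3, 2, 1, 6, 3, 6, 1, 2, 3, 2, 1, 6, 5],
  [2, 3, 2, 6, 1, 2, 3, 2, 1, 6, 5, 6, 1, 2, 3, 2, 1, 6, 3, 2],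
  [2, 3, 2, 6, 1, 2, 3, 2, 1, 6, 3, 2, 3, 4],
  [2, 3, 2, 3, 6, 1, 2, 3, 2, 1, 6, 3, 2, 6, 1, 2, 3, 2, 1, 6, 5, 3],
  [2, 3, 2, 6, 1, 2, 3, 2, 1, 6, 3, 2],
  [2, 3, 2, 3, 6, 1, 2, 3, 2, 1, 6, 3, 2, 6, 1, 2, 3, 2, 1, 6],
  [2, 3, 2, 6, 1, 2, 3, 2, 1, 6, 3, 2, 3, 5],
  [2, 6, 1, 2, 3, 2, 1, 6, 5, 6, 1, 2, 3, 2, 1, 6, 3, 0, 1, 0, 1, 2],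
  [2, 3, 5, 6, 1, 2, 3, 2, 1, 6, 3, 2, 3, 6, 1, 2, 3, 2, 1, 6, 3],
  [2, 4, 6, 1, 2, 3, 2, 1, 6, 5, 6, 1, 2, 3, 2, 1, 6, 3, 2],
  [2, 3, 6, 1, 2, 3, 2, 1, 6, 3, 2, 3, 6, 1, 2, 3, 2, 1, 6, 5, 3],
  [6, 1, 2, 3, 2, 1, 6, 3, 2, 6, 1, 2, 3, 2, 1, 6, 3, 2],
  [2, 3, 2, 3, 6, 1, 2, 3, 2, 1, 6, 3, 0, 1, 0, 1, 2, 3, 2],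
  [6, 1, 2, 3, 2, 1, 6, 3, 2, 6, 1, 2, 3, 2, 1, 6, 3, 2, 4, 5],
  [6, 1, 2, 3, 2, 1, 6, 3, 2, 6, 1, 2, 3, 2, 1, 6, 3, 5, 0, 1, 0, 1, 2, 3],
  [2, 3, 2, 6, 1, 2, 3, 2, 1, 6, 4, 3, 2, 3, 0, 1, 0, 1, 6, 1, 2, 3, 2, 1, 6],
  [2, 5, 6, 1, 2, 3, 2, 1, 6, 3, 2, 6, 1, 2, 3, 2, 1, 6, 3, 0, 1, 0, 1, 2, 3],
  [2, 3, 2, 4, 6, 1, 2, 3, 2, 1, 6, 3, 2, 3, 6, 1, 2, 3, 2, 1, 6, 0],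
  [2, 3, 2, 5, 6, 1, 2, 3, 2, 1, 6, 3, 2, 3, 4, 6, 1, 2, 3, 2, 1, 6],
  [2, 6, 1, 2, 3, 2, 1, 6, 0, 3, 2, 0, 1, 0, 1, 6, 1, 2, 3, 2, 1, 6, 3, 2, 3],
  [2, 3, 2, 4, 6, 1, 2, 3, 2, 1, 6, 3, 2, 3, 4, 0, 1, 0, 1, 6, 1, 2, 3, 2, 1, 6],
  [2, 4, 6, 1, 2, 3, 2, 1, 6, 3, 2, 6, 1, 2, 3, 2, 1, 6, 3, 2, 4, 5],
  [2, 6, 1, 2, 3, 2, 1, 6, 3, 6, 1, 2, 3, 2, 1, 6, 3],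
  [2, 6, 1, 2, 3, 2, 1, 6, 3, 2, 6, 1, 2, 3, 2, 1, 6, 3, 2, 4, 3],
  [2, 6, 1, 2, 3, 2, 1, 6, 3, 6, 1, 2, 3, 2, 1, 6, 5, 3, 6, 1, 2, 3, 2, 1, 6],
  [2, 4, 6, 1, 2, 3, 2, 1, 6, 3, 6, 1, 2, 3, 2, 1, 6, 5, 3],
  [2, 6, 1, 2, 3, 2, 1, 6, 3, 6, 1, 2, 3, 2, 1, 6, 3, 0, 1, 0, 1],
  [2, 3, 2, 4, 6, 1, 2, 3, 2, 1, 6, 3, 2, 3, 6, 1, 2, 3, 2, 1, 6, 4],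
  [2, 6, 1, 2, 3, 2, 1, 6, 3, 6, 1, 2, 3, 2, 1, 6, 0, 5, 3],
  [2, 5, 6, 1, 2, 3, 2, 1, 6, 3, 2, 6, 1, 2, 3, 2, 1, 6, 0, 3, 2, 4, 3],
  [2, 6, 1, 2, 3, 2, 1, 6, 3, 6, 1, 2, 3, 2, 1, 6, 0, 1, 0, 1, 2, 3, 2, 5],
  [2, 3, 2, 5, 6, 1, 2, 3, 2, 1, 6, 0, 3, 2, 3, 6, 1, 2, 3, 2, 1, 6],
  [2, 6, 1, 2, 3, 2, 1, 6, 0, 5, 3, 6, 1, 2, 3, 2, 1, 6, 3],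
  [2, 3, 2, 4, 6, 1, 2, 3, 2, 1, 6, 3, 2, 3, 6, 1, 2, 3, 2, 1, 6],
  [2, 3, 2, 4, 6, 1, 2, 3, 2, 1, 6, 3, 2, 3, 6, 1, 2, 3, 2, 1, 6, 0, 1, 0, 1],
  [2, 5, 6, 1, 2, 3, 2, 1, 6, 0, 3, 2, 0, 1, 0, 1, 6, 1, 2, 3, 2, 1, 6, 3, 2, 3],
  [2, 6, 1, 2, 3, 2, 1, 6, 3, 6, 1, 2, 3, 2, 1, 6, 0, 3],
  [2, 3, 2, 5, 6, 1, 2, 3, 2, 1, 6, 3, 2, 3, 0, 1, 0, 1, 6, 1, 2, 3, 2, 1, 6],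
  [2, 6, 1, 2, 3, 2, 1, 6, 3, 2, 6, 1, 2, 3, 2, 1, 6, 0, 3, 2, 4, 3],
  [2, 6, 1, 2, 3, 2, 1, 6, 3, 2, 6, 1, 2, 3, 2, 1, 6, 3, 0, 1, 0, 1, 2, 3],
  [2, 3, 2, 6, 1, 2, 3, 2, 1, 6, 3, 2, 3, 6, 1, 2, 3, 2, 1, 6, 5, 6, 1, 2, 3, 2, 1, 6],
  [2, 3, 2, 6, 1, 2, 3, 2, 1, 6, 4, 3, 2, 3, 4, 6, 1, 2, 3, 2, 1, 6],
  [2, 6, 1, 2, 3, 2, 1, 6, 3, 6, 1, 2, 3, 2, 1, 6, 5, 3],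
  [2, 5, 6, 1, 2, 3, 2, 1, 6, 3, 2, 6, 1, 2, 3, 2, 1, 6, 3, 2, 4, 3],
  [2, 3, 2, 6, 1, 2, 3, 2, 1, 6, 4, 3, 2, 3, 4, 6, 1, 2, 3, 2, 1, 6, 0, 1, 0, 1],
  [2, 4, 6, 1, 2, 3, 2, 1, 6, 3, 2, 6, 1, 2, 3, 2, 1, 6, 3, 2, 5],
  [2, 4, 6, 1, 2, 3, 2, 1, 6, 3, 6, 1, 2, 3, 2, 1, 6, 3],
  [2, 6, 1, 2, 3, 2, 1, 6, 4, 5, 3, 6, 1, 2, 3, 2, 1, 6, 3],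
  [2, 6, 1, 2, 3, 2, 1, 6, 3, 6, 1, 2, 3, 2, 1, 6, 5, 3, 0, 1, 0, 1],
  [2, 4, 6, 1, 2, 3, 2, 1, 6, 3, 6, 1, 2, 3, 2, 1, 6, 5, 3, 6, 1, 2, 3, 2, 1, 6],
  [2, 6, 1, 2, 3, 2, 1, 6, 3, 2, 6, 1, 2, 3, 2, 1, 6, 4, 3, 2, 5],
  [2, 3, 2, 5, 6, 1, 2, 3, 2, 1, 6, 3, 2, 6, 1, 2, 3, 2, 1, 6, 0],
  [2, 6, 1, 2, 3, 2, 1, 6, 3, 2, 6, 1, 2, 3, 2, 1, 6, 3, 6, 1, 2, 3, 2, 1, 6, 5, 0, 1, 0, 1, 2],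
  [2, 5, 3, 6, 1, 2, 3, 2, 1, 6, 3, 2, 3, 4, 6, 1, 2, 3, 2, 1, 6, 3],
  [2, 6, 1, 2, 3, 2, 1, 6, 3, 6, 1, 2, 3, 2, 1, 6, 0, 1, 0, 1, 2],
  [2, 6, 1, 2, 3, 2, 1, 6, 3, 2, 6, 1, 2, 3, 2, 1, 6, 3, 4],
  [2, 3, 2, 3, 6, 1, 2, 3, 2, 1, 6, 3, 2, 3, 0, 1, 0, 1, 6, 1, 2, 3, 2, 1, 6, 3],
  [2, 6, 1, 2, 3, 2, 1, 6, 3, 2, 3, 2, 6, 1, 2, 3, 2, 1, 6, 0, 3, 2],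
  [2, 3, 5, 6, 1, 2, 3, 2, 1, 6, 3, 2, 3, 4, 3, 2, 6, 1, 2, 3, 2, 1, 6],
  [2, 3, 2, 5, 6, 1, 2, 3, 2, 1, 6, 3, 2, 6, 1, 2, 3, 2, 1, 6, 4, 3],
  [2, 5, 3, 6, 1, 2, 3, 2, 1, 6, 3, 2, 5, 3, 6, 1, 2, 3, 2, 1, 6, 5],
  [2, 6, 1, 2, 3, 2, 1, 6, 3, 2, 3, 2, 6, 1, 2, 3, 2, 1, 6, 3, 2, 4],
  [2, 6, 1, 2, 3, 2, 1, 6, 3, 2, 3, 2, 6, 1, 2, 3, 2, 1, 6, 3, 2, 5],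
  [2, 6, 1, 2, 3, 2, 1, 6, 3, 2, 6, 1, 2, 3, 2, 1, 6, 3, 6, 1, 2, 3, 2, 1, 6, 0, 1, 0, 1, 2, 3],
  [2, 3, 6, 1, 2, 3, 2, 1, 6, 3, 2, 3, 4, 3, 2, 6, 1, 2, 3, 2, 1, 6],
  [2, 3, 2, 5, 6, 1, 2, 3, 2, 1, 6, 3, 2, 6, 1, 2, 3, 2, 1, 6],
  [2, 5, 6, 1, 2, 3, 2, 1, 6, 3, 2, 6, 1, 2, 3, 2, 1, 6, 3, 6, 1, 2, 3, 2, 1, 6, 0, 1, 0, 1, 2],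
  [2, 5, 3, 6, 1, 2, 3, 2, 1, 6, 0, 3, 2, 3, 2, 6, 1, 2, 3, 2, 1, 6, 3],
  [2, 6, 1, 2, 3, 2, 1, 6, 3, 2, 6, 1, 2, 3, 2, 1, 6, 4],
  [2, 6, 1, 2, 3, 2, 1, 6, 0, 3, 2, 0, 1, 0, 1, 6, 1, 2, 3, 2, 1, 6, 3, 4],
  [2, 5, 3, 6, 1, 2, 3, 2, 1, 6, 0, 3, 2, 3, 5, 0, 1, 0, 1],
  [5, 6, 1, 2, 3, 2, 1, 6, 0, 3, 2, 3, 6, 1, 2, 3, 2, 1, 6],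
  [2, 5, 6, 1, 2, 3, 2, 1, 6, 0, 3, 2, 3, 0, 1, 0, 1],
  [2, 5, 6, 1, 2, 3, 2, 1, 6, 0, 3, 2, 3, 5],
  [2, 5, 3, 6, 1, 2, 3, 2, 1, 6, 0, 3, 2, 3],
  [2, 6, 1, 2, 3, 2, 1, 6, 3, 2, 5, 3, 4, 6, 1, 2, 3, 2, 1, 6, 0, 1, 0, 1],
  [2, 5, 6, 1, 2, 3, 2, 1, 6, 3, 2, 5, 3, 4, 6, 1, 2, 3, 2, 1, 6],
  [2, 5, 6, 1, 2, 3, 2, 1, 6, 0, 3, 2, 3],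
  [2, 5, 3, 6, 1, 2, 3, 2, 1, 6, 0, 3, 2, 3, 0, 1, 0, 1],
  [2, 4, 6, 1, 2, 3, 2, 1, 6, 3, 2, 5, 3, 6, 1, 2, 3, 2, 1, 6, 0],
  [5, 6, 1, 2, 3, 2, 1, 6, 0, 3, 2, 3, 6, 1, 2, 3, 2, 1, 6, 5],
  [2, 5, 3, 6, 1, 2, 3, 2, 1, 6, 0, 3, 2, 3, 5],
  [2, 3, 2, 3, 6, 1, 2, 3, 2, 1, 6, 3, 2, 6, 1, 2, 3, 2, 1, 6, 3, 0, 1, 0, 1, 2, 3],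
  [2, 3, 2, 6, 1, 2, 3, 2, 1, 6, 0, 5, 3],
  [2, 3, 6, 1, 2, 3, 2, 1, 6, 3, 2, 3, 2, 6, 1, 2, 3, 2, 1, 6],
  [2, 6, 1, 2, 3, 2, 1, 6, 3, 2, 5, 6, 1, 2, 3, 2, 1, 6, 3, 6, 1, 2, 3, 2, 1, 6, 0, 1, 0, 1],
  [2, 3, 2, 6, 1, 2, 3, 2, 1, 6, 0, 3, 4],
  [2, 3, 2, 3, 6, 1, 2, 3, 2, 1, 6, 3, 2, 6, 1, 2, 3, 2, 1, 6, 3, 2, 6, 1, 2, 3, 2, 1, 6, 3, 0, 1, 0, 1],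
  [2, 3, 2, 6, 1, 2, 3, 2, 1, 6, 0, 3, 5],
  [2, 3, 5, 3, 2, 3, 6, 1, 2, 3, 2, 1, 6, 3, 2, 4, 3, 2],
  [2, 3, 2, 4, 6, 1, 2, 3, 2, 1, 6, 3],
  [2, 3, 2, 6, 1, 2, 3, 2, 1, 6, 3, 2, 5, 3, 2, 4, 6, 1, 2, 3, 2, 1, 6],
  [2, 3, 4, 6, 1, 2, 3, 2, 1, 6, 3, 2, 3, 5, 6, 1, 2, 3, 2, 1, 6, 3],
  [2, 5, 3, 2, 4, 6, 1, 2, 3, 2, 1, 6, 3],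
  [2, 5, 6, 1, 2, 3, 2, 1, 6, 3, 6, 1, 2, 3, 2, 1, 6, 0, 1, 0, 1, 2, 3],
  [2, 6, 1, 2, 3, 2, 1, 6, 3, 2, 3, 0, 1, 0, 1, 2, 6, 1, 2, 3, 2, 1, 6],
  [2, 6, 1, 2, 3, 2, 1, 6, 3, 2, 4, 6, 1, 2, 3, 2, 1, 6, 3, 2, 4, 3],
  [2, 3, 6, 1, 2, 3, 2, 1, 6, 3, 2, 5, 3, 4],
  [2, 5, 6, 1, 2, 3, 2, 1, 6, 3, 2, 3, 4, 5, 3, 2],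
  [2, 6, 1, 2, 3, 2, 1, 6, 3, 2, 6, 1, 2, 3, 2, 1, 6, 3, 2, 4, 6, 1, 2, 3, 2, 1, 6],
  [2, 3, 6, 1, 2, 3, 2, 1, 6, 3, 2, 3, 5, 3, 4],
  [2, 3, 6, 1, 2, 3, 2, 1, 6, 5, 3, 0, 1, 0, 1, 2, 3],
  [2, 3, 2, 5, 6, 1, 2, 3, 2, 1, 6, 3, 2, 6, 1, 2, 3, 2, 1, 6, 4, 3, 2, 3, 5],
  [2, 6, 1, 2, 3, 2, 1, 6, 3, 2, 6, 1, 2, 3, 2, 1, 6, 3, 4, 3, 5],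
  [2, 6, 1, 2, 3, 2, 1, 6, 3, 6, 1, 2, 3, 2, 1, 6, 0, 1, 0, 1, 2, 3, 5],
  [2, 6, 1, 2, 3, 2, 1, 6, 3, 6, 1, 2, 3, 2, 1, 6, 0, 1, 0, 1, 2, 3, 4],
  [2, 6, 1, 2, 3, 2, 1, 6, 3, 2, 6, 1, 2, 3, 2, 1, 6, 4, 3],
  [6, 1, 2, 3, 2, 1, 6, 0, 3, 2, 3, 2, 5, 3, 2],
  [6, 1, 2, 3, 2, 1, 6, 3, 2, 6, 1, 2, 3, 2, 1, 6, 3, 2, 5, 3, 0, 1, 0, 1, 6, 1, 2, 3, 2, 1, 6],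
  [2, 5, 3, 2, 4, 6, 1, 2, 3, 2, 1, 6, 3, 2, 3, 6, 1, 2, 3, 2, 1, 6],
  [6, 1, 2, 3, 2, 1, 6, 3, 2, 3, 2, 6, 1, 2, 3, 2, 1, 6, 5, 3, 0, 1, 0, 1, 2],
  [2, 6, 1, 2, 3, 2, 1, 6, 0, 3, 5, 6, 1, 2, 3, 2, 1, 6],
  [2, 3, 2, 3, 6, 1, 2, 3, 2, 1, 6, 3, 2, 4, 3, 2, 6, 1, 2, 3, 2, 1, 6],
  [2, 3, 4, 5, 6, 1, 2, 3, 2, 1, 6, 3, 6, 1, 2, 3, 2, 1, 6],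
  [6, 1, 2, 3, 2, 1, 6, 0, 3, 2, 3, 2, 5, 3, 2, 0, 1, 0, 1],
  [2, 3, 6, 1, 2, 3, 2, 1, 6, 4, 3, 2, 5, 3, 2, 3],
  [6, 1, 2, 3, 2, 1, 6, 0, 3, 2, 3, 2, 5, 3, 6, 1, 2, 3, 2, 1, 6, 5],
  [6, 1, 2, 3, 2, 1, 6, 0, 3, 2, 3, 2, 5, 3, 6, 1, 2, 3, 2, 1, 6],
  [6, 1, 2, 3, 2, 1, 6, 3, 2, 3, 2, 4, 5, 3, 4, 6, 1, 2, 3, 2, 1, 6],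
  [2, 6, 1, 2, 3, 2, 1, 6, 3, 2, 3, 2, 4, 6, 1, 2, 3, 2, 1, 6, 5, 3],
  [6, 1, 2, 3, 2, 1, 6, 3, 2, 3, 2, 6, 1, 2, 3, 2, 1, 6, 5, 3, 6, 1, 2, 3, 2, 1, 6],
  [2, 3, 6, 1, 2, 3, 2, 1, 6, 3, 2, 3, 4, 5, 3, 4],
  [2, 6, 1, 2, 3, 2, 1, 6, 3, 2, 6, 1, 2, 3, 2, 1, 6, 3, 2, 4, 6, 1, 2, 3, 2, 1, 6, 3],
  [2, 3, 5, 6, 1, 2, 3, 2, 1, 6, 3, 2, 5, 3],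
  [2, 3, 6, 1, 2, 3, 2, 1, 6, 3, 2, 4, 3, 5, 6, 1, 2, 3, 2, 1, 6],
  [2, 6, 1, 2, 3, 2, 1, 6, 3, 4, 3, 5, 3, 2, 3],
  [2, 3, 4, 6, 1, 2, 3, 2, 1, 6, 5, 6, 1, 2, 3, 2, 1, 6, 3, 2],
  [2, 3, 2, 6, 1, 2, 3, 2, 1, 6, 4, 3, 2, 3, 2],
  [2, 3, 2, 5, 6, 1, 2, 3, 2, 1, 6, 0, 3, 2, 4, 3],
  [2, 3, 5, 6, 1, 2, 3, 2, 1, 6, 3, 2, 3, 5, 6, 1, 2, 3, 2, 1, 6, 3],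
  [2, 3, 5, 3, 6, 1, 2, 3, 2, 1, 6, 0, 1, 0, 1, 2],
  [6, 1, 2, 3, 2, 1, 6, 0, 3, 2, 3, 6, 1, 2, 3, 2, 1, 6, 4],
  [2, 3, 2, 5, 6, 1, 2, 3, 2, 1, 6, 0, 3, 2, 3, 0, 1, 0, 1],
  [2, 3, 2, 0, 1, 0, 1, 6, 1, 2, 3, 2, 1, 6, 3, 2, 6, 1, 2, 3, 2, 1, 6, 3, 2, 0, 1, 0, 1, 6, 1, 2, 3, 2, 1, 6],
  [2, 3, 2, 5, 6, 1, 2, 3, 2, 1, 6, 0, 3, 2, 3],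
  [2, 3, 5, 6, 1, 2, 3, 2, 1, 6, 3, 2, 6, 1, 2, 3, 2, 1, 6, 5],
  [2, 3, 2, 0, 1, 0, 1, 6, 1, 2, 3, 2, 1, 6, 3, 2, 6, 1, 2, 3, 2, 1, 6, 3, 2, 6, 1, 2, 3, 2, 1, 6, 0],
  [2, 5, 6, 1, 2, 3, 2, 1, 6, 3, 2, 3, 2, 4, 6, 1, 2, 3, 2, 1, 6],
  [2, 3, 2, 5, 6, 1, 2, 3, 2, 1, 6, 3, 0, 1, 0, 1, 2, 3],
  [2, 3, 6, 1, 2, 3, 2, 1, 6, 3, 2, 3, 5, 6, 1, 2, 3, 2, 1, 6, 5, 3],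
  [2, 3, 2, 6, 1, 2, 3, 2, 1, 6, 4, 3, 2, 3, 2, 0, 1, 0, 1],
  [2, 3, 0, 1, 0, 1, 6, 1, 2, 3, 2, 1, 6, 3, 2, 3, 5, 6, 1, 2, 3, 2, 1, 6, 5],
  [2, 3, 5, 3, 2, 4, 6, 1, 2, 3, 2, 1, 6],
  [6, 1, 2, 3, 2, 1, 6, 0, 3, 2, 3, 4, 6, 1, 2, 3, 2, 1, 6],
  [2, 3, 5, 3, 6, 1, 2, 3, 2, 1, 6, 0, 1, 0, 1, 2, 3, 6, 1, 2, 3, 2, 1, 6],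
  [2, 6, 1, 2, 3, 2, 1, 6, 3, 2, 6, 1, 2, 3, 2, 1, 6, 4, 3, 5, 6, 1, 2, 3, 2, 1, 6],
  [2, 6, 1, 2, 3, 2, 1, 6, 3, 2, 3, 6, 1, 2, 3, 2, 1, 6, 3, 6, 1, 2, 3, 2, 1, 6, 3, 5],
  [2, 3, 4, 5, 3, 2, 4, 3, 6, 1, 2, 3, 2, 1, 6, 3],
  [2, 3, 2, 5, 6, 1, 2, 3, 2, 1, 6, 3, 2, 6, 1, 2, 3, 2, 1, 6, 4, 3, 2, 0, 1, 0, 1],
  [2, 3, 2, 5, 0, 1, 0, 1, 6, 1, 2, 3, 2, 1, 6, 3, 2, 6, 1, 2, 3, 2, 1, 6],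
  [2, 6, 1, 2, 3, 2, 1, 6, 3, 2, 6, 1, 2, 3, 2, 1, 6, 3, 2, 6, 1, 2, 3, 2, 1, 6, 5],
  [2, 5, 3, 6, 1, 2, 3, 2, 1, 6, 3, 2, 6, 1, 2, 3, 2, 1, 6, 3, 6, 1, 2, 3, 2, 1, 6],
  [2, 6, 1, 2, 3, 2, 1, 6, 3, 2, 6, 1, 2, 3, 2, 1, 6, 3, 2, 6, 1, 2, 3, 2, 1, 6, 4],
  [2, 3, 0, 1, 0, 1, 6, 1, 2, 3, 2, 1, 6, 3, 2, 3, 2, 6, 1, 2, 3, 2, 1, 6, 3],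
  [2, 3, 0, 1, 0, 1, 2, 6, 1, 2, 3, 2, 1, 6, 5, 6, 1, 2, 3, 2, 1, 6, 3, 2],
  [2, 3, 4, 6, 1, 2, 3, 2, 1, 6, 3, 2, 3, 5, 6, 1, 2, 3, 2, 1, 6],
  [2, 5, 3, 2, 4, 6, 1, 2, 3, 2, 1, 6],
  [2, 5, 6, 1, 2, 3, 2, 1, 6, 3, 6, 1, 2, 3, 2, 1, 6, 0, 1, 0, 1, 2],
  [2, 6, 1, 2, 3, 2, 1, 6, 3, 2, 6, 1, 2, 3, 2, 1, 6, 0, 1, 0, 1],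
  [2, 6, 1, 2, 3, 2, 1, 6, 3, 2, 6, 1, 2, 3, 2, 1, 6, 0, 3],
  [2, 6, 1, 2, 3, 2, 1, 6, 3, 2, 6, 1, 2, 3, 2, 1, 6, 5, 0, 1, 0, 1],
  [2, 6, 1, 2, 3, 2, 1, 6, 3, 2, 3, 6, 1, 2, 3, 2, 1, 6, 3],
  [2, 4, 6, 1, 2, 3, 2, 1, 6, 3, 2, 6, 1, 2, 3, 2, 1, 6, 3],
  [2, 6, 1, 2, 3, 2, 1, 6, 0, 3, 2, 4, 6, 1, 2, 3, 2, 1, 6, 3, 4],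
  [2, 6, 1, 2, 3, 2, 1, 6, 3, 2, 3, 6, 1, 2, 3, 2, 1, 6, 3, 4],
  [2, 4, 6, 1, 2, 3, 2, 1, 6, 3, 2, 6, 1, 2, 3, 2, 1, 6, 5],
  [2, 3, 2, 6, 1, 2, 3, 2, 1, 6, 5, 6, 1, 2, 3, 2, 1, 6, 3, 0, 1, 0, 1, 2, 3],
  [2, 3, 2, 6, 1, 2, 3, 2, 1, 6, 0, 3, 2, 0, 1, 0, 1],
  [2, 3, 4, 5, 3, 6, 1, 2, 3, 2, 1, 6, 0],
  [2, 5, 6, 1, 2, 3, 2, 1, 6, 3, 2, 3, 2, 5],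
  [2, 3, 6, 1, 2, 3, 2, 1, 6, 5, 3, 0, 1, 0, 1, 2],
  [2, 4, 5, 3, 2, 6, 1, 2, 3, 2, 1, 6, 3, 2, 4, 5, 3, 2],
  [2, 3, 6, 1, 2, 3, 2, 1, 6, 3, 2, 3, 5, 3, 2, 4],
  [2, 6, 1, 2, 3, 2, 1, 6, 0, 3, 2, 5, 3, 6, 1, 2, 3, 2, 1, 6, 4],
  [2, 3, 6, 1, 2, 3, 2, 1, 6, 3, 2, 5, 3, 2],
  [2, 6, 1, 2, 3, 2, 1, 6, 3, 2, 6, 1, 2, 3, 2, 1, 6, 4, 5, 3],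
  [2, 6, 1, 2, 3, 2, 1, 6, 3, 2, 5, 3, 0, 1, 0, 1, 6, 1, 2, 3, 2, 1, 6],
  [2, 3, 4, 3, 6, 1, 2, 3, 2, 1, 6, 3, 2, 3, 6, 1, 2, 3, 2, 1, 6, 5],
  [2, 3, 6, 1, 2, 3, 2, 1, 6, 3, 2, 4, 5, 3, 4],
  [2, 3, 2, 3, 6, 1, 2, 3, 2, 1, 6, 3, 2, 3, 4, 5],
  [2, 3, 2, 6, 1, 2, 3, 2, 1, 6, 3, 2, 6, 1, 2, 3, 2, 1, 6, 3, 6, 1, 2, 3, 2, 1, 6],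
  [2, 3, 0, 1, 0, 1, 6, 1, 2, 3, 2, 1, 6, 3, 2, 5, 3, 4],
  [6, 1, 2, 3, 2, 1, 6, 3, 2, 3, 2, 6, 1, 2, 3, 2, 1, 6, 4, 3, 2],
  [2, 3, 2, 0, 1, 0, 1, 6, 1, 2, 3, 2, 1, 6, 3, 2, 6, 1, 2, 3, 2, 1, 6, 3, 5, 6, 1, 2, 3, 2, 1, 6],
  [2, 3, 6, 1, 2, 3, 2, 1, 6, 5, 6, 1, 2, 3, 2, 1, 6, 0, 1, 0, 1, 2, 3, 2, 3],
  [2, 3, 6, 1, 2, 3, 2, 1, 6, 3, 2, 3, 6, 1, 2, 3, 2, 1, 6, 4, 3, 2],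
  [2, 3, 2, 5, 0, 1, 0, 1, 6, 1, 2, 3, 2, 1, 6, 3, 2, 6, 1, 2, 3, 2, 1, 6, 3, 5],
  [2, 3, 2, 3, 6, 1, 2, 3, 2, 1, 6, 3, 2, 5, 3, 6, 1, 2, 3, 2, 1, 6],
  [2, 3, 2, 5, 6, 1, 2, 3, 2, 1, 6, 3, 6, 1, 2, 3, 2, 1, 6, 0, 1, 0, 1, 2],
  [2, 5, 6, 1, 2, 3, 2, 1, 6, 3, 2, 6, 1, 2, 3, 2, 1, 6, 3, 2, 6, 1, 2, 3, 2, 1, 6],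
  [2, 5, 3, 6, 1, 2, 3, 2, 1, 6, 3, 2, 6, 1, 2, 3, 2, 1, 6, 3, 6, 1, 2, 3, 2, 1, 6, 0],
  [2, 3, 2, 3, 6, 1, 2, 3, 2, 1, 6, 3, 2, 5, 3, 6, 1, 2, 3, 2, 1, 6, 0],
  [2, 3, 0, 1, 0, 1, 6, 1, 2, 3, 2, 1, 6, 3, 2, 3, 2, 6, 1, 2, 3, 2, 1, 6, 4],
  [2, 3, 2, 5, 6, 1, 2, 3, 2, 1, 6, 3, 6, 1, 2, 3, 2, 1, 6, 0, 1, 0, 1, 2, 3, 5],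
  [2, 3, 4, 3, 5, 3, 2, 6, 1, 2, 3, 2, 1, 6, 3, 5],
  [2, 3, 2, 3, 6, 1, 2, 3, 2, 1, 6, 0, 3, 2, 3, 6, 1, 2, 3, 2, 1, 6, 3, 2],
  [2, 6, 1, 2, 3, 2, 1, 6, 3, 2, 6, 1, 2, 3, 2, 1, 6, 0, 3, 2, 4, 6, 1, 2, 3, 2, 1, 6],
  [6, 1, 2, 3, 2, 1, 6, 3, 2, 3, 2, 6, 1, 2, 3, 2, 1, 6, 4, 3, 2, 3],
  [2, 3, 6, 1, 2, 3, 2, 1, 6, 5, 6, 1, 2, 3, 2, 1, 6, 0, 1, 0, 1, 2, 3, 2],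
  [2, 6, 1, 2, 3, 2, 1, 6, 3, 2, 6, 1, 2, 3, 2, 1, 6, 3, 0, 1, 0, 1],
  [2, 6, 1, 2, 3, 2, 1, 6, 3, 2, 6, 1, 2, 3, 2, 1, 6, 0],
  [2, 5, 6, 1, 2, 3, 2, 1, 6, 3, 2, 6, 1, 2, 3, 2, 1, 6, 0],
  [2, 5, 6, 1, 2, 3, 2, 1, 6, 3, 2, 6, 1, 2, 3, 2, 1, 6, 3, 5, 3],
  [2, 5, 3, 2, 0, 1, 0, 1, 6, 1, 2, 3, 2, 1, 6],
  [2, 6, 1, 2, 3, 2, 1, 6, 3, 2, 6, 1, 2, 3, 2, 1, 6, 3, 5, 0, 1, 0, 1],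
  [2, 6, 1, 2, 3, 2, 1, 6, 3, 2, 6, 1, 2, 3, 2, 1, 6, 0, 5],
  [2, 6, 1, 2, 3, 2, 1, 6, 3, 2, 6, 1, 2, 3, 2, 1, 6, 3, 4, 5, 0, 1, 0, 1],
  [2, 5, 6, 1, 2, 3, 2, 1, 6, 3, 2, 6, 1, 2, 3, 2, 1, 6, 5, 6, 1, 2, 3, 2, 1, 6],
  [6, 1, 2, 3, 2, 1, 6, 0, 3, 2, 3, 2, 6, 1, 2, 3, 2, 1, 6, 3, 2],
  [2, 6, 1, 2, 3, 2, 1, 6, 3, 2, 6, 1, 2, 3, 2, 1, 6, 3, 6, 1, 2, 3, 2, 1, 6, 0, 1, 0, 1, 2, 3, 6, 1, 2, 3, 2, 1, 6],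
  [2, 3, 2, 4, 5, 6, 1, 2, 3, 2, 1, 6, 3, 2, 3, 0, 1, 0, 1, 6, 1, 2, 3, 2, 1, 6],
  [2, 3, 2, 6, 1, 2, 3, 2, 1, 6, 3, 2, 5, 3, 0, 1, 0, 1, 2, 3],
  [2, 3, 2, 0, 1, 0, 1, 6, 1, 2, 3, 2, 1, 6, 5, 3],
  [2, 3, 4, 6, 1, 2, 3, 2, 1, 6, 3, 2, 3, 6, 1, 2, 3, 2, 1, 6, 5, 6, 1, 2, 3, 2, 1, 6],
  [2, 6, 1, 2, 3, 2, 1, 6, 3, 2, 5, 6, 1, 2, 3, 2, 1, 6, 3, 6, 1, 2, 3, 2, 1, 6, 5],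
  [2, 3, 4, 5, 3, 6, 1, 2, 3, 2, 1, 6, 0, 1, 0, 1],
  [5, 6, 1, 2, 3, 2, 1, 6, 3, 2, 3, 2, 3, 5, 0, 1, 0, 1],
  [2, 3, 2, 0, 1, 0, 1, 6, 1, 2, 3, 2, 1, 6, 5, 6, 1, 2, 3, 2, 1, 6, 3, 2, 3],
  [2, 3, 2, 6, 1, 2, 3, 2, 1, 6, 3, 2, 0, 1, 0, 1],
  [2, 4, 6, 1, 2, 3, 2, 1, 6, 3, 2, 6, 1, 2, 3, 2, 1, 6, 3, 5, 3],
  [2, 5, 6, 1, 2, 3, 2, 1, 6, 0, 3, 2, 5, 3, 6, 1, 2, 3, 2, 1, 6],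
  [2, 3, 2, 6, 1, 2, 3, 2, 1, 6, 3, 2, 6, 1, 2, 3, 2, 1, 6, 3, 6, 1, 2, 3, 2, 1, 6, 0],
  [2, 3, 6, 1, 2, 3, 2, 1, 6, 3, 5, 0, 1, 0, 1, 2, 3, 4],
  [2, 3, 6, 1, 2, 3, 2, 1, 6, 0, 5, 3, 2],
  [2, 3, 5, 3, 2, 3, 6, 1, 2, 3, 2, 1, 6, 3, 2, 3, 2],
  [2, 6, 1, 2, 3, 2, 1, 6, 3, 2, 5, 3, 4, 6, 1, 2, 3, 2, 1, 6],
  [2, 5, 6, 1, 2, 3, 2, 1, 6, 3, 2, 5, 3, 4, 6, 1, 2, 3, 2, 1, 6, 0, 1, 0, 1],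
  [2, 6, 1, 2, 3, 2, 1, 6, 3, 2, 3, 6, 1, 2, 3, 2, 1, 6, 4, 3],
  [2, 4, 6, 1, 2, 3, 2, 1, 6, 3, 2, 6, 1, 2, 3, 2, 1, 6, 5, 3, 4],
  [2, 3, 5, 6, 1, 2, 3, 2, 1, 6, 3, 2, 5, 6, 1, 2, 3, 2, 1, 6, 3, 4],
  [2, 3, 2, 6, 1, 2, 3, 2, 1, 6, 3, 2, 6, 1, 2, 3, 2, 1, 6, 3, 0, 1, 0, 1, 6, 1, 2, 3, 2, 1, 6],
  [2, 6, 1, 2, 3, 2, 1, 6, 3, 2, 5, 6, 1, 2, 3, 2, 1, 6, 3, 6, 1, 2, 3, 2, 1, 6, 3, 2],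
  [2, 4, 6, 1, 2, 3, 2, 1, 6, 3, 2, 3, 6, 1, 2, 3, 2, 1, 6, 5, 6, 1, 2, 3, 2, 1, 6],
  [2, 6, 1, 2, 3, 2, 1, 6, 3, 2, 5, 6, 1, 2, 3, 2, 1, 6, 3, 6, 1, 2, 3, 2, 1, 6],
  [2, 3, 6, 1, 2, 3, 2, 1, 6, 3, 2, 3, 2, 6, 1, 2, 3, 2, 1, 6, 0, 1, 0, 1],
  [2, 6, 1, 2, 3, 2, 1, 6, 5, 6, 1, 2, 3, 2, 1, 6, 3, 2, 6, 1, 2, 3, 2, 1, 6, 3, 5],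
  [2, 4, 6, 1, 2, 3, 2, 1, 6, 3, 2, 5, 3, 6, 1, 2, 3, 2, 1, 6, 3, 6, 1, 2, 3, 2, 1, 6],
  [2, 3, 5, 3, 2, 3, 6, 1, 2, 3, 2, 1, 6, 0],
  [2, 3, 2, 6, 1, 2, 3, 2, 1, 6, 3, 5, 3],
  [2, 3, 2, 6, 1, 2, 3, 2, 1, 6, 3, 2, 5, 3, 2, 4, 3, 5],
  [2, 3, 2, 3, 6, 1, 2, 3, 2, 1, 6, 3, 2, 6, 1, 2, 3, 2, 1, 6, 3, 2, 4, 3],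
  [2, 3, 2, 6, 1, 2, 3, 2, 1, 6, 5, 3, 0, 1, 0, 1],
  [2, 6, 1, 2, 3, 2, 1, 6, 3, 2, 3, 5, 6, 1, 2, 3, 2, 1, 6, 3, 6, 1, 2, 3, 2, 1, 6, 3],
  [2, 5, 6, 1, 2, 3, 2, 1, 6, 3, 2, 4, 3, 6, 1, 2, 3, 2, 1, 6, 0, 1, 0, 1],
  [2, 3, 5, 6, 1, 2, 3, 2, 1, 6, 4, 3, 2, 3, 6, 1, 2, 3, 2, 1, 6, 3],
  [2, 5, 6, 1, 2, 3, 2, 1, 6, 3, 2, 4, 3, 6, 1, 2, 3, 2, 1, 6],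
  [2, 3, 6, 1, 2, 3, 2, 1, 6, 3, 2, 3, 4, 6, 1, 2, 3, 2, 1, 6, 5, 3],
  [2, 3, 6, 1, 2, 3, 2, 1, 6, 3, 2, 3, 4, 6, 1, 2, 3, 2, 1, 6, 5, 0, 1, 0, 1],
  [2, 3, 6, 1, 2, 3, 2, 1, 6, 3, 2, 5, 3, 6, 1, 2, 3, 2, 1, 6],
  [2, 3, 6, 1, 2, 3, 2, 1, 6, 3, 2, 3, 0, 1, 0, 1, 6, 1, 2, 3, 2, 1, 6],
  [2, 3, 2, 6, 1, 2, 3, 2, 1, 6, 0, 3, 2, 5, 3, 2, 6, 1, 2, 3, 2, 1, 6],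
  [2, 3, 2, 6, 1, 2, 3, 2, 1, 6, 3, 4, 3],
  [2, 3, 2, 6, 1, 2, 3, 2, 1, 6, 3, 4, 5],
  [2, 5, 3, 6, 1, 2, 3, 2, 1, 6, 0, 1, 0, 1, 2, 3, 2, 5, 3, 2, 0, 1, 0, 1],
  [2, 6, 1, 2, 3, 2, 1, 6, 3, 2, 3, 6, 1, 2, 3, 2, 1, 6, 3, 6, 1, 2, 3, 2, 1, 6, 3, 4],
  [2, 5, 3, 6, 1, 2, 3, 2, 1, 6, 0, 1, 0, 1, 2, 3],
  [2, 5, 6, 1, 2, 3, 2, 1, 6, 0, 3, 2, 4, 6, 1, 2, 3, 2, 1, 6, 3],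
  [2, 5, 6, 1, 2, 3, 2, 1, 6, 3, 2, 6, 1, 2, 3, 2, 1, 6, 4],
  [2, 4, 5, 3, 2, 6, 1, 2, 3, 2, 1, 6],
  [2, 6, 1, 2, 3, 2, 1, 6, 0, 3, 2, 3, 6, 1, 2, 3, 2, 1, 6, 3, 6, 1, 2, 3, 2, 1, 6],
  [2, 4, 5, 3, 2, 6, 1, 2, 3, 2, 1, 6, 3, 4],
  [2, 6, 1, 2, 3, 2, 1, 6, 3, 2, 3, 6, 1, 2, 3, 2, 1, 6, 3, 6, 1, 2, 3, 2, 1, 6, 0, 3],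
  [2, 5, 6, 1, 2, 3, 2, 1, 6, 3, 2, 6, 1, 2, 3, 2, 1, 6, 3, 4, 3],
  [2, 4, 5, 3, 2, 6, 1, 2, 3, 2, 1, 6, 3, 5],
  [2, 5, 6, 1, 2, 3, 2, 1, 6, 3, 2, 5, 3, 6, 1, 2, 3, 2, 1, 6, 3, 2],
  [2, 5, 6, 1, 2, 3, 2, 1, 6, 3, 2, 6, 1, 2, 3, 2, 1, 6, 4, 3, 5],
  [2, 5, 3, 2, 6, 1, 2, 3, 2, 1, 6, 4],
  [2, 6, 1, 2, 3, 2, 1, 6, 3, 0, 1, 0, 1, 2, 3, 6, 1, 2, 3, 2, 1, 6, 3, 6, 1, 2, 3, 2, 1, 6],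
  [2, 4, 5, 6, 1, 2, 3, 2, 1, 6, 3, 2, 6, 1, 2, 3, 2, 1, 6],
  [2, 3, 5, 6, 1, 2, 3, 2, 1, 6, 3, 2, 6, 1, 2, 3, 2, 1, 6, 3, 6, 1, 2, 3, 2, 1, 6, 3],
  [2, 6, 1, 2, 3, 2, 1, 6, 3, 2, 3, 2, 0, 1, 0, 1, 6, 1, 2, 3, 2, 1, 6],
  [2, 3, 6, 1, 2, 3, 2, 1, 6, 0, 3, 2, 3, 6, 1, 2, 3, 2, 1, 6, 0],
  [2, 3, 6, 1, 2, 3, 2, 1, 6, 3, 2, 5, 3, 6, 1, 2, 3, 2, 1, 6, 0, 1, 0, 1],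
  [2, 3, 5, 6, 1, 2, 3, 2, 1, 6, 0, 3, 2, 6, 1, 2, 3, 2, 1, 6, 3, 4],
  [2, 6, 1, 2, 3, 2, 1, 6, 3, 2, 6, 1, 2, 3, 2, 1, 6, 3, 0, 1, 0, 1, 2, 6, 1, 2, 3, 2, 1, 6, 5],
  [2, 5, 3, 6, 1, 2, 3, 2, 1, 6, 0, 1, 0, 1, 2, 3, 4],
  [2, 6, 1, 2, 3, 2, 1, 6, 3, 2, 3, 6, 1, 2, 3, 2, 1, 6, 3, 6, 1, 2, 3, 2, 1, 6, 3],
  [2, 3, 6, 1, 2, 3, 2, 1, 6, 3, 2, 3, 2, 3, 4, 6, 1, 2, 3, 2, 1, 6],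
  [6, 1, 2, 3, 2, 1, 6, 3, 2, 3, 2, 3, 6, 1, 2, 3, 2, 1, 6],
  [2, 6, 1, 2, 3, 2, 1, 6, 3, 0, 1, 0, 1, 2, 6, 1, 2, 3, 2, 1, 6, 3, 2, 3, 4],
  [2, 3, 0, 1, 0, 1, 2, 6, 1, 2, 3, 2, 1, 6, 3, 6, 1, 2, 3, 2, 1, 6, 3],
  [2, 3, 2, 5, 6, 1, 2, 3, 2, 1, 6, 3, 6, 1, 2, 3, 2, 1, 6, 5, 0, 1, 0, 1],
  [2, 3, 0, 1, 0, 1, 2, 6, 1, 2, 3, 2, 1, 6, 5, 6, 1, 2, 3, 2, 1, 6, 3],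
  [2, 3, 5, 0, 1, 0, 1, 6, 1, 2, 3, 2, 1, 6, 3, 6, 1, 2, 3, 2, 1, 6],
  [2, 3, 6, 1, 2, 3, 2, 1, 6, 3, 2, 6, 1, 2, 3, 2, 1, 6, 4, 3],
  [2, 3, 0, 1, 0, 1, 6, 1, 2, 3, 2, 1, 6, 3, 2, 6, 1, 2, 3, 2, 1, 6, 3],
  [2, 3, 2, 0, 1, 0, 1, 6, 1, 2, 3, 2, 1, 6, 3, 2, 3, 6, 1, 2, 3, 2, 1, 6, 0, 1, 0, 1],
  [2, 3, 2, 6, 1, 2, 3, 2, 1, 6, 3, 2, 3, 6, 1, 2, 3, 2, 1, 6, 0, 1, 0, 1],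
  [2, 3, 5, 6, 1, 2, 3, 2, 1, 6, 3, 6, 1, 2, 3, 2, 1, 6, 0],
  [2, 3, 2, 0, 1, 0, 1, 6, 1, 2, 3, 2, 1, 6, 3, 2, 3, 6, 1, 2, 3, 2, 1, 6],
  [2, 3, 2, 6, 1, 2, 3, 2, 1, 6, 3, 2, 3, 6, 1, 2, 3, 2, 1, 6],
  [2, 3, 0, 1, 0, 1, 6, 1, 2, 3, 2, 1, 6, 3, 2, 6, 1, 2, 3, 2, 1, 6, 3, 5],
  [2, 3, 2, 6, 1, 2, 3, 2, 1, 6, 4, 3, 2, 3, 4],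
  [2, 6, 1, 2, 3, 2, 1, 6, 5, 6, 1, 2, 3, 2, 1, 6, 3, 6, 1, 2, 3, 2, 1, 6, 3],
  [2, 3, 2, 6, 1, 2, 3, 2, 1, 6, 3, 2, 3, 6, 1, 2, 3, 2, 1, 6, 5, 0, 1, 0, 1],
  [2, 3, 6, 1, 2, 3, 2, 1, 6, 3, 2, 6, 1, 2, 3, 2, 1, 6, 4, 3, 5],
  [2, 3, 2, 6, 1, 2, 3, 2, 1, 6, 4, 3, 2, 3, 4, 0, 1, 0, 1],
  [2, 5, 6, 1, 2, 3, 2, 1, 6, 3, 6, 1, 2, 3, 2, 1, 6, 5, 3],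
  [2, 3, 2, 6, 1, 2, 3, 2, 1, 6, 3, 2, 3, 6, 1, 2, 3, 2, 1, 6, 5],
  [2, 3, 6, 1, 2, 3, 2, 1, 6, 3, 2, 6, 1, 2, 3, 2, 1, 6, 3, 4, 3, 5],
  [2, 3, 6, 1, 2, 3, 2, 1, 6, 3, 6, 1, 2, 3, 2, 1, 6, 5, 6, 1, 2, 3, 2, 1, 6],
  [2, 3, 0, 1, 0, 1, 6, 1, 2, 3, 2, 1, 6, 3, 2, 6, 1, 2, 3, 2, 1, 6, 3, 4, 5],
  [2, 3, 2, 6, 1, 2, 3, 2, 1, 6, 3, 2, 3, 6, 1, 2, 3, 2, 1, 6, 4, 5],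
  [2, 3, 2, 6, 1, 2, 3, 2, 1, 6, 4, 3, 2, 3, 0, 1, 0, 1],
  [2, 3, 2, 6, 1, 2, 3, 2, 1, 6, 4, 3, 2, 3],
  [2, 5, 6, 1, 2, 3, 2, 1, 6, 3, 6, 1, 2, 3, 2, 1, 6, 0, 1, 0, 1, 2, 3, 2, 5],
  [2, 3, 4, 6, 1, 2, 3, 2, 1, 6, 5, 6, 1, 2, 3, 2, 1, 6, 3],
  [2, 3, 2, 0, 1, 0, 1, 6, 1, 2, 3, 2, 1, 6, 3, 2, 6, 1, 2, 3, 2, 1, 6, 3, 2, 4, 3, 6, 1, 2, 3, 2, 1, 6],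
  [2, 5, 3, 6, 1, 2, 3, 2, 1, 6, 5, 3, 2, 3],
  [2, 5, 3, 2, 4, 6, 1, 2, 3, 2, 1, 6, 3, 2, 5, 3, 2, 4],
  [2, 3, 6, 1, 2, 3, 2, 1, 6, 5, 3, 2, 4],
  [2, 3, 6, 1, 2, 3, 2, 1, 6, 5, 3, 2, 4, 3, 5],
  [2, 3, 2, 3, 6, 1, 2, 3, 2, 1, 6, 0, 3, 2, 3, 6, 1, 2, 3, 2, 1, 6, 3, 2, 3],
  [2, 3, 6, 1, 2, 3, 2, 1, 6, 0, 3, 2, 5, 3, 2],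
  [2, 5, 6, 1, 2, 3, 2, 1, 6, 3, 2, 6, 1, 2, 3, 2, 1, 6, 5, 6, 1, 2, 3, 2, 1, 6, 3],
  [6, 1, 2, 3, 2, 1, 6, 3, 2, 3, 2, 5, 3, 2, 3],
  [4, 3, 6, 1, 2, 3, 2, 1, 6, 3, 2, 3, 2, 5, 3, 6, 1, 2, 3, 2, 1, 6, 3, 0, 1, 0, 1],
  [2, 6, 1, 2, 3, 2, 1, 6, 3, 5, 0, 1, 0, 1, 6, 1, 2, 3, 2, 1, 6, 3],
  [6, 1, 2, 3, 2, 1, 6, 3, 2, 3, 2, 5, 3, 2, 3, 0, 1, 0, 1],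
  [6, 1, 2, 3, 2, 1, 6, 3, 2, 3, 2, 6, 1, 2, 3, 2, 1, 6, 5, 3, 2, 4, 3],
  [4, 3, 6, 1, 2, 3, 2, 1, 6, 3, 2, 3, 2, 5, 3, 6, 1, 2, 3, 2, 1, 6, 3],
  [2, 4, 6, 1, 2, 3, 2, 1, 6, 3, 6, 1, 2, 3, 2, 1, 6, 3, 5, 6, 1, 2, 3, 2, 1, 6],
  [5, 6, 1, 2, 3, 2, 1, 6, 3, 2, 3, 2, 6, 1, 2, 3, 2, 1, 6, 3, 0, 1, 0, 1, 2, 3],
  [2, 3, 5, 3, 0, 1, 0, 1, 6, 1, 2, 3, 2, 1, 6, 3, 2, 3, 5],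
  [2, 3, 5, 6, 1, 2, 3, 2, 1, 6, 3, 2, 4, 3, 5],
  [2, 3, 5, 0, 1, 0, 1, 6, 1, 2, 3, 2, 1, 6, 3, 2, 3, 4],
  [6, 1, 2, 3, 2, 1, 6, 3, 2, 3, 2, 3, 6, 1, 2, 3, 2, 1, 6, 4, 5],
  [2, 6, 1, 2, 3, 2, 1, 6, 3, 2, 3, 2, 6, 1, 2, 3, 2, 1, 6, 5, 3, 6, 1, 2, 3, 2, 1, 6],
  [2, 3, 4, 6, 1, 2, 3, 2, 1, 6, 3, 2, 5, 3, 2, 3],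
  [5, 6, 1, 2, 3, 2, 1, 6, 3, 2, 3, 2, 6, 1, 2, 3, 2, 1, 6, 3, 0, 1, 0, 1, 6, 1, 2, 3, 2, 1, 6],
  [2, 6, 1, 2, 3, 2, 1, 6, 3, 2, 4, 6, 1, 2, 3, 2, 1, 6, 3, 2, 5, 0, 1, 0, 1],
  [2, 3, 6, 1, 2, 3, 2, 1, 6, 5, 6, 1, 2, 3, 2, 1, 6, 3, 2, 3, 2, 5],
  [2, 6, 1, 2, 3, 2, 1, 6, 3, 0, 1, 0, 1, 2, 6, 1, 2, 3, 2, 1, 6, 3, 2],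
  [2, 3, 6, 1, 2, 3, 2, 1, 6, 0, 3, 2, 3, 6, 1, 2, 3, 2, 1, 6, 0, 1, 0, 1],
  [2, 6, 1, 2, 3, 2, 1, 6, 3, 2, 4, 6, 1, 2, 3, 2, 1, 6, 3, 2, 4, 5],
  [2, 3, 6, 1, 2, 3, 2, 1, 6, 0, 3, 2, 3, 6, 1, 2, 3, 2, 1, 6, 5],
  [2, 3, 2, 4, 6, 1, 2, 3, 2, 1, 6, 3, 2, 0, 1, 0, 1],
  [2, 3, 6, 1, 2, 3, 2, 1, 6, 5, 6, 1, 2, 3, 2, 1, 6, 4],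
  [2, 3, 2, 3, 6, 1, 2, 3, 2, 1, 6, 3, 2, 6, 1, 2, 3, 2, 1, 6, 3, 6, 1, 2, 3, 2, 1, 6, 0],
  [2, 3, 2, 4, 6, 1, 2, 3, 2, 1, 6, 3, 2],
  [2, 3, 6, 1, 2, 3, 2, 1, 6, 3, 2, 6, 1, 2, 3, 2, 1, 6, 3, 4, 5, 3],
  [2, 3, 2, 5, 6, 1, 2, 3, 2, 1, 6, 3, 2, 4, 3, 2, 3],
  [2, 3, 2, 6, 1, 2, 3, 2, 1, 6, 3, 2, 5, 3, 4, 6, 1, 2, 3, 2, 1, 6],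
  [2, 3, 4, 3, 6, 1, 2, 3, 2, 1, 6, 5, 6, 1, 2, 3, 2, 1, 6],
  [2, 3, 2, 4, 6, 1, 2, 3, 2, 1, 6, 3, 2, 3, 0, 1, 0, 1, 2],
  [2, 3, 2, 6, 1, 2, 3, 2, 1, 6, 4, 3, 2, 3, 6, 1, 2, 3, 2, 1, 6],
  [2, 3, 4, 3, 6, 1, 2, 3, 2, 1, 6, 5, 6, 1, 2, 3, 2, 1, 6, 3, 2],
  [2, 5, 6, 1, 2, 3, 2, 1, 6, 3, 2, 3, 2, 0, 1, 0, 1, 6, 1, 2, 3, 2, 1, 6],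
  [2, 3, 2, 5, 6, 1, 2, 3, 2, 1, 6, 0, 3, 2, 3, 4],
  [5, 6, 1, 2, 3, 2, 1, 6, 3, 2, 3, 2, 3, 6, 1, 2, 3, 2, 1, 6, 0],
  [2, 3, 5, 3, 2, 6, 1, 2, 3, 2, 1, 6, 0],
  [2, 3, 2, 6, 1, 2, 3, 2, 1, 6, 4, 3, 2, 3, 6, 1, 2, 3, 2, 1, 6, 0, 1, 0, 1],
  [2, 3, 2, 6, 1, 2, 3, 2, 1, 6, 4, 3, 2, 3, 6, 1, 2, 3, 2, 1, 6, 3],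
  [2, 6, 1, 2, 3, 2, 1, 6, 5, 6, 1, 2, 3, 2, 1, 6, 3, 6, 1, 2, 3, 2, 1, 6, 3, 2],
  [6, 1, 2, 3, 2, 1, 6, 3, 2, 3, 6, 1, 2, 3, 2, 1, 6, 0],
  [2, 3, 2, 0, 1, 0, 1, 6, 1, 2, 3, 2, 1, 6, 3, 2, 6, 1, 2, 3, 2, 1, 6, 3, 6, 1, 2, 3, 2, 1, 6, 0, 1, 0, 1, 2],
  [2, 3, 4, 3, 6, 1, 2, 3, 2, 1, 6, 5, 6, 1, 2, 3, 2, 1, 6, 3, 2, 3],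
  [2, 6, 1, 2, 3, 2, 1, 6, 5, 6, 1, 2, 3, 2, 1, 6, 3, 6, 1, 2, 3, 2, 1, 6, 3, 2, 3],
  [2, 3, 2, 0, 1, 0, 1, 6, 1, 2, 3, 2, 1, 6, 3, 2, 6, 1, 2, 3, 2, 1, 6, 3, 2, 4, 6, 1, 2, 3, 2, 1, 6],
  [2, 3, 2, 6, 1, 2, 3, 2, 1, 6, 4, 3, 2, 3, 2, 4],
  [6, 1, 2, 3, 2, 1, 6, 0, 3, 2, 3, 6, 1, 2, 3, 2, 1, 6],
  [2, 3, 5, 3, 2, 0, 1, 0, 1, 6, 1, 2, 3, 2, 1, 6],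
  [2, 5, 3, 6, 1, 2, 3, 2, 1, 6, 3, 2, 5, 3, 6, 1, 2, 3, 2, 1, 6, 3],
  [2, 6, 1, 2, 3, 2, 1, 6, 3, 2, 3, 4, 6, 1, 2, 3, 2, 1, 6, 3, 2],
  [2, 3, 2, 6, 1, 2, 3, 2, 1, 6, 3, 2, 3, 5, 6, 1, 2, 3, 2, 1, 6, 4],
  [2, 5, 6, 1, 2, 3, 2, 1, 6, 3, 2, 3, 6, 1, 2, 3, 2, 1, 6],
  [2, 6, 1, 2, 3, 2, 1, 6, 3, 2, 3, 6, 1, 2, 3, 2, 1, 6, 0, 1, 0, 1],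
  [2, 3, 6, 1, 2, 3, 2, 1, 6, 3, 2, 3, 5, 6, 1, 2, 3, 2, 1, 6],
  [2, 3, 6, 1, 2, 3, 2, 1, 6, 4, 3, 2, 3, 2],
  [2, 3, 2, 5, 6, 1, 2, 3, 2, 1, 6, 3, 2],
  [2, 3, 2, 5, 0, 1, 0, 1, 6, 1, 2, 3, 2, 1, 6, 3, 2],
  [2, 3, 4, 6, 1, 2, 3, 2, 1, 6, 3, 2, 3, 2, 5],
  [2, 3, 2, 5, 6, 1, 2, 3, 2, 1, 6, 3, 2, 4],
  [6, 1, 2, 3, 2, 1, 6, 3, 2, 3, 6, 1, 2, 3, 2, 1, 6, 4, 3],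
  [2, 3, 6, 1, 2, 3, 2, 1, 6, 5, 6, 1, 2, 3, 2, 1, 6, 4, 3, 2, 3],
  [2, 3, 5, 3, 2, 6, 1, 2, 3, 2, 1, 6, 4, 3] ]
def cp6 : List (List ℕ) := [
  [2, 6, 1, 2, 3, 2, 1, 6, 0, 3, 2, 3, 6, 1, 2, 3, 2, 1, 6, 3, 2],
  [2, 3, 2, 6, 1, 2, 3, 2, 1, 6, 3, 2, 3, 4, 6, 1, 2, 3, 2, 1, 6, 3, 2, 3],
  [2, 3, 5, 3, 0, 1, 0, 1, 2, 6, 1, 2, 3, 2, 1, 6, 3],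
  [2, 3, 2, 5, 6, 1, 2, 3, 2, 1, 6, 3, 2, 0, 1, 0, 1],
  [2, 3, 4, 6, 1, 2, 3, 2, 1, 6, 3, 2, 3, 2, 4, 5],
  [6, 1, 2, 3, 2, 1, 6, 3, 2, 3, 4, 6, 1, 2, 3, 2, 1, 6, 3],
  [2, 3, 2, 0, 1, 0, 1, 6, 1, 2, 3, 2, 1, 6, 3, 2, 6, 1, 2, 3, 2, 1, 6, 3, 2, 6, 1, 2, 3, 2, 1, 6, 3],
  [2, 3, 6, 1, 2, 3, 2, 1, 6, 3, 2, 3, 5, 6, 1, 2, 3, 2, 1, 6, 4],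
  [2, 3, 6, 1, 2, 3, 2, 1, 6, 3, 2, 3, 5, 6, 1, 2, 3, 2, 1, 6, 0, 1, 0, 1],
  [2, 3, 2, 6, 1, 2, 3, 2, 1, 6, 4, 3, 2, 3, 0, 1, 0, 1, 2],
  [2, 3, 6, 1, 2, 3, 2, 1, 6, 3, 2, 6, 1, 2, 3, 2, 1, 6, 5, 6, 1, 2, 3, 2, 1, 6],
  [2, 3, 2, 5, 0, 1, 0, 1, 6, 1, 2, 3, 2, 1, 6, 3, 2, 3, 4],
  [5, 6, 1, 2, 3, 2, 1, 6, 3, 2, 3, 2, 3, 6, 1, 2, 3, 2, 1, 6, 0, 1, 0, 1],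
  [2, 3, 2, 5, 6, 1, 2, 3, 2, 1, 6, 3, 2, 3, 4],
  [2, 3, 5, 3, 2, 6, 1, 2, 3, 2, 1, 6],
  [5, 6, 1, 2, 3, 2, 1, 6, 3, 2, 3, 2, 3, 6, 1, 2, 3, 2, 1, 6],
  [6, 1, 2, 3, 2, 1, 6, 3, 2, 3, 6, 1, 2, 3, 2, 1, 6],
  [2, 3, 2, 4, 6, 1, 2, 3, 2, 1, 6, 3, 2, 3, 0, 1, 0, 1, 6, 1, 2, 3, 2, 1, 6],
  [2, 3, 2, 5, 6, 1, 2, 3, 2, 1, 6, 3, 2, 3, 4, 0, 1, 0, 1],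
  [2, 3, 2, 6, 1, 2, 3, 2, 1, 6, 3, 2, 6, 1, 2, 3, 2, 1, 6, 4, 3, 2, 6, 1, 2, 3, 2, 1, 6],
  [6, 1, 2, 3, 2, 1, 6, 3, 2, 3, 6, 1, 2, 3, 2, 1, 6, 0, 1, 0, 1],
  [5, 6, 1, 2, 3, 2, 1, 6, 3, 2, 3, 2, 3, 6, 1, 2, 3, 2, 1, 6, 3],
  [2, 3, 5, 6, 1, 2, 3, 2, 1, 6, 3, 6, 1, 2, 3, 2, 1, 6, 5, 0, 1, 0, 1, 2],
  [2, 3, 5, 6, 1, 2, 3, 2, 1, 6, 3, 6, 1, 2, 3, 2, 1, 6, 5, 0, 1, 0, 1, 2, 3],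
  [2, 3, 6, 1, 2, 3, 2, 1, 6, 3, 2, 6, 1, 2, 3, 2, 1, 6, 5, 6, 1, 2, 3, 2, 1, 6, 3],
  [2, 3, 2, 0, 1, 0, 1, 6, 1, 2, 3, 2, 1, 6, 3, 2, 6, 1, 2, 3, 2, 1, 6, 3, 2, 6, 1, 2, 3, 2, 1, 6, 4],
  [2, 6, 1, 2, 3, 2, 1, 6, 3, 5, 3, 2],
  [2, 4, 6, 1, 2, 3, 2, 1, 6, 5, 3, 2],
  [2, 3, 2, 6, 1, 2, 3, 2, 1, 6, 3, 2, 3, 4, 6, 1, 2, 3, 2, 1, 6, 3, 2, 5],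
  [2, 6, 1, 2, 3, 2, 1, 6, 3, 5, 6, 1, 2, 3, 2, 1, 6, 3, 2, 6, 1, 2, 3, 2, 1, 6],
  [6, 1, 2, 3, 2, 1, 6, 3, 2, 3, 6, 1, 2, 3, 2, 1, 6, 4, 5],
  [2, 3, 0, 1, 0, 1, 6, 1, 2, 3, 2, 1, 6, 3, 2, 3, 5, 6, 1, 2, 3, 2, 1, 6, 3],
  [2, 3, 0, 1, 0, 1, 6, 1, 2, 3, 2, 1, 6, 3, 2, 6, 1, 2, 3, 2, 1, 6, 3, 2],
  [2, 6, 1, 2, 3, 2, 1, 6, 5, 3, 2, 4],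
  [2, 3, 2, 3, 6, 1, 2, 3, 2, 1, 6, 3, 2, 4, 3, 6, 1, 2, 3, 2, 1, 6, 3, 2],
  [2, 3, 2, 5, 6, 1, 2, 3, 2, 1, 6, 3, 2, 4, 3, 5],
  [2, 6, 1, 2, 3, 2, 1, 6, 3, 5, 0, 1, 0, 1, 2, 6, 1, 2, 3, 2, 1, 6, 3, 2],
  [2, 3, 2, 5, 6, 1, 2, 3, 2, 1, 6, 3, 2, 3, 5],
  [2, 3, 6, 1, 2, 3, 2, 1, 6, 3, 2, 3, 5, 6, 1, 2, 3, 2, 1, 6, 3, 5],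
  [6, 1, 2, 3, 2, 1, 6, 3, 2, 3, 4, 6, 1, 2, 3, 2, 1, 6, 5],
  [2, 3, 5, 6, 1, 2, 3, 2, 1, 6, 3, 2, 6, 1, 2, 3, 2, 1, 6, 3],
  [2, 3, 5, 0, 1, 0, 1, 6, 1, 2, 3, 2, 1, 6, 3, 2, 3, 5, 6, 1, 2, 3, 2, 1, 6],
  [2, 3, 6, 1, 2, 3, 2, 1, 6, 0, 3, 2, 4, 3, 5, 6, 1, 2, 3, 2, 1, 6],
  [2, 3, 5, 6, 1, 2, 3, 2, 1, 6, 3, 2, 6, 1, 2, 3, 2, 1, 6, 0],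
  [2, 3, 5, 6, 1, 2, 3, 2, 1, 6, 3, 2, 6, 1, 2, 3, 2, 1, 6, 3, 0, 1, 0, 1],
  [2, 5, 6, 1, 2, 3, 2, 1, 6, 3, 2, 6, 1, 2, 3, 2, 1, 6, 0, 3, 6, 1, 2, 3, 2, 1, 6],
  [2, 6, 1, 2, 3, 2, 1, 6, 3, 2, 5, 0, 1, 0, 1, 6, 1, 2, 3, 2, 1, 6, 3, 6, 1, 2, 3, 2, 1, 6, 4],
  [2, 6, 1, 2, 3, 2, 1, 6, 3, 2, 5, 0, 1, 0, 1, 6, 1, 2, 3, 2, 1, 6, 3, 6, 1, 2, 3, 2, 1, 6, 3],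
  [2, 5, 6, 1, 2, 3, 2, 1, 6, 3, 2, 4, 3, 6, 1, 2, 3, 2, 1, 6, 5],
  [2, 3, 2, 0, 1, 0, 1, 6, 1, 2, 3, 2, 1, 6, 3, 2, 3, 2],
  [2, 3, 6, 1, 2, 3, 2, 1, 6, 0, 3, 2, 3, 6, 1, 2, 3, 2, 1, 6, 4, 3],
  [2, 3, 5, 3, 6, 1, 2, 3, 2, 1, 6, 3, 2],
  [5, 6, 1, 2, 3, 2, 1, 6, 3, 2, 3, 2, 4, 6, 1, 2, 3, 2, 1, 6],
  [2, 3, 5, 6, 1, 2, 3, 2, 1, 6, 3, 2, 0, 1, 0, 1],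
  [2, 3, 5, 6, 1, 2, 3, 2, 1, 6, 3, 2, 3, 5, 3, 4],
  [2, 3, 5, 3, 6, 1, 2, 3, 2, 1, 6, 3, 2, 5, 3],
  [2, 3, 5, 6, 1, 2, 3, 2, 1, 6, 0, 3, 2, 4, 3],
  [2, 6, 1, 2, 3, 2, 1, 6, 3, 2, 6, 1, 2, 3, 2, 1, 6, 3, 5, 0, 1, 0, 1, 6, 1, 2, 3, 2, 1, 6, 3],
  [2, 5, 3, 2, 6, 1, 2, 3, 2, 1, 6, 3, 4, 3],
  [2, 4, 5, 6, 1, 2, 3, 2, 1, 6, 3, 2, 6, 1, 2, 3, 2, 1, 6, 3, 4],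
  [2, 3, 2, 6, 1, 2, 3, 2, 1, 6, 3, 2, 5, 0, 1, 0, 1],
  [2, 3, 2, 0, 1, 0, 1, 6, 1, 2, 3, 2, 1, 6, 5, 6, 1, 2, 3, 2, 1, 6, 3, 2, 3, 5],
  [2, 5, 3, 6, 1, 2, 3, 2, 1, 6, 5, 3],
  [5, 6, 1, 2, 3, 2, 1, 6, 3, 2, 3, 2, 3, 0, 1, 0, 1],
  [2, 3, 2, 6, 1, 2, 3, 2, 1, 6, 3, 2, 5, 3],
  [2, 3, 2, 3, 6, 1, 2, 3, 2, 1, 6, 3, 2, 6, 1, 2, 3, 2, 1, 6, 3, 5],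
  [2, 6, 1, 2, 3, 2, 1, 6, 3, 2, 4, 3],
  [2, 6, 1, 2, 3, 2, 1, 6, 3, 0, 1, 0, 1, 2, 6, 1, 2, 3, 2, 1, 6, 3, 6, 1, 2, 3, 2, 1, 6, 3],
  [2, 3, 2, 3, 6, 1, 2, 3, 2, 1, 6, 3, 2, 6, 1, 2, 3, 2, 1, 6, 3, 4],
  [2, 3, 2, 6, 1, 2, 3, 2, 1, 6, 3, 2, 3, 5, 3, 4],
  [2, 4, 5, 3, 6, 1, 2, 3, 2, 1, 6, 3, 2, 3, 6, 1, 2, 3, 2, 1, 6, 4],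
  [2, 6, 1, 2, 3, 2, 1, 6, 3, 6, 1, 2, 3, 2, 1, 6, 5, 3, 2, 3, 4],
  [2, 4, 6, 1, 2, 3, 2, 1, 6, 5, 6, 1, 2, 3, 2, 1, 6, 3, 2, 3],
  [2, 3, 6, 1, 2, 3, 2, 1, 6, 3, 2, 3, 6, 1, 2, 3, 2, 1, 6, 5],
  [2, 4, 6, 1, 2, 3, 2, 1, 6, 3, 2],
  [2, 6, 1, 2, 3, 2, 1, 6, 3, 2, 4, 6, 1, 2, 3, 2, 1, 6, 3, 6, 1, 2, 3, 2, 1, 6, 0],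
  [2, 3, 2, 3, 0, 1, 0, 1, 6, 1, 2, 3, 2, 1, 6, 3, 2, 6, 1, 2, 3, 2, 1, 6],
  [2, 3, 2, 6, 1, 2, 3, 2, 1, 6, 3, 2, 3, 4, 5, 0, 1, 0, 1],
  [2, 3, 2, 6, 1, 2, 3, 2, 1, 6, 3, 2, 3, 0, 1, 0, 1],
  [2, 3, 2, 0, 1, 0, 1, 6, 1, 2, 3, 2, 1, 6, 5, 6, 1, 2, 3, 2, 1, 6, 3, 2],
  [2, 3, 6, 1, 2, 3, 2, 1, 6, 3, 2, 6, 1, 2, 3, 2, 1, 6, 4, 3, 6, 1, 2, 3, 2, 1, 6],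
  [2, 3, 5, 6, 1, 2, 3, 2, 1, 6, 3, 2, 6, 1, 2, 3, 2, 1, 6, 3, 6, 1, 2, 3, 2, 1, 6],
  [2, 3, 5, 6, 1, 2, 3, 2, 1, 6, 3, 2, 5, 3, 4],
  [2, 3, 5, 3, 6, 1, 2, 3, 2, 1, 6, 3, 2, 3, 5, 3],
  [2, 3, 5, 6, 1, 2, 3, 2, 1, 6, 0, 3, 2, 4, 3, 5],
  [2, 3, 2, 0, 1, 0, 1, 6, 1, 2, 3, 2, 1, 6, 3, 2, 3, 5],
  [2, 3, 2, 6, 1, 2, 3, 2, 1, 6, 0, 3, 2, 3, 4, 3],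
  [2, 3, 6, 1, 2, 3, 2, 1, 6, 3, 2, 6, 1, 2, 3, 2, 1, 6, 5, 3],
  [2, 3, 6, 1, 2, 3, 2, 1, 6, 3, 2, 6, 1, 2, 3, 2, 1, 6, 5, 3, 0, 1, 0, 1],
  [2, 3, 2, 4, 6, 1, 2, 3, 2, 1, 6, 3, 2, 4, 3, 6, 1, 2, 3, 2, 1, 6, 5],
  [2, 3, 2, 4, 6, 1, 2, 3, 2, 1, 6, 3, 2, 3, 4, 3, 5],
  [2, 3, 2, 5, 6, 1, 2, 3, 2, 1, 6, 3, 2, 3, 6, 1, 2, 3, 2, 1, 6, 3, 5],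
  [2, 5, 6, 1, 2, 3, 2, 1, 6, 3, 6, 1, 2, 3, 2, 1, 6, 0],
  [2, 4, 5, 6, 1, 2, 3, 2, 1, 6, 3, 6, 1, 2, 3, 2, 1, 6],
  [2, 3, 0, 1, 0, 1, 2, 6, 1, 2, 3, 2, 1, 6, 3, 2, 3, 4, 5],
  [2, 3, 6, 1, 2, 3, 2, 1, 6, 3, 2, 6, 1, 2, 3, 2, 1, 6, 3, 2, 6, 1, 2, 3, 2, 1, 6, 3],
  [2, 3, 2, 6, 1, 2, 3, 2, 1, 6, 0, 3, 2, 4],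
  [2, 6, 1, 2, 3, 2, 1, 6, 0, 3, 2, 4, 6, 1, 2, 3, 2, 1, 6, 3, 6, 1, 2, 3, 2, 1, 6, 4],
  [2, 6, 1, 2, 3, 2, 1, 6, 3, 2, 3, 0, 1, 0, 1],
  [2, 3, 2, 6, 1, 2, 3, 2, 1, 6, 0, 3, 2, 5],
  [2, 3, 2, 4, 6, 1, 2, 3, 2, 1, 6, 3, 2, 6, 1, 2, 3, 2, 1, 6, 3, 5, 3],
  [2, 5, 6, 1, 2, 3, 2, 1, 6, 3, 2, 5, 3, 2],
  [2, 5, 6, 1, 2, 3, 2, 1, 6, 3, 6, 1, 2, 3, 2, 1, 6, 5],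
  [2, 3, 6, 1, 2, 3, 2, 1, 6, 0, 1, 0, 1, 2, 3, 2, 3, 6, 1, 2, 3, 2, 1, 6],
  [2, 3, 6, 1, 2, 3, 2, 1, 6, 0, 1, 0, 1, 2, 3, 2, 3, 4],
  [2, 3, 6, 1, 2, 3, 2, 1, 6, 0, 1, 0, 1, 2, 3, 2, 3, 6, 1, 2, 3, 2, 1, 6, 0, 1, 0, 1],
  [2, 5, 6, 1, 2, 3, 2, 1, 6, 3, 2, 5, 3, 2, 0, 1, 0, 1],
  [2, 3, 2, 6, 1, 2, 3, 2, 1, 6, 3, 4, 3, 2, 3, 4],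
  [2, 6, 1, 2, 3, 2, 1, 6, 5, 6, 1, 2, 3, 2, 1, 6, 3, 6, 1, 2, 3, 2, 1, 6],
  [2, 6, 1, 2, 3, 2, 1, 6, 3, 6, 1, 2, 3, 2, 1, 6, 5, 3, 2],
  [2, 6, 1, 2, 3, 2, 1, 6, 3, 6, 1, 2, 3, 2, 1, 6, 5, 3, 0, 1, 0, 1, 2],
  [2, 4, 6, 1, 2, 3, 2, 1, 6, 5, 3, 6, 1, 2, 3, 2, 1, 6],
  [5, 6, 1, 2, 3, 2, 1, 6, 0, 3, 2, 3, 2, 0, 1, 0, 1],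
  [2, 4, 6, 1, 2, 3, 2, 1, 6, 3, 2, 3, 4],
  [2, 6, 1, 2, 3, 2, 1, 6, 0, 3, 2, 4, 6, 1, 2, 3, 2, 1, 6, 3, 6, 1, 2, 3, 2, 1, 6, 3],
  [2, 4, 6, 1, 2, 3, 2, 1, 6, 3, 2, 3],
  [2, 6, 1, 2, 3, 2, 1, 6, 3, 2, 4, 6, 1, 2, 3, 2, 1, 6, 3, 6, 1, 2, 3, 2, 1, 6, 0, 3],
  [2, 6, 1, 2, 3, 2, 1, 6, 3, 0, 1, 0, 1, 2],
  [2, 6, 1, 2, 3, 2, 1, 6, 3, 2, 4, 6, 1, 2, 3, 2, 1, 6, 3, 6, 1, 2, 3, 2, 1, 6],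
  [2, 4, 6, 1, 2, 3, 2, 1, 6, 3, 2, 6, 1, 2, 3, 2, 1, 6, 3, 6, 1, 2, 3, 2, 1, 6, 3, 0, 1, 0, 1],
  [2, 4, 6, 1, 2, 3, 2, 1, 6, 3, 2, 3, 5],
  [2, 3, 2, 6, 1, 2, 3, 2, 1, 6, 0, 3, 2, 3, 4, 5],
  [2, 3, 2, 4, 6, 1, 2, 3, 2, 1, 6, 3, 2, 6, 1, 2, 3, 2, 1, 6, 4],
  [2, 3, 2, 5, 6, 1, 2, 3, 2, 1, 6, 3, 6, 1, 2, 3, 2, 1, 6, 3],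
  [2, 3, 2, 5, 6, 1, 2, 3, 2, 1, 6, 3, 6, 1, 2, 3, 2, 1, 6, 4],
  [2, 3, 2, 5, 6, 1, 2, 3, 2, 1, 6, 3, 6, 1, 2, 3, 2, 1, 6, 0],
  [2, 3, 6, 1, 2, 3, 2, 1, 6, 3, 2, 6, 1, 2, 3, 2, 1, 6, 3, 5, 3],
  [2, 4, 6, 1, 2, 3, 2, 1, 6, 5, 6, 1, 2, 3, 2, 1, 6, 3, 6, 1, 2, 3, 2, 1, 6],
  [2, 3, 2, 5, 6, 1, 2, 3, 2, 1, 6, 3, 2, 3, 6, 1, 2, 3, 2, 1, 6, 3],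
  [2, 3, 2, 4, 6, 1, 2, 3, 2, 1, 6, 3, 2, 4, 3, 6, 1, 2, 3, 2, 1, 6],
  [2, 3, 0, 1, 0, 1, 2, 6, 1, 2, 3, 2, 1, 6, 3, 2, 3, 4],
  [2, 3, 2, 4, 6, 1, 2, 3, 2, 1, 6, 3, 2, 3, 4, 3],
  [2, 3, 6, 1, 2, 3, 2, 1, 6, 3, 2, 6, 1, 2, 3, 2, 1, 6, 3, 5, 3, 0, 1, 0, 1],
  [2, 3, 6, 1, 2, 3, 2, 1, 6, 5, 6, 1, 2, 3, 2, 1, 6, 3, 4],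
  [2, 3, 2, 5, 6, 1, 2, 3, 2, 1, 6, 3, 0, 1, 0, 1, 6, 1, 2, 3, 2, 1, 6],
  [2, 5, 3, 6, 1, 2, 3, 2, 1, 6, 0, 1, 0, 1, 2, 3, 2, 5, 3, 2],
  [2, 4, 6, 1, 2, 3, 2, 1, 6, 3, 2, 6, 1, 2, 3, 2, 1, 6, 3, 6, 1, 2, 3, 2, 1, 6, 0],
  [2, 6, 1, 2, 3, 2, 1, 6, 3, 2, 3, 4],
  [2, 3, 2, 6, 1, 2, 3, 2, 1, 6, 3, 5, 0, 1, 0, 1, 2],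
  [2, 3, 2, 6, 1, 2, 3, 2, 1, 6, 3, 2, 3, 4, 5, 3],
  [2, 6, 1, 2, 3, 2, 1, 6, 0, 3, 2, 4, 3],
  [2, 4, 6, 1, 2, 3, 2, 1, 6, 3, 2, 6, 1, 2, 3, 2, 1, 6, 3, 6, 1, 2, 3, 2, 1, 6, 3, 2],
  [2, 6, 1, 2, 3, 2, 1, 6, 3, 2, 3, 6, 1, 2, 3, 2, 1, 6],
  [2, 5, 6, 1, 2, 3, 2, 1, 6, 3, 2, 3, 6, 1, 2, 3, 2, 1, 6, 0, 1, 0, 1],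
  [2, 3, 0, 1, 0, 1, 2, 6, 1, 2, 3, 2, 1, 6, 3, 6, 1, 2, 3, 2, 1, 6],
  [2, 3, 2, 3, 0, 1, 0, 1, 6, 1, 2, 3, 2, 1, 6, 3, 6, 1, 2, 3, 2, 1, 6, 5],
  [2, 3, 0, 1, 0, 1, 2, 6, 1, 2, 3, 2, 1, 6, 5, 6, 1, 2, 3, 2, 1, 6],
  [2, 6, 1, 2, 3, 2, 1, 6, 3, 0, 1, 0, 1, 2, 6, 1, 2, 3, 2, 1, 6, 3, 6, 1, 2, 3, 2, 1, 6],
  [2, 6, 1, 2, 3, 2, 1, 6, 3, 2, 4],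
  [2, 6, 1, 2, 3, 2, 1, 6, 0, 3, 2, 5],
  [2, 3, 6, 1, 2, 3, 2, 1, 6, 3, 5, 0, 1, 0, 1, 2, 3, 2, 6, 1, 2, 3, 2, 1, 6],
  [2, 6, 1, 2, 3, 2, 1, 6, 0, 3, 2],
  [2, 3, 6, 1, 2, 3, 2, 1, 6, 3, 4, 3, 2, 3, 4, 6, 1, 2, 3, 2, 1, 6],
  [2, 5, 6, 1, 2, 3, 2, 1, 6, 3, 2, 5, 6, 1, 2, 3, 2, 1, 6],
  [2, 6, 1, 2, 3, 2, 1, 6, 5, 6, 1, 2, 3, 2, 1, 6, 3, 2, 6, 1, 2, 3, 2, 1, 6, 3, 6, 1, 2, 3, 2, 1, 6],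
  [2, 3, 6, 1, 2, 3, 2, 1, 6, 3, 2, 6, 1, 2, 3, 2, 1, 6, 3, 6, 1, 2, 3, 2, 1, 6, 4],
  [2, 3, 2, 0, 1, 0, 1, 6, 1, 2, 3, 2, 1, 6, 3, 2, 3, 2, 0, 1, 0, 1],
  [2, 3, 6, 1, 2, 3, 2, 1, 6, 3, 2, 3, 4, 6, 1, 2, 3, 2, 1, 6, 0, 1, 0, 1],
  [2, 3, 6, 1, 2, 3, 2, 1, 6, 3, 2, 5, 3, 6, 1, 2, 3, 2, 1, 6, 4],
  [2, 3, 2, 6, 1, 2, 3, 2, 1, 6, 3, 0, 1, 0, 1, 2, 3, 2],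
  [2, 3, 6, 1, 2, 3, 2, 1, 6, 3, 2, 3, 4, 6, 1, 2, 3, 2, 1, 6, 3],
  [2, 6, 1, 2, 3, 2, 1, 6, 3, 2, 3, 6, 1, 2, 3, 2, 1, 6, 0],
  [2, 6, 1, 2, 3, 2, 1, 6, 3, 2, 3, 6, 1, 2, 3, 2, 1, 6, 5, 0, 1, 0, 1],
  [2, 3, 2, 3, 6, 1, 2, 3, 2, 1, 6, 3, 6, 1, 2, 3, 2, 1, 6, 4],
  [2, 3, 2, 5, 6, 1, 2, 3, 2, 1, 6, 5, 6, 1, 2, 3, 2, 1, 6, 3],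
  [2, 3, 2, 6, 1, 2, 3, 2, 1, 6, 5, 6, 1, 2, 3, 2, 1, 6],
  [2, 3, 2, 6, 1, 2, 3, 2, 1, 6, 3, 6, 1, 2, 3, 2, 1, 6, 5, 6, 1, 2, 3, 2, 1, 6],
  [2, 3, 2, 5, 6, 1, 2, 3, 2, 1, 6, 3, 6, 1, 2, 3, 2, 1, 6, 5],
  [2, 3, 2, 3, 6, 1, 2, 3, 2, 1, 6, 3, 6, 1, 2, 3, 2, 1, 6, 3],
  [2, 3, 2, 4, 6, 1, 2, 3, 2, 1, 6, 3, 6, 1, 2, 3, 2, 1, 6],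
  [2, 3, 2, 4, 6, 1, 2, 3, 2, 1, 6, 5, 6, 1, 2, 3, 2, 1, 6],
  [2, 3, 2, 3, 6, 1, 2, 3, 2, 1, 6, 3, 6, 1, 2, 3, 2, 1, 6, 5],
  [2, 3, 6, 1, 2, 3, 2, 1, 6, 3, 2, 6, 1, 2, 3, 2, 1, 6, 0, 1, 0, 1],
  [2, 3, 2, 6, 1, 2, 3, 2, 1, 6, 0, 3, 2, 4, 3, 6, 1, 2, 3, 2, 1, 6, 3],
  [2, 3, 2, 6, 1, 2, 3, 2, 1, 6, 0, 3, 2, 3, 0, 1, 0, 1, 6, 1, 2, 3, 2, 1, 6, 3],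
  [2, 3, 2, 6, 1, 2, 3, 2, 1, 6, 3, 2, 3, 6, 1, 2, 3, 2, 1, 6, 0, 3],
  [2, 3, 5, 6, 1, 2, 3, 2, 1, 6, 3, 6, 1, 2, 3, 2, 1, 6, 3, 0, 1, 0, 1],
  [2, 3, 2, 4, 6, 1, 2, 3, 2, 1, 6, 3, 2, 3, 4, 5, 3],
  [2, 3, 5, 6, 1, 2, 3, 2, 1, 6, 3, 6, 1, 2, 3, 2, 1, 6, 3],
  [2, 3, 6, 1, 2, 3, 2, 1, 6, 3, 2, 6, 1, 2, 3, 2, 1, 6],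
  [2, 3, 0, 1, 0, 1, 2, 6, 1, 2, 3, 2, 1, 6, 3, 2, 3, 4, 6, 1, 2, 3, 2, 1, 6, 5],
  [2, 3, 6, 1, 2, 3, 2, 1, 6, 3, 2, 6, 1, 2, 3, 2, 1, 6, 5, 3, 4, 0, 1, 0, 1],
  [2, 3, 6, 1, 2, 3, 2, 1, 6, 3, 2, 6, 1, 2, 3, 2, 1, 6, 5, 3, 4],
  [2, 3, 2, 4, 6, 1, 2, 3, 2, 1, 6, 3, 2, 4, 3, 5],
  [2, 3, 0, 1, 0, 1, 2, 6, 1, 2, 3, 2, 1, 6, 3, 2, 3, 5],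
  [2, 3, 6, 1, 2, 3, 2, 1, 6, 5, 6, 1, 2, 3, 2, 1, 6, 3, 5],
  [2, 6, 1, 2, 3, 2, 1, 6, 3, 6, 1, 2, 3, 2, 1, 6, 3, 5, 3, 2, 3, 2],
  [2, 5, 6, 1, 2, 3, 2, 1, 6, 0, 3, 4, 6, 1, 2, 3, 2, 1, 6],
  [2, 6, 1, 2, 3, 2, 1, 6, 3, 6, 1, 2, 3, 2, 1, 6, 0, 5, 3, 2],
  [2, 4, 6, 1, 2, 3, 2, 1, 6, 3, 6, 1, 2, 3, 2, 1, 6, 5, 3, 2],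
  [2, 6, 1, 2, 3, 2, 1, 6, 3, 2, 5, 3],
  [2, 5, 6, 1, 2, 3, 2, 1, 6, 3, 0, 1, 0, 1, 2, 6, 1, 2, 3, 2, 1, 6, 3, 6, 1, 2, 3, 2, 1, 6],
  [2, 5, 6, 1, 2, 3, 2, 1, 6, 3, 6, 1, 2, 3, 2, 1, 6, 3, 0, 1, 0, 1],
  [2, 5, 6, 1, 2, 3, 2, 1, 6, 3, 6, 1, 2, 3, 2, 1, 6, 3],
  [2, 3, 6, 1, 2, 3, 2, 1, 6, 3, 2, 6, 1, 2, 3, 2, 1, 6, 4, 5],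
  [2, 3, 0, 1, 0, 1, 6, 1, 2, 3, 2, 1, 6, 3, 2, 6, 1, 2, 3, 2, 1, 6, 5],
  [2, 3, 2, 6, 1, 2, 3, 2, 1, 6, 3, 2, 3, 6, 1, 2, 3, 2, 1, 6, 3, 5],
  [2, 3, 2, 6, 1, 2, 3, 2, 1, 6, 3, 2, 3, 6, 1, 2, 3, 2, 1, 6, 3, 5, 0, 1, 0, 1],
  [2, 3, 6, 1, 2, 3, 2, 1, 6, 0, 1, 0, 1, 2, 3, 2, 3, 4, 5, 3],
  [2, 3, 2, 0, 1, 0, 1, 6, 1, 2, 3, 2, 1, 6, 3, 2, 3, 6, 1, 2, 3, 2, 1, 6, 3, 5],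
  [2, 3, 5, 3, 6, 1, 2, 3, 2, 1, 6, 3, 2, 6, 1, 2, 3, 2, 1, 6, 3, 2, 0, 1, 0, 1],
  [2, 3, 2, 6, 1, 2, 3, 2, 1, 6, 3, 4, 3, 2, 3, 5],
  [2, 5, 6, 1, 2, 3, 2, 1, 6, 3, 4, 3, 6, 1, 2, 3, 2, 1, 6],
  [2, 3, 6, 1, 2, 3, 2, 1, 6, 3, 2, 6, 1, 2, 3, 2, 1, 6, 4, 5, 3, 4],
  [2, 3, 0, 1, 0, 1, 6, 1, 2, 3, 2, 1, 6, 3, 2, 6, 1, 2, 3, 2, 1, 6, 5, 3, 4],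
  [2, 3, 6, 1, 2, 3, 2, 1, 6, 0, 1, 0, 1, 2, 3, 2, 3, 5],
  [2, 3, 5, 3, 6, 1, 2, 3, 2, 1, 6, 3, 2, 6, 1, 2, 3, 2, 1, 6, 3, 2],
  [2, 5, 6, 1, 2, 3, 2, 1, 6, 3, 6, 1, 2, 3, 2, 1, 6, 4],
  [2, 3, 2, 5, 6, 1, 2, 3, 2, 1, 6, 3, 2, 4, 3, 5, 6, 1, 2, 3, 2, 1, 6],
  [2, 3, 2, 0, 1, 0, 1, 6, 1, 2, 3, 2, 1, 6, 3, 2, 3],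
  [2, 6, 1, 2, 3, 2, 1, 6, 3, 6, 1, 2, 3, 2, 1, 6, 5, 3, 2, 3],
  [2, 4, 5, 3, 6, 1, 2, 3, 2, 1, 6, 3, 2, 3, 6, 1, 2, 3, 2, 1, 6],
  [2, 3, 4, 6, 1, 2, 3, 2, 1, 6, 5, 6, 1, 2, 3, 2, 1, 6],
  [2, 3, 2, 6, 1, 2, 3, 2, 1, 6, 4, 3, 2, 0, 1, 0, 1],
  [2, 3, 2, 3, 6, 1, 2, 3, 2, 1, 6, 3, 2, 6, 1, 2, 3, 2, 1, 6, 3, 6, 1, 2, 3, 2, 1, 6],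
  [2, 3, 2, 6, 1, 2, 3, 2, 1, 6, 4, 3, 2],
  [2, 3, 2, 3, 6, 1, 2, 3, 2, 1, 6, 3, 2, 6, 1, 2, 3, 2, 1, 6, 3, 6, 1, 2, 3, 2, 1, 6, 0, 1, 0, 1],
  [2, 5, 3, 6, 1, 2, 3, 2, 1, 6, 3, 0, 1, 0, 1, 2, 3, 2, 6, 1, 2, 3, 2, 1, 6],
  [2, 3, 6, 1, 2, 3, 2, 1, 6, 3, 2, 6, 1, 2, 3, 2, 1, 6, 3, 4, 3, 5, 3],
  [2, 3, 4, 6, 1, 2, 3, 2, 1, 6, 5, 6, 1, 2, 3, 2, 1, 6, 0, 1, 0, 1],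
  [2, 3, 4, 6, 1, 2, 3, 2, 1, 6, 3, 2, 5, 3, 2],
  [6, 1, 2, 3, 2, 1, 6, 3, 2, 3, 2, 3, 6, 1, 2, 3, 2, 1, 6, 5, 3, 4],
  [2, 6, 1, 2, 3, 2, 1, 6, 3, 2, 5, 3, 0, 1, 0, 1],
  [2, 5, 6, 1, 2, 3, 2, 1, 6, 3, 2, 4, 6, 1, 2, 3, 2, 1, 6, 3, 6, 1, 2, 3, 2, 1, 6, 0],
  [2, 3, 6, 1, 2, 3, 2, 1, 6, 3, 2, 6, 1, 2, 3, 2, 1, 6, 3, 2, 6, 1, 2, 3, 2, 1, 6],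
  [2, 3, 2, 6, 1, 2, 3, 2, 1, 6, 0, 3, 2, 4, 3],
  [2, 6, 1, 2, 3, 2, 1, 6, 3, 5, 0, 1, 0, 1, 2],
  [2, 6, 1, 2, 3, 2, 1, 6, 3, 2, 4, 6, 1, 2, 3, 2, 1, 6, 3, 6, 1, 2, 3, 2, 1, 6, 5],
  [2, 3, 2, 5, 6, 1, 2, 3, 2, 1, 6, 5, 6, 1, 2, 3, 2, 1, 6, 3, 2],
  [2, 3, 2, 6, 1, 2, 3, 2, 1, 6, 0, 3, 2, 3, 4],
  [2, 3, 2, 4, 6, 1, 2, 3, 2, 1, 6, 3, 2, 6, 1, 2, 3, 2, 1, 6, 5, 3],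
  [2, 3, 2, 6, 1, 2, 3, 2, 1, 6, 0, 3, 2],
  [2, 5, 6, 1, 2, 3, 2, 1, 6, 3, 2, 4, 3, 6, 1, 2, 3, 2, 1, 6, 4],
  [2, 3, 5, 6, 1, 2, 3, 2, 1, 6, 4, 3, 2, 3, 6, 1, 2, 3, 2, 1, 6, 3, 4],
  [2, 5, 6, 1, 2, 3, 2, 1, 6, 3, 2, 6, 1, 2, 3, 2, 1, 6, 0, 3, 6, 1, 2, 3, 2, 1, 6, 0],
  [2, 3, 2, 6, 1, 2, 3, 2, 1, 6, 0, 3, 2, 3, 6, 1, 2, 3, 2, 1, 6, 3, 2],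
  [2, 5, 6, 1, 2, 3, 2, 1, 6, 3, 2, 3, 4, 5, 3, 6, 1, 2, 3, 2, 1, 6],
  [2, 4, 6, 1, 2, 3, 2, 1, 6, 3, 2, 3, 6, 1, 2, 3, 2, 1, 6, 5, 6, 1, 2, 3, 2, 1, 6, 3],
  [2, 3, 2, 6, 1, 2, 3, 2, 1, 6, 0, 3, 2, 4, 3, 2],
  [2, 3, 6, 1, 2, 3, 2, 1, 6, 3, 2, 6, 1, 2, 3, 2, 1, 6, 3, 6, 1, 2, 3, 2, 1, 6],
  [2, 6, 1, 2, 3, 2, 1, 6, 3, 2, 3, 5, 6, 1, 2, 3, 2, 1, 6, 3, 6, 1, 2, 3, 2, 1, 6],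
  [2, 3, 6, 1, 2, 3, 2, 1, 6, 0, 3, 2, 3, 2, 0, 1, 0, 1, 6, 1, 2, 3, 2, 1, 6],
  [2, 6, 1, 2, 3, 2, 1, 6, 0, 3, 2, 5, 6, 1, 2, 3, 2, 1, 6, 3, 6, 1, 2, 3, 2, 1, 6, 3],
  [2, 4, 5, 6, 1, 2, 3, 2, 1, 6, 3, 2, 3, 4, 6, 1, 2, 3, 2, 1, 6],
  [2, 5, 3, 2, 4, 6, 1, 2, 3, 2, 1, 6, 3, 4, 5],
  [2, 6, 1, 2, 3, 2, 1, 6, 3, 6, 1, 2, 3, 2, 1, 6, 0, 1, 0, 1, 2, 3, 5, 6, 1, 2, 3, 2, 1, 6, 3],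
  [2, 5, 6, 1, 2, 3, 2, 1, 6, 3, 6, 1, 2, 3, 2, 1, 6, 0, 1, 0, 1, 2, 3, 4, 5],
  [2, 6, 1, 2, 3, 2, 1, 6, 3, 2, 3, 4, 0, 1, 0, 1, 6, 1, 2, 3, 2, 1, 6, 5],
  [2, 6, 1, 2, 3, 2, 1, 6, 0, 3, 2, 3, 4, 6, 1, 2, 3, 2, 1, 6],
  [2, 6, 1, 2, 3, 2, 1, 6, 3, 2, 4, 6, 1, 2, 3, 2, 1, 6, 3, 2, 5],
  [2, 3, 6, 1, 2, 3, 2, 1, 6, 0, 3, 2, 3, 6, 1, 2, 3, 2, 1, 6, 4, 5],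
  [2, 3, 2, 6, 1, 2, 3, 2, 1, 6, 3, 5, 0, 1, 0, 1],
  [2, 5, 3, 6, 1, 2, 3, 2, 1, 6, 0, 1, 0, 1, 2, 3, 2, 5, 3, 2, 4],
  [2, 5, 3, 6, 1, 2, 3, 2, 1, 6, 3, 2, 5, 3, 6, 1, 2, 3, 2, 1, 6, 3, 5],
  [2, 3, 2, 5, 6, 1, 2, 3, 2, 1, 6, 3, 2, 3, 5, 6, 1, 2, 3, 2, 1, 6],
  [2, 3, 2, 4, 6, 1, 2, 3, 2, 1, 6, 5, 6, 1, 2, 3, 2, 1, 6, 3, 2, 3],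
  [2, 3, 2, 3, 6, 1, 2, 3, 2, 1, 6, 3, 6, 1, 2, 3, 2, 1, 6],
  [2, 3, 2, 6, 1, 2, 3, 2, 1, 6, 5, 6, 1, 2, 3, 2, 1, 6, 4],
  [2, 3, 2, 4, 6, 1, 2, 3, 2, 1, 6, 3, 6, 1, 2, 3, 2, 1, 6, 5],
  [2, 6, 1, 2, 3, 2, 1, 6, 3, 2, 3, 5, 3],
  [2, 5, 6, 1, 2, 3, 2, 1, 6, 3, 0, 1, 0, 1, 2, 6, 1, 2, 3, 2, 1, 6, 3, 6, 1, 2, 3, 2, 1, 6, 5],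
  [2, 6, 1, 2, 3, 2, 1, 6, 3, 2, 5, 3, 4],
  [2, 6, 1, 2, 3, 2, 1, 6, 3, 6, 1, 2, 3, 2, 1, 6, 5, 0, 1, 0, 1, 2, 3, 6, 1, 2, 3, 2, 1, 6],
  [2, 3, 2, 6, 1, 2, 3, 2, 1, 6, 3, 2, 3, 4, 3, 5, 3],
  [2, 3, 2, 6, 1, 2, 3, 2, 1, 6, 3, 0, 1, 0, 1, 2],
  [2, 3, 2, 6, 1, 2, 3, 2, 1, 6, 3, 2, 4],
  [2, 3, 2, 3, 6, 1, 2, 3, 2, 1, 6, 3, 2, 6, 1, 2, 3, 2, 1, 6, 5, 3, 4],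
  [2, 4, 6, 1, 2, 3, 2, 1, 6, 3, 2, 5, 6, 1, 2, 3, 2, 1, 6, 3, 2],
  [2, 3, 5, 6, 1, 2, 3, 2, 1, 6, 5, 6, 1, 2, 3, 2, 1, 6, 3],
  [2, 3, 2, 6, 1, 2, 3, 2, 1, 6, 3, 4, 3, 2, 3],
  [2, 3, 2, 6, 1, 2, 3, 2, 1, 6, 3, 4, 3, 2, 3, 4, 6, 1, 2, 3, 2, 1, 6],
  [2, 3, 6, 1, 2, 3, 2, 1, 6, 0, 1, 0, 1, 2, 3, 2, 3, 6, 1, 2, 3, 2, 1, 6, 4],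
  [2, 5, 6, 1, 2, 3, 2, 1, 6, 3, 2, 5, 3, 2, 4],
  [2, 3, 6, 1, 2, 3, 2, 1, 6, 0, 1, 0, 1, 2, 3, 2, 3],
  [2, 3, 0, 1, 0, 1, 6, 1, 2, 3, 2, 1, 6, 5, 6, 1, 2, 3, 2, 1, 6, 3],
  [2, 6, 1, 2, 3, 2, 1, 6, 3, 2],
  [2, 6, 1, 2, 3, 2, 1, 6, 3, 0, 1, 0, 1, 2, 6, 1, 2, 3, 2, 1, 6, 3, 6, 1, 2, 3, 2, 1, 6, 4],
  [2, 3, 6, 1, 2, 3, 2, 1, 6, 5, 6, 1, 2, 3, 2, 1, 6, 3, 2, 4, 3, 5],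
  [2, 3, 5, 3, 2, 3, 6, 1, 2, 3, 2, 1, 6],
  [2, 3, 6, 1, 2, 3, 2, 1, 6, 3, 4, 3, 2, 3, 5, 6, 1, 2, 3, 2, 1, 6],
  [2, 3, 5, 3, 2, 3, 6, 1, 2, 3, 2, 1, 6, 3, 4],
  [2, 3, 6, 1, 2, 3, 2, 1, 6, 4, 3, 2, 3, 6, 1, 2, 3, 2, 1, 6, 3, 5, 6, 1, 2, 3, 2, 1, 6],
  [2, 6, 1, 2, 3, 2, 1, 6, 3, 6, 1, 2, 3, 2, 1, 6, 0, 1, 0, 1, 2, 3, 5, 6, 1, 2, 3, 2, 1, 6],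
  [2, 5, 3, 2, 6, 1, 2, 3, 2, 1, 6, 4, 3],
  [2, 6, 1, 2, 3, 2, 1, 6, 3, 2, 6, 1, 2, 3, 2, 1, 6, 3, 6, 1, 2, 3, 2, 1, 6, 3, 2, 0, 1, 0, 1],
  [2, 4, 5, 6, 1, 2, 3, 2, 1, 6, 3, 2, 6, 1, 2, 3, 2, 1, 6, 3],
  [2, 3, 2, 0, 1, 0, 1, 6, 1, 2, 3, 2, 1, 6, 3, 4, 5],
  [2, 4, 5, 3, 2, 6, 1, 2, 3, 2, 1, 6, 3, 2, 5, 3, 2],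
  [6, 1, 2, 3, 2, 1, 6, 3, 2, 3, 2, 3, 6, 1, 2, 3, 2, 1, 6, 5, 3],
  [5, 6, 1, 2, 3, 2, 1, 6, 3, 2, 3, 2, 4, 3, 6, 1, 2, 3, 2, 1, 6],
  [2, 6, 1, 2, 3, 2, 1, 6, 3, 0, 1, 0, 1, 2, 6, 1, 2, 3, 2, 1, 6, 5, 3, 2],
  [2, 3, 6, 1, 2, 3, 2, 1, 6, 3, 2, 5, 3, 0, 1, 0, 1, 2],
  [2, 3, 4, 3, 6, 1, 2, 3, 2, 1, 6, 3, 2, 3, 2],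
  [2, 3, 6, 1, 2, 3, 2, 1, 6, 3, 2, 3, 4, 6, 1, 2, 3, 2, 1, 6],
  [2, 3, 6, 1, 2, 3, 2, 1, 6, 3, 2, 5, 3, 6, 1, 2, 3, 2, 1, 6, 3],
  [2, 6, 1, 2, 3, 2, 1, 6, 3, 2, 3, 2, 4, 6, 1, 2, 3, 2, 1, 6],
  [2, 3, 0, 1, 0, 1, 6, 1, 2, 3, 2, 1, 6, 3, 2, 6, 1, 2, 3, 2, 1, 6, 5, 3, 6, 1, 2, 3, 2, 1, 6],
  [2, 3, 4, 6, 1, 2, 3, 2, 1, 6, 5, 6, 1, 2, 3, 2, 1, 6, 3, 2, 3, 6, 1, 2, 3, 2, 1, 6],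
  [2, 3, 6, 1, 2, 3, 2, 1, 6, 5, 6, 1, 2, 3, 2, 1, 6, 3],
  [2, 5, 6, 1, 2, 3, 2, 1, 6, 3, 2, 5, 3, 0, 1, 0, 1, 2],
  [2, 3, 0, 1, 0, 1, 2, 6, 1, 2, 3, 2, 1, 6, 3, 2, 3, 4, 6, 1, 2, 3, 2, 1, 6],
  [2, 3, 2, 4, 6, 1, 2, 3, 2, 1, 6, 3, 2, 4, 3, 6, 1, 2, 3, 2, 1, 6, 4],
  [2, 3, 2, 4, 6, 1, 2, 3, 2, 1, 6, 3, 2, 4, 3],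
  [2, 3, 6, 1, 2, 3, 2, 1, 6, 3, 2, 4, 3, 5, 3, 6, 1, 2, 3, 2, 1, 6],
  [2, 3, 0, 1, 0, 1, 2, 6, 1, 2, 3, 2, 1, 6, 3, 2, 3],
  [2, 6, 1, 2, 3, 2, 1, 6, 3, 6, 1, 2, 3, 2, 1, 6, 5, 6, 1, 2, 3, 2, 1, 6],
  [2, 6, 1, 2, 3, 2, 1, 6, 0, 3, 2, 3],
  [2, 4, 6, 1, 2, 3, 2, 1, 6, 3, 2, 6, 1, 2, 3, 2, 1, 6, 3, 6, 1, 2, 3, 2, 1, 6, 4],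
  [2, 3, 2, 6, 1, 2, 3, 2, 1, 6, 3, 2, 5],
  [2, 3, 2, 3, 6, 1, 2, 3, 2, 1, 6, 3, 2, 6, 1, 2, 3, 2, 1, 6, 3, 5, 3],
  [2, 3, 2, 4, 5, 3, 6, 1, 2, 3, 2, 1, 6, 0, 1, 0, 1],
  [2, 3, 2, 6, 1, 2, 3, 2, 1, 6, 3, 2, 5, 3, 0, 1, 0, 1, 2, 3, 5],
  [2, 6, 1, 2, 3, 2, 1, 6, 3, 2, 5, 0, 1, 0, 1],
  [2, 5, 6, 1, 2, 3, 2, 1, 6, 3, 2, 5, 3, 6, 1, 2, 3, 2, 1, 6, 5, 6, 1, 2, 3, 2, 1, 6],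
  [2, 5, 3, 6, 1, 2, 3, 2, 1, 6, 5],
  [5, 6, 1, 2, 3, 2, 1, 6, 3, 2, 3, 2, 0, 1, 0, 1],
  [2, 6, 1, 2, 3, 2, 1, 6, 3, 2, 5],
  [2, 5, 6, 1, 2, 3, 2, 1, 6, 3, 0, 1, 0, 1, 2, 6, 1, 2, 3, 2, 1, 6, 3, 6, 1, 2, 3, 2, 1, 6, 3],
  [2, 6, 1, 2, 3, 2, 1, 6, 3, 2, 4, 5, 3],
  [2, 4, 6, 1, 2, 3, 2, 1, 6, 3, 2, 6, 1, 2, 3, 2, 1, 6, 3, 6, 1, 2, 3, 2, 1, 6, 5],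
  [2, 3, 5, 6, 1, 2, 3, 2, 1, 6, 3, 2, 6, 1, 2, 3, 2, 1, 6, 4, 3, 2, 3],
  [2, 6, 1, 2, 3, 2, 1, 6, 3, 2, 6, 1, 2, 3, 2, 1, 6, 4, 3, 2, 3],
  [2, 3, 5, 3, 6, 1, 2, 3, 2, 1, 6, 3, 6, 1, 2, 3, 2, 1, 6],
  [2, 6, 1, 2, 3, 2, 1, 6, 3, 2, 6, 1, 2, 3, 2, 1, 6, 3, 2, 4, 3, 5],
  [2, 3, 5, 3, 6, 1, 2, 3, 2, 1, 6, 3, 6, 1, 2, 3, 2, 1, 6, 0, 1, 0, 1],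
  [2, 5, 3, 6, 1, 2, 3, 2, 1, 6, 3, 4, 5, 6, 1, 2, 3, 2, 1, 6],
  [2, 6, 1, 2, 3, 2, 1, 6, 3, 2, 6, 1, 2, 3, 2, 1, 6, 4, 3, 2, 3, 0, 1, 0, 1],
  [2, 3, 5, 6, 1, 2, 3, 2, 1, 6, 3, 6, 1, 2, 3, 2, 1, 6, 0, 1, 0, 1, 2, 3, 2],
  [2, 3, 2, 4, 5, 6, 1, 2, 3, 2, 1, 6, 3, 2, 3, 6, 1, 2, 3, 2, 1, 6, 0, 1, 0, 1],
  [2, 4, 6, 1, 2, 3, 2, 1, 6, 3, 2, 6, 1, 2, 3, 2, 1, 6, 3, 2, 4],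
  [2, 6, 1, 2, 3, 2, 1, 6, 0, 5, 3, 6, 1, 2, 3, 2, 1, 6, 3, 5],
  [2, 6, 1, 2, 3, 2, 1, 6, 3, 6, 1, 2, 3, 2, 1, 6, 3, 5],
  [2, 6, 1, 2, 3, 2, 1, 6, 3, 2, 6, 1, 2, 3, 2, 1, 6, 3, 4, 3, 2],
  [2, 6, 1, 2, 3, 2, 1, 6, 3, 6, 1, 2, 3, 2, 1, 6, 3, 5, 0, 1, 0, 1],
  [2, 6, 1, 2, 3, 2, 1, 6, 0, 3, 2, 4, 6, 1, 2, 3, 2, 1, 6, 3, 2],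
  [2, 6, 1, 2, 3, 2, 1, 6, 3, 6, 1, 2, 3, 2, 1, 6, 0, 1, 0, 1, 2, 3, 2],
  [2, 3, 2, 4, 5, 6, 1, 2, 3, 2, 1, 6, 3, 2, 3, 6, 1, 2, 3, 2, 1, 6],
  [2, 3, 5, 6, 1, 2, 3, 2, 1, 6, 3, 2, 6, 1, 2, 3, 2, 1, 6, 3, 4, 3, 2],
  [2, 3, 6, 1, 2, 3, 2, 1, 6, 3, 2, 6, 1, 2, 3, 2, 1, 6, 4],
  [2, 3, 2, 6, 1, 2, 3, 2, 1, 6, 3, 2, 3, 6, 1, 2, 3, 2, 1, 6, 3, 0, 1, 0, 1],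
  [2, 3, 5, 0, 1, 0, 1, 6, 1, 2, 3, 2, 1, 6, 3, 6, 1, 2, 3, 2, 1, 6, 3],
  [2, 3, 2, 0, 1, 0, 1, 6, 1, 2, 3, 2, 1, 6, 3, 2, 3, 6, 1, 2, 3, 2, 1, 6, 3, 0, 1, 0, 1],
  [2, 3, 2, 6, 1, 2, 3, 2, 1, 6, 3, 2, 3, 6, 1, 2, 3, 2, 1, 6, 3],
  [2, 3, 2, 0, 1, 0, 1, 6, 1, 2, 3, 2, 1, 6, 3, 2, 3, 6, 1, 2, 3, 2, 1, 6, 3],
  [2, 5, 6, 1, 2, 3, 2, 1, 6, 3, 6, 1, 2, 3, 2, 1, 6, 3, 5],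
  [2, 3, 0, 1, 0, 1, 6, 1, 2, 3, 2, 1, 6, 3, 2, 6, 1, 2, 3, 2, 1, 6],
  [2, 6, 1, 2, 3, 2, 1, 6, 0, 3, 2, 4, 6, 1, 2, 3, 2, 1, 6, 3, 2, 3],
  [2, 6, 1, 2, 3, 2, 1, 6, 3, 2, 6, 1, 2, 3, 2, 1, 6, 3, 0, 1, 0, 1, 2, 3, 5],
  [2, 4, 6, 1, 2, 3, 2, 1, 6, 3, 2, 6, 1, 2, 3, 2, 1, 6, 3, 2, 4, 3],
  [2, 3, 2, 4, 5, 6, 1, 2, 3, 2, 1, 6, 3, 2, 3, 6, 1, 2, 3, 2, 1, 6, 3],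
  [2, 5, 6, 1, 2, 3, 2, 1, 6, 3, 5, 6, 1, 2, 3, 2, 1, 6, 3, 6, 1, 2, 3, 2, 1, 6],
  [2, 3, 5, 6, 1, 2, 3, 2, 1, 6, 3, 2, 6, 1, 2, 3, 2, 1, 6, 4, 3, 2],
  [2, 6, 1, 2, 3, 2, 1, 6, 3, 6, 1, 2, 3, 2, 1, 6, 3, 5, 3],
  [2, 3, 5, 3, 0, 1, 0, 1, 6, 1, 2, 3, 2, 1, 6, 3, 6, 1, 2, 3, 2, 1, 6],
  [2, 4, 6, 1, 2, 3, 2, 1, 6, 3, 2, 6, 1, 2, 3, 2, 1, 6, 3, 2, 0, 1, 0, 1],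
  [2, 6, 1, 2, 3, 2, 1, 6, 3, 2, 6, 1, 2, 3, 2, 1, 6, 4, 3, 2, 0, 1, 0, 1],
  [2, 3, 5, 0, 1, 0, 1, 6, 1, 2, 3, 2, 1, 6, 3, 2, 6, 1, 2, 3, 2, 1, 6, 3, 2],
  [2, 6, 1, 2, 3, 2, 1, 6, 3, 6, 1, 2, 3, 2, 1, 6, 0, 3, 5],
  [2, 4, 6, 1, 2, 3, 2, 1, 6, 3, 6, 1, 2, 3, 2, 1, 6, 3, 5],
  [2, 3, 2, 4, 6, 1, 2, 3, 2, 1, 6, 3, 2, 3, 6, 1, 2, 3, 2, 1, 6, 5],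
  [2, 3, 5, 3, 6, 1, 2, 3, 2, 1, 6, 3, 6, 1, 2, 3, 2, 1, 6, 4],
  [2, 6, 1, 2, 3, 2, 1, 6, 3, 2, 6, 1, 2, 3, 2, 1, 6, 4, 3, 2],
  [2, 4, 6, 1, 2, 3, 2, 1, 6, 3, 2, 6, 1, 2, 3, 2, 1, 6, 3, 2],
  [2, 3, 2, 6, 1, 2, 3, 2, 1, 6, 3, 2, 4, 3, 6, 1, 2, 3, 2, 1, 6, 5, 6, 1, 2, 3, 2, 1, 6],
  [2, 3, 2, 5, 6, 1, 2, 3, 2, 1, 6, 3, 2, 6, 1, 2, 3, 2, 1, 6, 3, 2],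
  [2, 3, 2, 5, 6, 1, 2, 3, 2, 1, 6, 3, 2, 6, 1, 2, 3, 2, 1, 6, 3, 4, 3, 2],
  [2, 3, 2, 5, 6, 1, 2, 3, 2, 1, 6, 0, 3, 2, 4, 6, 1, 2, 3, 2, 1, 6],
  [2, 5, 3, 6, 1, 2, 3, 2, 1, 6, 3, 2, 6, 1, 2, 3, 2, 1, 6, 4, 3, 6, 1, 2, 3, 2, 1, 6],
  [2, 5, 6, 1, 2, 3, 2, 1, 6, 3, 2, 6, 1, 2, 3, 2, 1, 6, 3, 2, 6, 1, 2, 3, 2, 1, 6, 0, 1, 0, 1],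
  [2, 6, 1, 2, 3, 2, 1, 6, 3, 2, 6, 1, 2, 3, 2, 1, 6, 3, 6, 1, 2, 3, 2, 1, 6, 0, 1, 0, 1, 2],
  [2, 3, 2, 3, 6, 1, 2, 3, 2, 1, 6, 3, 6, 1, 2, 3, 2, 1, 6, 5, 3, 2],
  [2, 3, 6, 1, 2, 3, 2, 1, 6, 3, 2, 3, 4, 3, 2, 6, 1, 2, 3, 2, 1, 6, 3],
  [2, 3, 2, 5, 6, 1, 2, 3, 2, 1, 6, 0, 3, 2, 4, 6, 1, 2, 3, 2, 1, 6, 3, 2],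
  [2, 3, 4, 3, 5, 3, 2, 3, 6, 1, 2, 3, 2, 1, 6, 3],
  [2, 6, 1, 2, 3, 2, 1, 6, 0, 3, 2, 0, 1, 0, 1, 6, 1, 2, 3, 2, 1, 6],
  [2, 6, 1, 2, 3, 2, 1, 6, 3, 2, 6, 1, 2, 3, 2, 1, 6, 3],
  [2, 6, 1, 2, 3, 2, 1, 6, 0, 3, 2, 0, 1, 0, 1, 6, 1, 2, 3, 2, 1, 6, 5],
  [2, 6, 1, 2, 3, 2, 1, 6, 3, 2, 6, 1, 2, 3, 2, 1, 6, 3, 5],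
  [2, 6, 1, 2, 3, 2, 1, 6, 3, 6, 1, 2, 3, 2, 1, 6, 0, 1, 0, 1, 2, 3],
  [2, 6, 1, 2, 3, 2, 1, 6, 3, 2, 6, 1, 2, 3, 2, 1, 6, 3, 4, 3],
  [2, 6, 1, 2, 3, 2, 1, 6, 3, 2, 6, 1, 2, 3, 2, 1, 6, 3, 4, 5],
  [2, 6, 1, 2, 3, 2, 1, 6, 3, 6, 1, 2, 3, 2, 1, 6, 5, 0, 1, 0, 1, 2],
  [2, 3, 2, 5, 6, 1, 2, 3, 2, 1, 6, 0, 3, 2, 4, 6, 1, 2, 3, 2, 1, 6, 3],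
  [6, 1, 2, 3, 2, 1, 6, 0, 3, 2, 3, 2, 6, 1, 2, 3, 2, 1, 6, 3, 2, 5],
  [2, 3, 6, 1, 2, 3, 2, 1, 6, 3, 2, 6, 1, 2, 3, 2, 1, 6, 3, 2, 0, 1, 0, 1, 6, 1, 2, 3, 2, 1, 6],
  [2, 3, 2, 6, 1, 2, 3, 2, 1, 6, 3, 2, 6, 1, 2, 3, 2, 1, 6, 4, 3, 5, 6, 1, 2, 3, 2, 1, 6],
  [2, 3, 2, 5, 6, 1, 2, 3, 2, 1, 6, 3, 2, 6, 1, 2, 3, 2, 1, 6, 5, 3],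
  [2, 3, 0, 1, 0, 1, 6, 1, 2, 3, 2, 1, 6, 3, 2, 3, 2, 6, 1, 2, 3, 2, 1, 6, 0, 1, 0, 1],
  [2, 3, 2, 5, 6, 1, 2, 3, 2, 1, 6, 3, 2, 6, 1, 2, 3, 2, 1, 6, 4],
  [2, 5, 3, 6, 1, 2, 3, 2, 1, 6, 3, 2, 6, 1, 2, 3, 2, 1, 6, 3, 6, 1, 2, 3, 2, 1, 6, 0, 1, 0, 1],
  [2, 6, 1, 2, 3, 2, 1, 6, 3, 2, 6, 1, 2, 3, 2, 1, 6, 3, 2, 6, 1, 2, 3, 2, 1, 6, 5, 0, 1, 0, 1],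
  [2, 5, 3, 6, 1, 2, 3, 2, 1, 6, 3, 2, 5, 3, 6, 1, 2, 3, 2, 1, 6],
  [2, 3, 2, 5, 6, 1, 2, 3, 2, 1, 6, 3, 2, 6, 1, 2, 3, 2, 1, 6, 4, 3, 5],
  [2, 6, 1, 2, 3, 2, 1, 6, 3, 2, 3, 4, 6, 1, 2, 3, 2, 1, 6, 3, 2, 3],
  [2, 3, 6, 1, 2, 3, 2, 1, 6, 3, 5, 3, 2, 3, 6, 1, 2, 3, 2, 1, 6],
  [2, 3, 2, 3, 6, 1, 2, 3, 2, 1, 6, 3, 2, 3, 0, 1, 0, 1, 6, 1, 2, 3, 2, 1, 6, 3, 2],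
  [2, 6, 1, 2, 3, 2, 1, 6, 0, 3, 2, 0, 1, 0, 1, 6, 1, 2, 3, 2, 1, 6, 3, 2, 6, 1, 2, 3, 2, 1, 6],
  [2, 3, 0, 1, 0, 1, 6, 1, 2, 3, 2, 1, 6, 3, 2, 3, 2, 6, 1, 2, 3, 2, 1, 6, 3, 0, 1, 0, 1],
  [2, 3, 2, 5, 6, 1, 2, 3, 2, 1, 6, 3, 2, 6, 1, 2, 3, 2, 1, 6, 5],
  [2, 3, 2, 5, 6, 1, 2, 3, 2, 1, 6, 3, 2, 6, 1, 2, 3, 2, 1, 6, 4, 3, 2],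
  [2, 3, 4, 5, 3, 2, 4, 6, 1, 2, 3, 2, 1, 6, 3, 5],
  [2, 6, 1, 2, 3, 2, 1, 6, 0, 3, 2, 0, 1, 0, 1, 6, 1, 2, 3, 2, 1, 6, 3],
  [2, 6, 1, 2, 3, 2, 1, 6, 3, 2, 6, 1, 2, 3, 2, 1, 6],
  [2, 5, 6, 1, 2, 3, 2, 1, 6, 3, 2, 6, 1, 2, 3, 2, 1, 6, 0, 1, 0, 1],
  [2, 5, 3, 2, 6, 1, 2, 3, 2, 1, 6],
  [2, 3, 5, 6, 1, 2, 3, 2, 1, 6, 5, 6, 1, 2, 3, 2, 1, 6, 3, 2, 3, 5],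
  [2, 3, 6, 1, 2, 3, 2, 1, 6, 0, 3, 2, 3, 2, 6, 1, 2, 3, 2, 1, 6, 5],
  [2, 5, 6, 1, 2, 3, 2, 1, 6, 3, 2, 6, 1, 2, 3, 2, 1, 6],
  [2, 5, 3, 2, 6, 1, 2, 3, 2, 1, 6, 0, 1, 0, 1],
  [2, 6, 1, 2, 3, 2, 1, 6, 3, 2, 3, 6, 1, 2, 3, 2, 1, 6, 3, 0, 1, 0, 1],
  [2, 6, 1, 2, 3, 2, 1, 6, 3, 2, 6, 1, 2, 3, 2, 1, 6, 5],
  [2, 3, 6, 1, 2, 3, 2, 1, 6, 3, 2, 5, 3, 2, 3],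
  [2, 6, 1, 2, 3, 2, 1, 6, 3, 2, 6, 1, 2, 3, 2, 1, 6, 4, 5],
  [2, 3, 4, 5, 6, 1, 2, 3, 2, 1, 6, 3, 2, 3, 4, 6, 1, 2, 3, 2, 1, 6],
  [2, 3, 6, 1, 2, 3, 2, 1, 6, 3, 2, 3, 2, 6, 1, 2, 3, 2, 1, 6, 4],
  [2, 5, 3, 2, 4, 6, 1, 2, 3, 2, 1, 6, 3, 2, 5, 3, 2, 0, 1, 0, 1],
  [2, 3, 6, 1, 2, 3, 2, 1, 6, 5, 3, 2, 0, 1, 0, 1],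
  [2, 3, 2, 3, 6, 1, 2, 3, 2, 1, 6, 3, 2, 6, 1, 2, 3, 2, 1, 6, 3, 0, 1, 0, 1, 2, 3, 5],
  [2, 3, 2, 4, 5, 3, 6, 1, 2, 3, 2, 1, 6],
  [2, 3, 6, 1, 2, 3, 2, 1, 6, 3, 2, 3, 2, 6, 1, 2, 3, 2, 1, 6, 3],
  [2, 6, 1, 2, 3, 2, 1, 6, 3, 2, 5, 6, 1, 2, 3, 2, 1, 6, 3, 6, 1, 2, 3, 2, 1, 6, 3, 0, 1, 0, 1],
  [2, 3, 2, 5, 6, 1, 2, 3, 2, 1, 6, 0, 3, 6, 1, 2, 3, 2, 1, 6],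
  [2, 4, 5, 3, 2, 6, 1, 2, 3, 2, 1, 6, 3, 2, 5, 3, 2, 0, 1, 0, 1],
  [2, 4, 6, 1, 2, 3, 2, 1, 6, 3, 2, 3, 6, 1, 2, 3, 2, 1, 6, 3, 6, 1, 2, 3, 2, 1, 6, 3],
  [2, 5, 3, 2, 4, 6, 1, 2, 3, 2, 1, 6, 3, 4],
  [2, 5, 6, 1, 2, 3, 2, 1, 6, 3, 6, 1, 2, 3, 2, 1, 6, 0, 1, 0, 1, 2, 3, 4],
  [2, 3, 6, 1, 2, 3, 2, 1, 6, 0, 3, 2, 3, 6, 1, 2, 3, 2, 1, 6],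
  [2, 6, 1, 2, 3, 2, 1, 6, 3, 2, 4, 6, 1, 2, 3, 2, 1, 6, 3, 2, 4],
  [2, 3, 6, 1, 2, 3, 2, 1, 6, 3, 2, 6, 1, 2, 3, 2, 1, 6, 3, 6, 1, 2, 3, 2, 1, 6, 5, 3],
  [6, 1, 2, 3, 2, 1, 6, 3, 2, 3, 2, 3, 6, 1, 2, 3, 2, 1, 6, 0, 1, 0, 1],
  [2, 3, 0, 1, 0, 1, 6, 1, 2, 3, 2, 1, 6, 5, 3, 2, 3],
  [2, 3, 2, 6, 1, 2, 3, 2, 1, 6, 3, 2, 6, 1, 2, 3, 2, 1, 6, 4, 3, 2, 3, 6, 1, 2, 3, 2, 1, 6],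
  [2, 3, 2, 5, 6, 1, 2, 3, 2, 1, 6, 3, 2, 6, 1, 2, 3, 2, 1, 6, 4, 3, 2, 3],
  [2, 3, 6, 1, 2, 3, 2, 1, 6, 5, 3, 0, 1, 0, 1, 2, 3, 5],
  [6, 1, 2, 3, 2, 1, 6, 3, 2, 6, 1, 2, 3, 2, 1, 6, 3, 2, 5, 3, 0, 1, 0, 1, 6, 1, 2, 3, 2, 1, 6, 3],
  [6, 1, 2, 3, 2, 1, 6, 0, 3, 2, 3, 2, 5, 3, 2, 3],
  [2, 5, 3, 2, 4, 6, 1, 2, 3, 2, 1, 6, 3, 2, 3, 6, 1, 2, 3, 2, 1, 6, 3],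
  [2, 3, 2, 3, 6, 1, 2, 3, 2, 1, 6, 3, 2, 4, 3, 2, 6, 1, 2, 3, 2, 1, 6, 3],
  [2, 6, 1, 2, 3, 2, 1, 6, 3, 6, 1, 2, 3, 2, 1, 6, 3, 5, 6, 1, 2, 3, 2, 1, 6],
  [6, 1, 2, 3, 2, 1, 6, 0, 3, 2, 3, 2, 5, 3, 2, 3, 0, 1, 0, 1],
  [6, 1, 2, 3, 2, 1, 6, 3, 2, 3, 2, 6, 1, 2, 3, 2, 1, 6, 5, 3, 0, 1, 0, 1, 2, 3],
  [2, 6, 1, 2, 3, 2, 1, 6, 0, 3, 5, 6, 1, 2, 3, 2, 1, 6, 3],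
  [2, 6, 1, 2, 3, 2, 1, 6, 3, 2, 6, 1, 2, 3, 2, 1, 6, 3, 2, 6, 1, 2, 3, 2, 1, 6, 3, 4],
  [2, 6, 1, 2, 3, 2, 1, 6, 3, 2, 6, 1, 2, 3, 2, 1, 6, 4, 3, 6, 1, 2, 3, 2, 1, 6, 0, 1, 0, 1, 2],
  [2, 3, 0, 1, 0, 1, 6, 1, 2, 3, 2, 1, 6, 3, 2, 3, 2, 6, 1, 2, 3, 2, 1, 6, 4, 3],
  [2, 6, 1, 2, 3, 2, 1, 6, 3, 2, 3, 6, 1, 2, 3, 2, 1, 6, 5],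
  [2, 6, 1, 2, 3, 2, 1, 6, 0, 3, 2, 3, 0, 1, 0, 1, 6, 1, 2, 3, 2, 1, 6],
  [2, 3, 4, 6, 1, 2, 3, 2, 1, 6, 3, 2, 3, 2],
  [2, 3, 5, 6, 1, 2, 3, 2, 1, 6, 3, 2, 3, 5, 6, 1, 2, 3, 2, 1, 6],
  [2, 3, 2, 5, 6, 1, 2, 3, 2, 1, 6, 0, 3, 2],
  [2, 3, 2, 5, 6, 1, 2, 3, 2, 1, 6, 3, 0, 1, 0, 1, 2],
  [2, 3, 4, 6, 1, 2, 3, 2, 1, 6, 5, 6, 1, 2, 3, 2, 1, 6, 3, 2, 3],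
  [2, 3, 5, 3, 2, 4, 6, 1, 2, 3, 2, 1, 6, 3],
  [2, 3, 5, 6, 1, 2, 3, 2, 1, 6, 3, 2, 6, 1, 2, 3, 2, 1, 6, 5, 3],
  [2, 3, 2, 5, 6, 1, 2, 3, 2, 1, 6, 0, 3, 2, 4],
  [2, 3, 2, 5, 6, 1, 2, 3, 2, 1, 6, 0, 3, 2, 0, 1, 0, 1],
  [4, 3, 6, 1, 2, 3, 2, 1, 6, 3, 2, 3, 6, 1, 2, 3, 2, 1, 6],
  [2, 3, 5, 3, 2, 3, 6, 1, 2, 3, 2, 1, 6, 3, 2, 3, 2, 6, 1, 2, 3, 2, 1, 6],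
  [2, 3, 6, 1, 2, 3, 2, 1, 6, 3, 2, 3, 5, 6, 1, 2, 3, 2, 1, 6, 5],
  [4, 3, 6, 1, 2, 3, 2, 1, 6, 3, 2, 3, 6, 1, 2, 3, 2, 1, 6, 0, 1, 0, 1],
  [2, 3, 5, 3, 6, 1, 2, 3, 2, 1, 6, 0, 1, 0, 1, 2, 3],
  [6, 1, 2, 3, 2, 1, 6, 3, 2, 3, 2, 3, 5, 3, 2, 6, 1, 2, 3, 2, 1, 6, 3, 2],
  [2, 3, 4, 6, 1, 2, 3, 2, 1, 6, 3, 2, 3, 2, 4],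
  [2, 3, 5, 6, 1, 2, 3, 2, 1, 6, 3, 2, 6, 1, 2, 3, 2, 1, 6, 5, 3, 4],
  [2, 3, 4, 6, 1, 2, 3, 2, 1, 6, 3, 2, 3, 2, 0, 1, 0, 1],
  [2, 6, 1, 2, 3, 2, 1, 6, 4, 5, 3, 2],
  [2, 3, 2, 3, 6, 1, 2, 3, 2, 1, 6, 3, 2, 6, 1, 2, 3, 2, 1, 6, 3, 0, 1, 0, 1, 6, 1, 2, 3, 2, 1, 6, 3, 2],
  [5, 6, 1, 2, 3, 2, 1, 6, 3, 2, 3, 6, 1, 2, 3, 2, 1, 6, 4],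
  [2, 3, 5, 6, 1, 2, 3, 2, 1, 6, 3, 2, 6, 1, 2, 3, 2, 1, 6, 0, 1, 0, 1],
  [6, 1, 2, 3, 2, 1, 6, 3, 2, 3, 2, 3, 6, 1, 2, 3, 2, 1, 6, 5, 6, 1, 2, 3, 2, 1, 6],
  [2, 6, 1, 2, 3, 2, 1, 6, 0, 5, 3, 2, 4],
  [2, 3, 6, 1, 2, 3, 2, 1, 6, 3, 2, 6, 1, 2, 3, 2, 1, 6, 3, 2, 0, 1, 0, 1],
  [2, 3, 6, 1, 2, 3, 2, 1, 6, 3, 2, 6, 1, 2, 3, 2, 1, 6, 3, 2],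
  [2, 3, 2, 5, 6, 1, 2, 3, 2, 1, 6, 0, 3, 2, 3, 5],
  [5, 6, 1, 2, 3, 2, 1, 6, 3, 2, 3, 4, 3, 6, 1, 2, 3, 2, 1, 6],
  [2, 3, 5, 6, 1, 2, 3, 2, 1, 6, 3, 2, 6, 1, 2, 3, 2, 1, 6, 0, 3],
  [2, 6, 1, 2, 3, 2, 1, 6, 5, 6, 1, 2, 3, 2, 1, 6, 3, 2, 4, 3, 2, 6, 1, 2, 3, 2, 1, 6],
  [2, 3, 2, 5, 0, 1, 0, 1, 6, 1, 2, 3, 2, 1, 6, 3, 2, 6, 1, 2, 3, 2, 1, 6, 3, 2, 6, 1, 2, 3, 2, 1, 6],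
  [2, 3, 4, 5, 6, 1, 2, 3, 2, 1, 6, 3, 2, 6, 1, 2, 3, 2, 1, 6, 3, 2],
  [2, 3, 5, 6, 1, 2, 3, 2, 1, 6, 3, 2, 6, 1, 2, 3, 2, 1, 6],
  [2, 3, 0, 1, 0, 1, 6, 1, 2, 3, 2, 1, 6, 3, 2, 3, 5, 6, 1, 2, 3, 2, 1, 6],
  [2, 3, 0, 1, 0, 1, 6, 1, 2, 3, 2, 1, 6, 3, 2, 3, 5, 6, 1, 2, 3, 2, 1, 6, 0, 1, 0, 1],
  [2, 6, 1, 2, 3, 2, 1, 6, 3, 5, 6, 1, 2, 3, 2, 1, 6, 3, 2, 6, 1, 2, 3, 2, 1, 6, 3],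
  [2, 5, 3, 6, 1, 2, 3, 2, 1, 6, 0, 1, 0, 1, 2, 3, 5],
  [2, 6, 1, 2, 3, 2, 1, 6, 3, 2, 5, 3, 6, 1, 2, 3, 2, 1, 6, 3, 6, 1, 2, 3, 2, 1, 6, 3],
  [2, 3, 2, 5, 6, 1, 2, 3, 2, 1, 6, 3, 2, 3, 2, 6, 1, 2, 3, 2, 1, 6],
  [2, 3, 4, 5, 3, 2, 4, 3, 6, 1, 2, 3, 2, 1, 6],
  [2, 3, 2, 5, 6, 1, 2, 3, 2, 1, 6, 3, 2, 6, 1, 2, 3, 2, 1, 6, 4, 3, 2, 3, 0, 1, 0, 1],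
  [2, 3, 2, 5, 6, 1, 2, 3, 2, 1, 6, 3, 6, 1, 2, 3, 2, 1, 6, 0, 1, 0, 1, 2, 3, 2],
  [2, 3, 4, 5, 3, 2, 6, 1, 2, 3, 2, 1, 6, 0, 3, 6, 1, 2, 3, 2, 1, 6],
  [2, 3, 4, 5, 3, 6, 1, 2, 3, 2, 1, 6, 0, 1, 0, 1, 2, 3],
  [2, 6, 1, 2, 3, 2, 1, 6, 3, 2, 6, 1, 2, 3, 2, 1, 6, 3, 2, 6, 1, 2, 3, 2, 1, 6, 4, 3, 2],
  [2, 6, 1, 2, 3, 2, 1, 6, 3, 2, 6, 1, 2, 3, 2, 1, 6, 3, 2, 6, 1, 2, 3, 2, 1, 6],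
  [2, 3, 2, 4, 6, 1, 2, 3, 2, 1, 6, 5, 6, 1, 2, 3, 2, 1, 6, 3, 2, 0, 1, 0, 1],
  [2, 5, 3, 6, 1, 2, 3, 2, 1, 6, 3, 2, 6, 1, 2, 3, 2, 1, 6, 3, 6, 1, 2, 3, 2, 1, 6, 5],
  [2, 3, 2, 5, 6, 1, 2, 3, 2, 1, 6, 3, 6, 1, 2, 3, 2, 1, 6, 0, 1, 0, 1, 2, 3, 2, 5],
  [2, 3, 4, 5, 3, 6, 1, 2, 3, 2, 1, 6, 0, 1, 0, 1, 2, 3, 4],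
  [2, 5, 6, 1, 2, 3, 2, 1, 6, 0, 3, 2, 0, 1, 0, 1, 6, 1, 2, 3, 2, 1, 6],
  [2, 5, 3, 2, 6, 1, 2, 3, 2, 1, 6, 0],
  [2, 3, 6, 1, 2, 3, 2, 1, 6, 5, 6, 1, 2, 3, 2, 1, 6, 3, 2, 3, 5] ]
def cp7 : List (List ℕ) := [
  [2, 3, 6, 1, 2, 3, 2, 1, 6, 4, 5, 3, 2],
  [2, 3, 6, 1, 2, 3, 2, 1, 6, 5, 6, 1, 2, 3, 2, 1, 6, 3, 2, 3, 4],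
  [2, 6, 1, 2, 3, 2, 1, 6, 5, 6, 1, 2, 3, 2, 1, 6, 3, 2, 6, 1, 2, 3, 2, 1, 6],
  [2, 4, 6, 1, 2, 3, 2, 1, 6, 5, 3, 2, 6, 1, 2, 3, 2, 1, 6],
  [2, 3, 5, 6, 1, 2, 3, 2, 1, 6, 5, 6, 1, 2, 3, 2, 1, 6, 3, 2],
  [2, 3, 6, 1, 2, 3, 2, 1, 6, 5, 6, 1, 2, 3, 2, 1, 6, 3, 2, 3],
  [2, 3, 6, 1, 2, 3, 2, 1, 6, 3, 2, 5, 3, 2, 0, 1, 0, 1],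
  [2, 4, 6, 1, 2, 3, 2, 1, 6, 3, 2, 6, 1, 2, 3, 2, 1, 6, 5, 3],
  [2, 6, 1, 2, 3, 2, 1, 6, 3, 2, 3, 4, 5],
  [2, 4, 5, 6, 1, 2, 3, 2, 1, 6, 3, 2, 6, 1, 2, 3, 2, 1, 6, 3, 6, 1, 2, 3, 2, 1, 6],
  [2, 3, 0, 1, 0, 1, 6, 1, 2, 3, 2, 1, 6, 5, 3, 2],
  [2, 3, 5, 3, 2, 3, 6, 1, 2, 3, 2, 1, 6, 3, 2, 3, 0, 1, 0, 1, 2],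
  [2, 3, 5, 3, 2, 3, 6, 1, 2, 3, 2, 1, 6, 3, 2, 3, 2, 0, 1, 0, 1],
  [2, 3, 6, 1, 2, 3, 2, 1, 6, 5, 3, 2, 6, 1, 2, 3, 2, 1, 6],
  [6, 1, 2, 3, 2, 1, 6, 0, 3, 2, 3, 2, 5, 3, 2, 6, 1, 2, 3, 2, 1, 6, 3, 2],
  [2, 3, 4, 5, 3, 2, 4, 6, 1, 2, 3, 2, 1, 6],
  [2, 3, 6, 1, 2, 3, 2, 1, 6, 3, 2, 5, 3, 2, 4],
  [2, 5, 6, 1, 2, 3, 2, 1, 6, 3, 2, 3, 6, 1, 2, 3, 2, 1, 6, 4, 3],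
  [2, 3, 4, 3, 6, 1, 2, 3, 2, 1, 6, 3, 2, 3, 6, 1, 2, 3, 2, 1, 6],
  [2, 6, 1, 2, 3, 2, 1, 6, 3, 6, 1, 2, 3, 2, 1, 6, 5, 0, 1, 0, 1, 2, 3],
  [2, 3, 2, 6, 1, 2, 3, 2, 1, 6, 3, 2, 3, 4, 5, 0, 1, 0, 1, 6, 1, 2, 3, 2, 1, 6],
  [2, 3, 6, 1, 2, 3, 2, 1, 6, 3, 2, 3, 6, 1, 2, 3, 2, 1, 6, 4, 3, 2, 3],
  [2, 6, 1, 2, 3, 2, 1, 6, 3, 6, 1, 2, 3, 2, 1, 6, 0, 1, 0, 1, 2, 3, 2, 6, 1, 2, 3, 2, 1, 6],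
  [2, 3, 2, 5, 0, 1, 0, 1, 6, 1, 2, 3, 2, 1, 6, 3, 2, 6, 1, 2, 3, 2, 1, 6, 3, 2],
  [2, 3, 6, 1, 2, 3, 2, 1, 6, 3, 5, 3, 2, 3, 6, 1, 2, 3, 2, 1, 6, 0, 1, 0, 1],
  [2, 6, 1, 2, 3, 2, 1, 6, 3, 2, 6, 1, 2, 3, 2, 1, 6, 3, 2, 6, 1, 2, 3, 2, 1, 6, 0],
  [2, 3, 2, 5, 6, 1, 2, 3, 2, 1, 6, 3, 6, 1, 2, 3, 2, 1, 6, 5, 0, 1, 0, 1, 2],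
  [2, 3, 5, 3, 6, 1, 2, 3, 2, 1, 6, 3, 2, 6, 1, 2, 3, 2, 1, 6, 3, 6, 1, 2, 3, 2, 1, 6],
  [2, 3, 4, 3, 5, 3, 2, 6, 1, 2, 3, 2, 1, 6, 3],
  [2, 3, 2, 0, 1, 0, 1, 6, 1, 2, 3, 2, 1, 6, 3, 2, 6, 1, 2, 3, 2, 1, 6, 3, 2, 5, 6, 1, 2, 3, 2, 1, 6],
  [2, 3, 2, 5, 0, 1, 0, 1, 6, 1, 2, 3, 2, 1, 6, 3, 2, 6, 1, 2, 3, 2, 1, 6, 3, 2, 5],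
  [2, 3, 4, 3, 5, 3, 2, 6, 1, 2, 3, 2, 1, 6, 3, 4],
  [2, 5, 6, 1, 2, 3, 2, 1, 6, 0, 3, 2, 4, 6, 1, 2, 3, 2, 1, 6],
  [2, 5, 3, 6, 1, 2, 3, 2, 1, 6, 0, 1, 0, 1, 2],
  [2, 6, 1, 2, 3, 2, 1, 6, 3, 2, 4, 3, 6, 1, 2, 3, 2, 1, 6, 3, 6, 1, 2, 3, 2, 1, 6],
  [2, 5, 3, 2, 0, 1, 0, 1, 6, 1, 2, 3, 2, 1, 6, 3],
  [2, 5, 6, 1, 2, 3, 2, 1, 6, 3, 2, 6, 1, 2, 3, 2, 1, 6, 3, 5],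
  [2, 5, 6, 1, 2, 3, 2, 1, 6, 3, 2, 6, 1, 2, 3, 2, 1, 6, 0, 3],
  [2, 5, 3, 2, 0, 1, 0, 1, 6, 1, 2, 3, 2, 1, 6, 5],
  [2, 5, 6, 1, 2, 3, 2, 1, 6, 3, 2, 6, 1, 2, 3, 2, 1, 6, 5, 3],
  [2, 4, 6, 1, 2, 3, 2, 1, 6, 5, 6, 1, 2, 3, 2, 1, 6, 3, 2, 6, 1, 2, 3, 2, 1, 6],
  [2, 6, 1, 2, 3, 2, 1, 6, 3, 2, 6, 1, 2, 3, 2, 1, 6, 5, 6, 1, 2, 3, 2, 1, 6],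
  [2, 6, 1, 2, 3, 2, 1, 6, 5, 3, 2, 6, 1, 2, 3, 2, 1, 6],
  [2, 3, 6, 1, 2, 3, 2, 1, 6, 3, 2, 3, 2, 4, 6, 1, 2, 3, 2, 1, 6],
  [6, 1, 2, 3, 2, 1, 6, 0, 3, 2, 3, 2, 6, 1, 2, 3, 2, 1, 6, 3, 2, 3],
  [2, 6, 1, 2, 3, 2, 1, 6, 3, 2, 6, 1, 2, 3, 2, 1, 6, 4, 3, 2, 6, 1, 2, 3, 2, 1, 6, 5],
  [2, 3, 2, 6, 1, 2, 3, 2, 1, 6, 3, 2, 3, 5, 6, 1, 2, 3, 2, 1, 6, 5],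
  [2, 3, 5, 3, 2, 3, 6, 1, 2, 3, 2, 1, 6, 0, 1, 0, 1],
  [2, 3, 6, 1, 2, 3, 2, 1, 6, 3, 2, 6, 1, 2, 3, 2, 1, 6, 5, 3, 2, 6, 1, 2, 3, 2, 1, 6],
  [2, 3, 0, 1, 0, 1, 6, 1, 2, 3, 2, 1, 6, 5, 6, 1, 2, 3, 2, 1, 6, 3, 2, 3, 5],
  [2, 6, 1, 2, 3, 2, 1, 6, 3, 2, 3, 6, 1, 2, 3, 2, 1, 6, 3, 6, 1, 2, 3, 2, 1, 6],
  [2, 5, 6, 1, 2, 3, 2, 1, 6, 3, 2, 6, 1, 2, 3, 2, 1, 6, 0, 3, 4],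
  [2, 6, 1, 2, 3, 2, 1, 6, 0, 5, 3, 2, 6, 1, 2, 3, 2, 1, 6],
  [2, 3, 2, 0, 1, 0, 1, 6, 1, 2, 3, 2, 1, 6, 5, 6, 1, 2, 3, 2, 1, 6, 3, 2, 3, 4],
  [2, 3, 2, 0, 1, 0, 1, 6, 1, 2, 3, 2, 1, 6, 3, 2],
  [2, 3, 6, 1, 2, 3, 2, 1, 6, 3, 2, 3, 2, 3, 6, 1, 2, 3, 2, 1, 6, 4],
  [2, 4, 6, 1, 2, 3, 2, 1, 6, 3, 2, 5, 3],
  [2, 3, 5, 3, 2, 3, 6, 1, 2, 3, 2, 1, 6, 3, 2, 3, 2, 4],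
  [2, 5, 3, 6, 1, 2, 3, 2, 1, 6, 5, 3, 2],
  [2, 3, 6, 1, 2, 3, 2, 1, 6, 5, 3, 2],
  [2, 5, 3, 2, 4, 6, 1, 2, 3, 2, 1, 6, 3, 2, 5, 3, 2],
  [2, 3, 5, 3, 2, 3, 6, 1, 2, 3, 2, 1, 6, 3, 2, 3, 2, 5],
  [2, 3, 4, 5, 3, 2, 0, 1, 0, 1, 6, 1, 2, 3, 2, 1, 6],
  [2, 6, 1, 2, 3, 2, 1, 6, 3, 0, 1, 0, 1, 2, 6, 1, 2, 3, 2, 1, 6, 3, 4, 6, 1, 2, 3, 2, 1, 6],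
  [2, 6, 1, 2, 3, 2, 1, 6, 3, 2, 3, 6, 1, 2, 3, 2, 1, 6, 4, 5, 3],
  [2, 5, 6, 1, 2, 3, 2, 1, 6, 3, 2, 3, 4, 0, 1, 0, 1, 6, 1, 2, 3, 2, 1, 6],
  [2, 6, 1, 2, 3, 2, 1, 6, 3, 2, 3, 6, 1, 2, 3, 2, 1, 6, 4],
  [2, 6, 1, 2, 3, 2, 1, 6, 3, 2, 5, 6, 1, 2, 3, 2, 1, 6, 3, 6, 1, 2, 3, 2, 1, 6, 3],
  [2, 5, 6, 1, 2, 3, 2, 1, 6, 3, 0, 1, 0, 1, 2, 3, 6, 1, 2, 3, 2, 1, 6],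
  [2, 3, 6, 1, 2, 3, 2, 1, 6, 4, 5, 3, 2, 3],
  [2, 6, 1, 2, 3, 2, 1, 6, 5, 6, 1, 2, 3, 2, 1, 6, 3, 2, 6, 1, 2, 3, 2, 1, 6, 3],
  [2, 3, 6, 1, 2, 3, 2, 1, 6, 5, 6, 1, 2, 3, 2, 1, 6, 3, 2, 3, 4, 3],
  [2, 3, 5, 3, 2, 3, 0, 1, 0, 1, 6, 1, 2, 3, 2, 1, 6],
  [2, 6, 1, 2, 3, 2, 1, 6, 3, 2, 6, 1, 2, 3, 2, 1, 6, 5, 6, 1, 2, 3, 2, 1, 6, 3, 5],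
  [2, 6, 1, 2, 3, 2, 1, 6, 3, 2, 5, 3, 6, 1, 2, 3, 2, 1, 6, 3, 6, 1, 2, 3, 2, 1, 6],
  [2, 3, 2, 3, 6, 1, 2, 3, 2, 1, 6, 3, 2, 6, 1, 2, 3, 2, 1, 6, 3, 2, 4, 3, 5],
  [2, 3, 5, 0, 1, 0, 1, 2, 3, 6, 1, 2, 3, 2, 1, 6],
  [2, 5, 6, 1, 2, 3, 2, 1, 6, 3, 2, 6, 1, 2, 3, 2, 1, 6, 0, 3, 5],
  [2, 5, 3, 2, 6, 1, 2, 3, 2, 1, 6, 3, 0, 1, 0, 1],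
  [2, 5, 6, 1, 2, 3, 2, 1, 6, 3, 2, 6, 1, 2, 3, 2, 1, 6, 3],
  [2, 3, 4, 6, 1, 2, 3, 2, 1, 6, 3, 2, 3, 6, 1, 2, 3, 2, 1, 6, 3, 6, 1, 2, 3, 2, 1, 6],
  [2, 5, 6, 1, 2, 3, 2, 1, 6, 3, 2, 6, 1, 2, 3, 2, 1, 6, 3, 0, 1, 0, 1],
  [2, 5, 3, 2, 6, 1, 2, 3, 2, 1, 6, 3],
  [2, 3, 0, 1, 0, 1, 6, 1, 2, 3, 2, 1, 6, 5, 6, 1, 2, 3, 2, 1, 6, 3, 2],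
  [2, 3, 6, 1, 2, 3, 2, 1, 6, 0, 3, 2, 3, 2, 6, 1, 2, 3, 2, 1, 6, 4],
  [2, 4, 5, 3, 2, 6, 1, 2, 3, 2, 1, 6, 5],
  [2, 6, 1, 2, 3, 2, 1, 6, 3, 2, 3, 6, 1, 2, 3, 2, 1, 6, 3, 6, 1, 2, 3, 2, 1, 6, 0],
  [2, 5, 6, 1, 2, 3, 2, 1, 6, 3, 2, 6, 1, 2, 3, 2, 1, 6, 3, 4],
  [2, 5, 3, 2, 0, 1, 0, 1, 6, 1, 2, 3, 2, 1, 6, 5, 6, 1, 2, 3, 2, 1, 6],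
  [2, 5, 3, 2, 6, 1, 2, 3, 2, 1, 6, 5],
  [2, 3, 6, 1, 2, 3, 2, 1, 6, 5, 6, 1, 2, 3, 2, 1, 6, 3, 2],
  [2, 3, 5, 6, 1, 2, 3, 2, 1, 6, 5, 6, 1, 2, 3, 2, 1, 6, 3, 2, 3],
  [2, 3, 4, 6, 1, 2, 3, 2, 1, 6, 5, 3, 2],
  [2, 3, 6, 1, 2, 3, 2, 1, 6, 5, 6, 1, 2, 3, 2, 1, 6, 3, 2, 4],
  [2, 3, 6, 1, 2, 3, 2, 1, 6, 3, 2, 3, 0, 1, 0, 1, 2, 6, 1, 2, 3, 2, 1, 6],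
  [2, 6, 1, 2, 3, 2, 1, 6, 3, 0, 1, 0, 1, 2, 6, 1, 2, 3, 2, 1, 6, 3, 2, 3],
  [6, 1, 2, 3, 2, 1, 6, 3, 2, 3, 2, 3, 6, 1, 2, 3, 2, 1, 6, 4],
  [2, 3, 6, 1, 2, 3, 2, 1, 6, 5, 6, 1, 2, 3, 2, 1, 6, 3, 2, 3, 2],
  [2, 6, 1, 2, 3, 2, 1, 6, 3, 2, 4, 6, 1, 2, 3, 2, 1, 6, 3, 2, 0, 1, 0, 1],
  [2, 3, 2, 5, 0, 1, 0, 1, 6, 1, 2, 3, 2, 1, 6, 3, 6, 1, 2, 3, 2, 1, 6, 5],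
  [2, 3, 2, 3, 0, 1, 0, 1, 6, 1, 2, 3, 2, 1, 6, 3, 6, 1, 2, 3, 2, 1, 6, 3],
  [2, 3, 6, 1, 2, 3, 2, 1, 6, 5, 6, 1, 2, 3, 2, 1, 6, 0, 1, 0, 1, 2, 3],
  [2, 3, 2, 5, 0, 1, 0, 1, 6, 1, 2, 3, 2, 1, 6, 3, 6, 1, 2, 3, 2, 1, 6, 3],
  [2, 3, 2, 5, 0, 1, 0, 1, 6, 1, 2, 3, 2, 1, 6, 3, 6, 1, 2, 3, 2, 1, 6, 4],
  [2, 3, 2, 5, 6, 1, 2, 3, 2, 1, 6, 3, 6, 1, 2, 3, 2, 1, 6, 0, 1, 0, 1],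
  [2, 6, 1, 2, 3, 2, 1, 6, 3, 2, 3, 5, 0, 1, 0, 1],
  [2, 3, 6, 1, 2, 3, 2, 1, 6, 3, 2, 3, 2, 3, 6, 1, 2, 3, 2, 1, 6, 0],
  [2, 3, 2, 0, 1, 0, 1, 6, 1, 2, 3, 2, 1, 6, 3, 2, 6, 1, 2, 3, 2, 1, 6, 3, 2, 5, 6, 1, 2, 3, 2, 1, 6, 3],
  [2, 3, 4, 3, 5, 3, 2, 6, 1, 2, 3, 2, 1, 6],
  [2, 6, 1, 2, 3, 2, 1, 6, 5, 3, 2, 3],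
  [2, 3, 2, 3, 6, 1, 2, 3, 2, 1, 6, 3, 0, 1, 0, 1, 2, 3, 6, 1, 2, 3, 2, 1, 6, 3, 2, 3],
  [2, 6, 1, 2, 3, 2, 1, 6, 3, 2, 4, 5, 6, 1, 2, 3, 2, 1, 6, 3, 2, 3],
  [2, 3, 2, 6, 1, 2, 3, 2, 1, 6, 3, 0, 1, 0, 1, 2, 3, 5, 6, 1, 2, 3, 2, 1, 6, 3],
  [2, 3, 2, 0, 1, 0, 1, 6, 1, 2, 3, 2, 1, 6, 3, 2, 6, 1, 2, 3, 2, 1, 6, 3, 2, 5, 3, 6, 1, 2, 3, 2, 1, 6],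
  [2, 3, 5, 6, 1, 2, 3, 2, 1, 6, 3, 6, 1, 2, 3, 2, 1, 6, 0, 1, 0, 1, 2, 3, 5],
  [6, 1, 2, 3, 2, 1, 6, 3, 2, 3, 6, 1, 2, 3, 2, 1, 6, 5, 3],
  [2, 3, 6, 1, 2, 3, 2, 1, 6, 3, 2, 6, 1, 2, 3, 2, 1, 6, 3, 5, 6, 1, 2, 3, 2, 1, 6],
  [2, 3, 6, 1, 2, 3, 2, 1, 6, 3, 2, 6, 1, 2, 3, 2, 1, 6, 3, 0, 1, 0, 1, 2, 3],
  [2, 6, 1, 2, 3, 2, 1, 6, 3, 2, 4, 5, 6, 1, 2, 3, 2, 1, 6, 3, 2, 3, 0, 1, 0, 1],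
  [2, 6, 1, 2, 3, 2, 1, 6, 5, 3, 2, 3, 0, 1, 0, 1],
  [6, 1, 2, 3, 2, 1, 6, 3, 2, 3, 6, 1, 2, 3, 2, 1, 6, 5, 3, 0, 1, 0, 1],
  [2, 3, 2, 6, 1, 2, 3, 2, 1, 6, 4, 3, 2, 3, 0, 1, 0, 1, 2, 6, 1, 2, 3, 2, 1, 6],
  [2, 3, 5, 6, 1, 2, 3, 2, 1, 6, 0, 3, 2, 4, 6, 1, 2, 3, 2, 1, 6, 3],
  [2, 3, 5, 0, 1, 0, 1, 6, 1, 2, 3, 2, 1, 6, 3, 2, 6, 1, 2, 3, 2, 1, 6, 3, 4],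
  [2, 3, 6, 1, 2, 3, 2, 1, 6, 3, 2, 6, 1, 2, 3, 2, 1, 6, 3, 5, 6, 1, 2, 3, 2, 1, 6, 0, 1, 0, 1],
  [2, 3, 5, 6, 1, 2, 3, 2, 1, 6, 3, 2, 6, 1, 2, 3, 2, 1, 6, 3, 4, 3],
  [2, 3, 5, 6, 1, 2, 3, 2, 1, 6, 3, 6, 1, 2, 3, 2, 1, 6, 0, 1, 0, 1, 2, 3],
  [2, 5, 3, 6, 1, 2, 3, 2, 1, 6, 3, 2, 5, 3, 6, 1, 2, 3, 2, 1, 6, 3, 4],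
  [2, 3, 2, 6, 1, 2, 3, 2, 1, 6, 3, 2, 3, 5, 6, 1, 2, 3, 2, 1, 6],
  [2, 6, 1, 2, 3, 2, 1, 6, 3, 2, 6, 1, 2, 3, 2, 1, 6, 4, 3, 2, 6, 1, 2, 3, 2, 1, 6],
  [2, 5, 6, 1, 2, 3, 2, 1, 6, 3, 2, 3, 6, 1, 2, 3, 2, 1, 6, 4],
  [2, 6, 1, 2, 3, 2, 1, 6, 3, 2, 3, 4, 0, 1, 0, 1, 6, 1, 2, 3, 2, 1, 6],
  [2, 5, 3, 2, 6, 1, 2, 3, 2, 1, 6, 3, 4],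
  [2, 6, 1, 2, 3, 2, 1, 6, 3, 2, 6, 1, 2, 3, 2, 1, 6, 3, 5, 0, 1, 0, 1, 6, 1, 2, 3, 2, 1, 6],
  [2, 5, 6, 1, 2, 3, 2, 1, 6, 3, 2, 6, 1, 2, 3, 2, 1, 6, 3, 4, 0, 1, 0, 1],
  [2, 6, 1, 2, 3, 2, 1, 6, 0, 5, 3, 2],
  [2, 3, 5, 6, 1, 2, 3, 2, 1, 6, 3, 2, 6, 1, 2, 3, 2, 1, 6, 4],
  [2, 3, 2, 4, 6, 1, 2, 3, 2, 1, 6, 3, 2, 6, 1, 2, 3, 2, 1, 6, 3, 6, 1, 2, 3, 2, 1, 6, 3, 2],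
  [5, 6, 1, 2, 3, 2, 1, 6, 3, 2, 3, 6, 1, 2, 3, 2, 1, 6, 0, 1, 0, 1],
  [2, 3, 6, 1, 2, 3, 2, 1, 6, 3, 2, 6, 1, 2, 3, 2, 1, 6, 4, 3, 2],
  [2, 3, 4, 6, 1, 2, 3, 2, 1, 6, 3, 2, 5, 3, 2, 6, 1, 2, 3, 2, 1, 6],
  [2, 5, 6, 1, 2, 3, 2, 1, 6, 3, 2, 4, 5, 6, 1, 2, 3, 2, 1, 6, 3, 2],
  [2, 3, 2, 6, 1, 2, 3, 2, 1, 6, 3, 2, 3, 5, 0, 1, 0, 1, 6, 1, 2, 3, 2, 1, 6],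
  [2, 6, 1, 2, 3, 2, 1, 6, 0, 5, 3, 2, 0, 1, 0, 1],
  [2, 3, 6, 1, 2, 3, 2, 1, 6, 3, 2, 6, 1, 2, 3, 2, 1, 6, 3, 2, 4],
  [2, 6, 1, 2, 3, 2, 1, 6, 3, 5, 6, 1, 2, 3, 2, 1, 6, 3, 2, 6, 1, 2, 3, 2, 1, 6, 3, 4],
  [5, 6, 1, 2, 3, 2, 1, 6, 3, 2, 3, 6, 1, 2, 3, 2, 1, 6],
  [2, 6, 1, 2, 3, 2, 1, 6, 5, 6, 1, 2, 3, 2, 1, 6, 3, 0, 1, 0, 1, 2, 3, 2, 6, 1, 2, 3, 2, 1, 6],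
  [2, 3, 2, 3, 6, 1, 2, 3, 2, 1, 6, 3, 2, 4, 3, 6, 1, 2, 3, 2, 1, 6, 3, 0, 1, 0, 1, 2],
  [2, 3, 4, 5, 3, 6, 1, 2, 3, 2, 1, 6, 3, 2, 3, 2],
  [2, 3, 5, 0, 1, 0, 1, 6, 1, 2, 3, 2, 1, 6, 3, 2, 6, 1, 2, 3, 2, 1, 6],
  [2, 3, 0, 1, 0, 1, 6, 1, 2, 3, 2, 1, 6, 3, 2, 3, 5, 6, 1, 2, 3, 2, 1, 6, 4],
  [2, 3, 2, 0, 1, 0, 1, 6, 1, 2, 3, 2, 1, 6, 3, 2, 3, 2, 6, 1, 2, 3, 2, 1, 6],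
  [2, 5, 6, 1, 2, 3, 2, 1, 6, 3, 2, 6, 1, 2, 3, 2, 1, 6, 3, 2, 5, 3, 0, 1, 0, 1, 2],
  [2, 3, 2, 3, 6, 1, 2, 3, 2, 1, 6, 3, 2, 3, 2, 6, 1, 2, 3, 2, 1, 6],
  [2, 6, 1, 2, 3, 2, 1, 6, 5, 3, 2],
  [2, 3, 2, 3, 6, 1, 2, 3, 2, 1, 6, 3, 2, 4, 3, 6, 1, 2, 3, 2, 1, 6, 3, 2, 4],
  [2, 3, 5, 6, 1, 2, 3, 2, 1, 6, 0, 3, 2, 4, 6, 1, 2, 3, 2, 1, 6],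
  [6, 1, 2, 3, 2, 1, 6, 3, 2, 3, 6, 1, 2, 3, 2, 1, 6, 5, 0, 1, 0, 1],
  [2, 3, 6, 1, 2, 3, 2, 1, 6, 3, 2, 6, 1, 2, 3, 2, 1, 6, 3, 0, 1, 0, 1, 2],
  [2, 6, 1, 2, 3, 2, 1, 6, 5, 3, 2, 0, 1, 0, 1],
  [2, 3, 6, 1, 2, 3, 2, 1, 6, 3, 2, 6, 1, 2, 3, 2, 1, 6, 3, 5, 6, 1, 2, 3, 2, 1, 6, 3],
  [2, 3, 2, 6, 1, 2, 3, 2, 1, 6, 3, 0, 1, 0, 1, 2, 3, 5, 6, 1, 2, 3, 2, 1, 6],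
  [2, 6, 1, 2, 3, 2, 1, 6, 3, 2, 4, 5, 6, 1, 2, 3, 2, 1, 6, 3, 2],
  [2, 3, 5, 6, 1, 2, 3, 2, 1, 6, 3, 2, 6, 1, 2, 3, 2, 1, 6, 3, 4, 0, 1, 0, 1],
  [2, 6, 1, 2, 3, 2, 1, 6, 3, 2, 4, 5, 6, 1, 2, 3, 2, 1, 6, 3, 2, 0, 1, 0, 1],
  [5, 6, 1, 2, 3, 2, 1, 6, 3, 2, 3, 2, 3, 6, 1, 2, 3, 2, 1, 6, 5],
  [2, 3, 2, 3, 6, 1, 2, 3, 2, 1, 6, 3, 0, 1, 0, 1, 2, 3, 6, 1, 2, 3, 2, 1, 6, 3, 2],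
  [6, 1, 2, 3, 2, 1, 6, 3, 2, 3, 6, 1, 2, 3, 2, 1, 6, 5],
  [2, 3, 5, 6, 1, 2, 3, 2, 1, 6, 3, 6, 1, 2, 3, 2, 1, 6, 0, 1, 0, 1, 2],
  [2, 3, 6, 1, 2, 3, 2, 1, 6, 3, 2, 6, 1, 2, 3, 2, 1, 6, 5, 6, 1, 2, 3, 2, 1, 6, 3, 5],
  [2, 4, 5, 3, 6, 1, 2, 3, 2, 1, 6, 3, 2, 5, 3, 2],
  [2, 3, 5, 6, 1, 2, 3, 2, 1, 6, 3, 2, 6, 1, 2, 3, 2, 1, 6, 3, 4],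
  [2, 3, 6, 1, 2, 3, 2, 1, 6, 3, 2, 6, 1, 2, 3, 2, 1, 6, 3, 6, 1, 2, 3, 2, 1, 6, 0, 1, 0, 1],
  [2, 3, 6, 1, 2, 3, 2, 1, 6, 3, 2, 6, 1, 2, 3, 2, 1, 6, 3, 6, 1, 2, 3, 2, 1, 6, 5],
  [2, 5, 3, 2, 6, 1, 2, 3, 2, 1, 6, 5, 6, 1, 2, 3, 2, 1, 6],
  [2, 4, 6, 1, 2, 3, 2, 1, 6, 3, 2, 3, 6, 1, 2, 3, 2, 1, 6, 3, 6, 1, 2, 3, 2, 1, 6],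
  [2, 5, 6, 1, 2, 3, 2, 1, 6, 0, 3, 2, 0, 1, 0, 1, 6, 1, 2, 3, 2, 1, 6, 3, 4],
  [2, 6, 1, 2, 3, 2, 1, 6, 3, 2, 4, 6, 1, 2, 3, 2, 1, 6, 3, 2],
  [2, 3, 6, 1, 2, 3, 2, 1, 6, 0, 3, 2, 3, 6, 1, 2, 3, 2, 1, 6, 4],
  [2, 3, 5, 3, 6, 1, 2, 3, 2, 1, 6, 3, 2, 6, 1, 2, 3, 2, 1, 6, 3, 6, 1, 2, 3, 2, 1, 6, 3],
  [2, 6, 1, 2, 3, 2, 1, 6, 3, 2, 6, 1, 2, 3, 2, 1, 6, 4, 3, 2, 6, 1, 2, 3, 2, 1, 6, 0, 1, 0, 1],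
  [2, 3, 2, 6, 1, 2, 3, 2, 1, 6, 3, 2, 3, 5, 6, 1, 2, 3, 2, 1, 6, 0, 1, 0, 1],
  [2, 4, 6, 1, 2, 3, 2, 1, 6, 3, 2, 3, 5, 3],
  [2, 4, 6, 1, 2, 3, 2, 1, 6, 3, 2, 6, 1, 2, 3, 2, 1, 6, 3, 6, 1, 2, 3, 2, 1, 6, 0, 1, 0, 1],
  [2, 3, 2, 0, 1, 0, 1, 6, 1, 2, 3, 2, 1, 6, 3, 2, 5],
  [2, 3, 0, 1, 0, 1, 2, 6, 1, 2, 3, 2, 1, 6, 3, 2, 3, 5, 6, 1, 2, 3, 2, 1, 6],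
  [2, 6, 1, 2, 3, 2, 1, 6, 3, 2, 4, 3, 5],
  [2, 4, 6, 1, 2, 3, 2, 1, 6, 3, 2, 6, 1, 2, 3, 2, 1, 6, 3, 6, 1, 2, 3, 2, 1, 6, 3],
  [2, 6, 1, 2, 3, 2, 1, 6, 3, 2, 3, 4, 3],
  [2, 4, 6, 1, 2, 3, 2, 1, 6, 3, 2, 6, 1, 2, 3, 2, 1, 6, 3, 6, 1, 2, 3, 2, 1, 6, 0, 3],
  [2, 3, 4, 3, 6, 1, 2, 3, 2, 1, 6, 3, 2, 3, 4, 6, 1, 2, 3, 2, 1, 6],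
  [2, 6, 1, 2, 3, 2, 1, 6, 3, 2, 0, 1, 0, 1],
  [2, 4, 6, 1, 2, 3, 2, 1, 6, 3, 2, 5],
  [2, 3, 0, 1, 0, 1, 6, 1, 2, 3, 2, 1, 6, 5, 6, 1, 2, 3, 2, 1, 6, 3, 2, 3, 6, 1, 2, 3, 2, 1, 6],
  [2, 6, 1, 2, 3, 2, 1, 6, 0, 3, 2, 3, 4, 6, 1, 2, 3, 2, 1, 6, 0, 1, 0, 1],
  [2, 6, 1, 2, 3, 2, 1, 6, 3, 2, 3, 6, 1, 2, 3, 2, 1, 6, 4, 5],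
  [2, 3, 6, 1, 2, 3, 2, 1, 6, 0, 1, 0, 1, 2, 3, 4, 6, 1, 2, 3, 2, 1, 6],
  [2, 3, 2, 0, 1, 0, 1, 6, 1, 2, 3, 2, 1, 6, 5, 6, 1, 2, 3, 2, 1, 6],
  [2, 3, 2, 6, 1, 2, 3, 2, 1, 6, 5, 6, 1, 2, 3, 2, 1, 6, 3, 0, 1, 0, 1],
  [2, 5, 6, 1, 2, 3, 2, 1, 6, 3, 2, 4, 6, 1, 2, 3, 2, 1, 6, 3, 6, 1, 2, 3, 2, 1, 6],
  [2, 6, 1, 2, 3, 2, 1, 6, 0, 3, 2, 5, 3, 0, 1, 0, 1],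
  [2, 4, 5, 6, 1, 2, 3, 2, 1, 6, 3, 6, 1, 2, 3, 2, 1, 6, 3],
  [2, 5, 6, 1, 2, 3, 2, 1, 6, 3, 6, 1, 2, 3, 2, 1, 6, 0, 3],
  [2, 3, 6, 1, 2, 3, 2, 1, 6, 3, 2, 6, 1, 2, 3, 2, 1, 6, 5],
  [2, 3, 6, 1, 2, 3, 2, 1, 6, 3, 2, 6, 1, 2, 3, 2, 1, 6, 5, 0, 1, 0, 1],
  [2, 3, 2, 6, 1, 2, 3, 2, 1, 6, 3, 2, 3, 6, 1, 2, 3, 2, 1, 6, 0, 3, 5],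
  [2, 3, 6, 1, 2, 3, 2, 1, 6, 3, 2, 6, 1, 2, 3, 2, 1, 6, 3, 2, 4, 3, 6, 1, 2, 3, 2, 1, 6],
  [2, 3, 0, 1, 0, 1, 2, 6, 1, 2, 3, 2, 1, 6, 3, 2, 3, 4, 5, 3],
  [2, 6, 1, 2, 3, 2, 1, 6, 3, 2, 6, 1, 2, 3, 2, 1, 6, 0, 3, 2, 4, 3, 6, 1, 2, 3, 2, 1, 6],
  [2, 6, 1, 2, 3, 2, 1, 6, 3, 2, 6, 1, 2, 3, 2, 1, 6, 3, 4, 3, 6, 1, 2, 3, 2, 1, 6],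
  [2, 6, 1, 2, 3, 2, 1, 6, 0, 3, 2, 3, 0, 1, 0, 1],
  [2, 6, 1, 2, 3, 2, 1, 6, 3, 2, 3, 4, 0, 1, 0, 1],
  [2, 6, 1, 2, 3, 2, 1, 6, 0, 3, 2, 4, 6, 1, 2, 3, 2, 1, 6, 3, 6, 1, 2, 3, 2, 1, 6],
  [2, 6, 1, 2, 3, 2, 1, 6, 3, 2, 4, 6, 1, 2, 3, 2, 1, 6, 3, 6, 1, 2, 3, 2, 1, 6, 4],
  [2, 6, 1, 2, 3, 2, 1, 6, 0, 3, 2, 0, 1, 0, 1],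
  [2, 3, 2, 5, 6, 1, 2, 3, 2, 1, 6, 0, 3, 4, 6, 1, 2, 3, 2, 1, 6],
  [2, 3, 2, 3, 6, 1, 2, 3, 2, 1, 6, 3, 6, 1, 2, 3, 2, 1, 6, 3, 5],
  [2, 3, 2, 5, 6, 1, 2, 3, 2, 1, 6, 3, 6, 1, 2, 3, 2, 1, 6],
  [2, 4, 6, 1, 2, 3, 2, 1, 6, 3, 2, 6, 1, 2, 3, 2, 1, 6, 3, 6, 1, 2, 3, 2, 1, 6],
  [2, 6, 1, 2, 3, 2, 1, 6, 0, 3, 2, 3, 4],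
  [2, 6, 1, 2, 3, 2, 1, 6, 3, 2, 3],
  [2, 6, 1, 2, 3, 2, 1, 6, 3, 6, 1, 2, 3, 2, 1, 6, 0, 1, 0, 1, 2, 3, 4, 6, 1, 2, 3, 2, 1, 6],
  [2, 3, 4, 5, 3, 2, 0, 1, 0, 1, 6, 1, 2, 3, 2, 1, 6, 3, 4],
  [2, 6, 1, 2, 3, 2, 1, 6, 3, 6, 1, 2, 3, 2, 1, 6, 0, 1, 0, 1, 2, 3, 2, 5, 3, 2],
  [2, 3, 2, 3, 0, 1, 0, 1, 6, 1, 2, 3, 2, 1, 6, 3, 6, 1, 2, 3, 2, 1, 6],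
  [2, 3, 0, 1, 0, 1, 2, 6, 1, 2, 3, 2, 1, 6, 3, 6, 1, 2, 3, 2, 1, 6, 5],
  [2, 3, 6, 1, 2, 3, 2, 1, 6, 5, 6, 1, 2, 3, 2, 1, 6, 0, 1, 0, 1, 2],
  [2, 3, 0, 1, 0, 1, 2, 6, 1, 2, 3, 2, 1, 6, 3, 6, 1, 2, 3, 2, 1, 6, 4],
  [2, 3, 2, 6, 1, 2, 3, 2, 1, 6, 5, 6, 1, 2, 3, 2, 1, 6, 0, 1, 0, 1],
  [2, 3, 2, 0, 1, 0, 1, 6, 1, 2, 3, 2, 1, 6, 5, 6, 1, 2, 3, 2, 1, 6, 3],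
  [2, 3, 2, 5, 6, 1, 2, 3, 2, 1, 6, 3, 2, 6, 1, 2, 3, 2, 1, 6, 4, 3, 2, 6, 1, 2, 3, 2, 1, 6],
  [2, 3, 4, 5, 3, 2, 6, 1, 2, 3, 2, 1, 6, 3, 4],
  [2, 3, 2, 4, 6, 1, 2, 3, 2, 1, 6, 3, 6, 1, 2, 3, 2, 1, 6, 4],
  [2, 3, 2, 6, 1, 2, 3, 2, 1, 6, 5, 6, 1, 2, 3, 2, 1, 6, 3],
  [2, 3, 2, 5, 6, 1, 2, 3, 2, 1, 6, 5, 6, 1, 2, 3, 2, 1, 6],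
  [2, 3, 4, 5, 3, 2, 6, 1, 2, 3, 2, 1, 6, 0, 3],
  [2, 3, 2, 6, 1, 2, 3, 2, 1, 6, 3, 2, 3, 6, 1, 2, 3, 2, 1, 6, 5, 6, 1, 2, 3, 2, 1, 6, 3, 2],
  [2, 6, 1, 2, 3, 2, 1, 6, 3, 2, 5, 3, 4, 0, 1, 0, 1],
  [2, 3, 6, 1, 2, 3, 2, 1, 6, 3, 2, 3, 2, 3, 6, 1, 2, 3, 2, 1, 6, 3],
  [2, 6, 1, 2, 3, 2, 1, 6, 3, 2, 3, 5, 3, 0, 1, 0, 1],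
  [2, 6, 1, 2, 3, 2, 1, 6, 3, 2, 6, 1, 2, 3, 2, 1, 6, 4, 5, 3, 6, 1, 2, 3, 2, 1, 6],
  [2, 6, 1, 2, 3, 2, 1, 6, 0, 3, 2, 5, 0, 1, 0, 1],
  [2, 5, 6, 1, 2, 3, 2, 1, 6, 3, 2, 4, 6, 1, 2, 3, 2, 1, 6, 3, 6, 1, 2, 3, 2, 1, 6, 3],
  [2, 3, 2, 6, 1, 2, 3, 2, 1, 6, 3, 2, 3, 2, 4, 6, 1, 2, 3, 2, 1, 6],
  [2, 6, 1, 2, 3, 2, 1, 6, 3, 5, 0, 1, 0, 1, 2, 3],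
  [2, 3, 4, 5, 3, 2, 6, 1, 2, 3, 2, 1, 6, 3],
  [2, 3, 2, 5, 6, 1, 2, 3, 2, 1, 6, 3, 2, 3, 4, 6, 1, 2, 3, 2, 1, 6, 3, 2],
  [2, 6, 1, 2, 3, 2, 1, 6, 3, 2, 6, 1, 2, 3, 2, 1, 6, 3, 2, 6, 1, 2, 3, 2, 1, 6, 0, 1, 0, 1],
  [2, 5, 3, 6, 1, 2, 3, 2, 1, 6, 3, 2, 6, 1, 2, 3, 2, 1, 6, 3, 6, 1, 2, 3, 2, 1, 6, 5, 0, 1, 0, 1],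
  [2, 3, 2, 4, 6, 1, 2, 3, 2, 1, 6, 5, 6, 1, 2, 3, 2, 1, 6, 3, 2],
  [2, 3, 2, 6, 1, 2, 3, 2, 1, 6, 3, 2, 3, 2, 0, 1, 0, 1, 6, 1, 2, 3, 2, 1, 6],
  [2, 6, 1, 2, 3, 2, 1, 6, 3, 2, 3, 5],
  [2, 3, 6, 1, 2, 3, 2, 1, 6, 3, 2, 3, 2, 3, 6, 1, 2, 3, 2, 1, 6, 0, 1, 0, 1],
  [2, 6, 1, 2, 3, 2, 1, 6, 0, 3, 2, 3, 5],
  [2, 3, 4, 6, 1, 2, 3, 2, 1, 6, 5, 3, 2, 3],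
  [2, 3, 6, 1, 2, 3, 2, 1, 6, 5, 6, 1, 2, 3, 2, 1, 6, 3, 2, 4, 3],
  [2, 6, 1, 2, 3, 2, 1, 6, 5, 6, 1, 2, 3, 2, 1, 6, 3, 2, 6, 1, 2, 3, 2, 1, 6, 3, 4],
  [2, 3, 2, 5, 6, 1, 2, 3, 2, 1, 6, 3, 2, 3, 4, 6, 1, 2, 3, 2, 1, 6, 3, 2, 3],
  [2, 3, 4, 5, 3, 2, 6, 1, 2, 3, 2, 1, 6],
  [2, 6, 1, 2, 3, 2, 1, 6, 5, 3, 2, 6, 1, 2, 3, 2, 1, 6, 3],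
  [2, 3, 0, 1, 0, 1, 6, 1, 2, 3, 2, 1, 6, 5, 6, 1, 2, 3, 2, 1, 6, 3, 2, 3, 4],
  [2, 6, 1, 2, 3, 2, 1, 6, 3, 2, 6, 1, 2, 3, 2, 1, 6, 5, 6, 1, 2, 3, 2, 1, 6, 3],
  [2, 4, 5, 3, 2, 6, 1, 2, 3, 2, 1, 6, 5, 3],
  [2, 6, 1, 2, 3, 2, 1, 6, 3, 2, 6, 1, 2, 3, 2, 1, 6, 5, 6, 1, 2, 3, 2, 1, 6, 3, 4],
  [2, 3, 0, 1, 0, 1, 6, 1, 2, 3, 2, 1, 6, 5, 6, 1, 2, 3, 2, 1, 6, 3, 2, 3],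
  [2, 3, 4, 5, 3, 2, 4, 6, 1, 2, 3, 2, 1, 6, 3, 4],
  [2, 6, 1, 2, 3, 2, 1, 6, 3, 2, 6, 1, 2, 3, 2, 1, 6, 3, 6, 1, 2, 3, 2, 1, 6, 0, 1, 0, 1, 2, 3, 2],
  [2, 3, 2, 6, 1, 2, 3, 2, 1, 6, 3, 2, 3, 5, 6, 1, 2, 3, 2, 1, 6, 3],
  [2, 3, 5, 3, 6, 1, 2, 3, 2, 1, 6, 3, 2, 6, 1, 2, 3, 2, 1, 6, 3, 6, 1, 2, 3, 2, 1, 6, 0, 1, 0, 1],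
  [2, 3, 2, 6, 1, 2, 3, 2, 1, 6, 3, 2, 6, 1, 2, 3, 2, 1, 6, 5, 6, 1, 2, 3, 2, 1, 6],
  [2, 3, 4, 5, 3, 2, 6, 1, 2, 3, 2, 1, 6, 3, 4, 3],
  [2, 3, 2, 6, 1, 2, 3, 2, 1, 6, 3, 2, 6, 1, 2, 3, 2, 1, 6, 4, 3, 2, 5, 6, 1, 2, 3, 2, 1, 6],
  [2, 3, 2, 5, 6, 1, 2, 3, 2, 1, 6, 0, 3, 2, 4, 6, 1, 2, 3, 2, 1, 6, 3, 2, 3],
  [2, 3, 4, 3, 5, 3, 2, 3, 6, 1, 2, 3, 2, 1, 6],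
  [2, 6, 1, 2, 3, 2, 1, 6, 3, 2, 6, 1, 2, 3, 2, 1, 6, 3, 6, 1, 2, 3, 2, 1, 6, 0, 1, 0, 1, 2, 3, 2, 6, 1, 2, 3, 2, 1, 6],
  [2, 3, 4, 5, 3, 2, 6, 1, 2, 3, 2, 1, 6, 4, 3],
  [2, 3, 2, 5, 6, 1, 2, 3, 2, 1, 6, 3, 2, 6, 1, 2, 3, 2, 1, 6, 4, 3, 2, 5],
  [2, 3, 4, 5, 3, 2, 4, 6, 1, 2, 3, 2, 1, 6, 3],
  [2, 5, 3, 2, 6, 1, 2, 3, 2, 1, 6, 5, 0, 1, 0, 1],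
  [2, 5, 6, 1, 2, 3, 2, 1, 6, 3, 2, 6, 1, 2, 3, 2, 1, 6, 5],
  [2, 3, 6, 1, 2, 3, 2, 1, 6, 0, 3, 2, 3, 2, 6, 1, 2, 3, 2, 1, 6],
  [2, 5, 6, 1, 2, 3, 2, 1, 6, 3, 2, 6, 1, 2, 3, 2, 1, 6, 3, 5, 0, 1, 0, 1],
  [2, 5, 3, 2, 6, 1, 2, 3, 2, 1, 6, 0, 3],
  [2, 5, 6, 1, 2, 3, 2, 1, 6, 0, 3, 2, 0, 1, 0, 1, 6, 1, 2, 3, 2, 1, 6, 3],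
  [2, 3, 6, 1, 2, 3, 2, 1, 6, 3, 2, 6, 1, 2, 3, 2, 1, 6, 4, 3, 2, 3, 5],
  [2, 6, 1, 2, 3, 2, 1, 6, 0, 5, 3, 2, 3],
  [2, 3, 2, 4, 6, 1, 2, 3, 2, 1, 6, 3, 2, 6, 1, 2, 3, 2, 1, 6, 3, 6, 1, 2, 3, 2, 1, 6, 3, 2, 3],
  [2, 3, 6, 1, 2, 3, 2, 1, 6, 3, 2, 6, 1, 2, 3, 2, 1, 6, 4, 3, 2, 3],
  [2, 3, 2, 3, 6, 1, 2, 3, 2, 1, 6, 3, 2, 4, 3, 6, 1, 2, 3, 2, 1, 6, 3, 0, 1, 0, 1, 2, 3],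
  [2, 5, 3, 2, 4, 3, 6, 1, 2, 3, 2, 1, 6],
  [5, 6, 1, 2, 3, 2, 1, 6, 3, 2, 3, 6, 1, 2, 3, 2, 1, 6, 3, 0, 1, 0, 1],
  [2, 3, 5, 6, 1, 2, 3, 2, 1, 6, 3, 2, 6, 1, 2, 3, 2, 1, 6, 4, 3, 5],
  [2, 3, 6, 1, 2, 3, 2, 1, 6, 3, 2, 6, 1, 2, 3, 2, 1, 6, 3, 2, 4, 3],
  [2, 3, 5, 6, 1, 2, 3, 2, 1, 6, 3, 2, 6, 1, 2, 3, 2, 1, 6, 4, 3],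
  [5, 6, 1, 2, 3, 2, 1, 6, 3, 2, 3, 6, 1, 2, 3, 2, 1, 6, 3],
  [2, 3, 2, 4, 6, 1, 2, 3, 2, 1, 6, 3, 2, 3, 2, 6, 1, 2, 3, 2, 1, 6],
  [2, 3, 5, 0, 1, 0, 1, 6, 1, 2, 3, 2, 1, 6, 3, 2, 6, 1, 2, 3, 2, 1, 6, 3, 5],
  [2, 3, 2, 0, 1, 0, 1, 6, 1, 2, 3, 2, 1, 6, 3, 2, 3, 2, 6, 1, 2, 3, 2, 1, 6, 3],
  [2, 3, 6, 1, 2, 3, 2, 1, 6, 3, 2, 6, 1, 2, 3, 2, 1, 6, 4, 3, 5, 6, 1, 2, 3, 2, 1, 6],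
  [2, 6, 1, 2, 3, 2, 1, 6, 3, 2, 6, 1, 2, 3, 2, 1, 6, 3, 2, 4, 3, 6, 1, 2, 3, 2, 1, 6],
  [2, 3, 5, 6, 1, 2, 3, 2, 1, 6, 3, 6, 1, 2, 3, 2, 1, 6, 0, 1, 0, 1, 2, 3, 4],
  [2, 3, 5, 0, 1, 0, 1, 6, 1, 2, 3, 2, 1, 6, 3, 2, 6, 1, 2, 3, 2, 1, 6, 3],
  [2, 5, 3, 6, 1, 2, 3, 2, 1, 6, 3, 2, 6, 1, 2, 3, 2, 1, 6, 3, 6, 1, 2, 3, 2, 1, 6, 5, 3],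
  [2, 4, 6, 1, 2, 3, 2, 1, 6, 3, 2, 6, 1, 2, 3, 2, 1, 6, 3, 2, 4, 6, 1, 2, 3, 2, 1, 6],
  [2, 6, 1, 2, 3, 2, 1, 6, 3, 2, 6, 1, 2, 3, 2, 1, 6, 3, 2, 6, 1, 2, 3, 2, 1, 6, 3],
  [2, 3, 6, 1, 2, 3, 2, 1, 6, 3, 5, 3, 2, 3, 4],
  [2, 4, 6, 1, 2, 3, 2, 1, 6, 3, 2, 6, 1, 2, 3, 2, 1, 6, 3, 2, 5, 3, 2],
  [2, 3, 2, 5, 6, 1, 2, 3, 2, 1, 6, 3, 4, 0, 1, 0, 1, 6, 1, 2, 3, 2, 1, 6],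
  [2, 3, 2, 5, 6, 1, 2, 3, 2, 1, 6, 3, 6, 1, 2, 3, 2, 1, 6, 3, 0, 1, 0, 1],
  [2, 3, 2, 5, 0, 1, 0, 1, 6, 1, 2, 3, 2, 1, 6, 3, 6, 1, 2, 3, 2, 1, 6],
  [2, 3, 6, 1, 2, 3, 2, 1, 6, 3, 2, 3, 4, 5, 3, 2, 3, 2],
  [2, 3, 4, 5, 3, 6, 1, 2, 3, 2, 1, 6, 0, 1, 0, 1, 2],
  [2, 3, 5, 3, 2, 3, 6, 1, 2, 3, 2, 1, 6, 3, 2, 3, 5, 0, 1, 0, 1, 2],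
  [2, 3, 4, 5, 3, 2, 6, 1, 2, 3, 2, 1, 6, 4],
  [2, 3, 2, 6, 1, 2, 3, 2, 1, 6, 3, 2, 3, 6, 1, 2, 3, 2, 1, 6, 5, 6, 1, 2, 3, 2, 1, 6, 3, 2, 3],
  [2, 3, 4, 5, 3, 2, 6, 1, 2, 3, 2, 1, 6, 0],
  [2, 4, 6, 1, 2, 3, 2, 1, 6, 3, 2, 5, 3, 4],
  [2, 3, 6, 1, 2, 3, 2, 1, 6, 3, 2, 3, 2, 3, 6, 1, 2, 3, 2, 1, 6],
  [2, 5, 3, 2, 4, 6, 1, 2, 3, 2, 1, 6, 3, 2, 3, 5, 3, 2],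
  [2, 3, 6, 1, 2, 3, 2, 1, 6, 3, 5, 3, 2],
  [2, 3, 4, 5, 3, 2, 0, 1, 0, 1, 6, 1, 2, 3, 2, 1, 6, 3],
  [2, 5, 6, 1, 2, 3, 2, 1, 6, 3, 2, 6, 1, 2, 3, 2, 1, 6, 0, 3, 2, 5, 3, 2],
  [2, 5, 6, 1, 2, 3, 2, 1, 6, 3, 2, 6, 1, 2, 3, 2, 1, 6, 3, 2, 5, 3, 2],
  [2, 3, 6, 1, 2, 3, 2, 1, 6, 3, 5, 3, 2, 3] ]
/-- paths of elements of `H` conjugating `d` to pairwise different involutions -/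
def conjPaths : List (List ℕ) := cp0 ++ cp1 ++ cp2 ++ cp3 ++ cp4 ++ cp5 ++ cp6 ++ cp7
/-- the points of the fingerprint -/
def fpPts : List ℕ := [1, 15, 18]
/-- the fingerprint of the conjugate of the letter 3 by the element of a path -/
noncomputable def fpCode (T : Table) (u : List ℕ) : ℕ :=
  fpPts.foldl (fun acc b => Nat.add (Nat.mul acc 4096) (T.walkT (u.reverse ++ 3 :: u) b)) 0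
/-- strictly increasing -/
def incOK : ℕ → List ℕ → Bool
  | _, [] => true
  | a, b :: l => Nat.blt a b && incOK b l
/-- the check of the certificate: the paths fix the point 0, the fingerprints increase strictly -/
noncomputable def conjOK (T : Table) : Bool :=
  conjPaths.all (fun u => u.all (fun l => Nat.blt l 7) && Nat.beq (T.walkT u 0) 0) &&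
    incOK 0 (conjPaths.map (fpCode T))

end Cfsg.Agent.Lib.Helper3.TCX.HcConjData
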