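set_option autoImplicit false

namespace Cfsg.Agent.Lib.Helper3.TCX.HcDData

def cE0 : Nat := 0x7b41d46824a9d04011
def cE1 : Nat := 0x72b11aeb630900a632
def cE2 : Nat := 0x0
def cJ0 : Nat := 0x70000230000000000000078000000000000000200000000000000020000000000000001000000000000000100000000000000020000000000000001
def cJ1 : Nat := 0x20000000000000002000000000000000100000000000000010000000000000002000000000000000200000000000000010000000000000001
def cJ2 : Nat := 0x0
def cP0 : Nat := 0x4055014400d00240450104001000

end Cfsg.Agent.Lib.Helper3.TCX.HcDData
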