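import Cfsg.Prelude.Def_SporCoxeter
import Cfsg.Prelude.Def_Spor_He
set_option autoImplicit false

namespace Cfsg.Agent.Lib.Helper3.TCX.HcQDef

/-- the generators -/
inductive Gen
  | a
  | b
  | p
  | q
  deriving DecidableEq

/-- the generators as generators of the larger presentation -/
def up : Gen → Gen
  | .a => .a
  | .b => .b
  | .p => .p
  | .q => .q

/-- the Coxeter graph -/
def edges : List (Gen × ℕ × Gen) :=
  [(.a, 4, .b), (.b, 3, .p), (.b, 3, .q), (.p, 4, .q)]

/-- the further relators -/
def extra : List (FreeGroup Gen) := [
  FreeGroup.mk [(.a, true), (.b, true), (.a, true), (.b, true), (.p, true), (.q, true), (.b, true), (.a, true), (.b, true), (.p, true), (.q, true), (.b, true), (.a, true), (.b, true), (.q, true), (.p, true), (.b, true), (.a, true), (.b, true), (.q, true), (.p, true)],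
  FreeGroup.mk [(.b, true), (.p, true), (.q, true), (.b, true), (.a, true), (.p, true), (.q, true), (.b, true), (.p, true), (.b, true), (.q, true), (.p, true), (.q, true), (.a, true), (.b, true), (.p, true), (.q, true), (.a, true), (.b, true), (.p, true)] ]

end Cfsg.Agent.Lib.Helper3.TCX.HcQDef
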