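import Cfsg.Agent.Lib.Helper28.TC2Orbit
set_option autoImplicit false
set_option maxRecDepth 100000

namespace Cfsg.Agent.Lib.Helper3.TCX.HcDTable
open Cfsg.Agent.Lib.Helper28.TC2Upper Cfsg.Agent.Lib.Helper28.TC2Lower Cfsg.Agent.Lib.Helper28.TC2Orbit

def cT0 : ℕ := 0x67325401
def cT1 : ℕ := 0x54761032
def cR0 : ℕ := 0x15014003002011010000000
/-- table chunks -/
def colTT : BT ℕ := (BT.node 0 (BT.leaf cT0) (BT.leaf cT1))
/-- spanning tree chunks -/
def treeT : BT ℕ := (BT.leaf cR0)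
/-- relator paths -/
def relPaths : List (List ℕ) := [[0, 0], [1, 0, 1, 0, 1, 0, 1, 0], [0, 1, 0, 1, 0, 1, 0, 1], [1, 1]]
/-- subgroup generator paths -/
def subPaths : List (List ℕ) := [[]]
/-- the relator paths that are checked directly -/
def chkPaths : List (List ℕ) := [[1, 0, 1, 0, 1, 0, 1, 0]]
/-- the coset table -/
def table : Table where
  n := 8
  k := 2
  w := 4
  M := 16
  CH := 1024
  NCH := 1
  col := colTT
  inv := (BT.node 1 (BT.node 0 (BT.leaf 0) (BT.leaf 1)) (BT.leaf 2))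
  tw := 12
  TM := 4096
  tree := treeT

end Cfsg.Agent.Lib.Helper3.TCX.HcDTable
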