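import Cfsg.Agent.Lib.Helper28.TC2Tower
import Cfsg.Agent.Lib.Helper28.TC2Simple
import Cfsg.Agent.Lib.Helper3.TCX.HcQMain
import Cfsg.Agent.Lib.Helper3.TCX.HcDMain
set_option autoImplicit false
set_option maxRecDepth 100000

/-!
# A presentation of a group of order at most 21504

The group `Q = ⟨a, b, p, q⟩` with Coxeter relations and two further relators has order at most
`2688 · 8 = 21504` (it is the centraliser `2^{1+6}:L₃(2)` of an involution of the Held group).
-/

namespace Cfsg.Agent.Lib.Helper3.TCX.HcTower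
open Cfsg.Agent.Lib.Helper28.TC2Tower Cfsg.Agent.Lib.Helper28.TC2Glue Cfsg.Agent.Lib.Helper28.TC2Simple
open Cfsg.Agent.Lib.Helper28.TC2Upper Cfsg.Agent.Lib.Helper28.TC2Lower

/-- the sub-presentation on `a, b` has order 8 -/
theorem cardD : Finite (PresentedGroup HcDLink.rels) ∧ Nat.card (PresentedGroup HcDLink.rels) = 8 := by
  have h : ((Subgroup.closure HcDLink.S).map (PresentedGroup.mk HcDLink.rels)).index = 8 := HcDMain.main.1
  have e : (Subgroup.closure HcDLink.S).map (PresentedGroup.mk HcDLink.rels) = ⊥ := by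
    show (Subgroup.closure {1}).map _ = ⊥
    rw [Subgroup.closure_singleton_one, Subgroup.map_bot]
  rw [e] at h
  exact card_of_index_bot (by norm_num) h

theorem upD : ∀ L ∈ HcDLink.relWords, upWord HcDDef.up L ∈ HcQLink.relWords := by decide +kernel

/-- the presented group `Q` has order at most 21504 -/
theorem cardQ : Finite (PresentedGroup HcQLink.rels) ∧ Nat.card (PresentedGroup HcQLink.rels) ≤ 21504 := by
  have := cardD.1
  have hrel := hrel_of_words HcQLink.rels HcDLink.rels HcDDef.up HcQLink.relWords HcDLink.relWords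
    HcQLink.link.hrels HcDLink.link.hrels upD
  have hS : ∀ s ∈ HcQLink.S, ∃ b, s = FreeGroup.of (HcDDef.up b) := by
    intro s hs
    simp only [HcQLink.S, Set.mem_insert_iff, Set.mem_singleton_iff] at hs
    rcases hs with rfl | rfl
    exacts [⟨.a, rfl⟩, ⟨.b, rfl⟩]
  obtain ⟨hfin, hle⟩ := card_le_of_subpres HcQLink.rels HcDLink.rels HcDDef.up hrel HcQLink.S hS
  have hidx : ((Subgroup.closure HcQLink.S).map (PresentedGroup.mk HcQLink.rels)).index = 2688 := HcQMain.main.1
  have := hfin
  refine ⟨finite_of_index _ (by rw [hidx]; norm_num), ?_⟩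
  exact card_le_of_index _ hidx (le_trans hle (le_of_eq cardD.2))

end Cfsg.Agent.Lib.Helper3.TCX.HcTower
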