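import Cfsg.Agent.S1683
import Cfsg.Agent.Lib.Helper28.TC2Bsgs
import Cfsg.Agent.Lib.Helper28.TC2Simple
import Cfsg.Agent.Lib.Helper28.StabLib
import Cfsg.Agent.Lib.Helper3.TCX.HeTower
import Cfsg.Agent.Lib.Helper3.TCX.HeBMain
import Cfsg.Agent.Lib.Helper3.TCX.HeBSMain
import Cfsg.Agent.Lib.Helper3.TCX.HcTower
import Cfsg.Agent.Lib.Helper3.TCX.HcBMain
import Cfsg.Agent.Lib.Helper3.TCX.HcConjChk
import Cfsg.Agent.Lib.Helper3.TCX.CentBound
set_option autoImplicit false
set_option maxRecDepth 100000

/-!
# The centraliser of the involution `d` of the presented Held group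

The centraliser of `d` in the presented Held group is generated by `a`, `b`, `p = f d c d f` and
`q = g d c d g`; it is isomorphic to the presented group `Q` of order 21504.
-/

namespace Cfsg.Agent.Lib.Helper3.TCX.HcHe
open Cfsg.Agent.Lib.Helper28.TC2Upper Cfsg.Agent.Lib.Helper28.TC2Lower Cfsg.Agent.Lib.Helper28.TC2Glue
open Cfsg.Agent.Lib.Helper28.TC2Bsgs Cfsg.Agent.Lib.Helper28.TC2Simple Cfsg.Agent.Lib.Helper28.TC2Range
open Cfsg.Agent.Lib.Helper3.TCX.SubBsgs Cfsg.Agent.Lib.Helper3.TCX.HcBTable
open Cfsg.Agent.Lib.Helper3.TCX.HeBLink Cfsg.Agent.Lib.Helper3.TCX.HcConjData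

/-- the presented Held group -/
abbrev He : Type := PresentedGroup rels

/-- the subgroup of index 2058 -/
abbrev H : Subgroup He := (Subgroup.closure S).map (PresentedGroup.mk rels)

/-- the presented group of order 21504 -/
abbrev Q : Type := PresentedGroup HcQLink.rels

/-- the involution -/
def z : He := PresentedGroup.of Cfsg.Spor.He.Gen.d

/-! ### Elements given by paths -/

/-- the word of a path -/
def wordOf (u : List ℕ) : List (Cfsg.Spor.He.Gen × Bool) := u.reverse.map dec

/-- the element of a path -/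
def elt (u : List ℕ) : He := PresentedGroup.mk rels (FreeGroup.mk (wordOf u))

theorem lw_dec : ∀ l, l < 7 → lw (dec l) = l := by decide

theorem pathOf_wordOf (u : List ℕ) (hu : ∀ l ∈ u, l < 7) : pathOf lw (wordOf u) = u := by
  unfold pathOf wordOf
  rw [List.map_map]
  have : u.reverse.map (lw ∘ dec) = u.reverse.map id := by
    apply List.map_congr_left
    intro l hl
    exact lw_dec l (hu l (List.mem_reverse.mp hl))
  rw [this, List.map_id, List.reverse_reverse]

theorem inv7 : ∀ l, l < 7 → HeBTable.table.invl l = l := by decide +kernel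

theorem k7 : HeBTable.table.k = 7 := rfl

theorem walk_rev (u : List ℕ) (hu : ∀ l ∈ u, l < 7) (p : ℕ) (hp : p < HeBTable.table.n) :
    HeBTable.table.walkT u (HeBTable.table.walkT u.reverse p) = p := by
  induction u generalizing p with
  | nil => rfl
  | cons l ls ih =>
    have hl : l < 7 := hu l List.mem_cons_self
    have hls : ∀ x ∈ ls, x < 7 := fun x hx => hu x (List.mem_cons_of_mem _ hx)
    rw [List.reverse_cons, Table.walkT_append, Table.walkT_cons, Table.walkT_cons, Table.walkT_nil]
    have hq : HeBTable.table.walkT ls.reverse p < HeBTable.table.n :=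
      Table.walkT_lt HeBMain.hT _ (fun x hx => by rw [k7]; exact hls x (List.mem_reverse.mp hx)) p hp
    have h2 := (HeBMain.hT.perm _ hq l (by rw [k7]; exact hl)).2
    rw [inv7 l hl] at h2
    rw [h2]
    exact ih hls p hp

section Rep
variable (φ : He →* Equiv.Perm (Fin 2058))
  (hφ : ∀ x, φ (PresentedGroup.of x) = Table.sigma HeBMain.hT (lw (x, true)))
include hφ

theorem phi_elt (u : List ℕ) (hu : ∀ l ∈ u, l < 7) (p : Fin 2058) :
    (φ (elt u) p).val = HeBTable.table.walkT u p.val := by
  have h := phi_mk_apply link HeBMain.hT φ hφ (wordOf u) p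
  rw [pathOf_wordOf u hu] at h
  exact h

theorem phi_z (p : Fin 2058) : (φ z p).val = HeBTable.table.tau 3 p.val := by
  unfold z
  rw [hφ]
  exact Table.sigma_apply HeBMain.hT (show 3 < HeBTable.table.k by decide) p

theorem phi_conj (u : List ℕ) (hu : ∀ l ∈ u, l < 7) (b : Fin 2058) :
    (φ (elt u * z * (elt u)⁻¹) b).val = HeBTable.table.walkT (u.reverse ++ 3 :: u) b.val := by
  have hlt : HeBTable.table.walkT u.reverse b.val < 2058 :=
    Table.walkT_lt HeBMain.hT _ (fun x hx => by rw [k7]; exact hu x (List.mem_reverse.mp hx)) b.val b.2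
  let q : Fin 2058 := ⟨HeBTable.table.walkT u.reverse b.val, hlt⟩
  have hq : φ (elt u) q = b := by
    apply Fin.ext
    rw [phi_elt φ hφ u hu]
    exact walk_rev u hu b.val b.2
  have hq' : (φ (elt u))⁻¹ b = q := by
    rw [← hq]
    exact Equiv.symm_apply_apply _ _
  rw [map_mul, map_mul, map_inv, Equiv.Perm.mul_apply, Equiv.Perm.mul_apply, hq', phi_elt φ hφ u hu,
    phi_z φ hφ, Table.walkT_append, Table.walkT_cons]

/-- the fingerprint of an element -/
def fpElt (x : He) : ℕ :=
  Nat.add (Nat.mul (Nat.add (Nat.mul (Nat.add (Nat.mul 0 4096) (φ x ⟨1, by norm_num⟩).val) 4096)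
    (φ x ⟨15, by norm_num⟩).val) 4096) (φ x ⟨18, by norm_num⟩).val

theorem fpElt_conj (u : List ℕ) (hu : ∀ l ∈ u, l < 7) :
    fpElt φ (elt u * z * (elt u)⁻¹) = fpCode HeBTable.table u := by
  unfold fpElt
  rw [phi_conj φ hφ u hu, phi_conj φ hφ u hu, phi_conj φ hφ u hu]
  rfl

end Rep

theorem incOK_eq : ∀ (l : List ℕ) (a : ℕ), HcConjData.incOK a l = CentBound.incOK a l := by
  intro l
  induction l with
  | nil => intro a; rfl
  | cons b l ih =>
    intro a
    show (Nat.blt a b && HcConjData.incOK b l) = (Nat.blt a b && CentBound.incOK b l)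
    rw [ih]

theorem conj_lt : ∀ u ∈ conjPaths, (∀ l ∈ u, l < 7) ∧ HeBTable.table.walkT u 0 = 0 := by
  have h := HcConjChk.conj_chk
  unfold conjOK at h
  rw [Bool.and_eq_true, List.all_eq_true] at h
  intro u hu
  have h1 := h.1 u hu
  rw [Bool.and_eq_true, List.all_eq_true] at h1
  refine ⟨fun l hl => ?_, (Data.nbeq_iff _ _).mp h1.2⟩
  have := h1.1 l hl
  rwa [Nat.blt_eq] at this

theorem conj_inc : CentBound.incOK 0 (conjPaths.map (fpCode HeBTable.table)) = true := by
  have h := HcConjChk.conj_chk
  unfold conjOK at h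
  rw [Bool.and_eq_true] at h
  rw [← incOK_eq]
  exact h.2

/-! ### The fixed points of the involution -/

/-- the fixed points of the letter 3 -/
def fixL : List ℕ := [0, 1, 7, 10, 11, 13, 14, 16, 17, 36, 46, 56, 65, 69, 75, 84, 95, 103, 110, 121, 153, 229, 230, 262, 263, 345, 346, 544, 545, 736, 737, 843, 855, 877, 976, 1168, 1174, 1257, 1274, 1305, 1711, 1716]

/-- membership in a list -/
def memL : ℕ → List ℕ → Bool
  | _, [] => false
  | a, b :: l => Nat.beq a b || memL a l

theorem memL_spec (a : ℕ) : ∀ l : List ℕ, memL a l = true → a ∈ l := by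
  intro l
  induction l with
  | nil => intro h; exact absurd h (by simp [memL])
  | cons b l ih =>
    intro h
    have h' : (Nat.beq a b || memL a l) = true := h
    rw [Bool.or_eq_true] at h'
    rcases h' with h' | h'
    · rw [(Data.nbeq_iff _ _).mp h']; exact List.mem_cons_self
    · exact List.mem_cons_of_mem _ (ih h')

/-- every fixed point of the letter 3 is in the list -/
noncomputable def fixOK (n : ℕ) : Bool :=
  allLoop (fun p => not (Nat.beq (HeBTable.table.tau 3 p) p) || memL p fixL) n

theorem fixOK_true : fixOK 2058 = true := by decide +kernel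

theorem fix_spec (p : ℕ) (hp : p < 2058) (h : HeBTable.table.tau 3 p = p) : p ∈ fixL := by
  have h1 := (allLoop_eq_true _ _).mp fixOK_true p hp
  rw [Bool.or_eq_true] at h1
  rcases h1 with h1 | h1
  · rw [(Data.nbeq_iff _ _).mpr h] at h1
    exact absurd h1 (by decide)
  · exact memL_spec p fixL h1

theorem tau3_0 : HeBTable.table.tau 3 0 = 0 := by decide +kernel

theorem tau3_2 : HeBTable.table.tau 3 2 ≠ 2 := by decide +kernel

/-! ### The generators of the centraliser -/

/-- the images of the generators, as words -/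
def imgW : HcQDef.Gen → List (Cfsg.Spor.He.Gen × Bool)
  | .a => [(.a, true)]
  | .b => [(.b, true)]
  | .p => [(.f, true), (.d, true), (.c, true), (.d, true), (.f, true)]
  | .q => [(.g, true), (.d, true), (.c, true), (.d, true), (.g, true)]

/-- the images of the generators -/
def imgs (x : HcQDef.Gen) : He := PresentedGroup.mk rels (FreeGroup.mk (imgW x))

/-- the letters of the generators in the extended table -/
def lw2 : HcQDef.Gen × Bool → ℕ
  | (.a, _) => 0
  | (.b, _) => 1
  | (.p, _) => 7
  | (.q, _) => 8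

/-- the images of the generators act as letters of the extended table -/
noncomputable def linkOK (n : ℕ) : Bool :=
  allLoop (fun p => [HcQDef.Gen.a, .b, .p, .q].all fun x =>
    Nat.beq (HeBTable.table.walkT (pathOf lw (imgW x)) p) (btable.tau (lw2 (x, true)) p)) n

theorem linkOK_true : linkOK 2058 = true := by decide +kernel

theorem link_apply (x : HcQDef.Gen) (p : ℕ) (hp : p < 2058) :
    HeBTable.table.walkT (pathOf lw (imgW x)) p = btable.tau (lw2 (x, true)) p := by
  have h := (allLoop_eq_true _ _).mp linkOK_true p hp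
  rw [List.all_eq_true] at h
  have h2 := h x (by cases x <;> simp)
  exact (Data.nbeq_iff _ _).mp h2

/-- the generating letters commute with the letter 3 -/
noncomputable def commOK (n : ℕ) : Bool :=
  allLoop (fun p => gl.all fun l =>
    Nat.beq (btable.tau 3 (btable.tau l p)) (btable.tau l (btable.tau 3 p))) n

theorem commOK_true : commOK 2058 = true := by decide +kernel

theorem comm_apply (l : ℕ) (hl : l ∈ gl) (p : ℕ) (hp : p < 2058) :
    btable.tau 3 (btable.tau l p) = btable.tau l (btable.tau 3 p) := by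
  have h := (allLoop_eq_true _ _).mp commOK_true p hp
  rw [List.all_eq_true] at h
  exact (Data.nbeq_iff _ _).mp (h l hl)

theorem relchk : btable.relOK (HcQLink.relWords.map (pathOf lw2)) 0 2058 = true := by decide +kernel

theorem lw2_lt : ∀ L : List (HcQDef.Gen × Bool), ∀ l ∈ pathOf lw2 L, l < btable.k := by
  intro L l hl
  unfold pathOf at hl
  rw [List.mem_reverse, List.mem_map] at hl
  obtain ⟨⟨x, b⟩, _, rfl⟩ := hl
  cases x <;> cases b <;> decide

theorem lw2_inv (x : HcQDef.Gen) : btable.invl (lw2 (x, true)) = lw2 (x, true) := by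
  cases x <;> rfl

theorem lw2_bool (x : HcQDef.Gen) (b : Bool) : lw2 (x, b) = lw2 (x, true) := by
  cases x <;> rfl

theorem lw2_k (x : HcQDef.Gen) : lw2 (x, true) < btable.k := by
  cases x <;> decide

theorem lw2_gl (x : HcQDef.Gen) : lw2 (x, true) ∈ gl := by
  cases x <;> decide

theorem gl_lw2 : ∀ l ∈ gl, ∃ x : HcQDef.Gen, lw2 (x, true) = l := by
  intro l hl
  simp only [gl, List.mem_cons, List.not_mem_nil, or_false] at hl
  rcases hl with rfl | rfl | rfl | rfl
  exacts [⟨.a, rfl⟩, ⟨.b, rfl⟩, ⟨.p, rfl⟩, ⟨.q, rfl⟩]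

end Cfsg.Agent.Lib.Helper3.TCX.HcHe
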