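import Cfsg.Agent.Lib.Helper3.TCX.HcHe
set_option autoImplicit false
set_option maxRecDepth 100000

/-!
# The centraliser of the involution `d` of the presented Held group is the presented group `Q`
-/

namespace Cfsg.Agent.Lib.Helper3.TCX.HcHe
open Cfsg.Agent.Lib.Helper28.TC2Upper Cfsg.Agent.Lib.Helper28.TC2Lower Cfsg.Agent.Lib.Helper28.TC2Glue
open Cfsg.Agent.Lib.Helper28.TC2Bsgs Cfsg.Agent.Lib.Helper28.TC2Simple Cfsg.Agent.Lib.Helper28.TC2Range
open Cfsg.Agent.Lib.Helper3.TCX.SubBsgs Cfsg.Agent.Lib.Helper3.TCX.HcBTable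
open Cfsg.Agent.Lib.Helper3.TCX.HeBLink Cfsg.Agent.Lib.Helper3.TCX.HcConjData

theorem z_inv : z⁻¹ = z :=
  invol_of_mem_coxNodes Cfsg.Spor.He.edges _ (by decide)

/-- the centraliser of `d` in the presented Held group -/
theorem main : orderOf z = 2 ∧ Nonempty (Subgroup.centralizer ({z} : Set He) ≃* Q) := by
  obtain ⟨φ0, hφ, f, hsurj, hequiv, h0⟩ := HeBMain.main
  let φ : He →* Equiv.Perm (Fin 2058) := φ0
  obtain ⟨hfin, hle⟩ := HeTower.card0
  haveI : Finite (PresentedGroup rels) := hfin
  have hlow : 4030387200 ≤ Nat.card φ.range :=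
    le_trans HeBSMain.card_base (card_baseGroup_le HeBMain.hT HeBSMain.hTB rfl (by decide)
      HeBSMain.hagree φ.range (sigma_mem_range link HeBMain.hT φ hφ))
  obtain ⟨hinj, hcard⟩ := injective_of_card_le φ hle hlow
  have hidx : H.index = 2058 := Cfsg.Agent.S1683.result.1
  have hbij : Function.Bijective f := by
    apply hsurj.bijective_of_nat_card_le
    rw [Nat.card_fin]
    exact le_of_eq hidx
  -- points as images of the base point
  have hpt : ∀ g : He, f (QuotientGroup.mk g) = φ g 0 := by
    intro g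
    have e1 : (QuotientGroup.mk g : He ⧸ H) = g • (QuotientGroup.mk 1 : He ⧸ H) := by
      show _ = (QuotientGroup.mk (g * 1) : _ ⧸ _)
      rw [mul_one]
    rw [e1, hequiv, h0]
    rfl
  have hmemH : ∀ g : He, g ∈ H ↔ φ g 0 = 0 := by
    intro g
    have h0' : f (QuotientGroup.mk 1) = (0 : Fin 2058) := h0
    rw [← hpt g, ← h0']
    constructor
    · intro hg
      congr 1
      rw [QuotientGroup.eq, mul_one]
      exact H.inv_mem hg
    · intro hg
      have := hbij.1 hg
      rw [QuotientGroup.eq, mul_one] at this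
      exact (Subgroup.inv_mem_iff _).mp this
  -- the order of `z`
  have hz2 : z ^ 2 = 1 := by
    rw [pow_two]
    nth_rewrite 1 [← z_inv]
    exact inv_mul_cancel z
  have hz1 : z ≠ 1 := by
    intro h
    have h2 := phi_z φ hφ ⟨2, by norm_num⟩
    rw [h, map_one] at h2
    exact tau3_2 h2.symm
  refine ⟨orderOf_eq_prime hz2 hz1, ?_⟩
  -- the conjugates of `z` under `H`
  have helt : ∀ h ∈ conjPaths.map elt, h ∈ H := by
    intro h hh
    obtain ⟨u, hu, rfl⟩ := List.mem_map.mp hh
    obtain ⟨hu7, hu0⟩ := conj_lt u hu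
    rw [hmemH]
    apply Fin.ext
    rw [phi_elt φ hφ u hu7]
    exact hu0
  have hnd : ((conjPaths.map elt).map fun h => h * z * h⁻¹).Nodup := by
    rw [List.map_map]
    apply CentBound.nodup_map_of_fingerprint conjPaths _ (fpElt φ) (fpCode HeBTable.table)
    · intro u hu
      exact fpElt_conj φ hφ u (conj_lt u hu).1
    · exact CentBound.nodup_of_incOK _ 0 conj_inc
  have hb1 := CentBound.length_mul_card_le H z (conjPaths.map elt) helt hnd
  rw [List.length_map, HcConjChk.len_chk] at hb1
  have hcardH : Nat.card H = 1958400 := by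
    have := H.card_mul_index
    rw [hidx, hcard] at this
    omega
  -- the orbit of the base point under the centraliser
  letI act : MulAction He (Fin 2058) := MulAction.compHom (Fin 2058) φ
  have hsmul : ∀ (g : He) (p : Fin 2058), g • p = φ g p := fun g p => rfl
  have hstab : MulAction.stabilizer He (0 : Fin 2058) = H := by
    ext g
    rw [MulAction.mem_stabilizer_iff, hsmul, hmemH]
  have horb := Cfsg.Agent.Lib.Helper28.StabLib.card_orbit_mul_card_inf
    (Subgroup.centralizer ({z} : Set He)) (0 : Fin 2058)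
  rw [hstab] at horb
  have hsub : ∀ x ∈ MulAction.orbit (Subgroup.centralizer ({z} : Set He)) (0 : Fin 2058), x.val ∈ fixL := by
    rintro x ⟨c, rfl⟩
    have hc : z * c.1 = c.1 * z := Subgroup.mem_centralizer_iff.mp c.2 z rfl
    have hz0 : φ z 0 = 0 := by
      apply Fin.ext
      rw [phi_z φ hφ]
      exact tau3_0
    have h1 : φ z (φ c.1 0) = φ c.1 0 := by
      rw [← Equiv.Perm.mul_apply, ← map_mul, hc, map_mul, Equiv.Perm.mul_apply, hz0]
    show (φ c.1 0).val ∈ fixL
    apply fix_spec _ (φ c.1 0).2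
    rw [← phi_z φ hφ, h1]
  have horb_le : Nat.card (MulAction.orbit (Subgroup.centralizer ({z} : Set He)) (0 : Fin 2058)) ≤ 42 := by
    have h1 : Nat.card (MulAction.orbit (Subgroup.centralizer ({z} : Set He)) (0 : Fin 2058)) ≤
        Nat.card {x // x ∈ fixL.toFinset} :=
      Nat.card_le_card_of_injective (fun x => ⟨x.1.val, List.mem_toFinset.mpr (hsub x.1 x.2)⟩) (by
        intro x y hxy
        have := congrArg Subtype.val hxy
        exact Subtype.ext (Fin.ext this))
    have h2 : Nat.card {x // x ∈ fixL.toFinset} = fixL.toFinset.card := by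
      rw [Nat.card_eq_fintype_card, Fintype.card_coe]
    rw [h2] at h1
    exact le_trans h1 (le_trans (List.toFinset_card_le _) (by decide))
  have hC : Nat.card (Subgroup.centralizer ({z} : Set He)) ≤ 21504 := by
    rw [← horb]
    rw [inf_comm] at hb1
    have hk : Nat.card ↥(Subgroup.centralizer ({z} : Set He) ⊓ H) ≤ 512 := by omega
    exact le_trans (Nat.mul_le_mul horb_le hk) (by norm_num)
  -- the images of the generators as permutations
  have hφimg : ∀ x : HcQDef.Gen, (φ (imgs x) : Equiv.Perm (Fin 2058)) = Table.sigma HcBMain.hTB (lw2 (x, true)) := by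
    intro x
    apply Equiv.ext
    intro p
    apply Fin.ext
    have h1 := phi_mk_apply link HeBMain.hT φ hφ (imgW x) p
    have h2 := Table.sigma_apply HcBMain.hTB (lw2_k x) p
    exact h1.trans ((link_apply x p.val p.2).trans h2.symm)
  have hinvσ : ∀ x : HcQDef.Gen, (Table.sigma HcBMain.hTB (lw2 (x, true)))⁻¹ =
      Table.sigma HcBMain.hTB (lw2 (x, true)) := by
    intro x
    rw [← Table.sigma_inv HcBMain.hTB (lw2_k x), lw2_inv]
  have hφz3 : (φ z : Equiv.Perm (Fin 2058)) = Table.sigma HcBMain.hTB 3 := by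
    apply Equiv.ext
    intro p
    apply Fin.ext
    rw [phi_z φ hφ]
    exact ((HcBMain.hagree p.val p.2 3 (by decide)).symm).trans
      (Table.sigma_apply HcBMain.hTB (show 3 < btable.k by decide) p).symm
  -- the relators hold
  have hrelα : ∀ r ∈ HcQLink.rels, FreeGroup.lift imgs r = 1 := by
    intro r hr
    obtain ⟨L, hL, rfl⟩ := (HcQLink.link.hrels r).mp hr
    apply hinj
    rw [map_one]
    have hcomp : φ.comp (FreeGroup.lift imgs) = FreeGroup.lift (fun x => φ (imgs x)) := by
      apply FreeGroup.ext_hom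
      intro x
      rw [MonoidHom.comp_apply, FreeGroup.lift_apply_of, FreeGroup.lift_apply_of]
    rw [← MonoidHom.comp_apply, hcomp,
      lift_mk_eq_pathProd (K := Equiv.Perm (Fin 2058)) (fun x => φ (imgs x)) lw2
        (Table.sigma HcBMain.hTB : ℕ → Equiv.Perm (Fin 2058)) _ L]
    · apply Table.pathProd_sigma_eq_one HcBMain.hTB _ (lw2_lt L)
      intro p hp
      exact (Table.relOK_iff _ 0 2058).mp relchk p (Nat.zero_le _) (by have : p < 2058 := hp; omega) _
        (List.mem_map_of_mem hL)
    · intro x b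
      rw [lw2_bool]
      cases b
      · show _ = (φ (imgs x))⁻¹
        rw [hφimg]
        exact (hinvσ x).symm
      · exact (hφimg x).symm
  let α : Q →* He := PresentedGroup.toGroup hrelα
  have hαof : ∀ x, α (PresentedGroup.of x) = imgs x := fun x => PresentedGroup.toGroup.of hrelα
  obtain ⟨hfinQ, hleQ⟩ := HcTower.cardQ
  haveI : Finite Q := hfinQ
  -- the image is large
  have h1 : (listGroup HcBMain.hTB gl : Subgroup (Equiv.Perm (Fin 2058))) ≤ α.range.map φ := by
    unfold listGroup
    refine (Subgroup.closure_le _).mpr ?_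
    rintro π ⟨l, hl, rfl⟩
    obtain ⟨x, rfl⟩ := gl_lw2 l hl
    show Table.sigma HcBMain.hTB (lw2 (x, true)) ∈ α.range.map φ
    refine ⟨α (PresentedGroup.of x), ⟨_, rfl⟩, ?_⟩
    rw [hαof]
    exact hφimg x
  have hlowN : 21504 ≤ Nat.card α.range :=
    calc 21504 ≤ Nat.card (listGroup HcBMain.hTB gl) := HcBMain.card_list
      _ ≤ Nat.card (α.range.map φ) := Nat.card_le_card_of_injective _ (Subgroup.inclusion_injective h1)
      _ ≤ Nat.card α.range := Nat.le_of_dvd Nat.card_pos (Subgroup.card_map_dvd _ φ)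
  obtain ⟨hαinj, hcardQ⟩ := injective_of_card_le α hleQ hlowN
  -- the image lies in the centraliser
  have hrange : α.range ≤ Subgroup.centralizer ({z} : Set He) := by
    apply CentBound.range_toGroup_le hrelα
    intro x
    rw [Subgroup.mem_centralizer_iff]
    intro h hh
    rw [Set.mem_singleton_iff] at hh
    subst hh
    apply hinj
    rw [map_mul, map_mul, hφimg, hφz3]
    apply Equiv.ext
    intro p
    apply Fin.ext
    have e1 := Table.sigma_apply HcBMain.hTB (show 3 < btable.k by decide)
      (Table.sigma HcBMain.hTB (lw2 (x, true)) p)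
    have e2 := Table.sigma_apply HcBMain.hTB (lw2_k x) p
    have e3 := Table.sigma_apply HcBMain.hTB (lw2_k x) (Table.sigma HcBMain.hTB 3 p)
    have e4 := Table.sigma_apply HcBMain.hTB (show 3 < btable.k by decide) p
    show (Table.sigma HcBMain.hTB 3 (Table.sigma HcBMain.hTB (lw2 (x, true)) p)).val =
      (Table.sigma HcBMain.hTB (lw2 (x, true)) (Table.sigma HcBMain.hTB 3 p)).val
    rw [e1, e2, e3, e4]
    exact comm_apply _ (lw2_gl x) p.val p.2
  have heq : α.range = Subgroup.centralizer ({z} : Set He) :=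
    Subgroup.eq_of_le_of_card_ge hrange (le_trans hC hlowN)
  exact ⟨((MonoidHom.ofInjective hαinj).trans (MulEquiv.subgroupCongr heq)).symm⟩

end Cfsg.Agent.Lib.Helper3.TCX.HcHe
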