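import Cfsg.Agent.Lib.Helper3.TCX.HeBSTable
import Cfsg.Agent.Lib.Helper3.TCX.HeBTable
set_option autoImplicit false
set_option maxRecDepth 100000
set_option maxHeartbeats 0

namespace Cfsg.Agent.Lib.Helper3.TCX.HeBSChk0
open Cfsg.Agent.Lib.Helper28.TC2Upper Cfsg.Agent.Lib.Helper28.TC2Lower Cfsg.Agent.Lib.Helper28.TC2Orbit Cfsg.Agent.Lib.Helper28.TC2Range Cfsg.Agent.Lib.Helper28.TC2Bsgs Cfsg.Agent.Lib.Helper3.TCX.HeBSTable

theorem prm0 : Table.permRange btable 0 2058 = true := by decide +kernel
theorem agr0 : agreeRange Cfsg.Agent.Lib.Helper3.TCX.HeBTable.table btable 7 0 2058 = true := by decide +kernel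
theorem def7_0 : defRange btable defs 7 0 2058 = true := by decide +kernel
theorem def8_0 : defRange btable defs 8 0 2058 = true := by decide +kernel
theorem def9_0 : defRange btable defs 9 0 2058 = true := by decide +kernel

end Cfsg.Agent.Lib.Helper3.TCX.HeBSChk0
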