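import Cfsg.Agent.Lib.Helper28.TC2Bsgs
import Cfsg.Agent.Lib.Helper28.TC2Simple
import Cfsg.Agent.Lib.Helper3.TCX.Max
import Cfsg.Prelude.Def_SporCoxeter
set_option autoImplicit false

/-!
# Tools for subgroups given by words in a permutation group with a base

* a permutation of a group with a base of known exact order is trivial when it fixes the base;
* maximality from suborbit lengths when a union of suborbits may have half the degree;
* normal closures in groups generated by involutions with odd Coxeter relations.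
-/

namespace Cfsg.Agent.Lib.Helper3.TCX
open Cfsg.Agent.Lib.Helper28.TC2Upper Cfsg.Agent.Lib.Helper28.TC2Lower Cfsg.Agent.Lib.Helper28.TC2Orbit
open Cfsg.Agent.Lib.Helper28.TC2Range Cfsg.Agent.Lib.Helper28.TC2Bsgs Cfsg.Agent.Lib.Helper28.TC2Simple

/-- an element of a group with a stabiliser chain of the exact order fixing the base is trivial -/
theorem eq_one_of_fix_base {T T' : Table} (hT : T.OK) (hT' : T'.OK) (hn : T'.n = T.n) (hk : T.k ≤ T'.k)
    (hagree : ∀ p, p < T.n → ∀ l, l < T.k → T'.tau l p = T.tau l p)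
    (Λ : Subgroup (Equiv.Perm (Fin T.n)))
    (hΛ : Λ ≤ Subgroup.closure {π | ∃ l, l < T.k ∧ π = Table.sigma hT l})
    (N : ℕ) (hN : 0 < N) (bs : List ℕ)
    (hlow : N * Nat.card (pstab (baseGroup hT' T.k) (toFin T'.n bs)) ≤ Nat.card (baseGroup hT' T.k))
    (hup : Nat.card (baseGroup hT' T.k) ≤ N) :
    ∀ g ∈ Λ, (∀ b ∈ bs, ∀ h : b < T.n, g ⟨b, h⟩ = ⟨b, h⟩) → g = 1 := by
  obtain ⟨n', k', w', M', CH', NCH', col', inv', tw', TM', tree'⟩ := T'
  simp only at hn
  subst hn
  intro g hg hfix
  set Γ := baseGroup hT' T.k with hΓ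
  have hle : Λ ≤ Γ := by
    refine le_trans hΛ ?_
    rw [Subgroup.closure_le]
    rintro π ⟨l, hl, rfl⟩
    have e : Table.sigma hT l = Table.sigma hT' l := by
      apply Equiv.ext
      intro p
      apply Fin.ext
      rw [Table.sigma_apply hT' (lt_of_lt_of_le hl hk), Table.sigma_apply hT hl]
      exact (hagree p.val p.2 l hl).symm
    rw [SetLike.mem_coe, e]
    exact Subgroup.subset_closure ⟨l, hl, rfl⟩
  have hmem : g ∈ pstab Γ (toFin T.n bs) := by
    rw [mem_pstab]
    refine ⟨hle hg, fun b hb => ?_⟩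
    exact hfix b.val (val_mem_of_mem_toFin hb) b.2
  have hcard : Nat.card (pstab Γ (toFin T.n bs)) ≤ 1 := by
    have h1 : N * Nat.card (pstab Γ (toFin T.n bs)) ≤ N * 1 := by
      rw [Nat.mul_one]; exact le_trans hlow hup
    exact Nat.le_of_mul_le_mul_left h1 hN
  have hsub : Subsingleton (pstab Γ (toFin T.n bs)) :=
    (Nat.card_eq_one_iff_unique.mp (le_antisymm hcard Nat.card_pos)).1
  have := Subsingleton.elim (⟨g, hmem⟩ : pstab Γ (toFin T.n bs)) 1
  exact congrArg Subtype.val this

variable {G : Type*} [Group G]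

/-- maximality from suborbit lengths, where unions of half the degree are excluded by the absence of
subgroups of index 2 -/
theorem max_of_suborbits' (H : Subgroup G) {n : ℕ} (hn : 0 < n) (φ : G →* Equiv.Perm (Fin n))
    (f : G ⧸ H → Fin n) (hf : Function.Bijective f) (hequiv : ∀ g q, f (g • q) = φ g (f q))
    (cls : Fin n → ℕ) (m : ℕ) (hm : ∀ p, cls p < m)
    (horb : ∀ p q, cls p = cls q → ∃ π ∈ H.map φ, π p = q)
    (cnt : ℕ → ℕ) (hcnt : ∀ c, c < m → (Finset.univ.filter fun p : Fin n => cls p = c).card = cnt c)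
    (hno2 : ∀ K : Subgroup G, K.index ≠ 2)
    (harith : ∀ C ∈ (Finset.range m).powerset, (∑ c ∈ C, cnt c) ∣ n →
      (∑ c ∈ C, cnt c) = 1 ∨ (∑ c ∈ C, cnt c) = n ∨ (∑ c ∈ C, cnt c) * 2 = n) :
    ∀ K : Subgroup G, H ≤ K → K = H ∨ K = ⊤ := by
  classical
  intro K hHK
  have hidx : H.index = n := by
    have := Nat.card_congr (Equiv.ofBijective f hf)
    rw [Nat.card_fin] at this
    exact this
  set B : Set (G ⧸ H) := MulAction.orbit K ((QuotientGroup.mk (1 : G)) : G ⧸ H) with hB
  let A : Finset (Fin n) := Finset.univ.filter fun p => ∃ q ∈ B, f q = p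
  let C : Finset ℕ := (Finset.range m).filter fun c => ∃ p ∈ A, cls p = c
  have hA : ∀ p, p ∈ A ↔ cls p ∈ C := by
    intro p
    constructor
    · intro hp
      exact Finset.mem_filter.mpr ⟨Finset.mem_range.mpr (hm p), p, hp, rfl⟩
    · intro hp
      obtain ⟨_, p', hp', hc⟩ := Finset.mem_filter.mp hp
      obtain ⟨_, q', hq', rfl⟩ := Finset.mem_filter.mp hp'
      obtain ⟨y, rfl⟩ := hf.2 p
      induction q' using QuotientGroup.induction_on with
      | H x =>
        induction y using QuotientGroup.induction_on with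
        | H y =>
          have hx : x ∈ K := (mem_orbit_iff H K hHK x).mp hq'
          have hy : y ∈ K := mem_of_same_orbit H K hHK φ f hf.1 hequiv hx (horb _ _ hc)
          exact Finset.mem_filter.mpr ⟨Finset.mem_univ _, _, (mem_orbit_iff H K hHK y).mpr hy, rfl⟩
  have hAcard : A.card = ∑ c ∈ C, cnt c := by
    have e : A = C.biUnion fun c => Finset.univ.filter fun p : Fin n => cls p = c := by
      ext p
      rw [hA, Finset.mem_biUnion]
      constructor
      · intro h; exact ⟨cls p, h, Finset.mem_filter.mpr ⟨Finset.mem_univ _, rfl⟩⟩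
      · rintro ⟨c, hc, hp⟩
        rw [(Finset.mem_filter.mp hp).2]; exact hc
    rw [e, Finset.card_biUnion]
    · apply Finset.sum_congr rfl
      intro c hc
      exact hcnt c (Finset.mem_range.mp (Finset.mem_filter.mp hc).1)
    · intro c _ d _ hcd
      rw [Function.onFun, Finset.disjoint_left]
      intro p hp hp'
      exact hcd ((Finset.mem_filter.mp hp).2.symm.trans (Finset.mem_filter.mp hp').2)
  have hAB : A.card = Nat.card B := by
    have e : (A : Set (Fin n)) = f '' B := by
      ext p
      simp only [A, Finset.coe_filter, Finset.mem_univ, true_and, Set.mem_setOf_eq, Set.mem_image]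
    rw [Nat.card_coe_set_eq, ← Set.ncard_image_of_injective _ hf.1, ← e, Set.ncard_coe_finset]
  have hrel : A.card = H.relIndex K := by rw [hAB, hB, card_orbit_eq_relIndex]
  have hmul := Subgroup.relIndex_mul_index hHK
  rw [hidx, ← hrel] at hmul
  have hdvd : (∑ c ∈ C, cnt c) ∣ n := by rw [← hAcard]; exact ⟨_, hmul.symm⟩
  rcases harith C (Finset.mem_powerset.mpr (Finset.filter_subset _ _)) hdvd with h1 | h1 | h1
  · left
    rw [← hAcard, hrel] at h1
    exact le_antisymm (Subgroup.relIndex_eq_one.mp h1) hHK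
  · right
    rw [← hAcard] at h1
    rw [h1] at hmul
    have : K.index = 1 := by
      have := Nat.eq_of_mul_eq_mul_left hn (hmul.trans (Nat.mul_one n).symm)
      exact this
    exact Subgroup.index_eq_one.mp this
  · exfalso
    rw [← hAcard] at h1
    have hpos : 0 < A.card := by
      rcases Nat.eq_zero_or_pos A.card with h0 | h0
      · rw [h0, Nat.zero_mul] at h1; omega
      · exact h0
    exact hno2 K (Nat.eq_of_mul_eq_mul_left hpos (hmul.trans h1.symm))

/-- in a quotient where the involution `x` dies, an involution `y` with `(x y)^m = 1`, `m` odd, dies -/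
theorem eq_one_of_odd_cox {Q : Type*} [Group Q] {x y : Q} (hx : x = 1) (hy : y * y = 1) {m : ℕ}
    (hm : Odd m) (h : (x * y) ^ m = 1) : y = 1 := by
  rw [hx, one_mul] at h
  obtain ⟨k, rfl⟩ := hm
  have h2 : y ^ 2 = 1 := by rw [pow_two]; exact hy
  rw [pow_succ, pow_mul, h2, one_pow, one_mul] at h
  exact h

/-- the normal closure of an element is everything when all generators die in the quotient -/
theorem normalClosure_eq_top_of_gens {α : Type*} (rels : Set (FreeGroup α)) (t : PresentedGroup rels)
    (h : ∀ x : α, (PresentedGroup.of x : PresentedGroup rels) ∈ Subgroup.normalClosure {t}) :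
    Subgroup.normalClosure {t} = ⊤ := by
  rw [eq_top_iff, ← PresentedGroup.closure_range_of, Subgroup.closure_le]
  rintro _ ⟨x, rfl⟩
  exact h x

/-- the Coxeter relations of a presentation -/
theorem cox_rel_gen {α : Type*} [DecidableEq α] (edges : List (α × ℕ × α)) (extra : List (FreeGroup α))
    (x y : α) (m : ℕ) (hx : x ∈ Cfsg.Spor.coxNodes edges) (hy : y ∈ Cfsg.Spor.coxNodes edges)
    (hm : Cfsg.Spor.coxLabel edges x y = m) :
    ((PresentedGroup.of x : PresentedGroup (Cfsg.Spor.coxRelators edges ∪ {r | r ∈ extra})) *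
      PresentedGroup.of y) ^ m = 1 := by
  have hmem : (FreeGroup.of x * FreeGroup.of y) ^ m ∈ Cfsg.Spor.coxRelators edges ∪ {r | r ∈ extra} :=
    Or.inl ⟨x, hx, y, hy, by rw [hm]⟩
  have := PresentedGroup.one_of_mem hmem
  rwa [map_pow, map_mul] at this

end Cfsg.Agent.Lib.Helper3.TCX
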