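import Cfsg.Prelude.Def_SporCoxeter
import Cfsg.Prelude.Def_Spor_He
set_option autoImplicit false

namespace Cfsg.Agent.Lib.Helper3.TCX.OnJDef

/-- the generators -/
inductive Gen
  | a
  | b
  | c
  | d
  | e
  deriving DecidableEq

/-- the generators as generators of the larger presentation -/
def up : Gen → Gen
  | .a => .a
  | .b => .b
  | .c => .c
  | .d => .d
  | .e => .e

/-- the Coxeter graph -/
def edges : List (Gen × ℕ × Gen) :=
  [(.a, 3, .b), (.b, 5, .c), (.c, 3, .d), (.d, 5, .e)]

/-- the further relators -/
def extra : List (FreeGroup Gen) := [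
  FreeGroup.mk [(.a, true), (.b, true), (.c, true), (.a, true), (.b, true), (.c, true), (.a, true), (.b, true), (.c, true), (.a, true), (.b, true), (.c, true), (.a, true), (.b, true), (.c, true)],
  FreeGroup.mk [(.b, true), (.c, true), (.d, true), (.b, true), (.c, true), (.d, true), (.b, true), (.c, true), (.d, true), (.b, true), (.c, true), (.d, true), (.b, true), (.c, true), (.d, true)],
  FreeGroup.mk [(.c, true), (.d, true), (.e, true), (.c, true), (.d, true), (.e, true), (.c, true), (.d, true), (.e, true), (.c, true), (.d, true), (.e, true), (.c, true), (.d, true), (.e, true), (.a, true)] ]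

end Cfsg.Agent.Lib.Helper3.TCX.OnJDef
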