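import Cfsg.Prelude.Def_Spor_ON
import Cfsg.Agent.Lib.Helper3.TCX.OnJDef
import Cfsg.Agent.Lib.Helper3.TCX.OnMDef
set_option autoImplicit false
set_option maxRecDepth 100000

/-! Words in the generators of the O'Nan group for the generators of subgroups `J₁` and `M₁₁`. -/

namespace Cfsg.Agent.Lib.Helper3.TCX.OnHomData

def jw_a : List (Cfsg.Spor.ON.Gen × Bool) := [(.a, true)]
def jw_b : List (Cfsg.Spor.ON.Gen × Bool) := [(.a, true), (.c, true), (.e, true), (.d, true), (.g, false), (.b, true), (.g, true), (.d, true), (.e, true), (.g, false), (.c, true), (.a, true), (.g, true), (.d, true), (.c, true), (.e, true), (.g, true), (.e, true), (.a, true), (.c, true), (.b, true), (.c, true), (.d, true), (.c, true), (.b, true), (.c, true), (.d, true), (.g, true), (.f, true), (.c, true), (.g, false), (.b, true), (.a, true), (.g, true), (.c, true), (.f, true), (.g, false), (.d, true), (.c, true), (.b, true), (.c, true), (.d, true), (.c, true), (.b, true), (.c, true), (.a, true), (.e, true), (.g, false), (.e, true), (.c, true), (.d, true), (.g, false), (.a, true), (.c, true), (.g, true), (.e, true), (.d, true), (.g, false), (.b, true), (.g, true), (.d, true), (.e, true), (.c, true), (.a, true), (.c,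 true), (.e, true), (.d, true), (.g, false), (.b, true), (.g, true), (.d, true), (.e, true), (.g, false), (.c, true), (.a, true), (.g, true), (.d, true), (.c, true), (.e, true), (.g, true), (.e, true), (.a, true), (.c, true), (.b, true), (.c, true), (.d, true), (.c, true), (.b, true), (.c, true), (.d, true), (.g, true), (.f, true), (.c, true), (.g, false), (.b, true), (.a, true), (.g, true), (.c, true), (.f, true), (.g, false), (.d, true), (.c, true), (.b, true), (.c, true), (.d, true), (.c, true), (.b, true), (.c, true), (.a, true), (.e, true), (.g, false), (.e, true), (.c, true), (.d, true), (.g, false), (.a, true), (.c, true), (.g, true), (.e, true), (.d, true), (.g, false), (.b, true), (.g, true), (.d, true), (.e, true), (.c, true), (.a, true), (.c, true), (.e, true), (.d, true), (.g, false), (.b, true), (.g, true), (.d, true), (.e, true), (.g, false), (.c, true), (.a, true), (.g, true), (.d, true), (.c, true), (.e, true), (.g, true), (.e, true), (.a, true), (.c, true), (.b, true), (.c, true), (.d, true), (.c, true), (.b, true), (.c, true), (.d, true), (.g, true), (.f, true), (.c, true), (.g, false), (.a, true), (.b, true), (.g, true), (.c, true), (.f, true), (.g, false), (.d, true),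 (.c, true), (.b, true), (.c, true), (.d, true), (.c, true), (.b, true), (.c, true), (.a, true), (.e, true), (.g, false), (.e, true), (.c, true), (.d, true), (.g, false), (.a, true), (.c, true), (.g, true), (.e, true), (.d, true), (.g, false), (.b, true), (.g, true), (.d, true), (.e, true), (.c, true), (.a, true), (.c, true), (.e, true), (.d, true), (.g, false), (.b, true), (.g, true), (.d, true), (.e, true), (.g, false), (.c, true), (.a, true), (.g, true), (.d, true), (.c, true), (.e, true), (.g, true), (.e, true), (.a, true), (.c, true), (.b, true), (.c, true), (.d, true), (.c, true), (.b, true), (.c, true), (.d, true), (.g, true), (.f, true), (.c, true), (.g, false), (.b, true), (.a, true), (.g, true), (.c, true), (.f, true), (.g, false), (.d, true), (.c, true), (.b, true), (.c, true), (.d, true), (.c, true), (.b, true), (.c, true), (.a, true), (.e, true), (.g, false), (.e, true), (.c, true), (.d, true), (.g, false), (.a, true), (.c, true), (.g, true), (.e, true), (.d, true), (.g, false), (.b, true), (.g, true), (.d, true), (.e, true), (.c, true), (.a, true), (.c, true), (.e, true), (.d, true), (.g, false), (.b, true), (.g, true), (.d, true), (.e, true), (.g, false), (.c, true), (.a,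 true), (.g, true), (.d, true), (.c, true), (.e, true), (.g, true), (.e, true), (.a, true), (.c, true), (.b, true), (.c, true), (.d, true), (.c, true), (.b, true), (.c, true), (.d, true), (.g, true), (.f, true), (.c, true), (.g, false), (.a, true), (.b, true), (.g, true), (.c, true), (.f, true), (.g, false), (.d, true), (.c, true), (.b, true), (.c, true), (.d, true), (.c, true), (.b, true), (.c, true), (.a, true), (.e, true), (.g, false), (.e, true), (.c, true), (.d, true), (.g, false), (.a, true), (.c, true), (.g, true), (.e, true), (.d, true), (.g, false), (.b, true), (.g, true), (.d, true), (.e, true), (.c, true), (.a, true), (.c, true), (.e, true), (.d, true), (.g, false), (.b, true), (.g, true), (.d, true), (.e, true), (.g, false), (.c, true), (.a, true), (.g, true), (.d, true), (.c, true), (.e, true), (.g, true), (.e, true), (.a, true), (.c, true), (.b, true), (.c, true), (.d, true), (.c, true), (.b, true), (.c, true), (.d, true), (.g, true), (.f, true), (.c, true), (.g, false), (.b, true), (.a, true), (.g, true), (.c, true), (.f, true), (.g, false), (.d, true), (.c, true), (.b, true), (.c, true), (.d, true), (.c, true), (.b, true), (.c, true), (.a, true), (.e, true), (.g, false),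 (.e, true), (.c, true), (.d, true), (.g, false), (.a, true), (.c, true), (.g, true), (.e, true), (.d, true), (.g, false), (.b, true), (.g, true), (.d, true), (.e, true), (.c, true), (.a, true), (.c, true), (.e, true), (.d, true), (.g, false), (.b, true), (.g, true), (.d, true), (.e, true), (.g, false), (.c, true), (.a, true), (.g, true), (.d, true), (.c, true), (.e, true), (.g, true), (.e, true), (.a, true), (.c, true), (.b, true), (.c, true), (.d, true), (.c, true), (.b, true), (.c, true), (.d, true), (.g, true), (.f, true), (.c, true), (.g, false), (.a, true), (.b, true), (.g, true), (.c, true), (.f, true), (.g, false), (.d, true), (.c, true), (.b, true), (.c, true), (.d, true), (.c, true), (.b, true), (.c, true), (.a, true), (.e, true), (.g, false), (.e, true), (.c, true), (.d, true), (.g, false), (.a, true), (.c, true), (.g, true), (.e, true), (.d, true), (.g, false), (.b, true), (.g, true), (.d, true), (.e, true), (.c, true), (.a, true), (.c, true), (.e, true), (.d, true), (.g, false), (.b, true), (.g, true), (.d, true), (.e, true), (.g, false), (.c, true), (.a, true), (.g, true), (.d, true), (.c, true), (.e, true), (.g, true), (.e, true), (.a, true), (.c, true), (.b, true), (.c, true),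 (.d, true), (.c, true), (.b, true), (.c, true), (.d, true), (.g, true), (.f, true), (.c, true), (.g, false), (.a, true), (.b, true), (.g, true), (.c, true), (.f, true), (.g, false), (.d, true), (.c, true), (.b, true), (.c, true), (.d, true), (.c, true), (.b, true), (.c, true), (.a, true), (.e, true), (.g, false), (.e, true), (.c, true), (.d, true), (.g, false), (.a, true), (.c, true), (.g, true), (.e, true), (.d, true), (.g, false), (.b, true), (.g, true), (.d, true), (.e, true), (.c, true), (.a, true), (.c, true), (.e, true), (.d, true), (.g, false), (.b, true), (.g, true), (.d, true), (.e, true), (.g, false), (.c, true), (.a, true), (.g, true), (.d, true), (.c, true), (.e, true), (.g, true), (.e, true), (.a, true), (.c, true), (.b, true), (.c, true), (.d, true), (.c, true), (.b, true), (.c, true), (.d, true), (.g, true), (.f, true), (.c, true), (.g, false), (.b, true), (.a, true), (.g, true), (.c, true), (.f, true), (.g, false), (.d, true), (.c, true), (.b, true), (.c, true), (.d, true), (.c, true), (.b, true), (.c, true), (.a, true), (.e, true), (.g, false), (.e, true), (.c, true), (.d, true), (.g, false), (.a, true), (.c, true), (.g, true), (.e, true), (.d, true), (.g, false), (.b,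 true), (.g, true), (.d, true), (.e, true), (.c, true), (.a, true), (.c, true), (.e, true), (.d, true), (.g, false), (.b, true), (.g, true), (.d, true), (.e, true), (.g, false), (.c, true), (.a, true), (.g, true), (.d, true), (.c, true), (.e, true), (.g, true), (.e, true), (.a, true), (.c, true), (.b, true), (.c, true), (.d, true), (.c, true), (.b, true), (.c, true), (.d, true), (.g, true), (.f, true), (.c, true), (.g, false), (.b, true), (.a, true), (.g, true), (.c, true), (.f, true), (.g, false), (.d, true), (.c, true), (.b, true), (.c, true), (.d, true), (.c, true), (.b, true), (.c, true), (.a, true), (.e, true), (.g, false), (.e, true), (.c, true), (.d, true), (.g, false), (.a, true), (.c, true), (.g, true), (.e, true), (.d, true), (.g, false), (.b, true), (.g, true), (.d, true), (.e, true), (.c, true), (.a, true), (.c, true), (.e, true), (.d, true), (.g, false), (.b, true), (.g, true), (.d, true), (.e, true), (.g, false), (.c, true), (.a, true), (.g, true), (.d, true), (.c, true), (.e, true), (.g, true), (.e, true), (.a, true), (.c, true), (.b, true), (.c, true), (.d, true), (.c, true), (.b, true), (.c, true), (.d, true), (.g, true), (.f, true), (.c, true), (.g, false), (.a, true),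 (.b, true), (.g, true), (.c, true), (.f, true), (.g, false), (.d, true), (.c, true), (.b, true), (.c, true), (.d, true), (.c, true), (.b, true), (.c, true), (.a, true), (.e, true), (.g, false), (.e, true), (.c, true), (.d, true), (.g, false), (.a, true), (.c, true), (.g, true), (.e, true), (.d, true), (.g, false), (.b, true), (.g, true), (.d, true), (.e, true), (.c, true), (.a, true), (.c, true), (.e, true), (.d, true), (.g, false), (.b, true), (.g, true), (.d, true), (.e, true), (.g, false), (.c, true), (.a, true), (.g, true), (.d, true), (.c, true), (.e, true), (.g, true), (.e, true), (.a, true), (.c, true), (.b, true), (.c, true), (.d, true), (.c, true), (.b, true), (.c, true), (.d, true), (.g, true), (.f, true), (.c, true), (.g, false), (.b, true), (.a, true), (.g, true), (.c, true), (.f, true), (.g, false), (.d, true), (.c, true), (.b, true), (.c, true), (.d, true), (.c, true), (.b, true), (.c, true), (.a, true), (.e, true), (.g, false), (.e, true), (.c, true), (.d, true), (.g, false), (.a, true), (.c, true), (.g, true), (.e, true), (.d, true), (.g, false), (.b, true), (.g, true), (.d, true), (.e, true), (.c, true), (.a, true), (.c, true), (.e, true), (.d, true), (.g, false), (.b,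 true), (.g, true), (.d, true), (.e, true), (.g, false), (.c, true), (.a, true), (.g, true), (.d, true), (.c, true), (.e, true), (.g, true), (.e, true), (.a, true), (.c, true), (.b, true), (.c, true), (.d, true), (.c, true), (.b, true), (.c, true), (.d, true), (.g, true), (.f, true), (.c, true), (.g, false), (.a, true), (.b, true), (.g, true), (.c, true), (.f, true), (.g, false), (.d, true), (.c, true), (.b, true), (.c, true), (.d, true), (.c, true), (.b, true), (.c, true), (.a, true), (.e, true), (.g, false), (.e, true), (.c, true), (.d, true), (.g, false), (.a, true), (.c, true), (.g, true), (.e, true), (.d, true), (.g, false), (.b, true), (.g, true), (.d, true), (.e, true), (.c, true), (.a, true), (.c, true), (.e, true), (.d, true), (.g, false), (.b, true), (.g, true), (.d, true), (.e, true), (.g, false), (.c, true), (.a, true), (.g, true), (.d, true), (.c, true), (.e, true), (.g, true), (.e, true), (.a, true), (.c, true), (.b, true), (.c, true), (.d, true), (.c, true), (.b, true), (.c, true), (.d, true), (.g, true), (.f, true), (.c, true), (.g, false), (.b, true), (.a, true), (.g, true), (.c, true), (.f, true), (.g, false), (.d, true), (.c, true), (.b, true), (.c, true), (.d, true),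 (.c, true), (.b, true), (.c, true), (.a, true), (.e, true), (.g, false), (.e, true), (.c, true), (.d, true), (.g, false), (.a, true), (.c, true), (.g, true), (.e, true), (.d, true), (.g, false), (.b, true), (.g, true), (.d, true), (.e, true), (.c, true), (.a, true), (.c, true), (.e, true), (.d, true), (.g, false), (.b, true), (.g, true), (.d, true), (.e, true), (.g, false), (.c, true), (.a, true), (.g, true), (.d, true), (.c, true), (.e, true), (.g, true), (.e, true), (.a, true), (.c, true), (.b, true), (.c, true), (.d, true), (.c, true), (.b, true), (.c, true), (.d, true), (.g, true), (.f, true), (.c, true), (.g, false), (.a, true), (.b, true), (.g, true), (.c, true), (.f, true), (.g, false), (.d, true), (.c, true), (.b, true), (.c, true), (.d, true), (.c, true), (.b, true), (.c, true), (.a, true), (.e, true), (.g, false), (.e, true), (.c, true), (.d, true), (.g, false), (.a, true), (.c, true), (.g, true), (.e, true), (.d, true), (.g, false), (.b, true), (.g, true), (.d, true), (.e, true), (.c, true), (.a, true), (.c, true), (.e, true), (.d, true), (.g, false), (.b, true), (.g, true), (.d, true), (.e, true), (.g, false), (.c, true), (.a, true), (.g, true), (.d, true), (.c, true), (.e,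 true), (.g, true), (.e, true), (.a, true), (.c, true), (.b, true), (.c, true), (.d, true), (.c, true), (.b, true), (.c, true), (.d, true), (.g, true), (.f, true), (.c, true), (.g, false), (.a, true), (.b, true), (.g, true), (.c, true), (.f, true), (.g, false), (.d, true), (.c, true), (.b, true), (.c, true), (.d, true), (.c, true), (.b, true), (.c, true), (.a, true), (.e, true), (.g, false), (.e, true), (.c, true), (.d, true), (.g, false), (.a, true), (.c, true), (.g, true), (.e, true), (.d, true), (.g, false), (.b, true), (.g, true), (.d, true), (.e, true), (.c, true), (.a, true)]
def jw_c : List (Cfsg.Spor.ON.Gen × Bool) := [(.a, true), (.c, true), (.e, true), (.d, true), (.g, false), (.b, true), (.g, true), (.d, true), (.e, true), (.g, false), (.c, true), (.a, true), (.g, true), (.d, true), (.c, true), (.e, true), (.g, true), (.e, true), (.a, true), (.c, true), (.b, true), (.c, true), (.d, true), (.c, true), (.b, true), (.c, true), (.d, true), (.g, true), (.f, true), (.c, true), (.g, false), (.a, true), (.b, true), (.g, true), (.c, true), (.f, true), (.g, false), (.d, true), (.c, true), (.b, true), (.c, true), (.d, true), (.c, true), (.b, true), (.c, true), (.a, true), (.e, true), (.g,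 false), (.e, true), (.c, true), (.d, true), (.g, false), (.a, true), (.c, true), (.g, true), (.e, true), (.d, true), (.g, false), (.b, true), (.g, true), (.d, true), (.e, true), (.c, true), (.a, true), (.c, true), (.e, true), (.d, true), (.g, false), (.b, true), (.g, true), (.d, true), (.e, true), (.g, false), (.c, true), (.a, true), (.g, true), (.d, true), (.c, true), (.e, true), (.g, true), (.e, true), (.a, true), (.c, true), (.b, true), (.c, true), (.d, true), (.c, true), (.b, true), (.c, true), (.d, true), (.g, true), (.f, true), (.c, true), (.g, false), (.b, true), (.a, true), (.g, true), (.c, true), (.f, true), (.g, false), (.d, true), (.c, true), (.b, true), (.c, true), (.d, true), (.c, true), (.b, true), (.c, true), (.a, true), (.e, true), (.g, false), (.e, true), (.c, true), (.d, true), (.g, false), (.a, true), (.c, true), (.g, true), (.e, true), (.d, true), (.g, false), (.b, true), (.g, true), (.d, true), (.e, true), (.c, true), (.a, true), (.c, true), (.e, true), (.d, true), (.g, false), (.b, true), (.g, true), (.d, true), (.e, true), (.g, false), (.c, true), (.a, true), (.g, true), (.d, true), (.c, true), (.e, true), (.g, true), (.e, true), (.a, true), (.c, true), (.b, true),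 (.c, true), (.d, true), (.c, true), (.b, true), (.c, true), (.d, true), (.g, true), (.f, true), (.c, true), (.g, false), (.b, true), (.a, true), (.g, true), (.c, true), (.f, true), (.g, false), (.d, true), (.c, true), (.b, true), (.c, true), (.d, true), (.c, true), (.b, true), (.c, true), (.a, true), (.e, true), (.g, false), (.e, true), (.c, true), (.d, true), (.g, false), (.a, true), (.c, true), (.g, true), (.e, true), (.d, true), (.g, false), (.b, true), (.g, true), (.d, true), (.e, true), (.c, true), (.a, true), (.c, true), (.e, true), (.d, true), (.g, false), (.b, true), (.g, true), (.d, true), (.e, true), (.g, false), (.c, true), (.a, true), (.g, true), (.d, true), (.c, true), (.e, true), (.g, true), (.e, true), (.a, true), (.c, true), (.b, true), (.c, true), (.d, true), (.c, true), (.b, true), (.c, true), (.d, true), (.g, true), (.f, true), (.c, true), (.g, false), (.a, true), (.b, true), (.g, true), (.c, true), (.f, true), (.g, false), (.d, true), (.c, true), (.b, true), (.c, true), (.d, true), (.c, true), (.b, true), (.c, true), (.a, true), (.e, true), (.g, false), (.e, true), (.c, true), (.d, true), (.g, false), (.a, true), (.c, true), (.g, true), (.e, true), (.d, true), (.g, false),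 (.b, true), (.g, true), (.d, true), (.e, true), (.c, true), (.a, true), (.c, true), (.e, true), (.d, true), (.g, false), (.b, true), (.g, true), (.d, true), (.e, true), (.g, false), (.c, true), (.a, true), (.g, true), (.d, true), (.c, true), (.e, true), (.g, true), (.e, true), (.a, true), (.c, true), (.b, true), (.c, true), (.d, true), (.c, true), (.b, true), (.c, true), (.d, true), (.g, true), (.f, true), (.c, true), (.g, false), (.b, true), (.a, true), (.g, true), (.c, true), (.f, true), (.g, false), (.d, true), (.c, true), (.b, true), (.c, true), (.d, true), (.c, true), (.b, true), (.c, true), (.a, true), (.e, true), (.g, false), (.e, true), (.c, true), (.d, true), (.g, false), (.a, true), (.c, true), (.g, true), (.e, true), (.d, true), (.g, false), (.b, true), (.g, true), (.d, true), (.e, true), (.c, true), (.a, true), (.c, true), (.e, true), (.d, true), (.g, false), (.b, true), (.g, true), (.d, true), (.e, true), (.g, false), (.c, true), (.a, true), (.g, true), (.d, true), (.c, true), (.e, true), (.g, true), (.e, true), (.a, true), (.c, true), (.b, true), (.c, true), (.d, true), (.c, true), (.b, true), (.c, true), (.d, true), (.g, true), (.f, true), (.c, true), (.g, false), (.a, true),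 (.b, true), (.g, true), (.c, true), (.f, true), (.g, false), (.d, true), (.c, true), (.b, true), (.c, true), (.d, true), (.c, true), (.b, true), (.c, true), (.a, true), (.e, true), (.g, false), (.e, true), (.c, true), (.d, true), (.g, false), (.a, true), (.c, true), (.g, true), (.e, true), (.d, true), (.g, false), (.b, true), (.g, true), (.d, true), (.e, true), (.c, true), (.a, true), (.c, true), (.e, true), (.d, true), (.g, false), (.b, true), (.g, true), (.d, true), (.e, true), (.g, false), (.c, true), (.a, true), (.g, true), (.d, true), (.c, true), (.e, true), (.g, true), (.e, true), (.a, true), (.c, true), (.b, true), (.c, true), (.d, true), (.c, true), (.b, true), (.c, true), (.d, true), (.g, true), (.f, true), (.c, true), (.g, false), (.a, true), (.b, true), (.g, true), (.c, true), (.f, true), (.g, false), (.d, true), (.c, true), (.b, true), (.c, true), (.d, true), (.c, true), (.b, true), (.c, true), (.a, true), (.e, true), (.g, false), (.e, true), (.c, true), (.d, true), (.g, false), (.a, true), (.c, true), (.g, true), (.e, true), (.d, true), (.g, false), (.b, true), (.g, true), (.d, true), (.e, true), (.c, true), (.a, true), (.c, true), (.e, true), (.d, true), (.g, false), (.b,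 true), (.g, true), (.d, true), (.e, true), (.g, false), (.c, true), (.a, true), (.g, true), (.d, true), (.c, true), (.e, true), (.g, true), (.e, true), (.a, true), (.c, true), (.b, true), (.c, true), (.d, true), (.c, true), (.b, true), (.c, true), (.d, true), (.g, true), (.f, true), (.c, true), (.g, false), (.b, true), (.a, true), (.g, true), (.c, true), (.f, true), (.g, false), (.d, true), (.c, true), (.b, true), (.c, true), (.d, true), (.c, true), (.b, true), (.c, true), (.a, true), (.e, true), (.g, false), (.e, true), (.c, true), (.d, true), (.g, false), (.a, true), (.c, true), (.g, true), (.e, true), (.d, true), (.g, false), (.b, true), (.g, true), (.d, true), (.e, true), (.c, true), (.a, true), (.c, true), (.e, true), (.d, true), (.g, false), (.b, true), (.g, true), (.d, true), (.e, true), (.g, false), (.c, true), (.a, true), (.g, true), (.d, true), (.c, true), (.e, true), (.g, true), (.e, true), (.a, true), (.c, true), (.b, true), (.c, true), (.d, true), (.c, true), (.b, true), (.c, true), (.d, true), (.g, true), (.f, true), (.c, true), (.g, false), (.a, true), (.b, true), (.g, true), (.c, true), (.f, true), (.g, false), (.d, true), (.c, true), (.b, true), (.c, true), (.d, true),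 (.c, true), (.b, true), (.c, true), (.a, true), (.e, true), (.g, false), (.e, true), (.c, true), (.d, true), (.g, false), (.a, true), (.c, true), (.g, true), (.e, true), (.d, true), (.g, false), (.b, true), (.g, true), (.d, true), (.e, true), (.c, true), (.a, true), (.c, true), (.e, true), (.d, true), (.g, false), (.b, true), (.g, true), (.d, true), (.e, true), (.g, false), (.c, true), (.a, true), (.g, true), (.d, true), (.c, true), (.e, true), (.g, true), (.e, true), (.a, true), (.c, true), (.b, true), (.c, true), (.d, true), (.c, true), (.b, true), (.c, true), (.d, true), (.g, true), (.f, true), (.c, true), (.g, false), (.a, true), (.b, true), (.g, true), (.c, true), (.f, true), (.g, false), (.d, true), (.c, true), (.b, true), (.c, true), (.d, true), (.c, true), (.b, true), (.c, true), (.a, true), (.e, true), (.g, false), (.e, true), (.c, true), (.d, true), (.g, false), (.a, true), (.c, true), (.g, true), (.e, true), (.d, true), (.g, false), (.b, true), (.g, true), (.d, true), (.e, true), (.c, true), (.a, true), (.c, true), (.e, true), (.d, true), (.g, false), (.b, true), (.g, true), (.d, true), (.e, true), (.g, false), (.c, true), (.a, true), (.g, true), (.d, true), (.c, true), (.e,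 true), (.g, true), (.e, true), (.a, true), (.c, true), (.b, true), (.c, true), (.d, true), (.c, true), (.b, true), (.c, true), (.d, true), (.g, true), (.f, true), (.c, true), (.g, false), (.b, true), (.a, true), (.g, true), (.c, true), (.f, true), (.g, false), (.d, true), (.c, true), (.b, true), (.c, true), (.d, true), (.c, true), (.b, true), (.c, true), (.a, true), (.e, true), (.g, false), (.e, true), (.c, true), (.d, true), (.g, false), (.a, true), (.c, true), (.g, true), (.e, true), (.d, true), (.g, false), (.b, true), (.g, true), (.d, true), (.e, true), (.c, true), (.a, true), (.c, true), (.e, true), (.d, true), (.g, false), (.b, true), (.g, true), (.d, true), (.e, true), (.g, false), (.c, true), (.a, true), (.g, true), (.d, true), (.c, true), (.e, true), (.g, true), (.e, true), (.a, true), (.c, true), (.b, true), (.c, true), (.d, true), (.c, true), (.b, true), (.c, true), (.d, true), (.g, true), (.f, true), (.c, true), (.g, false), (.b, true), (.a, true), (.g, true), (.c, true), (.f, true), (.g, false), (.d, true), (.c, true), (.b, true), (.c, true), (.d, true), (.c, true), (.b, true), (.c, true), (.a, true), (.e, true), (.g, false), (.e, true), (.c, true), (.d, true), (.g, false),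 (.a, true), (.c, true), (.g, true), (.e, true), (.d, true), (.g, false), (.b, true), (.g, true), (.d, true), (.e, true), (.c, true), (.a, true), (.c, true), (.e, true), (.d, true), (.g, false), (.b, true), (.g, true), (.d, true), (.e, true), (.g, false), (.c, true), (.a, true), (.g, true), (.d, true), (.c, true), (.e, true), (.g, true), (.e, true), (.a, true), (.c, true), (.b, true), (.c, true), (.d, true), (.c, true), (.b, true), (.c, true), (.d, true), (.g, true), (.f, true), (.c, true), (.g, false), (.a, true), (.b, true), (.g, true), (.c, true), (.f, true), (.g, false), (.d, true), (.c, true), (.b, true), (.c, true), (.d, true), (.c, true), (.b, true), (.c, true), (.a, true), (.e, true), (.g, false), (.e, true), (.c, true), (.d, true), (.g, false), (.a, true), (.c, true), (.g, true), (.e, true), (.d, true), (.g, false), (.b, true), (.g, true), (.d, true), (.e, true), (.c, true), (.a, true), (.c, true), (.e, true), (.d, true), (.g, false), (.b, true), (.g, true), (.d, true), (.e, true), (.g, false), (.c, true), (.a, true), (.g, true), (.d, true), (.c, true), (.e, true), (.g, true), (.e, true), (.a, true), (.c, true), (.b, true), (.c, true), (.d, true), (.c, true), (.b, true), (.c, true),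 (.d, true), (.g, true), (.f, true), (.c, true), (.g, false), (.b, true), (.a, true), (.g, true), (.c, true), (.f, true), (.g, false), (.d, true), (.c, true), (.b, true), (.c, true), (.d, true), (.c, true), (.b, true), (.c, true), (.a, true), (.e, true), (.g, false), (.e, true), (.c, true), (.d, true), (.g, false), (.a, true), (.c, true), (.g, true), (.e, true), (.d, true), (.g, false), (.b, true), (.g, true), (.d, true), (.e, true), (.c, true), (.a, true), (.c, true), (.e, true), (.d, true), (.g, false), (.b, true), (.g, true), (.d, true), (.e, true), (.g, false), (.c, true), (.a, true), (.g, true), (.d, true), (.c, true), (.e, true), (.g, true), (.e, true), (.a, true), (.c, true), (.b, true), (.c, true), (.d, true), (.c, true), (.b, true), (.c, true), (.d, true), (.g, true), (.f, true), (.c, true), (.g, false), (.b, true), (.a, true), (.g, true), (.c, true), (.f, true), (.g, false), (.d, true), (.c, true), (.b, true), (.c, true), (.d, true), (.c, true), (.b, true), (.c, true), (.a, true), (.e, true), (.g, false), (.e, true), (.c, true), (.d, true), (.g, false), (.a, true), (.c, true), (.g, true), (.e, true), (.d, true), (.g, false), (.b, true), (.g, true), (.d, true), (.e, true), (.c,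 true), (.a, true), (.c, true), (.e, true), (.d, true), (.g, false), (.b, true), (.g, true), (.d, true), (.e, true), (.g, false), (.c, true), (.a, true), (.g, true), (.d, true), (.c, true), (.e, true), (.g, true), (.e, true), (.a, true), (.c, true), (.b, true), (.c, true), (.d, true), (.c, true), (.b, true), (.c, true), (.d, true), (.g, true), (.f, true), (.c, true), (.g, false), (.a, true), (.b, true), (.g, true), (.c, true), (.f, true), (.g, false), (.d, true), (.c, true), (.b, true), (.c, true), (.d, true), (.c, true), (.b, true), (.c, true), (.a, true), (.e, true), (.g, false), (.e, true), (.c, true), (.d, true), (.g, false), (.a, true), (.c, true), (.g, true), (.e, true), (.d, true), (.g, false), (.b, true), (.g, true), (.d, true), (.e, true), (.c, true), (.a, true), (.c, true), (.e, true), (.d, true), (.g, false), (.b, true), (.g, true), (.d, true), (.e, true), (.g, false), (.c, true), (.a, true), (.g, true), (.d, true), (.c, true), (.e, true), (.g, true), (.e, true), (.a, true), (.c, true), (.b, true), (.c, true), (.d, true), (.c, true), (.b, true), (.c, true), (.d, true), (.g, true), (.f, true), (.c, true), (.g, false), (.b, true), (.a, true), (.g, true), (.c, true), (.f, true),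 (.g, false), (.d, true), (.c, true), (.b, true), (.c, true), (.d, true), (.c, true), (.b, true), (.c, true), (.a, true), (.e, true), (.g, false), (.e, true), (.c, true), (.d, true), (.g, false), (.a, true), (.c, true), (.g, true), (.e, true), (.d, true), (.g, false), (.b, true), (.g, true), (.d, true), (.e, true), (.c, true), (.a, true), (.c, true), (.e, true), (.d, true), (.g, false), (.b, true), (.g, true), (.d, true), (.e, true), (.g, false), (.c, true), (.a, true), (.g, true), (.d, true), (.c, true), (.e, true), (.g, true), (.e, true), (.a, true), (.c, true), (.b, true), (.c, true), (.d, true), (.c, true), (.b, true), (.c, true), (.d, true), (.g, true), (.f, true), (.c, true), (.g, false), (.a, true), (.b, true), (.g, true), (.c, true), (.f, true), (.g, false), (.d, true), (.c, true), (.b, true), (.c, true), (.d, true), (.c, true), (.b, true), (.c, true), (.a, true), (.e, true), (.g, false), (.e, true), (.c, true), (.d, true), (.g, false), (.a, true), (.c, true), (.g, true), (.e, true), (.d, true), (.g, false), (.b, true), (.g, true), (.d, true), (.e, true), (.c, true), (.a, true), (.c, true), (.e, true), (.d, true), (.g, false), (.b, true), (.g, true), (.d, true), (.e, true), (.g,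 false), (.c, true), (.a, true), (.g, true), (.d, true), (.c, true), (.e, true), (.g, true), (.e, true), (.a, true), (.c, true), (.b, true), (.c, true), (.d, true), (.c, true), (.b, true), (.c, true), (.d, true), (.g, true), (.f, true), (.c, true), (.g, false), (.a, true), (.b, true), (.g, true), (.c, true), (.f, true), (.g, false), (.d, true), (.c, true), (.b, true), (.c, true), (.d, true), (.c, true), (.b, true), (.c, true), (.a, true), (.e, true), (.g, false), (.e, true), (.c, true), (.d, true), (.g, false), (.a, true), (.c, true), (.g, true), (.e, true), (.d, true), (.g, false), (.b, true), (.g, true), (.d, true), (.e, true), (.c, true), (.a, true), (.c, true), (.e, true), (.d, true), (.g, false), (.b, true), (.g, true), (.d, true), (.e, true), (.g, false), (.c, true), (.a, true), (.g, true), (.d, true), (.c, true), (.e, true), (.g, true), (.e, true), (.a, true), (.c, true), (.b, true), (.c, true), (.d, true), (.c, true), (.b, true), (.c, true), (.d, true), (.g, true), (.f, true), (.c, true), (.g, false), (.b, true), (.a, true), (.g, true), (.c, true), (.f, true), (.g, false), (.d, true), (.c, true), (.b, true), (.c, true), (.d, true), (.c, true), (.b, true), (.c, true), (.a, true),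 (.e, true), (.g, false), (.e, true), (.c, true), (.d, true), (.g, false), (.a, true), (.c, true), (.g, true), (.e, true), (.d, true), (.g, false), (.b, true), (.g, true), (.d, true), (.e, true), (.c, true), (.a, true)]
def jw_d : List (Cfsg.Spor.ON.Gen × Bool) := [(.a, true), (.c, true), (.e, true), (.d, true), (.g, false), (.b, true), (.g, true), (.d, true), (.e, true), (.g, false), (.c, true), (.a, true), (.g, true), (.d, true), (.c, true), (.e, true), (.g, true), (.e, true), (.a, true), (.c, true), (.b, true), (.c, true), (.d, true), (.c, true), (.b, true), (.c, true), (.d, true), (.g, true), (.f, true), (.c, true), (.g, false), (.a, true), (.b, true), (.g, true), (.c, true), (.f, true), (.g, false), (.d, true), (.c, true), (.b, true), (.c, true), (.d, true), (.c, true), (.b, true), (.c, true), (.a, true), (.e, true), (.g, false), (.e, true), (.c, true), (.d, true), (.g, false), (.a, true), (.c, true), (.g, true), (.e, true), (.d, true), (.g, false), (.b, true), (.g, true), (.d, true), (.e, true), (.c, true), (.a, true), (.c, true), (.e, true), (.d, true), (.g, false), (.b, true), (.g, true), (.d, true), (.e, true), (.g, false), (.c, true), (.a, true), (.g, true), (.d, true), (.c, true),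 (.e, true), (.g, true), (.e, true), (.a, true), (.c, true), (.b, true), (.c, true), (.d, true), (.c, true), (.b, true), (.c, true), (.d, true), (.g, true), (.f, true), (.c, true), (.g, false), (.a, true), (.b, true), (.g, true), (.c, true), (.f, true), (.g, false), (.d, true), (.c, true), (.b, true), (.c, true), (.d, true), (.c, true), (.b, true), (.c, true), (.a, true), (.e, true), (.g, false), (.e, true), (.c, true), (.d, true), (.g, false), (.a, true), (.c, true), (.g, true), (.e, true), (.d, true), (.g, false), (.b, true), (.g, true), (.d, true), (.e, true), (.c, true), (.a, true), (.c, true), (.e, true), (.d, true), (.g, false), (.b, true), (.g, true), (.d, true), (.e, true), (.g, false), (.c, true), (.a, true), (.g, true), (.d, true), (.c, true), (.e, true), (.g, true), (.e, true), (.a, true), (.c, true), (.b, true), (.c, true), (.d, true), (.c, true), (.b, true), (.c, true), (.d, true), (.g, true), (.f, true), (.c, true), (.g, false), (.b, true), (.a, true), (.g, true), (.c, true), (.f, true), (.g, false), (.d, true), (.c, true), (.b, true), (.c, true), (.d, true), (.c, true), (.b, true), (.c, true), (.a, true), (.e, true), (.g, false), (.e, true), (.c, true), (.d, true), (.g, false),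 (.a, true), (.c, true), (.g, true), (.e, true), (.d, true), (.g, false), (.b, true), (.g, true), (.d, true), (.e, true), (.c, true), (.a, true), (.c, true), (.e, true), (.d, true), (.g, false), (.b, true), (.g, true), (.d, true), (.e, true), (.g, false), (.c, true), (.a, true), (.g, true), (.d, true), (.c, true), (.e, true), (.g, true), (.e, true), (.a, true), (.c, true), (.b, true), (.c, true), (.d, true), (.c, true), (.b, true), (.c, true), (.d, true), (.g, true), (.f, true), (.c, true), (.g, false), (.b, true), (.a, true), (.g, true), (.c, true), (.f, true), (.g, false), (.d, true), (.c, true), (.b, true), (.c, true), (.d, true), (.c, true), (.b, true), (.c, true), (.a, true), (.e, true), (.g, false), (.e, true), (.c, true), (.d, true), (.g, false), (.a, true), (.c, true), (.g, true), (.e, true), (.d, true), (.g, false), (.b, true), (.g, true), (.d, true), (.e, true), (.c, true), (.a, true), (.c, true), (.e, true), (.d, true), (.g, false), (.b, true), (.g, true), (.d, true), (.e, true), (.g, false), (.c, true), (.a, true), (.g, true), (.d, true), (.c, true), (.e, true), (.g, true), (.e, true), (.a, true), (.c, true), (.b, true), (.c, true), (.d, true), (.c, true), (.b, true), (.c, true),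 (.d, true), (.g, true), (.f, true), (.c, true), (.g, false), (.a, true), (.b, true), (.g, true), (.c, true), (.f, true), (.g, false), (.d, true), (.c, true), (.b, true), (.c, true), (.d, true), (.c, true), (.b, true), (.c, true), (.a, true), (.e, true), (.g, false), (.e, true), (.c, true), (.d, true), (.g, false), (.a, true), (.c, true), (.g, true), (.e, true), (.d, true), (.g, false), (.b, true), (.g, true), (.d, true), (.e, true), (.c, true), (.a, true), (.c, true), (.e, true), (.d, true), (.g, false), (.b, true), (.g, true), (.d, true), (.e, true), (.g, false), (.c, true), (.a, true), (.g, true), (.d, true), (.c, true), (.e, true), (.g, true), (.e, true), (.a, true), (.c, true), (.b, true), (.c, true), (.d, true), (.c, true), (.b, true), (.c, true), (.d, true), (.g, true), (.f, true), (.c, true), (.g, false), (.b, true), (.a, true), (.g, true), (.c, true), (.f, true), (.g, false), (.d, true), (.c, true), (.b, true), (.c, true), (.d, true), (.c, true), (.b, true), (.c, true), (.a, true), (.e, true), (.g, false), (.e, true), (.c, true), (.d, true), (.g, false), (.a, true), (.c, true), (.g, true), (.e, true), (.d, true), (.g, false), (.b, true), (.g, true), (.d, true), (.e, true), (.c,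 true), (.a, true), (.c, true), (.e, true), (.d, true), (.g, false), (.b, true), (.g, true), (.d, true), (.e, true), (.g, false), (.c, true), (.a, true), (.g, true), (.d, true), (.c, true), (.e, true), (.g, true), (.e, true), (.a, true), (.c, true), (.b, true), (.c, true), (.d, true), (.c, true), (.b, true), (.c, true), (.d, true), (.g, true), (.f, true), (.c, true), (.g, false), (.b, true), (.a, true), (.g, true), (.c, true), (.f, true), (.g, false), (.d, true), (.c, true), (.b, true), (.c, true), (.d, true), (.c, true), (.b, true), (.c, true), (.a, true), (.e, true), (.g, false), (.e, true), (.c, true), (.d, true), (.g, false), (.a, true), (.c, true), (.g, true), (.e, true), (.d, true), (.g, false), (.b, true), (.g, true), (.d, true), (.e, true), (.c, true), (.a, true), (.c, true), (.e, true), (.d, true), (.g, false), (.b, true), (.g, true), (.d, true), (.e, true), (.g, false), (.c, true), (.a, true), (.g, true), (.d, true), (.c, true), (.e, true), (.g, true), (.e, true), (.a, true), (.c, true), (.b, true), (.c, true), (.d, true), (.c, true), (.b, true), (.c, true), (.d, true), (.g, true), (.f, true), (.c, true), (.g, false), (.a, true), (.b, true), (.g, true), (.c, true), (.f, true),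 (.g, false), (.d, true), (.c, true), (.b, true), (.c, true), (.d, true), (.c, true), (.b, true), (.c, true), (.a, true), (.e, true), (.g, false), (.e, true), (.c, true), (.d, true), (.g, false), (.a, true), (.c, true), (.g, true), (.e, true), (.d, true), (.g, false), (.b, true), (.g, true), (.d, true), (.e, true), (.c, true), (.a, true), (.c, true), (.e, true), (.d, true), (.g, false), (.b, true), (.g, true), (.d, true), (.e, true), (.g, false), (.c, true), (.a, true), (.g, true), (.d, true), (.c, true), (.e, true), (.g, true), (.e, true), (.a, true), (.c, true), (.b, true), (.c, true), (.d, true), (.c, true), (.b, true), (.c, true), (.d, true), (.g, true), (.f, true), (.c, true), (.g, false), (.a, true), (.b, true), (.g, true), (.c, true), (.f, true), (.g, false), (.d, true), (.c, true), (.b, true), (.c, true), (.d, true), (.c, true), (.b, true), (.c, true), (.a, true), (.e, true), (.g, false), (.e, true), (.c, true), (.d, true), (.g, false), (.a, true), (.c, true), (.g, true), (.e, true), (.d, true), (.g, false), (.b, true), (.g, true), (.d, true), (.e, true), (.c, true), (.a, true), (.c, true), (.e, true), (.d, true), (.g, false), (.b, true), (.g, true), (.d, true), (.e, true), (.g,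 false), (.c, true), (.a, true), (.g, true), (.d, true), (.c, true), (.e, true), (.g, true), (.e, true), (.a, true), (.c, true), (.b, true), (.c, true), (.d, true), (.c, true), (.b, true), (.c, true), (.d, true), (.g, true), (.f, true), (.c, true), (.g, false), (.b, true), (.a, true), (.g, true), (.c, true), (.f, true), (.g, false), (.d, true), (.c, true), (.b, true), (.c, true), (.d, true), (.c, true), (.b, true), (.c, true), (.a, true), (.e, true), (.g, false), (.e, true), (.c, true), (.d, true), (.g, false), (.a, true), (.c, true), (.g, true), (.e, true), (.d, true), (.g, false), (.b, true), (.g, true), (.d, true), (.e, true), (.c, true), (.a, true), (.c, true), (.e, true), (.d, true), (.g, false), (.b, true), (.g, true), (.d, true), (.e, true), (.g, false), (.c, true), (.a, true), (.g, true), (.d, true), (.c, true), (.e, true), (.g, true), (.e, true), (.a, true), (.c, true), (.b, true), (.c, true), (.d, true), (.c, true), (.b, true), (.c, true), (.d, true), (.g, true), (.f, true), (.c, true), (.g, false), (.a, true), (.b, true), (.g, true), (.c, true), (.f, true), (.g, false), (.d, true), (.c, true), (.b, true), (.c, true), (.d, true), (.c, true), (.b, true), (.c, true), (.a, true),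 (.e, true), (.g, false), (.e, true), (.c, true), (.d, true), (.g, false), (.a, true), (.c, true), (.g, true), (.e, true), (.d, true), (.g, false), (.b, true), (.g, true), (.d, true), (.e, true), (.c, true), (.a, true), (.c, true), (.e, true), (.d, true), (.g, false), (.b, true), (.g, true), (.d, true), (.e, true), (.g, false), (.c, true), (.a, true), (.g, true), (.d, true), (.c, true), (.e, true), (.g, true), (.e, true), (.a, true), (.c, true), (.b, true), (.c, true), (.d, true), (.c, true), (.b, true), (.c, true), (.d, true), (.g, true), (.f, true), (.c, true), (.g, false), (.b, true), (.a, true), (.g, true), (.c, true), (.f, true), (.g, false), (.d, true), (.c, true), (.b, true), (.c, true), (.d, true), (.c, true), (.b, true), (.c, true), (.a, true), (.e, true), (.g, false), (.e, true), (.c, true), (.d, true), (.g, false), (.a, true), (.c, true), (.g, true), (.e, true), (.d, true), (.g, false), (.b, true), (.g, true), (.d, true), (.e, true), (.c, true), (.a, true), (.c, true), (.e, true), (.d, true), (.g, false), (.b, true), (.g, true), (.d, true), (.e, true), (.g, false), (.c, true), (.a, true), (.g, true), (.d, true), (.c, true), (.e, true), (.g, true), (.e, true), (.a, true), (.c,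 true), (.b, true), (.c, true), (.d, true), (.c, true), (.b, true), (.c, true), (.d, true), (.g, true), (.f, true), (.c, true), (.g, false), (.a, true), (.b, true), (.g, true), (.c, true), (.f, true), (.g, false), (.d, true), (.c, true), (.b, true), (.c, true), (.d, true), (.c, true), (.b, true), (.c, true), (.a, true), (.e, true), (.g, false), (.e, true), (.c, true), (.d, true), (.g, false), (.a, true), (.c, true), (.g, true), (.e, true), (.d, true), (.g, false), (.b, true), (.g, true), (.d, true), (.e, true), (.c, true), (.a, true), (.c, true), (.e, true), (.d, true), (.g, false), (.b, true), (.g, true), (.d, true), (.e, true), (.g, false), (.c, true), (.a, true), (.g, true), (.d, true), (.c, true), (.e, true), (.g, true), (.e, true), (.a, true), (.c, true), (.b, true), (.c, true), (.d, true), (.c, true), (.b, true), (.c, true), (.d, true), (.g, true), (.f, true), (.c, true), (.g, false), (.b, true), (.a, true), (.g, true), (.c, true), (.f, true), (.g, false), (.d, true), (.c, true), (.b, true), (.c, true), (.d, true), (.c, true), (.b, true), (.c, true), (.a, true), (.e, true), (.g, false), (.e, true), (.c, true), (.d, true), (.g, false), (.a, true), (.c, true), (.g, true), (.e, true),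 (.d, true), (.g, false), (.b, true), (.g, true), (.d, true), (.e, true), (.c, true), (.a, true), (.c, true), (.e, true), (.d, true), (.g, false), (.b, true), (.g, true), (.d, true), (.e, true), (.g, false), (.c, true), (.a, true), (.g, true), (.d, true), (.c, true), (.e, true), (.g, true), (.e, true), (.a, true), (.c, true), (.b, true), (.c, true), (.d, true), (.c, true), (.b, true), (.c, true), (.d, true), (.g, true), (.f, true), (.c, true), (.g, false), (.b, true), (.a, true), (.g, true), (.c, true), (.f, true), (.g, false), (.d, true), (.c, true), (.b, true), (.c, true), (.d, true), (.c, true), (.b, true), (.c, true), (.a, true), (.e, true), (.g, false), (.e, true), (.c, true), (.d, true), (.g, false), (.a, true), (.c, true), (.g, true), (.e, true), (.d, true), (.g, false), (.b, true), (.g, true), (.d, true), (.e, true), (.c, true), (.a, true), (.c, true), (.e, true), (.d, true), (.g, false), (.b, true), (.g, true), (.d, true), (.e, true), (.g, false), (.c, true), (.a, true), (.g, true), (.d, true), (.c, true), (.e, true), (.g, true), (.e, true), (.a, true), (.c, true), (.b, true), (.c, true), (.d, true), (.c, true), (.b, true), (.c, true), (.d, true), (.g, true), (.f, true), (.c, true),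 (.g, false), (.a, true), (.b, true), (.g, true), (.c, true), (.f, true), (.g, false), (.d, true), (.c, true), (.b, true), (.c, true), (.d, true), (.c, true), (.b, true), (.c, true), (.a, true), (.e, true), (.g, false), (.e, true), (.c, true), (.d, true), (.g, false), (.a, true), (.c, true), (.g, true), (.e, true), (.d, true), (.g, false), (.b, true), (.g, true), (.d, true), (.e, true), (.c, true), (.a, true), (.c, true), (.e, true), (.d, true), (.g, false), (.b, true), (.g, true), (.d, true), (.e, true), (.g, false), (.c, true), (.a, true), (.g, true), (.d, true), (.c, true), (.e, true), (.g, true), (.e, true), (.a, true), (.c, true), (.b, true), (.c, true), (.d, true), (.c, true), (.b, true), (.c, true), (.d, true), (.g, true), (.f, true), (.c, true), (.g, false), (.a, true), (.b, true), (.g, true), (.c, true), (.f, true), (.g, false), (.d, true), (.c, true), (.b, true), (.c, true), (.d, true), (.c, true), (.b, true), (.c, true), (.a, true), (.e, true), (.g, false), (.e, true), (.c, true), (.d, true), (.g, false), (.a, true), (.c, true), (.g, true), (.e, true), (.d, true), (.g, false), (.b, true), (.g, true), (.d, true), (.e, true), (.c, true), (.a, true), (.c, true), (.e, true), (.d,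 true), (.g, false), (.b, true), (.g, true), (.d, true), (.e, true), (.g, false), (.c, true), (.a, true), (.g, true), (.d, true), (.c, true), (.e, true), (.g, true), (.e, true), (.a, true), (.c, true), (.b, true), (.c, true), (.d, true), (.c, true), (.b, true), (.c, true), (.d, true), (.g, true), (.f, true), (.c, true), (.g, false), (.b, true), (.a, true), (.g, true), (.c, true), (.f, true), (.g, false), (.d, true), (.c, true), (.b, true), (.c, true), (.d, true), (.c, true), (.b, true), (.c, true), (.a, true), (.e, true), (.g, false), (.e, true), (.c, true), (.d, true), (.g, false), (.a, true), (.c, true), (.g, true), (.e, true), (.d, true), (.g, false), (.b, true), (.g, true), (.d, true), (.e, true), (.c, true), (.a, true), (.c, true), (.e, true), (.d, true), (.g, false), (.b, true), (.g, true), (.d, true), (.e, true), (.g, false), (.c, true), (.a, true), (.g, true), (.d, true), (.c, true), (.e, true), (.g, true), (.e, true), (.a, true), (.c, true), (.b, true), (.c, true), (.d, true), (.c, true), (.b, true), (.c, true), (.d, true), (.g, true), (.f, true), (.c, true), (.g, false), (.a, true), (.b, true), (.g, true), (.c, true), (.f, true), (.g, false), (.d, true), (.c, true), (.b, true),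 (.c, true), (.d, true), (.c, true), (.b, true), (.c, true), (.a, true), (.e, true), (.g, false), (.e, true), (.c, true), (.d, true), (.g, false), (.a, true), (.c, true), (.g, true), (.e, true), (.d, true), (.g, false), (.b, true), (.g, true), (.d, true), (.e, true), (.c, true), (.a, true), (.c, true), (.e, true), (.d, true), (.g, false), (.b, true), (.g, true), (.d, true), (.e, true), (.g, false), (.c, true), (.a, true), (.g, true), (.d, true), (.c, true), (.e, true), (.g, true), (.e, true), (.a, true), (.c, true), (.b, true), (.c, true), (.d, true), (.c, true), (.b, true), (.c, true), (.d, true), (.g, true), (.f, true), (.c, true), (.g, false), (.a, true), (.b, true), (.g, true), (.c, true), (.f, true), (.g, false), (.d, true), (.c, true), (.b, true), (.c, true), (.d, true), (.c, true), (.b, true), (.c, true), (.a, true), (.e, true), (.g, false), (.e, true), (.c, true), (.d, true), (.g, false), (.a, true), (.c, true), (.g, true), (.e, true), (.d, true), (.g, false), (.b, true), (.g, true), (.d, true), (.e, true), (.c, true), (.a, true), (.c, true), (.e, true), (.d, true), (.g, false), (.b, true), (.g, true), (.d, true), (.e, true), (.g, false), (.c, true), (.a, true), (.g, true), (.d,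 true), (.c, true), (.e, true), (.g, true), (.e, true), (.a, true), (.c, true), (.b, true), (.c, true), (.d, true), (.c, true), (.b, true), (.c, true), (.d, true), (.g, true), (.f, true), (.c, true), (.g, false), (.b, true), (.a, true), (.g, true), (.c, true), (.f, true), (.g, false), (.d, true), (.c, true), (.b, true), (.c, true), (.d, true), (.c, true), (.b, true), (.c, true), (.a, true), (.e, true), (.g, false), (.e, true), (.c, true), (.d, true), (.g, false), (.a, true), (.c, true), (.g, true), (.e, true), (.d, true), (.g, false), (.b, true), (.g, true), (.d, true), (.e, true), (.c, true), (.a, true), (.c, true), (.e, true), (.d, true), (.g, false), (.b, true), (.g, true), (.d, true), (.e, true), (.g, false), (.c, true), (.a, true), (.g, true), (.d, true), (.c, true), (.e, true), (.g, true), (.e, true), (.a, true), (.c, true), (.b, true), (.c, true), (.d, true), (.c, true), (.b, true), (.c, true), (.d, true), (.g, true), (.f, true), (.c, true), (.g, false), (.b, true), (.a, true), (.g, true), (.c, true), (.f, true), (.g, false), (.d, true), (.c, true), (.b, true), (.c, true), (.d, true), (.c, true), (.b, true), (.c, true), (.a, true), (.e, true), (.g, false), (.e, true), (.c, true),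 (.d, true), (.g, false), (.a, true), (.c, true), (.g, true), (.e, true), (.d, true), (.g, false), (.b, true), (.g, true), (.d, true), (.e, true), (.c, true), (.a, true)]
def jw_e : List (Cfsg.Spor.ON.Gen × Bool) := [(.a, true), (.c, true), (.e, true), (.d, true), (.g, false), (.b, true), (.g, true), (.d, true), (.e, true), (.g, false), (.c, true), (.a, true), (.g, true), (.d, true), (.c, true), (.e, true), (.g, true), (.e, true), (.a, true), (.c, true), (.b, true), (.c, true), (.d, true), (.c, true), (.b, true), (.c, true), (.d, true), (.g, true), (.f, true), (.c, true), (.g, false), (.a, true), (.b, true), (.g, true), (.c, true), (.f, true), (.g, false), (.d, true), (.c, true), (.b, true), (.c, true), (.d, true), (.c, true), (.b, true), (.c, true), (.a, true), (.e, true), (.g, false), (.e, true), (.c, true), (.d, true), (.g, false), (.a, true), (.c, true), (.g, true), (.e, true), (.d, true), (.g, false), (.b, true), (.g, true), (.d, true), (.e, true), (.c, true), (.a, true), (.c, true), (.e, true), (.d, true), (.g, false), (.b, true), (.g, true), (.d, true), (.e, true), (.g, false), (.c, true), (.a, true), (.g, true), (.d, true), (.c, true), (.e, true), (.g, true), (.e, true), (.a, true),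 (.c, true), (.b, true), (.c, true), (.d, true), (.c, true), (.b, true), (.c, true), (.d, true), (.g, true), (.f, true), (.c, true), (.g, false), (.b, true), (.a, true), (.g, true), (.c, true), (.f, true), (.g, false), (.d, true), (.c, true), (.b, true), (.c, true), (.d, true), (.c, true), (.b, true), (.c, true), (.a, true), (.e, true), (.g, false), (.e, true), (.c, true), (.d, true), (.g, false), (.a, true), (.c, true), (.g, true), (.e, true), (.d, true), (.g, false), (.b, true), (.g, true), (.d, true), (.e, true), (.c, true), (.a, true), (.c, true), (.e, true), (.d, true), (.g, false), (.b, true), (.g, true), (.d, true), (.e, true), (.g, false), (.c, true), (.a, true), (.g, true), (.d, true), (.c, true), (.e, true), (.g, true), (.e, true), (.a, true), (.c, true), (.b, true), (.c, true), (.d, true), (.c, true), (.b, true), (.c, true), (.d, true), (.g, true), (.f, true), (.c, true), (.g, false), (.a, true), (.b, true), (.g, true), (.c, true), (.f, true), (.g, false), (.d, true), (.c, true), (.b, true), (.c, true), (.d, true), (.c, true), (.b, true), (.c, true), (.a, true), (.e, true), (.g, false), (.e, true), (.c, true), (.d, true), (.g, false), (.a, true), (.c, true), (.g, true), (.e, true),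 (.d, true), (.g, false), (.b, true), (.g, true), (.d, true), (.e, true), (.c, true), (.a, true), (.c, true), (.e, true), (.d, true), (.g, false), (.b, true), (.g, true), (.d, true), (.e, true), (.g, false), (.c, true), (.a, true), (.g, true), (.d, true), (.c, true), (.e, true), (.g, true), (.e, true), (.a, true), (.c, true), (.b, true), (.c, true), (.d, true), (.c, true), (.b, true), (.c, true), (.d, true), (.g, true), (.f, true), (.c, true), (.g, false), (.a, true), (.b, true), (.g, true), (.c, true), (.f, true), (.g, false), (.d, true), (.c, true), (.b, true), (.c, true), (.d, true), (.c, true), (.b, true), (.c, true), (.a, true), (.e, true), (.g, false), (.e, true), (.c, true), (.d, true), (.g, false), (.a, true), (.c, true), (.g, true), (.e, true), (.d, true), (.g, false), (.b, true), (.g, true), (.d, true), (.e, true), (.c, true), (.a, true), (.c, true), (.e, true), (.d, true), (.g, false), (.b, true), (.g, true), (.d, true), (.e, true), (.g, false), (.c, true), (.a, true), (.g, true), (.d, true), (.c, true), (.e, true), (.g, true), (.e, true), (.a, true), (.c, true), (.b, true), (.c, true), (.d, true), (.c, true), (.b, true), (.c, true), (.d, true), (.g, true), (.f, true), (.c, true),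 (.g, false), (.b, true), (.a, true), (.g, true), (.c, true), (.f, true), (.g, false), (.d, true), (.c, true), (.b, true), (.c, true), (.d, true), (.c, true), (.b, true), (.c, true), (.a, true), (.e, true), (.g, false), (.e, true), (.c, true), (.d, true), (.g, false), (.a, true), (.c, true), (.g, true), (.e, true), (.d, true), (.g, false), (.b, true), (.g, true), (.d, true), (.e, true), (.c, true), (.a, true), (.c, true), (.e, true), (.d, true), (.g, false), (.b, true), (.g, true), (.d, true), (.e, true), (.g, false), (.c, true), (.a, true), (.g, true), (.d, true), (.c, true), (.e, true), (.g, true), (.e, true), (.a, true), (.c, true), (.b, true), (.c, true), (.d, true), (.c, true), (.b, true), (.c, true), (.d, true), (.g, true), (.f, true), (.c, true), (.g, false), (.b, true), (.a, true), (.g, true), (.c, true), (.f, true), (.g, false), (.d, true), (.c, true), (.b, true), (.c, true), (.d, true), (.c, true), (.b, true), (.c, true), (.a, true), (.e, true), (.g, false), (.e, true), (.c, true), (.d, true), (.g, false), (.a, true), (.c, true), (.g, true), (.e, true), (.d, true), (.g, false), (.b, true), (.g, true), (.d, true), (.e, true), (.c, true), (.a, true), (.c, true), (.e, true), (.d,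 true), (.g, false), (.b, true), (.g, true), (.d, true), (.e, true), (.g, false), (.c, true), (.a, true), (.g, true), (.d, true), (.c, true), (.e, true), (.g, true), (.e, true), (.a, true), (.c, true), (.b, true), (.c, true), (.d, true), (.c, true), (.b, true), (.c, true), (.d, true), (.g, true), (.f, true), (.c, true), (.g, false), (.a, true), (.b, true), (.g, true), (.c, true), (.f, true), (.g, false), (.d, true), (.c, true), (.b, true), (.c, true), (.d, true), (.c, true), (.b, true), (.c, true), (.a, true), (.e, true), (.g, false), (.e, true), (.c, true), (.d, true), (.g, false), (.a, true), (.c, true), (.g, true), (.e, true), (.d, true), (.g, false), (.b, true), (.g, true), (.d, true), (.e, true), (.c, true), (.a, true), (.c, true), (.e, true), (.d, true), (.g, false), (.b, true), (.g, true), (.d, true), (.e, true), (.g, false), (.c, true), (.a, true), (.g, true), (.d, true), (.c, true), (.e, true), (.g, true), (.e, true), (.a, true), (.c, true), (.b, true), (.c, true), (.d, true), (.c, true), (.b, true), (.c, true), (.d, true), (.g, true), (.f, true), (.c, true), (.g, false), (.b, true), (.a, true), (.g, true), (.c, true), (.f, true), (.g, false), (.d, true), (.c, true), (.b, true),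 (.c, true), (.d, true), (.c, true), (.b, true), (.c, true), (.a, true), (.e, true), (.g, false), (.e, true), (.c, true), (.d, true), (.g, false), (.a, true), (.c, true), (.g, true), (.e, true), (.d, true), (.g, false), (.b, true), (.g, true), (.d, true), (.e, true), (.c, true), (.a, true), (.c, true), (.e, true), (.d, true), (.g, false), (.b, true), (.g, true), (.d, true), (.e, true), (.g, false), (.c, true), (.a, true), (.g, true), (.d, true), (.c, true), (.e, true), (.g, true), (.e, true), (.a, true), (.c, true), (.b, true), (.c, true), (.d, true), (.c, true), (.b, true), (.c, true), (.d, true), (.g, true), (.f, true), (.c, true), (.g, false), (.b, true), (.a, true), (.g, true), (.c, true), (.f, true), (.g, false), (.d, true), (.c, true), (.b, true), (.c, true), (.d, true), (.c, true), (.b, true), (.c, true), (.a, true), (.e, true), (.g, false), (.e, true), (.c, true), (.d, true), (.g, false), (.a, true), (.c, true), (.g, true), (.e, true), (.d, true), (.g, false), (.b, true), (.g, true), (.d, true), (.e, true), (.c, true), (.a, true), (.c, true), (.e, true), (.d, true), (.g, false), (.b, true), (.g, true), (.d, true), (.e, true), (.g, false), (.c, true), (.a, true), (.g, true), (.d,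 true), (.c, true), (.e, true), (.g, true), (.e, true), (.a, true), (.c, true), (.b, true), (.c, true), (.d, true), (.c, true), (.b, true), (.c, true), (.d, true), (.g, true), (.f, true), (.c, true), (.g, false), (.a, true), (.b, true), (.g, true), (.c, true), (.f, true), (.g, false), (.d, true), (.c, true), (.b, true), (.c, true), (.d, true), (.c, true), (.b, true), (.c, true), (.a, true), (.e, true), (.g, false), (.e, true), (.c, true), (.d, true), (.g, false), (.a, true), (.c, true), (.g, true), (.e, true), (.d, true), (.g, false), (.b, true), (.g, true), (.d, true), (.e, true), (.c, true), (.a, true), (.c, true), (.e, true), (.d, true), (.g, false), (.b, true), (.g, true), (.d, true), (.e, true), (.g, false), (.c, true), (.a, true), (.g, true), (.d, true), (.c, true), (.e, true), (.g, true), (.e, true), (.a, true), (.c, true), (.b, true), (.c, true), (.d, true), (.c, true), (.b, true), (.c, true), (.d, true), (.g, true), (.f, true), (.c, true), (.g, false), (.b, true), (.a, true), (.g, true), (.c, true), (.f, true), (.g, false), (.d, true), (.c, true), (.b, true), (.c, true), (.d, true), (.c, true), (.b, true), (.c, true), (.a, true), (.e, true), (.g, false), (.e, true), (.c, true),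 (.d, true), (.g, false), (.a, true), (.c, true), (.g, true), (.e, true), (.d, true), (.g, false), (.b, true), (.g, true), (.d, true), (.e, true), (.c, true), (.a, true), (.c, true), (.e, true), (.d, true), (.g, false), (.b, true), (.g, true), (.d, true), (.e, true), (.g, false), (.c, true), (.a, true), (.g, true), (.d, true), (.c, true), (.e, true), (.g, true), (.e, true), (.a, true), (.c, true), (.b, true), (.c, true), (.d, true), (.c, true), (.b, true), (.c, true), (.d, true), (.g, true), (.f, true), (.c, true), (.g, false), (.a, true), (.b, true), (.g, true), (.c, true), (.f, true), (.g, false), (.d, true), (.c, true), (.b, true), (.c, true), (.d, true), (.c, true), (.b, true), (.c, true), (.a, true), (.e, true), (.g, false), (.e, true), (.c, true), (.d, true), (.g, false), (.a, true), (.c, true), (.g, true), (.e, true), (.d, true), (.g, false), (.b, true), (.g, true), (.d, true), (.e, true), (.c, true), (.a, true), (.c, true), (.e, true), (.d, true), (.g, false), (.b, true), (.g, true), (.d, true), (.e, true), (.g, false), (.c, true), (.a, true), (.g, true), (.d, true), (.c, true), (.e, true), (.g, true), (.e, true), (.a, true), (.c, true), (.b, true), (.c, true), (.d, true), (.c, true),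 (.b, true), (.c, true), (.d, true), (.g, true), (.f, true), (.c, true), (.g, false), (.b, true), (.a, true), (.g, true), (.c, true), (.f, true), (.g, false), (.d, true), (.c, true), (.b, true), (.c, true), (.d, true), (.c, true), (.b, true), (.c, true), (.a, true), (.e, true), (.g, false), (.e, true), (.c, true), (.d, true), (.g, false), (.a, true), (.c, true), (.g, true), (.e, true), (.d, true), (.g, false), (.b, true), (.g, true), (.d, true), (.e, true), (.c, true), (.a, true), (.c, true), (.e, true), (.d, true), (.g, false), (.b, true), (.g, true), (.d, true), (.e, true), (.g, false), (.c, true), (.a, true), (.g, true), (.d, true), (.c, true), (.e, true), (.g, true), (.e, true), (.a, true), (.c, true), (.b, true), (.c, true), (.d, true), (.c, true), (.b, true), (.c, true), (.d, true), (.g, true), (.f, true), (.c, true), (.g, false), (.a, true), (.b, true), (.g, true), (.c, true), (.f, true), (.g, false), (.d, true), (.c, true), (.b, true), (.c, true), (.d, true), (.c, true), (.b, true), (.c, true), (.a, true), (.e, true), (.g, false), (.e, true), (.c, true), (.d, true), (.g, false), (.a, true), (.c, true), (.g, true), (.e, true), (.d, true), (.g, false), (.b, true), (.g, true), (.d,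 true), (.e, true), (.c, true), (.a, true), (.c, true), (.e, true), (.d, true), (.g, false), (.b, true), (.g, true), (.d, true), (.e, true), (.g, false), (.c, true), (.a, true), (.g, true), (.d, true), (.c, true), (.e, true), (.g, true), (.e, true), (.a, true), (.c, true), (.b, true), (.c, true), (.d, true), (.c, true), (.b, true), (.c, true), (.d, true), (.g, true), (.f, true), (.c, true), (.g, false), (.b, true), (.a, true), (.g, true), (.c, true), (.f, true), (.g, false), (.d, true), (.c, true), (.b, true), (.c, true), (.d, true), (.c, true), (.b, true), (.c, true), (.a, true), (.e, true), (.g, false), (.e, true), (.c, true), (.d, true), (.g, false), (.a, true), (.c, true), (.g, true), (.e, true), (.d, true), (.g, false), (.b, true), (.g, true), (.d, true), (.e, true), (.c, true), (.a, true), (.c, true), (.e, true), (.d, true), (.g, false), (.b, true), (.g, true), (.d, true), (.e, true), (.g, false), (.c, true), (.a, true), (.g, true), (.d, true), (.c, true), (.e, true), (.g, true), (.e, true), (.a, true), (.c, true), (.b, true), (.c, true), (.d, true), (.c, true), (.b, true), (.c, true), (.d, true), (.g, true), (.f, true), (.c, true), (.g, false), (.a, true), (.b, true), (.g, true),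 (.c, true), (.f, true), (.g, false), (.d, true), (.c, true), (.b, true), (.c, true), (.d, true), (.c, true), (.b, true), (.c, true), (.a, true), (.e, true), (.g, false), (.e, true), (.c, true), (.d, true), (.g, false), (.a, true), (.c, true), (.g, true), (.e, true), (.d, true), (.g, false), (.b, true), (.g, true), (.d, true), (.e, true), (.c, true), (.a, true), (.c, true), (.e, true), (.d, true), (.g, false), (.b, true), (.g, true), (.d, true), (.e, true), (.g, false), (.c, true), (.a, true), (.g, true), (.d, true), (.c, true), (.e, true), (.g, true), (.e, true), (.a, true), (.c, true), (.b, true), (.c, true), (.d, true), (.c, true), (.b, true), (.c, true), (.d, true), (.g, true), (.f, true), (.c, true), (.g, false), (.b, true), (.a, true), (.g, true), (.c, true), (.f, true), (.g, false), (.d, true), (.c, true), (.b, true), (.c, true), (.d, true), (.c, true), (.b, true), (.c, true), (.a, true), (.e, true), (.g, false), (.e, true), (.c, true), (.d, true), (.g, false), (.a, true), (.c, true), (.g, true), (.e, true), (.d, true), (.g, false), (.b, true), (.g, true), (.d, true), (.e, true), (.c, true), (.a, true), (.c, true), (.e, true), (.d, true), (.g, false), (.b, true), (.g, true), (.d,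 true), (.e, true), (.g, false), (.c, true), (.a, true), (.g, true), (.d, true), (.c, true), (.e, true), (.g, true), (.e, true), (.a, true), (.c, true), (.b, true), (.c, true), (.d, true), (.c, true), (.b, true), (.c, true), (.d, true), (.g, true), (.f, true), (.c, true), (.g, false), (.a, true), (.b, true), (.g, true), (.c, true), (.f, true), (.g, false), (.d, true), (.c, true), (.b, true), (.c, true), (.d, true), (.c, true), (.b, true), (.c, true), (.a, true), (.e, true), (.g, false), (.e, true), (.c, true), (.d, true), (.g, false), (.a, true), (.c, true), (.g, true), (.e, true), (.d, true), (.g, false), (.b, true), (.g, true), (.d, true), (.e, true), (.c, true), (.a, true), (.c, true), (.e, true), (.d, true), (.g, false), (.b, true), (.g, true), (.d, true), (.e, true), (.g, false), (.c, true), (.a, true), (.g, true), (.d, true), (.c, true), (.e, true), (.g, true), (.e, true), (.a, true), (.c, true), (.b, true), (.c, true), (.d, true), (.c, true), (.b, true), (.c, true), (.d, true), (.g, true), (.f, true), (.c, true), (.g, false), (.b, true), (.a, true), (.g, true), (.c, true), (.f, true), (.g, false), (.d, true), (.c, true), (.b, true), (.c, true), (.d, true), (.c, true), (.b, true),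 (.c, true), (.a, true), (.e, true), (.g, false), (.e, true), (.c, true), (.d, true), (.g, false), (.a, true), (.c, true), (.g, true), (.e, true), (.d, true), (.g, false), (.b, true), (.g, true), (.d, true), (.e, true), (.c, true), (.a, true), (.c, true), (.e, true), (.d, true), (.g, false), (.b, true), (.g, true), (.d, true), (.e, true), (.g, false), (.c, true), (.a, true), (.g, true), (.d, true), (.c, true), (.e, true), (.g, true), (.e, true), (.a, true), (.c, true), (.b, true), (.c, true), (.d, true), (.c, true), (.b, true), (.c, true), (.d, true), (.g, true), (.f, true), (.c, true), (.g, false), (.a, true), (.b, true), (.g, true), (.c, true), (.f, true), (.g, false), (.d, true), (.c, true), (.b, true), (.c, true), (.d, true), (.c, true), (.b, true), (.c, true), (.a, true), (.e, true), (.g, false), (.e, true), (.c, true), (.d, true), (.g, false), (.a, true), (.c, true), (.g, true), (.e, true), (.d, true), (.g, false), (.b, true), (.g, true), (.d, true), (.e, true), (.c, true), (.a, true), (.c, true), (.e, true), (.d, true), (.g, false), (.b, true), (.g, true), (.d, true), (.e, true), (.g, false), (.c, true), (.a, true), (.g, true), (.d, true), (.c, true), (.e, true), (.g, true), (.e,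 true), (.a, true), (.c, true), (.b, true), (.c, true), (.d, true), (.c, true), (.b, true), (.c, true), (.d, true), (.g, true), (.f, true), (.c, true), (.g, false), (.a, true), (.b, true), (.g, true), (.c, true), (.f, true), (.g, false), (.d, true), (.c, true), (.b, true), (.c, true), (.d, true), (.c, true), (.b, true), (.c, true), (.a, true), (.e, true), (.g, false), (.e, true), (.c, true), (.d, true), (.g, false), (.a, true), (.c, true), (.g, true), (.e, true), (.d, true), (.g, false), (.b, true), (.g, true), (.d, true), (.e, true), (.c, true), (.a, true), (.c, true), (.e, true), (.d, true), (.g, false), (.b, true), (.g, true), (.d, true), (.e, true), (.g, false), (.c, true), (.a, true), (.g, true), (.d, true), (.c, true), (.e, true), (.g, true), (.e, true), (.a, true), (.c, true), (.b, true), (.c, true), (.d, true), (.c, true), (.b, true), (.c, true), (.d, true), (.g, true), (.f, true), (.c, true), (.g, false), (.b, true), (.a, true), (.g, true), (.c, true), (.f, true), (.g, false), (.d, true), (.c, true), (.b, true), (.c, true), (.d, true), (.c, true), (.b, true), (.c, true), (.a, true), (.e, true), (.g, false), (.e, true), (.c, true), (.d, true), (.g, false), (.a, true), (.c, true),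 (.g, true), (.e, true), (.d, true), (.g, false), (.b, true), (.g, true), (.d, true), (.e, true), (.c, true), (.a, true), (.c, true), (.e, true), (.d, true), (.g, false), (.b, true), (.g, true), (.d, true), (.e, true), (.g, false), (.c, true), (.a, true), (.g, true), (.d, true), (.c, true), (.e, true), (.g, true), (.e, true), (.a, true), (.c, true), (.b, true), (.c, true), (.d, true), (.c, true), (.b, true), (.c, true), (.d, true), (.g, true), (.f, true), (.c, true), (.g, false), (.a, true), (.b, true), (.g, true), (.c, true), (.f, true), (.g, false), (.d, true), (.c, true), (.b, true), (.c, true), (.d, true), (.c, true), (.b, true), (.c, true), (.a, true), (.e, true), (.g, false), (.e, true), (.c, true), (.d, true), (.g, false), (.a, true), (.c, true), (.g, true), (.e, true), (.d, true), (.g, false), (.b, true), (.g, true), (.d, true), (.e, true), (.c, true), (.a, true), (.c, true), (.e, true), (.d, true), (.g, false), (.b, true), (.g, true), (.d, true), (.e, true), (.g, false), (.c, true), (.a, true), (.g, true), (.d, true), (.c, true), (.e, true), (.g, true), (.e, true), (.a, true), (.c, true), (.b, true), (.c, true), (.d, true), (.c, true), (.b, true), (.c, true), (.d, true), (.g, true),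 (.f, true), (.c, true), (.g, false), (.a, true), (.b, true), (.g, true), (.c, true), (.f, true), (.g, false), (.d, true), (.c, true), (.b, true), (.c, true), (.d, true), (.c, true), (.b, true), (.c, true), (.a, true), (.e, true), (.g, false), (.e, true), (.c, true), (.d, true), (.g, false), (.a, true), (.c, true), (.g, true), (.e, true), (.d, true), (.g, false), (.b, true), (.g, true), (.d, true), (.e, true), (.c, true), (.a, true), (.c, true), (.e, true), (.d, true), (.g, false), (.b, true), (.g, true), (.d, true), (.e, true), (.g, false), (.c, true), (.a, true), (.g, true), (.d, true), (.c, true), (.e, true), (.g, true), (.e, true), (.a, true), (.c, true), (.b, true), (.c, true), (.d, true), (.c, true), (.b, true), (.c, true), (.d, true), (.g, true), (.f, true), (.c, true), (.g, false), (.b, true), (.a, true), (.g, true), (.c, true), (.f, true), (.g, false), (.d, true), (.c, true), (.b, true), (.c, true), (.d, true), (.c, true), (.b, true), (.c, true), (.a, true), (.e, true), (.g, false), (.e, true), (.c, true), (.d, true), (.g, false), (.a, true), (.c, true), (.g, true), (.e, true), (.d, true), (.g, false), (.b, true), (.g, true), (.d, true), (.e, true), (.c, true), (.a, true), (.c,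 true), (.e, true), (.d, true), (.g, false), (.b, true), (.g, true), (.d, true), (.e, true), (.g, false), (.c, true), (.a, true), (.g, true), (.d, true), (.c, true), (.e, true), (.g, true), (.e, true), (.a, true), (.c, true), (.b, true), (.c, true), (.d, true), (.c, true), (.b, true), (.c, true), (.d, true), (.g, true), (.f, true), (.c, true), (.g, false), (.b, true), (.a, true), (.g, true), (.c, true), (.f, true), (.g, false), (.d, true), (.c, true), (.b, true), (.c, true), (.d, true), (.c, true), (.b, true), (.c, true), (.a, true), (.e, true), (.g, false), (.e, true), (.c, true), (.d, true), (.g, false), (.a, true), (.c, true), (.g, true), (.e, true), (.d, true), (.g, false), (.b, true), (.g, true), (.d, true), (.e, true), (.c, true), (.a, true), (.c, true), (.e, true), (.d, true), (.g, false), (.b, true), (.g, true), (.d, true), (.e, true), (.g, false), (.c, true), (.a, true), (.g, true), (.d, true), (.c, true), (.e, true), (.g, true), (.e, true), (.a, true), (.c, true), (.b, true), (.c, true), (.d, true), (.c, true), (.b, true), (.c, true), (.d, true), (.g, true), (.f, true), (.c, true), (.g, false), (.a, true), (.b, true), (.g, true), (.c, true), (.f, true), (.g, false), (.d, true),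 (.c, true), (.b, true), (.c, true), (.d, true), (.c, true), (.b, true), (.c, true), (.a, true), (.e, true), (.g, false), (.e, true), (.c, true), (.d, true), (.g, false), (.a, true), (.c, true), (.g, true), (.e, true), (.d, true), (.g, false), (.b, true), (.g, true), (.d, true), (.e, true), (.c, true), (.a, true), (.c, true), (.e, true), (.d, true), (.g, false), (.b, true), (.g, true), (.d, true), (.e, true), (.g, false), (.c, true), (.a, true), (.g, true), (.d, true), (.c, true), (.e, true), (.g, true), (.e, true), (.a, true), (.c, true), (.b, true), (.c, true), (.d, true), (.c, true), (.b, true), (.c, true), (.d, true), (.g, true), (.f, true), (.c, true), (.g, false), (.b, true), (.a, true), (.g, true), (.c, true), (.f, true), (.g, false), (.d, true), (.c, true), (.b, true), (.c, true), (.d, true), (.c, true), (.b, true), (.c, true), (.a, true), (.e, true), (.g, false), (.e, true), (.c, true), (.d, true), (.g, false), (.a, true), (.c, true), (.g, true), (.e, true), (.d, true), (.g, false), (.b, true), (.g, true), (.d, true), (.e, true), (.c, true), (.a, true)]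
/-- the images of the generators -/
def jw : Cfsg.Agent.Lib.Helper3.TCX.OnJDef.Gen → List (Cfsg.Spor.ON.Gen × Bool)
  | .a => jw_a
  | .b => jw_b
  | .c => jw_c
  | .d => jw_d
  | .e => jw_e

def mw_a : List (Cfsg.Spor.ON.Gen × Bool) := [(.b, true), (.a, true), (.c, true), (.a, true), (.d, true), (.e, true), (.c, true), (.f, true), (.c, true), (.g, false), (.d, true), (.b, true), (.c, true), (.e, true), (.d, true), (.e, true), (.c, true), (.d, true), (.b, true), (.c, true), (.g, false), (.f, true), (.g, true), (.a, true), (.b, true), (.e, true), (.g, true), (.e, true), (.b, true), (.a, true), (.g, false), (.f, true), (.g, true), (.c, true), (.b, true), (.d, true), (.c, true), (.e, true), (.d, true), (.e, true), (.c, true), (.b, true), (.d, true), (.g, true), (.c, true), (.f, true), (.c, true), (.e, true), (.d, true), (.a, true), (.c, true), (.a, true), (.b, true), (.a, true), (.b, true), (.a, true), (.c, true), (.a, true), (.d, true), (.e, true), (.c, true), (.f, true), (.c, true), (.g, false), (.d, true), (.b, true), (.c, true), (.e, true), (.d, true), (.e, true), (.c, true), (.d, true), (.b, true), (.c, true), (.g, false), (.f, true), (.g, true), (.a, true), (.b, true), (.e, true), (.g,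 false), (.e, true), (.b, true), (.a, true), (.g, false), (.f, true), (.g, true), (.c, true), (.b, true), (.d, true), (.c, true), (.e, true), (.d, true), (.e, true), (.c, true), (.b, true), (.d, true), (.g, true), (.c, true), (.f, true), (.c, true), (.e, true), (.d, true), (.a, true), (.c, true), (.a, true), (.b, true)]
def mw_b : List (Cfsg.Spor.ON.Gen × Bool) := [(.b, true), (.a, true), (.c, true), (.a, true), (.d, true), (.e, true), (.c, true), (.f, true), (.c, true), (.g, false), (.d, true), (.b, true), (.c, true), (.e, true), (.d, true), (.e, true), (.c, true), (.d, true), (.b, true), (.c, true), (.g, false), (.f, true), (.g, true), (.a, true), (.b, true), (.e, true), (.g, false), (.e, true), (.b, true), (.a, true), (.g, false), (.f, true), (.g, true), (.c, true), (.b, true), (.d, true), (.c, true), (.e, true), (.d, true), (.e, true), (.c, true), (.b, true), (.d, true), (.g, true), (.c, true), (.f, true), (.c, true), (.e, true), (.d, true), (.a, true), (.c, true), (.a, true), (.b, true), (.a, true), (.b, true), (.a, true), (.c, true), (.a, true), (.d, true), (.e, true), (.c, true), (.f, true), (.c, true), (.g, false), (.d, true), (.b, true), (.c, true), (.e, true), (.d, true), (.e,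 true), (.c, true), (.d, true), (.b, true), (.c, true), (.g, false), (.f, true), (.g, true), (.a, true), (.b, true), (.e, true), (.g, true), (.e, true), (.b, true), (.a, true), (.g, false), (.f, true), (.g, true), (.c, true), (.b, true), (.d, true), (.c, true), (.e, true), (.d, true), (.e, true), (.c, true), (.b, true), (.d, true), (.g, true), (.c, true), (.f, true), (.c, true), (.e, true), (.d, true), (.a, true), (.c, true), (.a, true), (.b, true)]
def mw_c : List (Cfsg.Spor.ON.Gen × Bool) := [(.a, true), (.b, true), (.a, true), (.c, true), (.a, true), (.d, true), (.e, true), (.c, true), (.f, true), (.c, true), (.g, false), (.d, true), (.b, true), (.c, true), (.e, true), (.d, true), (.e, true), (.c, true), (.d, true), (.b, true), (.c, true), (.g, false), (.f, true), (.g, true), (.a, true), (.b, true), (.e, true), (.g, true), (.e, true), (.b, true), (.a, true), (.g, false), (.f, true), (.g, true), (.c, true), (.b, true), (.d, true), (.c, true), (.e, true), (.d, true), (.e, true), (.c, true), (.b, true), (.d, true), (.g, true), (.c, true), (.f, true), (.c, true), (.e, true), (.d, true), (.a, true), (.c, true), (.a, true), (.b, true), (.a, true), (.b, true), (.a, true), (.c, true), (.a, true),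 (.d, true), (.e, true), (.c, true), (.f, true), (.c, true), (.g, false), (.d, true), (.b, true), (.c, true), (.e, true), (.d, true), (.e, true), (.c, true), (.d, true), (.b, true), (.c, true), (.g, false), (.f, true), (.g, true), (.a, true), (.b, true), (.e, true), (.g, false), (.e, true), (.b, true), (.a, true), (.g, false), (.f, true), (.g, true), (.c, true), (.b, true), (.d, true), (.c, true), (.e, true), (.d, true), (.e, true), (.c, true), (.b, true), (.d, true), (.g, true), (.c, true), (.f, true), (.c, true), (.e, true), (.d, true), (.a, true), (.c, true), (.a, true), (.b, true), (.a, true), (.b, true), (.a, true), (.c, true), (.a, true), (.d, true), (.e, true), (.c, true), (.f, true), (.c, true), (.g, false), (.d, true), (.b, true), (.c, true), (.e, true), (.d, true), (.e, true), (.c, true), (.d, true), (.b, true), (.c, true), (.g, false), (.f, true), (.g, true), (.a, true), (.b, true), (.e, true), (.g, true), (.e, true), (.b, true), (.a, true), (.g, false), (.f, true), (.g, true), (.c, true), (.b, true), (.d, true), (.c, true), (.e, true), (.d, true), (.e, true), (.c, true), (.b, true), (.d, true), (.g, true), (.c, true), (.f, true), (.c, true), (.e, true), (.d, true), (.a, true),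 (.c, true), (.a, true), (.b, true), (.a, true), (.b, true), (.a, true), (.c, true), (.a, true), (.d, true), (.e, true), (.c, true), (.f, true), (.c, true), (.g, false), (.d, true), (.b, true), (.c, true), (.e, true), (.d, true), (.e, true), (.c, true), (.d, true), (.b, true), (.c, true), (.g, false), (.f, true), (.g, true), (.a, true), (.b, true), (.e, true), (.g, false), (.e, true), (.b, true), (.a, true), (.g, false), (.f, true), (.g, true), (.c, true), (.b, true), (.d, true), (.c, true), (.e, true), (.d, true), (.e, true), (.c, true), (.b, true), (.d, true), (.g, true), (.c, true), (.f, true), (.c, true), (.e, true), (.d, true), (.a, true), (.c, true), (.a, true), (.b, true), (.a, true)]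
def mw_d : List (Cfsg.Spor.ON.Gen × Bool) := [(.b, true), (.a, true), (.c, true), (.a, true), (.d, true), (.e, true), (.c, true), (.f, true), (.c, true), (.g, false), (.d, true), (.b, true), (.c, true), (.e, true), (.d, true), (.e, true), (.c, true), (.d, true), (.b, true), (.c, true), (.g, false), (.f, true), (.g, true), (.a, true), (.b, true), (.e, true), (.g, false), (.e, true), (.b, true), (.a, true), (.g, false), (.f, true), (.g, true), (.c, true), (.b, true), (.d, true), (.c, true), (.e, true), (.d, true), (.e, true), (.c, true), (.b, true), (.d, true), (.g, true), (.c, true), (.f, true), (.c, true), (.e, true), (.d, true), (.a, true), (.c, true), (.a, true), (.b, true), (.a, true), (.b, true), (.a, true), (.c, true), (.a, true), (.d, true), (.e, true), (.c, true), (.f, true), (.c, true), (.g, false), (.d, true), (.b, true), (.c, true), (.e, true), (.d, true), (.e, true), (.c, true), (.d, true), (.b, true), (.c, true), (.g, false), (.f, true), (.g, true), (.a, true), (.b, true), (.e, true), (.g, true), (.g, true), (.e, true), (.b, true), (.a, true), (.g, false), (.f, true), (.g, true), (.c, true), (.b, true), (.d, true), (.c, true), (.e, true), (.d, true), (.e, true), (.c, true),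 (.b, true), (.d, true), (.g, true), (.c, true), (.f, true), (.c, true), (.e, true), (.d, true), (.a, true), (.c, true), (.a, true), (.b, true), (.a, true), (.b, true), (.a, true), (.c, true), (.a, true), (.d, true), (.e, true), (.c, true), (.f, true), (.c, true), (.g, false), (.d, true), (.b, true), (.c, true), (.e, true), (.d, true), (.e, true), (.c, true), (.d, true), (.b, true), (.c, true), (.g, false), (.f, true), (.g, true), (.a, true), (.b, true), (.e, true), (.g, true), (.g, true), (.e, true), (.b, true), (.a, true), (.g, false), (.f, true), (.g, true), (.c, true), (.b, true), (.d, true), (.c, true), (.e, true), (.d, true), (.e, true), (.c, true), (.b, true), (.d, true), (.g, true), (.c, true), (.f, true), (.c, true), (.e, true), (.d, true), (.a, true), (.c, true), (.a, true), (.b, true), (.a, true), (.b, true), (.a, true), (.c, true), (.a, true), (.d, true), (.e, true), (.c, true), (.f, true), (.c, true), (.g, false), (.d, true), (.b, true), (.c, true), (.e, true), (.d, true), (.e, true), (.c, true), (.d, true), (.b, true), (.c, true), (.g, false), (.f, true), (.g, true), (.a, true), (.b, true), (.e, true), (.g, false), (.e, true), (.b, true), (.a, true), (.g, false), (.f, true),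 (.g, true), (.c, true), (.b, true), (.d, true), (.c, true), (.e, true), (.d, true), (.e, true), (.c, true), (.b, true), (.d, true), (.g, true), (.c, true), (.f, true), (.c, true), (.e, true), (.d, true), (.a, true), (.c, true), (.a, true), (.b, true)]
def mw_e : List (Cfsg.Spor.ON.Gen × Bool) := [(.a, true)]
/-- the images of the generators -/
def mw : Cfsg.Agent.Lib.Helper3.TCX.OnMDef.Gen → List (Cfsg.Spor.ON.Gen × Bool)
  | .a => mw_a
  | .b => mw_b
  | .c => mw_c
  | .d => mw_d
  | .e => mw_e

end Cfsg.Agent.Lib.Helper3.TCX.OnHomData
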