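import Cfsg.Agent.Lib.Helper28.TC2Upper
import Cfsg.Agent.Lib.Helper3.TCX.OnMDataC0
set_option autoImplicit false
set_option maxRecDepth 100000

namespace Cfsg.Agent.Lib.Helper3.TCX.OnMData
open Cfsg.Agent.Lib.Helper28.TC2Upper

/-- relators -/
def relT : BT (ℕ × List ℕ × List ℕ) := (BT.node 12 (BT.node 6 (BT.node 3 (BT.node 1 (BT.node 0 (BT.leaf (2, [0, 0], [0, 0])) (BT.leaf (6, [1, 0, 1, 0, 1, 0], [0, 1, 0, 1, 0, 1]))) (BT.node 2 (BT.leaf (4, [2, 0, 2, 0], [0, 2, 0, 2])) (BT.leaf (4, [3, 0, 3, 0], [0, 3, 0, 3])))) (BT.node 5 (BT.node 4 (BT.leaf (12, [4, 0, 4, 0, 4, 0, 4, 0, 4, 0, 4, 0], [0, 4, 0, 4, 0, 4, 0, 4, 0, 4, 0, 4])) (BT.leaf (6, [0, 1, 0, 1, 0, 1], [1, 0, 1, 0, 1, 0]))) (BT.leaf (2, [1, 1], [1, 1])))) (BT.node 9 (BT.node 8 (BT.node 7 (BT.leaf (6, [2, 1, 2, 1, 2, 1], [1, 2,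 1, 2, 1, 2])) (BT.leaf (4, [3, 1, 3, 1], [1, 3, 1, 3]))) (BT.leaf (12, [4, 1, 4, 1, 4, 1, 4, 1, 4, 1, 4, 1], [1, 4, 1, 4, 1, 4, 1, 4, 1, 4, 1, 4]))) (BT.node 11 (BT.node 10 (BT.leaf (4, [0, 2, 0, 2], [2, 0, 2, 0])) (BT.leaf (6, [1, 2, 1, 2, 1, 2], [2, 1, 2, 1, 2, 1]))) (BT.leaf (2, [2, 2], [2, 2]))))) (BT.node 19 (BT.node 16 (BT.node 14 (BT.node 13 (BT.leaf (6, [3, 2, 3, 2, 3, 2], [2, 3, 2, 3, 2, 3])) (BT.leaf (6, [4, 2, 4, 2, 4, 2], [2, 4, 2, 4, 2, 4]))) (BT.node 15 (BT.leaf (4, [0, 3, 0, 3], [3, 0, 3, 0])) (BT.leaf (4, [1, 3, 1, 3], [3, 1, 3, 1])))) (BT.node 18 (BT.node 17 (BT.leaf (6, [2, 3, 2, 3, 2, 3], [3, 2, 3, 2, 3, 2])) (BT.leaf (2, [3, 3], [3, 3]))) (BT.leaf (12, [4, 3, 4, 3, 4, 3, 4, 3, 4, 3, 4, 3], [3, 4, 3, 4, 3, 4, 3, 4, 3, 4, 3, 4])))) (BT.node 22 (BT.node 21 (BT.node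 20 (BT.leaf (12, [0, 4, 0, 4, 0, 4, 0, 4, 0, 4, 0, 4], [4, 0, 4, 0, 4, 0, 4, 0, 4, 0, 4, 0])) (BT.leaf (12, [1, 4, 1, 4, 1, 4, 1, 4, 1, 4, 1, 4], [4, 1, 4, 1, 4, 1, 4, 1, 4, 1, 4, 1]))) (BT.leaf (6, [2, 4, 2, 4, 2, 4], [4, 2, 4, 2, 4, 2]))) (BT.node 24 (BT.node 23 (BT.leaf (12, [3, 4, 3, 4, 3, 4, 3, 4, 3, 4, 3, 4], [4, 3, 4, 3, 4, 3, 4, 3, 4, 3, 4, 3])) (BT.leaf (2, [4, 4], [4, 4]))) (BT.leaf (9, [4, 1, 2, 4, 0, 1, 4, 3, 0], [0, 3, 4, 1, 0, 4, 2, 1, 4]))))))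
/-- subgroup generators -/
def subT : BT (ℕ × List ℕ × List ℕ) := (BT.node 1 (BT.node 0 (BT.leaf (1, [0], [0])) (BT.leaf (1, [1], [1]))) (BT.node 2 (BT.leaf (1, [2], [2])) (BT.leaf (1, [3], [3]))))
/-- fact chunks -/
def colET : BT ℕ := (BT.node 2 (BT.node 1 (BT.node 0 (BT.leaf cE0) (BT.leaf cE1)) (BT.leaf cE2)) (BT.node 4 (BT.node 3 (BT.leaf cE3) (BT.leaf cE4)) (BT.leaf cE5)))
/-- justification chunks -/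
def colJT : BT ℕ := (BT.node 2 (BT.node 1 (BT.node 0 (BT.leaf cJ0) (BT.leaf cJ1)) (BT.leaf cJ2)) (BT.node 4 (BT.node 3 (BT.leaf cJ3) (BT.leaf cJ4)) (BT.leaf cJ5)))
/-- parent chunks -/
def parCT : BT ℕ := (BT.leaf cP0)
/-- the certificate -/
def data : Data where
  k := 5
  N := 66
  W := 16
  MW := 65536
  B := 128
  CH := 512
  NCH := 1
  colE := colET
  JW := 64
  MJ := 18446744073709551616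
  A := 1048576
  colJ := colJT
  PW := 17
  MP := 131072
  parC := parCT
  inv := (BT.node 2 (BT.node 1 (BT.node 0 (BT.leaf 0) (BT.leaf 1)) (BT.leaf 2)) (BT.node 4 (BT.node 3 (BT.leaf 3) (BT.leaf 4)) (BT.leaf 5)))
  rel := relT
  sub := subT
  fuel := 4

end Cfsg.Agent.Lib.Helper3.TCX.OnMData
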