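import Cfsg.Agent.Lib.Helper28.TC2Orbit
set_option autoImplicit false
set_option maxRecDepth 100000

namespace Cfsg.Agent.Lib.Helper3.TCX.OnMTable
open Cfsg.Agent.Lib.Helper28.TC2Upper Cfsg.Agent.Lib.Helper28.TC2Lower Cfsg.Agent.Lib.Helper28.TC2Orbit

def cT0 : ℕ := 0x20ba62edc3c7d014bd5c953b466c9fa056dcfa85e99cac6aa9b1846710b05a4cd222e747a436307143c2440b3254296202891106106860e04100
def cT1 : ℕ := 0x1ec07eb60b754cdb3878e5aa474c593058b9f2f3aecd9a427cbb42c553944c7959152a09184a8d1201464e0b0c2038c204c20e1a3c1090214180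
def cT2 : ℕ := 0x1e3962f964176a60285ed923446c9faa6eacf3d5cc1d3830812b566710a626b4ea22c68927186c68a3e643861214a970850783224070b1004100
def cT3 : ℕ := 0x20c05ce5eb252e9f3862b582366f1bb556fdb1d5e6dd9a405cf966870a274a7962254a068c4c908a1261ca8b0a20c98202818e24087811218200
def cT4 : ℕ := 0x20417ef9ea976e5d364ee16b460890b33e79aa54881e286e8d62b4cc98aa5eb891c203cc931a385913074a1b3458b842a0c487101430c1408001
def cR0 : ℕ := 0x9e0139035c02b40960229035204a40148128044e009409201a3024608881108020043e087808f019d013a066c04d809a0230065c04b8196012c02540ca00940226004c10900910420083c0c6818c02180030105810a0114061c0838106030a041400282040208080c0c18103000606080410181010200041000000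
/-- table chunks -/
def colTT : BT ℕ := (BT.node 2 (BT.node 1 (BT.node 0 (BT.leaf cT0) (BT.leaf cT1)) (BT.leaf cT2)) (BT.node 3 (BT.leaf cT3) (BT.leaf cT4)))
/-- spanning tree chunks -/
def treeT : BT ℕ := (BT.leaf cR0)
/-- relator paths -/
def relPaths : List (List ℕ) := [[0, 0], [1, 0, 1, 0, 1, 0], [2, 0, 2, 0], [3, 0, 3, 0], [4, 0, 4, 0, 4, 0, 4, 0, 4, 0, 4, 0], [0, 1, 0, 1, 0, 1], [1, 1], [2, 1, 2, 1, 2, 1], [3, 1, 3, 1], [4, 1, 4, 1, 4, 1, 4, 1, 4, 1, 4, 1], [0, 2, 0, 2], [1, 2, 1, 2, 1, 2], [2, 2], [3, 2, 3, 2, 3, 2], [4, 2, 4, 2, 4, 2], [0, 3, 0, 3], [1, 3, 1, 3], [2, 3, 2, 3, 2, 3], [3, 3], [4, 3, 4, 3, 4, 3, 4, 3, 4, 3, 4, 3], [0, 4, 0, 4, 0, 4, 0, 4, 0, 4, 0, 4], [1, 4, 1, 4, 1, 4, 1, 4, 1, 4, 1, 4], [2, 4, 2, 4, 2, 4], [3, 4, 3, 4, 3, 4, 3, 4, 3, 4, 3, 4], [4, 4], [4, 1, 2, 4, 0, 1, 4, 3, 0]]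
/-- subgroup generator paths -/
def subPaths : List (List ℕ) := [[0], [1], [2], [3]]
/-- the relator paths that are checked directly -/
def chkPaths : List (List ℕ) := [[1, 0, 1, 0, 1, 0], [2, 0, 2, 0], [3, 0, 3, 0], [4, 0, 4, 0, 4, 0, 4, 0, 4, 0, 4, 0], [2, 1, 2, 1, 2, 1], [3, 1, 3, 1], [4, 1, 4, 1, 4, 1, 4, 1, 4, 1, 4, 1], [3, 2, 3, 2, 3, 2], [4, 2, 4, 2, 4, 2], [4, 3, 4, 3, 4, 3, 4, 3, 4, 3, 4, 3], [4, 1, 2, 4, 0, 1, 4, 3, 0]]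
/-- the coset table -/
def table : Table where
  n := 66
  k := 5
  w := 7
  M := 128
  CH := 1024
  NCH := 1
  col := colTT
  inv := (BT.node 2 (BT.node 1 (BT.node 0 (BT.leaf 0) (BT.leaf 1)) (BT.leaf 2)) (BT.node 4 (BT.node 3 (BT.leaf 3) (BT.leaf 4)) (BT.leaf 5)))
  tw := 15
  TM := 32768
  tree := treeT

end Cfsg.Agent.Lib.Helper3.TCX.OnMTable
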