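import Cfsg.Agent.Lib.Helper28.TCONTower
import Cfsg.Agent.Lib.Helper28.TCONBMain
import Cfsg.Agent.Lib.Helper3.TCX.OnBase
import Cfsg.Agent.Lib.Helper3.TCX.OnHomData
import Cfsg.Agent.Lib.Helper3.TCX.OnJLink
import Cfsg.Agent.Lib.Helper3.TCX.OnMLink
set_option autoImplicit false
set_option maxRecDepth 100000
set_option maxHeartbeats 0

/-!
# Homomorphisms from presented groups into the O'Nan group

The permutation representation of the presented O'Nan group on 122760 points is faithful and has the base
`0, 1, 2, 5` with a stabiliser chain of the exact order, so that a word is trivial as soon as it fixes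
the base.  This is used to verify the relators of presentations of `J₁` and `M₁₁` on words.
-/

namespace Cfsg.Agent.Lib.Helper3.TCX.OnHom
open Cfsg.Agent.Lib.Helper28.TC2Upper Cfsg.Agent.Lib.Helper28.TC2Lower Cfsg.Agent.Lib.Helper28.TC2Orbit
open Cfsg.Agent.Lib.Helper28.TC2Glue Cfsg.Agent.Lib.Helper28.TC2GlueOrb Cfsg.Agent.Lib.Helper28.TC2Simple
open Cfsg.Agent.Lib.Helper28.TC2Bsgs Cfsg.Agent.Lib.Helper28.TC2Tower
open Cfsg.Agent.Lib.Helper28.TCONTable Cfsg.Agent.Lib.Helper28.TCONLink Cfsg.Agent.Lib.Helper28.TCONMain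
open Cfsg.Agent.Lib.Helper28.TCONBTable

/-- the presented O'Nan group -/
abbrev ON : Type := PresentedGroup rels

/-- the permutation representation on the cosets of `⟨a, …, f⟩` -/
noncomputable def phi : ON →* Equiv.Perm (Fin table.n) := main.2.choose

theorem phi_of : ∀ x, phi (PresentedGroup.of x) = Table.sigma hT (lw (x, true)) := main.2.choose_spec.1

theorem phi_coset : ∃ f : ON ⧸ (Subgroup.closure S).map (PresentedGroup.mk rels) → Fin table.n,
    Function.Bijective f ∧ (∀ g q, f (g • q) = phi g (f q)) ∧ f (QuotientGroup.mk 1) = ⟨0, hn⟩ :=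
  main.2.choose_spec.2

theorem finite_ON : Finite ON := Cfsg.Agent.Lib.Helper28.TCONTower.card0.1

theorem card_range_ge : 460815505920 ≤ Nat.card phi.range :=
  le_trans Cfsg.Agent.Lib.Helper28.TCONBMain.card_base (card_baseGroup_le hT Cfsg.Agent.Lib.Helper28.TCONBMain.hTB rfl
    (by decide) Cfsg.Agent.Lib.Helper28.TCONBMain.hagree phi.range (sigma_mem_range link hT phi phi_of))

theorem phi_injective : Function.Injective phi ∧ Nat.card ON = 460815505920 := by
  haveI := finite_ON
  exact injective_of_card_le phi Cfsg.Agent.Lib.Helper28.TCONTower.card0.2 card_range_ge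

theorem card_range : Nat.card phi.range = 460815505920 := by
  rw [← phi_injective.2]
  exact (Nat.card_congr (MonoidHom.ofInjective phi_injective.1).toEquiv).symm

/-- the image of the representation is generated by the letters -/
theorem range_le : phi.range ≤ Subgroup.closure {π | ∃ l, l < table.k ∧ π = Table.sigma hT l} := by
  rw [MonoidHom.range_eq_map, ← PresentedGroup.closure_range_of, MonoidHom.map_closure, Subgroup.closure_le]
  rintro _ ⟨_, ⟨x, rfl⟩, rfl⟩
  refine Subgroup.subset_closure ⟨lw (x, true), ?_, phi_of x⟩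
  have := link.lwk (x, true)
  rw [← link.Tk] at this
  exact this

/-- the base criterion: a word fixing the base points is trivial -/
theorem eq_one_of_base (L : List (Cfsg.Spor.ON.Gen × Bool))
    (h : ∀ b ∈ ([5, 2, 1, 0] : List ℕ), table.walkT (pathOf lw L) b = b) :
    (PresentedGroup.mk rels (FreeGroup.mk L) : ON) = 1 := by
  apply phi_injective.1
  rw [map_one]
  have hlow : 460815505920 * Nat.card (pstab (baseGroup Cfsg.Agent.Lib.Helper28.TCONBMain.hTB table.k) (toFin btable.n [5, 2, 1, 0])) ≤
      Nat.card (baseGroup Cfsg.Agent.Lib.Helper28.TCONBMain.hTB table.k) := by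
    have h0 := Cfsg.Agent.Lib.Helper28.TCONBMain.lev0
    have h1 := Cfsg.Agent.Lib.Helper28.TCONBMain.lev1
    have h2 := Cfsg.Agent.Lib.Helper28.TCONBMain.lev2
    have h3 := Cfsg.Agent.Lib.Helper28.TCONBMain.lev3
    have e : pstab (baseGroup Cfsg.Agent.Lib.Helper28.TCONBMain.hTB 8) (toFin btable.n []) =
        baseGroup Cfsg.Agent.Lib.Helper28.TCONBMain.hTB 8 := rfl
    rw [e] at h0
    show 460815505920 * Nat.card (pstab (baseGroup Cfsg.Agent.Lib.Helper28.TCONBMain.hTB 8) (toFin btable.n [5, 2, 1, 0])) ≤
      Nat.card (baseGroup Cfsg.Agent.Lib.Helper28.TCONBMain.hTB 8)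
    omega
  have hup : Nat.card (baseGroup Cfsg.Agent.Lib.Helper28.TCONBMain.hTB table.k) ≤ 460815505920 :=
    le_trans (card_baseGroup_le hT Cfsg.Agent.Lib.Helper28.TCONBMain.hTB rfl (by decide)
      Cfsg.Agent.Lib.Helper28.TCONBMain.hagree phi.range (sigma_mem_range link hT phi phi_of)) (le_of_eq card_range)
  apply eq_one_of_fix_base hT Cfsg.Agent.Lib.Helper28.TCONBMain.hTB rfl (by decide)
    Cfsg.Agent.Lib.Helper28.TCONBMain.hagree phi.range range_le 460815505920 (by norm_num) [5, 2, 1, 0] hlow hup
    _ ⟨_, rfl⟩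
  intro b hb hlt
  apply Fin.ext
  rw [phi_mk_apply link hT phi phi_of]
  exact h b hb

/-- a word moving a point is not trivial -/
theorem ne_one_of_move (L : List (Cfsg.Spor.ON.Gen × Bool)) (p : ℕ) (hp : p < table.n)
    (h : table.walkT (pathOf lw L) p ≠ p) : (PresentedGroup.mk rels (FreeGroup.mk L) : ON) ≠ 1 := by
  intro e
  have h1 := phi_mk_apply link hT phi phi_of L ⟨p, hp⟩
  rw [e, map_one] at h1
  exact h h1.symm

/-! ### Substitution of words for generators -/

section Subst
variable {α β : Type*}

/-- substitution of words for the letters -/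
def expand (w : α → List (β × Bool)) (L : List (α × Bool)) : List (β × Bool) :=
  L.flatMap fun xb => cond xb.2 (w xb.1) (FreeGroup.invRev (w xb.1))

theorem lift_mk_words (rels' : Set (FreeGroup β)) (w : α → List (β × Bool)) (L : List (α × Bool)) :
    FreeGroup.lift (fun x => PresentedGroup.mk rels' (FreeGroup.mk (w x))) (FreeGroup.mk L) =
      PresentedGroup.mk rels' (FreeGroup.mk (expand w L)) := by
  induction L with
  | nil =>
    have e : (FreeGroup.mk [] : FreeGroup β) = 1 := rfl
    have e' : (FreeGroup.mk [] : FreeGroup α) = 1 := rfl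
    show FreeGroup.lift _ (FreeGroup.mk []) = PresentedGroup.mk rels' (FreeGroup.mk [])
    rw [e, e', map_one, map_one]
  | cons xb L ih =>
    have e1 : FreeGroup.mk (xb :: L) = FreeGroup.mk [xb] * FreeGroup.mk L := by
      rw [FreeGroup.mul_mk]; rfl
    have e2 : expand w (xb :: L) = cond xb.2 (w xb.1) (FreeGroup.invRev (w xb.1)) ++ expand w L := by
      simp [expand]
    rw [e1, map_mul, ih, e2, ← FreeGroup.mul_mk, map_mul]
    congr 1
    obtain ⟨x, b⟩ := xb
    cases b
    · have : FreeGroup.mk [(x, false)] = (FreeGroup.of x)⁻¹ := rfl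
      rw [this, map_inv, FreeGroup.lift_apply_of]
      simp only [cond_false]
      rw [← FreeGroup.inv_mk, map_inv]
    · have : FreeGroup.mk [(x, true)] = FreeGroup.of x := rfl
      rw [this, FreeGroup.lift_apply_of]
      simp only [cond_true]

/-- the check of the relators on the base points -/
noncomputable def relChk (w : α → List (Cfsg.Spor.ON.Gen × Bool)) (Ls : List (List (α × Bool))) : Bool :=
  Ls.all fun L => ([5, 2, 1, 0] : List ℕ).all fun b => Nat.beq (table.walkT (pathOf lw (expand w L)) b) b

/-- a homomorphism to the O'Nan group from a presented group whose relators hold on the base -/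
theorem exists_hom (rels' : Set (FreeGroup α)) (relWords' : List (List (α × Bool)))
    (hrels : ∀ r, r ∈ rels' ↔ ∃ L ∈ relWords', r = FreeGroup.mk L)
    (w : α → List (Cfsg.Spor.ON.Gen × Bool)) (hchk : relChk w relWords' = true) :
    ∃ a : PresentedGroup rels' →* ON, ∀ x, a (PresentedGroup.of x) = PresentedGroup.mk rels (FreeGroup.mk (w x)) := by
  have hr : ∀ r ∈ rels', FreeGroup.lift (fun x => (PresentedGroup.mk rels (FreeGroup.mk (w x)) : ON)) r = 1 := by
    intro r hr
    obtain ⟨L, hL, rfl⟩ := (hrels r).mp hr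
    rw [lift_mk_words]
    apply eq_one_of_base
    intro b hb
    unfold relChk at hchk
    rw [List.all_eq_true] at hchk
    have h1 := hchk L hL
    rw [List.all_eq_true] at h1
    exact Nat.eq_of_beq_eq_true (h1 b hb)
  exact ⟨PresentedGroup.toGroup hr, fun x => PresentedGroup.toGroup.of hr⟩

end Subst

end Cfsg.Agent.Lib.Helper3.TCX.OnHom
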