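import Cfsg.Agent.Lib.Helper28.TC2Orbit
import Cfsg.Agent.Lib.Helper3.TCX.OnJTable
set_option autoImplicit false
set_option maxRecDepth 100000

namespace Cfsg.Agent.Lib.Helper3.TCX.OnJOrb
open Cfsg.Agent.Lib.Helper28.TC2Upper Cfsg.Agent.Lib.Helper28.TC2Lower Cfsg.Agent.Lib.Helper28.TC2Orbit

def cO0 : ℕ := 0x20800068ff020247e000123e80c091f404048fa01024828081a3d80c20dea06106ec03083740180a3a008051ce020e6e8010147201839ba000051c4040e6e0030736f81839b78081cdba040e6dc010736e80039b64001cda0040c6cc020636c81039b58081cdb6000e6e0000736301031b6c0c1cd84020c600000046081031b440418d7e060c6bf000635e81031af00c18d88040e6bc010635c01031ae00018d6e020c6b6020635a80831acc0c18d64020c6b1020635801031ac00018d58040c6a90206354008512940814d48040a6a4000535081029a7c0c14d3c040a69e000534e01031a6c04289aa020e69a020a25981031a7c0414d2e04144b5030634a8185124c0814d24060a6d7010734900829a40002891e060a68f0205347018512380428930061448b010534501029a240c14d12040a688010a24480029a180814d0a060a6850105342010512100028906040a683000534081029a00042493a060a67f020923e000491ec0810cf60008679010433d008299e00810cee0608676030433b010219d00410ce600086710105338010491bc0c2495a020c66d000923a808491ac0c248d6021246a01043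34018219a00810cce061246701092340002199808248da06124640009231810219880c10cc402086610209230800491800c10cc0040865f010922f00821a740814ce6060865a020822c818411940810caa0610455010822a008199a40810ca60406652030332901019948000cca0041044f02033270081993400208b6040864b0308225810411280c20894021044b000822481041120080cc8e0606647010332301041118002088a060664401082218181990c080cc840210443000332081041114080cce6040863e0307227018198f00c1c878000e477010431c808390e8001c870040e437020231b018118d80408c6a040e435000721a018118d00808c66020e4320307219008390c4081c862000e4300302318010118bc041c868000462e0207218008118b4081c858060e45e0304315018310a80018852060c4290106214018310a0041884e040c4270006213018098980804c4a020c42601013120103108c0818844020c4260001310810310800c1883e060c41f000620e818290740414838040a41b020520d008290000000c32040a418030520d8002905c081482c060a418000520b00829050001c426040841300042090082104408108200608410010420701821038081081a060c20d01061060081902c080c814060640a020320480828828000c810040a207020220301811018040880a0408205000410201809010080480602062000000201010108040c04400000020000000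
/-- the orbits of the subgroup on the points -/
def orbData : OrbData where
  ow := 29
  OM := 536870912
  CH := 1024
  col := (BT.leaf cO0)
  gens := (BT.node 1 (BT.node 0 (BT.leaf [0]) (BT.leaf [1])) (BT.node 2 (BT.leaf [2]) (BT.leaf [3])))
  roots := (BT.node 2 (BT.node 1 (BT.node 0 (BT.leaf 0) (BT.leaf 1)) (BT.leaf 4)) (BT.node 3 (BT.leaf 38) (BT.leaf 232)))

end Cfsg.Agent.Lib.Helper3.TCX.OnJOrb
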