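import Cfsg.Agent.Lib.Helper28.TC2Tower
import Cfsg.Agent.Lib.Helper28.TC2Simple
import Cfsg.Agent.Lib.Helper28.TC2Bsgs
import Cfsg.Agent.Lib.Helper28.TC2Cover
import Cfsg.Agent.Lib.Helper3.TCX.OnJMain
import Cfsg.Agent.Lib.Helper3.TCX.OnJLMain
import Cfsg.Agent.Lib.Helper3.TCX.OnJBSMain
import Cfsg.Agent.Lib.Helper3.TCX.OnJOrbChk
import Cfsg.Agent.Lib.Helper3.TCX.OnJFinal
import Cfsg.Agent.Lib.Helper3.TCX.OnBase
set_option autoImplicit false
set_option maxRecDepth 100000

/-!
# A presentation of the Janko group `J₁` on five involutions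

The group `P = ⟨a, b, c, d, e⟩` with the Coxeter relations of the graph `a -3- b -5- c -3- d -5- e` and the
relators `(abc)^5`, `(bcd)^5`, `(cde)^5 a` is simple of order `175560`: `⟨a, b, c, d⟩` is a quotient of a
group of order 660 and has index 266.
-/

namespace Cfsg.Agent.Lib.Helper3.TCX.OnJSimple
open Cfsg.Agent.Lib.Helper28.TC2Upper Cfsg.Agent.Lib.Helper28.TC2Lower Cfsg.Agent.Lib.Helper28.TC2Orbit
open Cfsg.Agent.Lib.Helper28.TC2Glue Cfsg.Agent.Lib.Helper28.TC2GlueOrb Cfsg.Agent.Lib.Helper28.TC2Simple
open Cfsg.Agent.Lib.Helper28.TC2Bsgs Cfsg.Agent.Lib.Helper28.TC2Tower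
open Cfsg.Agent.Lib.Helper3.TCX.OnJTable Cfsg.Agent.Lib.Helper3.TCX.OnJLink
open Cfsg.Agent.Lib.Helper3.TCX.OnJOrb Cfsg.Agent.Lib.Helper3.TCX.OnJOrbChk Cfsg.Agent.Lib.Helper3.TCX.OnJFinal

/-- the presented group -/
abbrev P : Type := PresentedGroup rels

/-- the sub-presentation on `a, b, c, d` has order 660 -/
theorem cardS : Finite (PresentedGroup OnJLLink.rels) ∧ Nat.card (PresentedGroup OnJLLink.rels) = 660 := by
  have h : ((Subgroup.closure OnJLLink.S).map (PresentedGroup.mk OnJLLink.rels)).index = 660 := OnJLMain.main.1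
  have e : (Subgroup.closure OnJLLink.S).map (PresentedGroup.mk OnJLLink.rels) = ⊥ := by
    show (Subgroup.closure {1}).map _ = ⊥
    rw [Subgroup.closure_singleton_one, Subgroup.map_bot]
  rw [e] at h
  exact card_of_index_bot (by norm_num) h

theorem upS : ∀ L ∈ OnJLLink.relWords, upWord OnJLDef.up L ∈ relWords := by decide +kernel

/-- the presented group has order at most 175560 -/
theorem card0 : Finite P ∧ Nat.card P ≤ 175560 := by
  have := cardS.1
  have hrel := hrel_of_words rels OnJLLink.rels OnJLDef.up relWords OnJLLink.relWords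
    link.hrels OnJLLink.link.hrels upS
  have hS : ∀ s ∈ S, ∃ b, s = FreeGroup.of (OnJLDef.up b) := by
    intro s hs
    simp only [S, Set.mem_insert_iff, Set.mem_singleton_iff] at hs
    rcases hs with rfl | rfl | rfl | rfl
    exacts [⟨.a, rfl⟩, ⟨.b, rfl⟩, ⟨.c, rfl⟩, ⟨.d, rfl⟩]
  obtain ⟨hfin, hle⟩ := card_le_of_subpres rels OnJLLink.rels OnJLDef.up hrel S hS
  have hidx : ((Subgroup.closure S).map (PresentedGroup.mk rels)).index = 266 := OnJMain.main.1
  have := hfin
  refine ⟨finite_of_index _ (by rw [hidx]; norm_num), ?_⟩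
  exact card_le_of_index _ hidx (le_trans hle (le_of_eq cardS.2))

theorem hcnt : ∀ c, c < 5 → (Finset.univ.filter fun p : Fin table.n => orbData.oid p.val = c).card = cnt c := by
  intro c hc
  have h := ncard_class orbData table.n c
  have e : {q : Fin table.n | orbData.oid q.val = c} =
      ↑(Finset.univ.filter fun p : Fin table.n => orbData.oid p.val = c) := by
    ext q; simp
  rw [e, Set.ncard_coe_finset] at h
  rw [h]
  interval_cases c
  · exact cntc0
  · exact cntc1
  · exact cntc2
  · exact cntc3
  · exact cntc4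

/-- the generators are involutions -/
theorem sq (x : OnJDef.Gen) : (PresentedGroup.of x : P) * PresentedGroup.of x = 1 := by
  have := cox_rel_gen OnJDef.edges OnJDef.extra x x 1 (by cases x <;> decide) (by cases x <;> decide)
    (by simp [Cfsg.Spor.coxLabel])
  rwa [pow_one] at this

/-- words forcing the triviality of homomorphisms to a group of order 2 -/
def parWords : List (List (OnJDef.Gen × Bool)) :=
  [[(.a, true), (.b, true), (.a, true), (.b, true), (.a, true), (.b, true)],
   [(.b, true), (.c, true), (.b, true), (.c, true), (.b, true), (.c, true), (.b, true), (.c, true), (.b, true), (.c, true)],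
   [(.c, true), (.d, true), (.c, true), (.d, true), (.c, true), (.d, true)],
   [(.d, true), (.e, true), (.d, true), (.e, true), (.d, true), (.e, true), (.d, true), (.e, true), (.d, true), (.e, true)],
   [(.a, true), (.b, true), (.c, true), (.a, true), (.b, true), (.c, true), (.a, true), (.b, true), (.c, true),
    (.a, true), (.b, true), (.c, true), (.a, true), (.b, true), (.c, true)]]

theorem parWords_mem : ∀ L ∈ parWords, L ∈ relWords := by decide +kernel

/-- the presented group has no subgroup of index 2 -/
theorem hno2 (K : Subgroup P) : K.index ≠ 2 := by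
  apply Cfsg.Agent.Lib.Helper28.TC2Cover.no_index_two_of_parity rels parWords
  · intro L hL
    exact (link.hrels _).mpr ⟨L, parWords_mem L hL, rfl⟩
  · intro v h
    have h1 := h _ (List.mem_cons_self)
    have h2 := h _ (List.mem_cons_of_mem _ List.mem_cons_self)
    have h3 := h _ (List.mem_cons_of_mem _ (List.mem_cons_of_mem _ List.mem_cons_self))
    have h4 := h _ (List.mem_cons_of_mem _ (List.mem_cons_of_mem _ (List.mem_cons_of_mem _ List.mem_cons_self)))
    have h5 := h _ (List.mem_cons_of_mem _ (List.mem_cons_of_mem _ (List.mem_cons_of_mem _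
      (List.mem_cons_of_mem _ List.mem_cons_self))))
    simp only [Cfsg.Agent.Lib.Helper28.TC2Cover.par] at h1 h2 h3 h4 h5
    generalize hA : v .a = A at *
    generalize hB : v .b = B at *
    generalize hC : v .c = C at *
    generalize hD : v .d = D at *
    generalize hE : v .e = E at *
    have key : A = false ∧ B = false ∧ C = false ∧ D = false ∧ E = false := by
      revert h1 h2 h3 h4 h5
      cases A <;> cases B <;> cases C <;> cases D <;> cases E <;> simp
    intro x
    cases x
    · rw [hA]; exact key.1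
    · rw [hB]; exact key.2.1
    · rw [hC]; exact key.2.2.1
    · rw [hD]; exact key.2.2.2.1
    · rw [hE]; exact key.2.2.2.2

/-- the presented group is simple of order 175560 -/
theorem main : IsSimpleGroup P ∧ Nat.card P = 175560 := by
  obtain ⟨hidx, φ, hφ, f, hbij, hequiv, h0⟩ := OnJMain.main
  obtain ⟨hfin, hle⟩ := card0
  haveI : Finite (PresentedGroup rels) := hfin
  have hlow : 175560 ≤ Nat.card φ.range :=
    le_trans OnJBSMain.card_base (card_baseGroup_le OnJMain.hT OnJBSMain.hTB rfl (by decide)
      OnJBSMain.hagree φ.range (sigma_mem_range link OnJMain.hT φ hφ))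
  obtain ⟨hinj, hcard⟩ := injective_of_card_le φ hle hlow
  refine ⟨?_, hcard⟩
  have hidx' : ((Subgroup.closure S).map (PresentedGroup.mk rels)).index = 266 := hidx
  have hcardH : Nat.card ((Subgroup.closure S).map (PresentedGroup.mk rels)) = 660 := by
    have := ((Subgroup.closure S).map (PresentedGroup.mk rels)).index_mul_card
    rw [hidx', hcard] at this
    omega
  have hcore := normalCore_eq_bot _ φ f hbij.2 hequiv hinj
  have hne : (Subgroup.closure S).map (PresentedGroup.mk rels) ≠ ⊤ := by
    intro e
    rw [e, Subgroup.index_top] at hidx'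
    norm_num at hidx'
  have hgens' := BT.All_of_all (fun _ h => of_decide_eq_true h) _ hgens
  have hmax : ∀ K : Subgroup (PresentedGroup rels), (Subgroup.closure S).map (PresentedGroup.mk rels) ≤ K →
      K = (Subgroup.closure S).map (PresentedGroup.mk rels) ∨ K = ⊤ :=
    max_of_suborbits' _ OnJMain.hn φ f hbij hequiv (fun q => orbData.oid q.val) 5
      (fun p => hclsAll p.val p.2)
      (fun p q hpq => exists_perm_of_oid_eq link OnJMain.hT φ hφ orbData subPaths hsubmem hsubmem' hclosed
        hgens' hconn p q hpq)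
      cnt hcnt hno2 harith
  have ht : (PresentedGroup.mk rels (FreeGroup.mk tWord)) ^ 19 = 1 := by
    apply hinj
    rw [map_one, ← map_pow, mk_pow]
    apply phi_mk_eq_one link OnJMain.hT φ hφ
    rw [tPath_eq]
    exact htfix
  -- the normal closure of `t`
  have hnc : PresentedGroup.mk rels (FreeGroup.mk ncWord) = 1 := by
    apply hinj
    rw [map_one]
    apply phi_mk_eq_one link OnJMain.hT φ hφ
    rw [ncPath_eq]
    exact hncfix
  set t : P := PresentedGroup.mk rels (FreeGroup.mk tWord) with ht_def
  set N : Subgroup P := Subgroup.normalClosure {t} with hN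
  have htN : t ∈ N := Subgroup.subset_normalClosure rfl
  have haN : (PresentedGroup.of OnJDef.Gen.a : P) ∈ N := by
    have e : FreeGroup.mk ncWord = (FreeGroup.mk u1Word)⁻¹ * FreeGroup.mk tWord * FreeGroup.mk u1Word *
        ((FreeGroup.mk u2Word)⁻¹ * FreeGroup.mk tWord * FreeGroup.mk u2Word) * FreeGroup.of OnJDef.Gen.a := by
      simp only [FreeGroup.inv_mk, FreeGroup.mul_mk, FreeGroup.of]
      rfl
    rw [e, map_mul, map_mul, map_mul, map_mul, map_mul, map_mul, map_inv, map_inv] at hnc
    have h1 : (PresentedGroup.mk rels (FreeGroup.mk u1Word))⁻¹ * t * PresentedGroup.mk rels (FreeGroup.mk u1Word) ∈ N :=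
      Subgroup.normalClosure_normal.conj_mem' t htN _
    have h2 : (PresentedGroup.mk rels (FreeGroup.mk u2Word))⁻¹ * t * PresentedGroup.mk rels (FreeGroup.mk u2Word) ∈ N :=
      Subgroup.normalClosure_normal.conj_mem' t htN _
    have h3 := N.mul_mem h1 h2
    have h4 : (PresentedGroup.of OnJDef.Gen.a : P) = ((PresentedGroup.mk rels (FreeGroup.mk u1Word))⁻¹ * t * PresentedGroup.mk rels (FreeGroup.mk u1Word) *
        ((PresentedGroup.mk rels (FreeGroup.mk u2Word))⁻¹ * t * PresentedGroup.mk rels (FreeGroup.mk u2Word)))⁻¹ :=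
      (inv_eq_of_mul_eq_one_right hnc).symm ▸ rfl
    rw [h4]
    exact N.inv_mem h3
  have hcl : Subgroup.normalClosure {t} = ⊤ := by
    apply normalClosure_eq_top_of_gens
    have q1 : ∀ x : OnJDef.Gen, (PresentedGroup.of x : P) ∈ N ↔ (QuotientGroup.mk' N) (PresentedGroup.of x) = 1 := by
      intro x
      rw [QuotientGroup.mk'_apply, QuotientGroup.eq_one_iff]
    have step : ∀ (x y : OnJDef.Gen) (m : ℕ), Odd m → Cfsg.Spor.coxLabel OnJDef.edges x y = m →
        (PresentedGroup.of x : P) ∈ N → (PresentedGroup.of y : P) ∈ N := by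
      intro x y m hm hl hx
      rw [q1] at hx ⊢
      have hr := cox_rel_gen OnJDef.edges OnJDef.extra x y m (by cases x <;> decide) (by cases y <;> decide) hl
      have hr' := congrArg (QuotientGroup.mk' N) hr
      rw [map_pow, map_mul, map_one] at hr'
      have hy2 := congrArg (QuotientGroup.mk' N) (sq y)
      rw [map_mul, map_one] at hy2
      exact eq_one_of_odd_cox hx hy2 hm hr'
    have hb := step .a .b 3 (by decide) (by decide) haN
    have hc := step .b .c 5 (by decide) (by decide) hb
    have hd := step .c .d 3 (by decide) (by decide) hc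
    have he := step .d .e 5 (by decide) (by decide) hd
    intro x
    cases x
    exacts [haN, hb, hc, hd, he]
  exact isSimpleGroup_of_max _ hcore hne hmax 19 (by norm_num) (by rw [hcardH]; norm_num) _ ht hcl

end Cfsg.Agent.Lib.Helper3.TCX.OnJSimple
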