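import Cfsg.Agent.Lib.Helper3.TCX.OnHom
set_option autoImplicit false
set_option maxRecDepth 1000000
set_option maxHeartbeats 0

namespace Cfsg.Agent.Lib.Helper3.TCX.OnMChk
open Cfsg.Agent.Lib.Helper28.TC2Upper Cfsg.Agent.Lib.Helper28.TC2Lower Cfsg.Agent.Lib.Helper28.TC2Glue
open Cfsg.Agent.Lib.Helper3.TCX.OnHom Cfsg.Agent.Lib.Helper3.TCX.OnHomData

/-- the relators of the presentation of `M₁₁` hold on the base points -/
theorem chk : relChk mw OnMLink.relWords = true := by decide +kernel

/-- the image of the first generator moves the point 0 -/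
theorem move : Nat.beq (Cfsg.Agent.Lib.Helper28.TCONTable.table.walkT (pathOf Cfsg.Agent.Lib.Helper28.TCONLink.lw (mw .a)) 0) 0 = false := by
  decide +kernel

end Cfsg.Agent.Lib.Helper3.TCX.OnMChk
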