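import Cfsg.Agent.Lib.Helper28.TC2Simple
import Cfsg.Agent.Lib.Helper3.TCX.OnMMain
set_option autoImplicit false
set_option maxRecDepth 100000
set_option maxHeartbeats 0

namespace Cfsg.Agent.Lib.Helper3.TCX.OnMFinal
open Cfsg.Agent.Lib.Helper28.TC2Upper Cfsg.Agent.Lib.Helper28.TC2Lower Cfsg.Agent.Lib.Helper28.TC2Glue
open Cfsg.Agent.Lib.Helper28.TC2Simple Cfsg.Agent.Lib.Helper3.TCX.OnMTable Cfsg.Agent.Lib.Helper3.TCX.OnMLink

/-- the element of order 11 -/
def tWord : List (Cfsg.Agent.Lib.Helper3.TCX.OnMDef.Gen × Bool) := [(.a, true), (.b, true), (.e, true)]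
/-- the path of its power -/
def tPath : List ℕ := [4, 1, 0, 4, 1, 0, 4, 1, 0, 4, 1, 0, 4, 1, 0, 4, 1, 0, 4, 1, 0, 4, 1, 0, 4, 1, 0, 4, 1, 0, 4, 1, 0]
theorem tPath_eq : pathOf lw (List.replicate 11 tWord).flatten = tPath := by decide +kernel
theorem tp0 : table.relOK [tPath] 0 66 = true := by decide +kernel

theorem htfix : ∀ p, p < table.n → table.walkT tPath p = p := by
  intro p hp
  have hp' : p < 66 := hp
  exact (Table.relOK_iff [tPath] 0 66).mp tp0 p (by omega) (by omega) _ (List.mem_singleton.mpr rfl)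

/-- conjugating words -/
def u1Word : List (Cfsg.Agent.Lib.Helper3.TCX.OnMDef.Gen × Bool) := [(.d, true), (.e, true)]
def u2Word : List (Cfsg.Agent.Lib.Helper3.TCX.OnMDef.Gen × Bool) := [(.e, true), (.d, true), (.c, true), (.e, true), (.d, true), (.e, true), (.c, true)]
/-- the first and the second conjugate of `t` or its inverse -/
def c1Word : List (Cfsg.Agent.Lib.Helper3.TCX.OnMDef.Gen × Bool) := FreeGroup.invRev u1Word ++ tWord ++ u1Word
def c2Word : List (Cfsg.Agent.Lib.Helper3.TCX.OnMDef.Gen × Bool) := FreeGroup.invRev u2Word ++ FreeGroup.invRev tWord ++ u2Word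
/-- the product of the two conjugates with the first generator -/
def ncWord : List (Cfsg.Agent.Lib.Helper3.TCX.OnMDef.Gen × Bool) := c1Word ++ c2Word ++ [(.a, true)]
def ncPath : List ℕ := [0, 2, 4, 3, 4, 2, 3, 4, 0, 1, 4, 4, 3, 2, 4, 3, 4, 2, 4, 3, 4, 1, 0, 3, 4]
theorem ncPath_eq : pathOf lw ncWord = ncPath := by decide +kernel
theorem np0 : table.relOK [ncPath] 0 66 = true := by decide +kernel

theorem hncfix : ∀ p, p < table.n → table.walkT ncPath p = p := by
  intro p hp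
  have hp' : p < 66 := hp
  exact (Table.relOK_iff [ncPath] 0 66).mp np0 p (by omega) (by omega) _ (List.mem_singleton.mpr rfl)

/-- the suborbit lengths -/
def cnt (c : ℕ) : ℕ := [1, 20, 30, 15].getD c 0

theorem harith : ∀ C ∈ (Finset.range 4).powerset, (∑ c ∈ C, cnt c) ∣ 66 →
    (∑ c ∈ C, cnt c) = 1 ∨ (∑ c ∈ C, cnt c) = 66 := by decide +kernel

end Cfsg.Agent.Lib.Helper3.TCX.OnMFinal
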