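import Cfsg.Agent.Lib.Helper28.TC2Orbit
import Cfsg.Agent.Lib.Helper3.TCX.OnMTable
set_option autoImplicit false
set_option maxRecDepth 100000

namespace Cfsg.Agent.Lib.Helper3.TCX.OnMOrb
open Cfsg.Agent.Lib.Helper28.TC2Upper Cfsg.Agent.Lib.Helper28.TC2Lower Cfsg.Agent.Lib.Helper28.TC2Orbit

def cO0 : ℕ := 0x1e80821b9020625c06086b404109601019b7010537c000a4a4081c9f0182928020235e04086b40c10980182124010627402104f00c18db81829a0000325600066ac080ccf010191d030233a020469800109d818311a0101340060647c040c8f8181935020522c020e45404144a01811140102226040444c00088d00009910104154060a4000000c681820a7020424c060846c081886810208a0201214020241c0c0c438101886020310a0606214080c428001897020520804042000000818181083020210600042080c0841008108103011020202204000440000008000000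
/-- the orbits of the subgroup on the points -/
def orbData : OrbData where
  ow := 27
  OM := 134217728
  CH := 1024
  col := (BT.leaf cO0)
  gens := (BT.node 1 (BT.node 0 (BT.leaf [0]) (BT.leaf [1])) (BT.node 2 (BT.leaf [2]) (BT.leaf [3])))
  roots := (BT.node 1 (BT.node 0 (BT.leaf 0) (BT.leaf 1)) (BT.node 2 (BT.leaf 10) (BT.leaf 26)))

end Cfsg.Agent.Lib.Helper3.TCX.OnMOrb
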