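import Cfsg.Agent.Lib.Helper28.TC2Orbit
set_option autoImplicit false
set_option maxRecDepth 100000

namespace Cfsg.Agent.Lib.Helper3.TCX.OnMSTable
open Cfsg.Agent.Lib.Helper28.TC2Upper Cfsg.Agent.Lib.Helper28.TC2Lower Cfsg.Agent.Lib.Helper28.TC2Orbit

def cT0 : ℕ := 0xe7c36ebef9f2f6c583adde972cd7e5538d3a1be6ee992b66a91174c2d105fe6c8f5d6372df0df6b79b5b62bed2e5962b2aaaae9264b467a39d2659f428239c8d10d437d00b182ef1d9b70459b268407b048b45a84ea45091a3111e3a149923254a02080c7070c20001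
def cT1 : ℕ := 0xe9c7777d5a3b64c7d6fe1b9ced72ad629f0df3f64cdb3a4eb97a6266839e1becb02339c579b60b6ceeb26945759aaaebd251513a9609282d43350479520ebb3715c18845de3f7a509ba2465bb51e5588d5e3112c5424f264a8c3073e20e1a0610b0e204408a1600282
def cT2 : ℕ := 0xebcbbecdbdb367d3879f4bb6f7d8e1c6a52a36774d97575c8d51b1688502f657b931ba70ef035befd95c79697ad615d556949e9c79d411cf4a826223d253438a6a21c2f04c957cc5b9272d083622cc72c18b948a562d4080e90fa10a7421b2c60114260478d0024303
def cT3 : ℕ := 0xeddf7f1e1a7a73eb8f15ecb9395ab3575eaddb67509fb25538fa33c38b1333fb8f1de0bf85bb969759b1b6c2bd6b0b1729a8a1352a2966229a84fcb92764463904cc2305a03e28f5d1322e1b0f6a3992f1a2d6ab12a842748191854078d833408b9502488001828384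
def cR0 : ℕ := 0xe601c0036806b01d4019c03280e400c4018006f805d01b8056c02c805701ac0150069815200a0033c02680cc029601280648148038e011406200420182050001f80be027a06f001d00b9027000dc05b0135036802cc09901b1006200bc057012d005802ac09501a90150049c0d30026004a029009181a2014204800cf801f023c067404e801c013604680cc8098022e065800b011503280250049811203220044088018f011e0638087008d0218062c005810a031202240c40108020e06180430185020a00140820183010606080810002030204040408180020002000000000
/-- table chunks -/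
def colTT : BT ℕ := (BT.node 1 (BT.node 0 (BT.leaf cT0) (BT.leaf cT1)) (BT.node 2 (BT.leaf cT2) (BT.leaf cT3)))
/-- spanning tree chunks -/
def treeT : BT ℕ := (BT.leaf cR0)
/-- relator paths -/
def relPaths : List (List ℕ) := [[0, 0], [1, 0, 1, 0, 1, 0], [2, 0, 2, 0], [3, 0, 3, 0], [0, 1, 0, 1, 0, 1], [1, 1], [2, 1, 2, 1, 2, 1], [3, 1, 3, 1], [0, 2, 0, 2], [1, 2, 1, 2, 1, 2], [2, 2], [3, 2, 3, 2, 3, 2], [0, 3, 0, 3], [1, 3, 1, 3], [2, 3, 2, 3, 2, 3], [3, 3]]
/-- subgroup generator paths -/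
def subPaths : List (List ℕ) := [[]]
/-- the relator paths that are checked directly -/
def chkPaths : List (List ℕ) := [[1, 0, 1, 0, 1, 0], [2, 0, 2, 0], [3, 0, 3, 0], [2, 1, 2, 1, 2, 1], [3, 1, 3, 1], [3, 2, 3, 2, 3, 2]]
/-- the coset table -/
def table : Table where
  n := 120
  k := 4
  w := 7
  M := 128
  CH := 1024
  NCH := 1
  col := colTT
  inv := (BT.node 2 (BT.node 1 (BT.node 0 (BT.leaf 0) (BT.leaf 1)) (BT.leaf 2)) (BT.node 3 (BT.leaf 3) (BT.leaf 4)))
  tw := 15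
  TM := 32768
  tree := treeT

end Cfsg.Agent.Lib.Helper3.TCX.OnMSTable
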