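import Cfsg.Agent.Lib.Helper28.TC2Tower
import Cfsg.Agent.Lib.Helper28.TC2Simple
import Cfsg.Agent.Lib.Helper28.TC2Bsgs
import Cfsg.Agent.Lib.Helper3.TCX.OnMMain
import Cfsg.Agent.Lib.Helper3.TCX.OnMSMain
import Cfsg.Agent.Lib.Helper3.TCX.OnMBSMain
import Cfsg.Agent.Lib.Helper3.TCX.OnMOrbChk
import Cfsg.Agent.Lib.Helper3.TCX.OnMFinal
import Cfsg.Agent.Lib.Helper3.TCX.OnBase
set_option autoImplicit false
set_option maxRecDepth 100000

/-!
# A presentation of the Mathieu group `M₁₁` on five involutions

The group `P = ⟨a, b, c, d, e⟩` with the Coxeter relations of `OnMDef.edges` and one further relator is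
simple of order `7920`: `⟨a, b, c, d⟩` is a quotient of the symmetric group of degree 5 and has index 66.
-/

namespace Cfsg.Agent.Lib.Helper3.TCX.OnMSimple
open Cfsg.Agent.Lib.Helper28.TC2Upper Cfsg.Agent.Lib.Helper28.TC2Lower Cfsg.Agent.Lib.Helper28.TC2Orbit
open Cfsg.Agent.Lib.Helper28.TC2Glue Cfsg.Agent.Lib.Helper28.TC2GlueOrb Cfsg.Agent.Lib.Helper28.TC2Simple
open Cfsg.Agent.Lib.Helper28.TC2Bsgs Cfsg.Agent.Lib.Helper28.TC2Tower
open Cfsg.Agent.Lib.Helper3.TCX.OnMTable Cfsg.Agent.Lib.Helper3.TCX.OnMLink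
open Cfsg.Agent.Lib.Helper3.TCX.OnMOrb Cfsg.Agent.Lib.Helper3.TCX.OnMOrbChk Cfsg.Agent.Lib.Helper3.TCX.OnMFinal

/-- the presented group -/
abbrev P : Type := PresentedGroup rels

/-- the sub-presentation on `a, b, c, d` has order 120 -/
theorem cardS : Finite (PresentedGroup OnMSLink.rels) ∧ Nat.card (PresentedGroup OnMSLink.rels) = 120 := by
  have h : ((Subgroup.closure OnMSLink.S).map (PresentedGroup.mk OnMSLink.rels)).index = 120 := OnMSMain.main.1
  have e : (Subgroup.closure OnMSLink.S).map (PresentedGroup.mk OnMSLink.rels) = ⊥ := by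
    show (Subgroup.closure {1}).map _ = ⊥
    rw [Subgroup.closure_singleton_one, Subgroup.map_bot]
  rw [e] at h
  exact card_of_index_bot (by norm_num) h

theorem upS : ∀ L ∈ OnMSLink.relWords, upWord OnMSDef.up L ∈ relWords := by decide +kernel

/-- the presented group has order at most 7920 -/
theorem card0 : Finite P ∧ Nat.card P ≤ 7920 := by
  have := cardS.1
  have hrel := hrel_of_words rels OnMSLink.rels OnMSDef.up relWords OnMSLink.relWords
    link.hrels OnMSLink.link.hrels upS
  have hS : ∀ s ∈ S, ∃ b, s = FreeGroup.of (OnMSDef.up b) := by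
    intro s hs
    simp only [S, Set.mem_insert_iff, Set.mem_singleton_iff] at hs
    rcases hs with rfl | rfl | rfl | rfl
    exacts [⟨.a, rfl⟩, ⟨.b, rfl⟩, ⟨.c, rfl⟩, ⟨.d, rfl⟩]
  obtain ⟨hfin, hle⟩ := card_le_of_subpres rels OnMSLink.rels OnMSDef.up hrel S hS
  have hidx : ((Subgroup.closure S).map (PresentedGroup.mk rels)).index = 66 := OnMMain.main.1
  have := hfin
  refine ⟨finite_of_index _ (by rw [hidx]; norm_num), ?_⟩
  exact card_le_of_index _ hidx (le_trans hle (le_of_eq cardS.2))

theorem hcnt : ∀ c, c < 4 → (Finset.univ.filter fun p : Fin table.n => orbData.oid p.val = c).card = cnt c := by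
  intro c hc
  have h := ncard_class orbData table.n c
  have e : {q : Fin table.n | orbData.oid q.val = c} =
      ↑(Finset.univ.filter fun p : Fin table.n => orbData.oid p.val = c) := by
    ext q; simp
  rw [e, Set.ncard_coe_finset] at h
  rw [h]
  interval_cases c
  · exact cntc0
  · exact cntc1
  · exact cntc2
  · exact cntc3

/-- the generators are involutions -/
theorem sq (x : OnMDef.Gen) : (PresentedGroup.of x : P) * PresentedGroup.of x = 1 := by
  have := cox_rel_gen OnMDef.edges OnMDef.extra x x 1 (by cases x <;> decide) (by cases x <;> decide)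
    (by simp [Cfsg.Spor.coxLabel])
  rwa [pow_one] at this

/-- the presented group is simple of order 7920 -/
theorem main : IsSimpleGroup P ∧ Nat.card P = 7920 := by
  obtain ⟨hidx, φ, hφ, f, hbij, hequiv, h0⟩ := OnMMain.main
  obtain ⟨hfin, hle⟩ := card0
  haveI : Finite (PresentedGroup rels) := hfin
  have hlow : 7920 ≤ Nat.card φ.range :=
    le_trans OnMBSMain.card_base (card_baseGroup_le OnMMain.hT OnMBSMain.hTB rfl (by decide)
      OnMBSMain.hagree φ.range (sigma_mem_range link OnMMain.hT φ hφ))
  obtain ⟨hinj, hcard⟩ := injective_of_card_le φ hle hlow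
  refine ⟨?_, hcard⟩
  have hidx' : ((Subgroup.closure S).map (PresentedGroup.mk rels)).index = 66 := hidx
  have hcardH : Nat.card ((Subgroup.closure S).map (PresentedGroup.mk rels)) = 120 := by
    have := ((Subgroup.closure S).map (PresentedGroup.mk rels)).index_mul_card
    rw [hidx', hcard] at this
    omega
  have hcore := normalCore_eq_bot _ φ f hbij.2 hequiv hinj
  have hne : (Subgroup.closure S).map (PresentedGroup.mk rels) ≠ ⊤ := by
    intro e
    rw [e, Subgroup.index_top] at hidx'
    norm_num at hidx'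
  have hgens' := BT.All_of_all (fun _ h => of_decide_eq_true h) _ hgens
  have hmax : ∀ K : Subgroup (PresentedGroup rels), (Subgroup.closure S).map (PresentedGroup.mk rels) ≤ K →
      K = (Subgroup.closure S).map (PresentedGroup.mk rels) ∨ K = ⊤ :=
    max_of_suborbits _ OnMMain.hn φ f hbij hequiv (fun q => orbData.oid q.val) 4
      (fun p => hclsAll p.val p.2)
      (fun p q hpq => exists_perm_of_oid_eq link OnMMain.hT φ hφ orbData subPaths hsubmem hsubmem' hclosed
        hgens' hconn p q hpq)
      cnt hcnt harith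
  have ht : (PresentedGroup.mk rels (FreeGroup.mk tWord)) ^ 11 = 1 := by
    apply hinj
    rw [map_one, ← map_pow, mk_pow]
    apply phi_mk_eq_one link OnMMain.hT φ hφ
    rw [tPath_eq]
    exact htfix
  -- the normal closure of `t`
  have hnc : PresentedGroup.mk rels (FreeGroup.mk ncWord) = 1 := by
    apply hinj
    rw [map_one]
    apply phi_mk_eq_one link OnMMain.hT φ hφ
    rw [ncPath_eq]
    exact hncfix
  set t : P := PresentedGroup.mk rels (FreeGroup.mk tWord) with ht_def
  set N : Subgroup P := Subgroup.normalClosure {t} with hN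
  have htN : t ∈ N := Subgroup.subset_normalClosure rfl
  have haN : (PresentedGroup.of OnMDef.Gen.a : P) ∈ N := by
    have e : FreeGroup.mk ncWord = (FreeGroup.mk u1Word)⁻¹ * FreeGroup.mk tWord * FreeGroup.mk u1Word *
        ((FreeGroup.mk u2Word)⁻¹ * (FreeGroup.mk tWord)⁻¹ * FreeGroup.mk u2Word) * FreeGroup.of OnMDef.Gen.a := by
      simp only [FreeGroup.inv_mk, FreeGroup.mul_mk, FreeGroup.of]
      rfl
    rw [e, map_mul, map_mul, map_mul, map_mul, map_mul, map_mul, map_inv, map_inv, map_inv] at hnc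
    have h1 : (PresentedGroup.mk rels (FreeGroup.mk u1Word))⁻¹ * t * PresentedGroup.mk rels (FreeGroup.mk u1Word) ∈ N :=
      Subgroup.normalClosure_normal.conj_mem' t htN _
    have h2 : (PresentedGroup.mk rels (FreeGroup.mk u2Word))⁻¹ * t⁻¹ * PresentedGroup.mk rels (FreeGroup.mk u2Word) ∈ N :=
      Subgroup.normalClosure_normal.conj_mem' _ (N.inv_mem htN) _
    have h3 := N.mul_mem h1 h2
    have h4 : (PresentedGroup.of OnMDef.Gen.a : P) = ((PresentedGroup.mk rels (FreeGroup.mk u1Word))⁻¹ * t * PresentedGroup.mk rels (FreeGroup.mk u1Word) *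
        ((PresentedGroup.mk rels (FreeGroup.mk u2Word))⁻¹ * t⁻¹ * PresentedGroup.mk rels (FreeGroup.mk u2Word)))⁻¹ :=
      (inv_eq_of_mul_eq_one_right hnc).symm ▸ rfl
    rw [h4]
    exact N.inv_mem h3
  have hcl : Subgroup.normalClosure {t} = ⊤ := by
    apply normalClosure_eq_top_of_gens
    have q1 : ∀ x : OnMDef.Gen, (PresentedGroup.of x : P) ∈ N ↔ (QuotientGroup.mk' N) (PresentedGroup.of x) = 1 := by
      intro x
      rw [QuotientGroup.mk'_apply, QuotientGroup.eq_one_iff]
    have step : ∀ (x y : OnMDef.Gen) (m : ℕ), Odd m → Cfsg.Spor.coxLabel OnMDef.edges x y = m →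
        (PresentedGroup.of x : P) ∈ N → (PresentedGroup.of y : P) ∈ N := by
      intro x y m hm hl hx
      rw [q1] at hx ⊢
      have hr := cox_rel_gen OnMDef.edges OnMDef.extra x y m (by cases x <;> decide) (by cases y <;> decide) hl
      have hr' := congrArg (QuotientGroup.mk' N) hr
      rw [map_pow, map_mul, map_one] at hr'
      have hy2 := congrArg (QuotientGroup.mk' N) (sq y)
      rw [map_mul, map_one] at hy2
      exact eq_one_of_odd_cox hx hy2 hm hr'
    have hb := step .a .b 3 (by decide) (by decide) haN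
    have hc := step .b .c 3 (by decide) (by decide) hb
    have hd := step .c .d 3 (by decide) (by decide) hc
    have he := step .c .e 3 (by decide) (by decide) hc
    intro x
    cases x
    exacts [haN, hb, hc, hd, he]
  exact isSimpleGroup_of_max _ hcore hne hmax 11 (by norm_num) (by rw [hcardH]; norm_num) _ ht hcl

end Cfsg.Agent.Lib.Helper3.TCX.OnMSimple
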