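import Cfsg.Agent.Lib.Helper3.TCX.RuKBSTable
import Cfsg.Agent.Lib.Helper3.TCX.RuKTable
set_option autoImplicit false
set_option maxRecDepth 100000
set_option maxHeartbeats 0

namespace Cfsg.Agent.Lib.Helper3.TCX.RuKBSChk2
open Cfsg.Agent.Lib.Helper28.TC2Upper Cfsg.Agent.Lib.Helper28.TC2Lower Cfsg.Agent.Lib.Helper28.TC2Orbit Cfsg.Agent.Lib.Helper28.TC2Range Cfsg.Agent.Lib.Helper28.TC2Bsgs Cfsg.Agent.Lib.Helper3.TCX.RuKBSTable

theorem def12_0 : defRange btable defs 12 0 1600 = true := by decide +kernel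
theorem def13_0 : defRange btable defs 13 0 1600 = true := by decide +kernel
theorem def14_0 : defRange btable defs 14 0 1600 = true := by decide +kernel
theorem def15_0 : defRange btable defs 15 0 1600 = true := by decide +kernel
theorem conn0_0 : OrbData.connOKc orb0 btable 1 0 1600 = true := by decide +kernel

end Cfsg.Agent.Lib.Helper3.TCX.RuKBSChk2
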