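import Cfsg.Agent.Lib.Helper28.TC2Upper
import Cfsg.Agent.Lib.Helper3.TCX.RuKDataC0
set_option autoImplicit false
set_option maxRecDepth 100000

namespace Cfsg.Agent.Lib.Helper3.TCX.RuKData
open Cfsg.Agent.Lib.Helper28.TC2Upper

/-- relators -/
def relT : BT (ℕ × List ℕ × List ℕ) := (BT.node 12 (BT.node 6 (BT.node 3 (BT.node 1 (BT.node 0 (BT.leaf (2, [0, 0], [0, 0])) (BT.leaf (4, [1, 0, 1, 0], [0, 1, 0, 1]))) (BT.node 2 (BT.leaf (24, [2, 0, 2, 0, 2, 0, 2, 0, 2, 0, 2, 0, 2, 0, 2, 0, 2, 0, 2, 0, 2, 0, 2, 0], [0, 2, 0, 2, 0, 2, 0, 2, 0, 2, 0, 2, 0, 2, 0, 2, 0, 2, 0, 2, 0, 2, 0, 2])) (BT.leaf (4, [3, 0, 3, 0], [0, 3, 0, 3])))) (BT.node 5 (BT.node 4 (BT.leaf (4, [0, 1, 0, 1], [1, 0, 1, 0])) (BT.leaf (2, [1, 1], [1, 1]))) (BT.leaf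 (8, [2, 1, 2, 1, 2, 1, 2, 1], [1, 2, 1, 2, 1, 2, 1, 2])))) (BT.node 9 (BT.node 8 (BT.node 7 (BT.leaf (4, [3, 1, 3, 1], [1, 3, 1, 3])) (BT.leaf (24, [0, 2, 0, 2, 0, 2, 0, 2, 0, 2, 0, 2, 0, 2, 0, 2, 0, 2, 0, 2, 0, 2, 0, 2], [2, 0, 2, 0, 2, 0, 2, 0, 2, 0, 2, 0, 2, 0, 2, 0, 2, 0, 2, 0, 2, 0, 2, 0]))) (BT.leaf (8, [1, 2, 1, 2, 1, 2, 1, 2], [2, 1, 2, 1, 2, 1, 2, 1]))) (BT.node 11 (BT.node 10 (BT.leaf (2, [2, 2], [2, 2])) (BT.leaf (8, [3, 2, 3, 2, 3, 2, 3, 2], [2, 3, 2, 3, 2, 3, 2, 3]))) (BT.leaf (4, [0, 3, 0, 3], [3, 0, 3, 0]))))) (BT.node 18 (BT.node 15 (BT.node 14 (BT.node 13 (BT.leaf (4, [1, 3, 1, 3], [3, 1, 3, 1])) (BT.leaf (8, [2, 3, 2, 3, 2, 3, 2, 3], [3, 2, 3, 2, 3, 2, 3, 2]))) (BT.leaf (2, [3, 3], [3, 3]))) (BT.node 17 (BT.node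 16 (BT.leaf (30, [2, 1, 2, 0, 2, 0, 2, 0, 2, 0, 2, 1, 2, 0, 2, 0, 2, 0, 2, 0, 2, 1, 2, 0, 2, 0, 2, 0, 2, 0], [0, 2, 0, 2, 0, 2, 0, 2, 1, 2, 0, 2, 0, 2, 0, 2, 0, 2, 1, 2, 0, 2, 0, 2, 0, 2, 0, 2, 1, 2])) (BT.leaf (30, [2, 1, 2, 0, 2, 1, 2, 0, 2, 0, 1, 2, 1, 2, 0, 2, 0, 2, 1, 2, 1, 0, 2, 0, 2, 1, 2, 0, 2, 1], [1, 2, 0, 2, 1, 2, 0, 2, 0, 1, 2, 1, 2, 0, 2, 0, 2, 1, 2, 1, 0, 2, 0, 2, 1, 2, 0, 2, 1, 2]))) (BT.leaf (29, [0, 2, 0, 1, 2, 0, 2, 0, 2, 0, 2, 0, 2, 1, 0, 2, 1, 2, 0, 2, 0, 2, 0, 2, 0, 2, 0, 2, 1], [1, 2, 0, 2, 0, 2, 0, 2, 0, 2, 0, 2, 1, 2, 0, 1, 2, 0, 2, 0, 2, 0, 2, 0, 2, 1, 0, 2, 0])))) (BT.node 21 (BT.node 20 (BT.node 19 (BT.leaf (33, [3, 2, 0, 2, 0, 2, 0, 2, 3, 0, 2, 0, 2, 0, 2, 0, 2, 3, 2, 1, 2, 1, 0, 2, 0, 2, 0, 2, 0,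 2, 1, 2, 1], [1, 2, 1, 2, 0, 2, 0, 2, 0, 2, 0, 1, 2, 1, 2, 3, 2, 0, 2, 0, 2, 0, 2, 0, 3, 2, 0, 2, 0, 2, 0, 2, 3])) (BT.leaf (33, [3, 2, 0, 2, 1, 3, 2, 0, 2, 1, 3, 2, 1, 2, 3, 2, 1, 2, 3, 1, 2, 0, 2, 1, 2, 3, 1, 0, 2, 3, 2, 0, 2], [2, 0, 2, 3, 2, 0, 1, 3, 2, 1, 2, 0, 2, 1, 3, 2, 1, 2, 3, 2, 1, 2, 3, 1, 2, 0, 2, 3, 1, 2, 0, 2, 3]))) (BT.leaf (32, [3, 2, 0, 2, 1, 3, 2, 0, 2, 1, 2, 3, 2, 1, 2, 0, 2, 3, 1, 2, 0, 2, 3, 2, 1, 0, 2, 0, 2, 1, 0, 2], [2, 0, 1, 2, 0, 2, 0, 1, 2, 3, 2, 0, 2, 1, 3, 2, 0, 2, 1, 2, 3, 2, 1, 2, 0, 2, 3, 1, 2, 0, 2, 3]))) (BT.node 23 (BT.node 22 (BT.leaf (32, [3, 2, 0, 2, 1, 3, 2, 0, 3, 2, 3, 1, 3, 2, 3, 0, 2, 3, 1, 2, 0, 2, 3, 2, 1, 0, 2, 0, 2, 1, 0, 2], [2, 0, 1, 2, 0, 2, 0, 1, 2, 3, 2, 0, 2, 1, 3, 2, 0,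 3, 2, 3, 1, 3, 2, 3, 0, 2, 3, 1, 2, 0, 2, 3])) (BT.leaf (32, [3, 2, 1, 2, 0, 2, 3, 2, 1, 2, 0, 2, 1, 2, 3, 2, 0, 2, 1, 2, 3, 2, 1, 2, 0, 2, 1, 2, 0, 2, 1, 2], [2, 1, 2, 0, 2, 1, 2, 0, 2, 1, 2, 3, 2, 1, 2, 0, 2, 3, 2, 1, 2, 0, 2, 1, 2, 3, 2, 0, 2, 1, 2, 3]))) (BT.leaf (32, [3, 2, 1, 3, 2, 0, 2, 1, 3, 2, 0, 3, 0, 2, 0, 2, 1, 2, 0, 2, 1, 2, 3, 2, 1, 2, 0, 2, 1, 2, 0, 2], [2, 0, 2, 1, 2, 0, 2, 1, 2, 3, 2, 1, 2, 0, 2, 1, 2, 0, 2, 0, 3, 0, 2, 3, 1, 2, 0, 2, 3, 1, 2, 3]))))))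
/-- subgroup generators -/
def subT : BT (ℕ × List ℕ × List ℕ) := (BT.node 1 (BT.node 0 (BT.leaf (1, [0], [0])) (BT.leaf (1, [1], [1]))) (BT.leaf (1, [2], [2])))
/-- fact chunks -/
def colET : BT ℕ := (BT.node 9 (BT.node 4 (BT.node 2 (BT.node 1 (BT.node 0 (BT.leaf cE0) (BT.leaf cE1)) (BT.leaf cE2)) (BT.node 3 (BT.leaf cE3) (BT.leaf cE4))) (BT.node 7 (BT.node 6 (BT.node 5 (BT.leaf cE5) (BT.leaf cE6)) (BT.leaf cE7)) (BT.node 8 (BT.leaf cE8) (BT.leaf cE9)))) (BT.node 14 (BT.node 12 (BT.node 11 (BT.node 10 (BT.leaf cE10) (BT.leaf cE11)) (BT.leaf cE12)) (BT.node 13 (BT.leaf cE13) (BT.leaf cE14))) (BT.node 17 (BT.node 16 (BT.node 15 (BT.leaf cE15) (BT.leaf cE16)) (BT.leaf cE17)) (BT.node 18 (BT.leaf cE18) (BT.leaf cE19)))))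
/-- justification chunks -/
def colJT : BT ℕ := (BT.node 9 (BT.node 4 (BT.node 2 (BT.node 1 (BT.node 0 (BT.leaf cJ0) (BT.leaf cJ1)) (BT.leaf cJ2)) (BT.node 3 (BT.leaf cJ3) (BT.leaf cJ4))) (BT.node 7 (BT.node 6 (BT.node 5 (BT.leaf cJ5) (BT.leaf cJ6)) (BT.leaf cJ7)) (BT.node 8 (BT.leaf cJ8) (BT.leaf cJ9)))) (BT.node 14 (BT.node 12 (BT.node 11 (BT.node 10 (BT.leaf cJ10) (BT.leaf cJ11)) (BT.leaf cJ12)) (BT.node 13 (BT.leaf cJ13) (BT.leaf cJ14))) (BT.node 17 (BT.node 16 (BT.node 15 (BT.leaf cJ15) (BT.leaf cJ16)) (BT.leaf cJ17)) (BT.node 18 (BT.leaf cJ18) (BT.leaf cJ19)))))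
/-- parent chunks -/
def parCT : BT ℕ := (BT.node 1 (BT.node 0 (BT.leaf cP0) (BT.leaf cP1)) (BT.node 2 (BT.leaf cP2) (BT.leaf cP3)))
/-- the certificate -/
def data : Data where
  k := 4
  N := 1600
  W := 24
  MW := 16777216
  B := 2048
  CH := 512
  NCH := 4
  colE := colET
  JW := 64
  MJ := 18446744073709551616
  A := 1048576
  colJ := colJT
  PW := 21
  MP := 2097152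
  parC := parCT
  inv := (BT.node 2 (BT.node 1 (BT.node 0 (BT.leaf 0) (BT.leaf 1)) (BT.leaf 2)) (BT.node 3 (BT.leaf 3) (BT.leaf 4)))
  rel := relT
  sub := subT
  fuel := 4

end Cfsg.Agent.Lib.Helper3.TCX.RuKData
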