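import Cfsg.Agent.Lib.Helper28.TC2GlueOrb
import Cfsg.Agent.Lib.Helper28.TC2Range
import Cfsg.Agent.Lib.Helper3.TCX.RuKLink
import Cfsg.Agent.Lib.Helper3.TCX.RuKM
import Cfsg.Agent.Lib.Helper3.TCX.RuKM0
import Cfsg.Agent.Lib.Helper3.TCX.RuKU0
import Cfsg.Agent.Lib.Helper3.TCX.RuKL0

set_option autoImplicit false
set_option maxRecDepth 100000
open Cfsg

namespace Cfsg.Agent.Lib.Helper3.TCX.RuKMain
open Cfsg.Agent.Lib.Helper28.TC2Upper Cfsg.Agent.Lib.Helper28.TC2Lower Cfsg.Agent.Lib.Helper28.TC2Glue Cfsg.Agent.Lib.Helper28.TC2GlueOrb Cfsg.Agent.Lib.Helper28.TC2Orbit Cfsg.Agent.Lib.Helper28.TC2Range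
open Cfsg.Agent.Lib.Helper3.TCX.RuKData Cfsg.Agent.Lib.Helper3.TCX.RuKTable Cfsg.Agent.Lib.Helper3.TCX.RuKLink Cfsg.Agent.Lib.Helper3.TCX.RuKM

theorem hchk : ∀ v, v < data.N → data.checkNode v = true := by
  intro v hv
  have hv' : v < 1600 := hv
  rcases Nat.lt_or_ge v 1500 with h0 | h0
  · exact (data.checkRange_iff 0 1500).mp Cfsg.Agent.Lib.Helper3.TCX.RuKU0.chk0 v (by omega) (by omega)
  exact (data.checkRange_iff 1500 100).mp Cfsg.Agent.Lib.Helper3.TCX.RuKU0.chk1 v (by omega) (by omega)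

theorem hrows : ∀ v, v < data.N → Data.rowOK data v = true := by
  intro v hv
  have hv' : v < 1600 := hv
  exact (Data.finalRange_iff data 0 1600).mp Cfsg.Agent.Lib.Helper3.TCX.RuKM0.fin0 v (by omega) (by omega)

theorem hfin : data.finalOK = true := Data.finalOK_of_rows data hlive0 (by decide) hrows

theorem pc0 : Data.countFrom data 0 1600 = 1600 := Cfsg.Agent.Lib.Helper3.TCX.RuKM0.cnt0

theorem hcount : data.countLive = table.n := by
  rw [Data.countLive_eq]
  exact pc0

theorem hpermAll : ∀ p, p < table.n → Table.permRow table p = true := by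
  intro p hv
  have hv' : p < 1600 := hv
  exact (Table.permRange_iff table 0 1600).mp Cfsg.Agent.Lib.Helper3.TCX.RuKM0.prm0 p (by omega) (by omega)

theorem hT : table.OK := Table.ok_of_rows table hinvOK hpermAll

theorem htreeAll : ∀ i, i < Nat.pred table.n → Table.treeRow table i = true := by
  intro p hv
  have hv' : p < 1599 := hv
  exact (Table.treeRange_iff table 0 1599).mp Cfsg.Agent.Lib.Helper3.TCX.RuKM0.tre0 p (by omega) (by omega)

theorem htree : table.treeOK = true := Table.treeOK_of_rows table htreeAll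

theorem hchkT : ∀ P ∈ chkPaths, ∀ p, p < table.n → table.walkT P p = p := by
  intro P hm p hv
  have hv' : p < 1600 := hv
  exact (Table.relOK_iff chkPaths 0 1600).mp Cfsg.Agent.Lib.Helper3.TCX.RuKL0.rel0 p (by omega) (by omega) _ hm

theorem hrelT : ∀ L ∈ relWords, ∀ p, p < table.n → table.walkT (pathOf lw L) p = p :=
  fun L hL => Table.fix_of_covered hT chkPaths hchkT _ (hcov _ (hrelmem L hL)).1 (hcov _ (hrelmem L hL)).2

theorem hsubT : ∀ L ∈ subWords, table.walkT (pathOf lw L) 0 = 0 :=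
  fun L hL => (Table.subOK_iff subPaths).mp hsub0 _ (hsubmem L hL)

theorem hn : 0 < table.n := by decide

theorem main : ((Subgroup.closure S).map (PresentedGroup.mk rels)).index = table.n ∧
    ∃ φ : PresentedGroup rels →* Equiv.Perm (Fin table.n),
      (∀ x, φ (PresentedGroup.of x) = Table.sigma hT (lw (x, true))) ∧
      ∃ f : PresentedGroup rels ⧸ (Subgroup.closure S).map (PresentedGroup.mk rels) → Fin table.n,
        Function.Bijective f ∧ (∀ g q, f (g • q) = φ g (f q)) ∧ f (QuotientGroup.mk 1) = ⟨0, hn⟩ :=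
  index_eq link hchk hfin hcount hT hn hrelT hsubT htree

end Cfsg.Agent.Lib.Helper3.TCX.RuKMain
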