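import Cfsg.Agent.Lib.Helper28.TC2GlueOrb
import Cfsg.Agent.Lib.Helper28.TC2Range
import Cfsg.Agent.Lib.Helper3.TCX.RuMLink
import Cfsg.Agent.Lib.Helper3.TCX.RuMM
import Cfsg.Agent.Lib.Helper3.TCX.RuMM0
import Cfsg.Agent.Lib.Helper3.TCX.RuMM1
import Cfsg.Agent.Lib.Helper3.TCX.RuMU0
import Cfsg.Agent.Lib.Helper3.TCX.RuMU1
import Cfsg.Agent.Lib.Helper3.TCX.RuML0
import Cfsg.Agent.Lib.Helper3.TCX.RuML1

set_option autoImplicit false
set_option maxRecDepth 100000
open Cfsg

namespace Cfsg.Agent.Lib.Helper3.TCX.RuMMain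
open Cfsg.Agent.Lib.Helper28.TC2Upper Cfsg.Agent.Lib.Helper28.TC2Lower Cfsg.Agent.Lib.Helper28.TC2Glue Cfsg.Agent.Lib.Helper28.TC2GlueOrb Cfsg.Agent.Lib.Helper28.TC2Orbit Cfsg.Agent.Lib.Helper28.TC2Range
open Cfsg.Agent.Lib.Helper3.TCX.RuMData Cfsg.Agent.Lib.Helper3.TCX.RuMTable Cfsg.Agent.Lib.Helper3.TCX.RuMLink Cfsg.Agent.Lib.Helper3.TCX.RuMM

theorem hchk : ∀ v, v < data.N → data.checkNode v = true := by
  intro v hv
  have hv' : v < 11232 := hv
  rcases Nat.lt_or_ge v 1500 with h0 | h0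
  · exact (data.checkRange_iff 0 1500).mp Cfsg.Agent.Lib.Helper3.TCX.RuMU0.chk0 v (by omega) (by omega)
  rcases Nat.lt_or_ge v 3000 with h1 | h1
  · exact (data.checkRange_iff 1500 1500).mp Cfsg.Agent.Lib.Helper3.TCX.RuMU0.chk1 v (by omega) (by omega)
  rcases Nat.lt_or_ge v 4500 with h2 | h2
  · exact (data.checkRange_iff 3000 1500).mp Cfsg.Agent.Lib.Helper3.TCX.RuMU0.chk2 v (by omega) (by omega)
  rcases Nat.lt_or_ge v 6000 with h3 | h3
  · exact (data.checkRange_iff 4500 1500).mp Cfsg.Agent.Lib.Helper3.TCX.RuMU0.chk3 v (by omega) (by omega)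
  rcases Nat.lt_or_ge v 7500 with h4 | h4
  · exact (data.checkRange_iff 6000 1500).mp Cfsg.Agent.Lib.Helper3.TCX.RuMU0.chk4 v (by omega) (by omega)
  rcases Nat.lt_or_ge v 9000 with h5 | h5
  · exact (data.checkRange_iff 7500 1500).mp Cfsg.Agent.Lib.Helper3.TCX.RuMU1.chk5 v (by omega) (by omega)
  rcases Nat.lt_or_ge v 10500 with h6 | h6
  · exact (data.checkRange_iff 9000 1500).mp Cfsg.Agent.Lib.Helper3.TCX.RuMU1.chk6 v (by omega) (by omega)
  exact (data.checkRange_iff 10500 732).mp Cfsg.Agent.Lib.Helper3.TCX.RuMU1.chk7 v (by omega) (by omega)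

theorem hrows : ∀ v, v < data.N → Data.rowOK data v = true := by
  intro v hv
  have hv' : v < 11232 := hv
  rcases Nat.lt_or_ge v 6000 with h0 | h0
  · exact (Data.finalRange_iff data 0 6000).mp Cfsg.Agent.Lib.Helper3.TCX.RuMM0.fin0 v (by omega) (by omega)
  exact (Data.finalRange_iff data 6000 5232).mp Cfsg.Agent.Lib.Helper3.TCX.RuMM0.fin1 v (by omega) (by omega)

theorem hfin : data.finalOK = true := Data.finalOK_of_rows data hlive0 (by decide) hrows

theorem pc0 : Data.countFrom data 0 6000 = 6000 := Cfsg.Agent.Lib.Helper3.TCX.RuMM0.cnt0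
theorem pc1 : Data.countFrom data 0 11232 = 11232 := Data.countFrom_step data pc0 Cfsg.Agent.Lib.Helper3.TCX.RuMM0.cnt1 (by norm_num) (by norm_num)

theorem hcount : data.countLive = table.n := by
  rw [Data.countLive_eq]
  exact pc1

theorem hpermAll : ∀ p, p < table.n → Table.permRow table p = true := by
  intro p hv
  have hv' : p < 11232 := hv
  rcases Nat.lt_or_ge p 6000 with h0 | h0
  · exact (Table.permRange_iff table 0 6000).mp Cfsg.Agent.Lib.Helper3.TCX.RuMM0.prm0 p (by omega) (by omega)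
  exact (Table.permRange_iff table 6000 5232).mp Cfsg.Agent.Lib.Helper3.TCX.RuMM1.prm1 p (by omega) (by omega)

theorem hT : table.OK := Table.ok_of_rows table hinvOK hpermAll

theorem htreeAll : ∀ i, i < Nat.pred table.n → Table.treeRow table i = true := by
  intro p hv
  have hv' : p < 11231 := hv
  rcases Nat.lt_or_ge p 6000 with h0 | h0
  · exact (Table.treeRange_iff table 0 6000).mp Cfsg.Agent.Lib.Helper3.TCX.RuMM1.tre0 p (by omega) (by omega)
  exact (Table.treeRange_iff table 6000 5231).mp Cfsg.Agent.Lib.Helper3.TCX.RuMM1.tre1 p (by omega) (by omega)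

theorem htree : table.treeOK = true := Table.treeOK_of_rows table htreeAll

theorem hchkT : ∀ P ∈ chkPaths, ∀ p, p < table.n → table.walkT P p = p := by
  intro P hm p hv
  have hv' : p < 11232 := hv
  rcases Nat.lt_or_ge p 2000 with h0 | h0
  · exact (Table.relOK_iff chkPaths 0 2000).mp Cfsg.Agent.Lib.Helper3.TCX.RuML0.rel0 p (by omega) (by omega) _ hm
  rcases Nat.lt_or_ge p 4000 with h1 | h1
  · exact (Table.relOK_iff chkPaths 2000 2000).mp Cfsg.Agent.Lib.Helper3.TCX.RuML0.rel1 p (by omega) (by omega) _ hm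
  rcases Nat.lt_or_ge p 6000 with h2 | h2
  · exact (Table.relOK_iff chkPaths 4000 2000).mp Cfsg.Agent.Lib.Helper3.TCX.RuML0.rel2 p (by omega) (by omega) _ hm
  rcases Nat.lt_or_ge p 8000 with h3 | h3
  · exact (Table.relOK_iff chkPaths 6000 2000).mp Cfsg.Agent.Lib.Helper3.TCX.RuML0.rel3 p (by omega) (by omega) _ hm
  rcases Nat.lt_or_ge p 10000 with h4 | h4
  · exact (Table.relOK_iff chkPaths 8000 2000).mp Cfsg.Agent.Lib.Helper3.TCX.RuML0.rel4 p (by omega) (by omega) _ hm
  exact (Table.relOK_iff chkPaths 10000 1232).mp Cfsg.Agent.Lib.Helper3.TCX.RuML1.rel5 p (by omega) (by omega) _ hm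

theorem hrelT : ∀ L ∈ relWords, ∀ p, p < table.n → table.walkT (pathOf lw L) p = p :=
  fun L hL => Table.fix_of_covered hT chkPaths hchkT _ (hcov _ (hrelmem L hL)).1 (hcov _ (hrelmem L hL)).2

theorem hsubT : ∀ L ∈ subWords, table.walkT (pathOf lw L) 0 = 0 :=
  fun L hL => (Table.subOK_iff subPaths).mp hsub0 _ (hsubmem L hL)

theorem hn : 0 < table.n := by decide

theorem main : ((Subgroup.closure S).map (PresentedGroup.mk rels)).index = table.n ∧
    ∃ φ : PresentedGroup rels →* Equiv.Perm (Fin table.n),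
      (∀ x, φ (PresentedGroup.of x) = Table.sigma hT (lw (x, true))) ∧
      ∃ f : PresentedGroup rels ⧸ (Subgroup.closure S).map (PresentedGroup.mk rels) → Fin table.n,
        Function.Bijective f ∧ (∀ g q, f (g • q) = φ g (f q)) ∧ f (QuotientGroup.mk 1) = ⟨0, hn⟩ :=
  index_eq link hchk hfin hcount hT hn hrelT hsubT htree

end Cfsg.Agent.Lib.Helper3.TCX.RuMMain
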