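import Cfsg.Agent.Lib.Helper28.TC2Simple
set_option autoImplicit false

/-!
# Simplicity from a core-free maximal subgroup and generation by elements of coprime prime order

A finite group with a core-free maximal subgroup `H` is simple as soon as every normal subgroup
containing all elements `x` with `x ^ p = 1`, `p` a prime not dividing the order of `H`, is the whole group.
-/

namespace Cfsg.Agent.Lib.Helper3.TCX

variable {G : Type*} [Group G]

theorem isSimpleGroup_of_max_gen [Finite G] (H : Subgroup G)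
    (hcore : H.normalCore = ⊥) (hne : H ≠ ⊤)
    (hmax : ∀ K : Subgroup G, H ≤ K → K = H ∨ K = ⊤)
    (hgen : ∀ N : Subgroup G, N.Normal →
      (∀ x : G, ∀ p : ℕ, p.Prime → ¬ p ∣ Nat.card H → x ^ p = 1 → x ∈ N) → N = ⊤) :
    IsSimpleGroup G := by
  have : Nontrivial G := by
    by_contra h
    rw [not_nontrivial_iff_subsingleton] at h
    exact hne (Subsingleton.elim _ _)
  refine ⟨fun N hN => ?_⟩
  by_contra hcon
  rw [not_or] at hcon
  obtain ⟨hbot, htop⟩ := hcon
  have hNH : ¬ N ≤ H := by
    intro h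
    apply hbot
    have : N ≤ H.normalCore := (Subgroup.normal_le_normalCore).mpr h
    rw [hcore] at this
    exact le_bot_iff.mp this
  have hsup : H ⊔ N = ⊤ := by
    rcases hmax (H ⊔ N) le_sup_left with h | h
    · exact absurd (h ▸ le_sup_right) hNH
    · exact h
  have hsurj : Function.Surjective ((QuotientGroup.mk' N).comp H.subtype) := by
    intro q
    obtain ⟨g, rfl⟩ := QuotientGroup.mk'_surjective N q
    have hg : g ∈ H ⊔ N := by rw [hsup]; exact Subgroup.mem_top g
    rw [← SetLike.mem_coe, Subgroup.mul_normal] at hg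
    obtain ⟨h, hh, n, hn, rfl⟩ := Set.mem_mul.mp hg
    refine ⟨⟨h, hh⟩, ?_⟩
    show (QuotientGroup.mk' N) h = (QuotientGroup.mk' N) (h * n)
    have hn1 : (QuotientGroup.mk' N) n = 1 := (QuotientGroup.eq_one_iff n).mpr hn
    rw [map_mul, hn1, mul_one]
  have hdvd : Nat.card (G ⧸ N) ∣ Nat.card H := Subgroup.card_dvd_of_surjective _ hsurj
  apply htop
  apply hgen N hN
  intro x p hp hpH hx
  have ht' : ((QuotientGroup.mk' N) x) ^ p = 1 := by rw [← map_pow, hx, map_one]
  have hord : orderOf ((QuotientGroup.mk' N) x) ∣ p := orderOf_dvd_of_pow_eq_one ht'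
  have hord2 : orderOf ((QuotientGroup.mk' N) x) ∣ Nat.card (G ⧸ N) := orderOf_dvd_natCard _
  rcases (Nat.dvd_prime hp).mp hord with h1 | h1
  · rw [orderOf_eq_one_iff] at h1
    exact (QuotientGroup.eq_one_iff x).mp h1
  · rw [h1] at hord2
    exact absurd (dvd_trans hord2 hdvd) hpH

/-- a normal subgroup of a presented group containing all the generators is everything -/
theorem eq_top_of_gens_mem {α : Type*} (rels : Set (FreeGroup α)) (N : Subgroup (PresentedGroup rels))
    (h : ∀ x : α, (PresentedGroup.of x : PresentedGroup rels) ∈ N) : N = ⊤ := by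
  rw [eq_top_iff, ← PresentedGroup.closure_range_of, Subgroup.closure_le]
  rintro _ ⟨x, rfl⟩
  exact h x

/-- if `x * y * g = 1` with `x`, `y` in a subgroup then `g` is in the subgroup -/
theorem mem_of_mul_mul_eq_one (N : Subgroup G) {x y g : G} (hx : x ∈ N) (hy : y ∈ N) (h : x * y * g = 1) :
    g ∈ N := by
  have : g = (x * y)⁻¹ := (inv_eq_of_mul_eq_one_right h).symm ▸ rfl
  rw [this]
  exact N.inv_mem (N.mul_mem hx hy)

/-- a generator which is the product of two elements of prime orders not dividing `m` lies in every subgroup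
containing all such elements -/
theorem gen_mem_of_cert {α : Type*} (rels : Set (FreeGroup α)) (N : Subgroup (PresentedGroup rels)) (m : ℕ)
    (hall : ∀ x : PresentedGroup rels, ∀ p : ℕ, p.Prime → ¬ p ∣ m → x ^ p = 1 → x ∈ N)
    (g : α) (xw : List (α × Bool)) (p1 p2 : ℕ) (hp1 : p1.Prime) (hp2 : p2.Prime)
    (h1 : ¬ p1 ∣ m) (h2 : ¬ p2 ∣ m)
    (hx : (PresentedGroup.mk rels (FreeGroup.mk xw)) ^ p1 = 1)
    (hy : (PresentedGroup.mk rels (FreeGroup.mk (FreeGroup.invRev xw ++ [(g, true)]))) ^ p2 = 1) :
    (PresentedGroup.of g : PresentedGroup rels) ∈ N := by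
  have e : PresentedGroup.mk rels (FreeGroup.mk (FreeGroup.invRev xw ++ [(g, true)])) =
      (PresentedGroup.mk rels (FreeGroup.mk xw))⁻¹ * PresentedGroup.of g := by
    rw [← FreeGroup.mul_mk, ← FreeGroup.inv_mk, map_mul, map_inv]
    rfl
  have hxN := hall _ p1 hp1 h1 hx
  have hyN := hall _ p2 hp2 h2 hy
  have : (PresentedGroup.of g : PresentedGroup rels) =
      PresentedGroup.mk rels (FreeGroup.mk xw) *
        PresentedGroup.mk rels (FreeGroup.mk (FreeGroup.invRev xw ++ [(g, true)])) := by
    rw [e, mul_inv_cancel_left]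
  rw [this]
  exact N.mul_mem hxN hyN

end Cfsg.Agent.Lib.Helper3.TCX
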