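import Cfsg.Agent.Lib.Helper28.TC2Tower
import Cfsg.Agent.Lib.Helper28.TC2Simple
import Cfsg.Agent.Lib.Helper28.TC2Bsgs
import Cfsg.Agent.Lib.Helper3.TCX.RuKMain
import Cfsg.Agent.Lib.Helper3.TCX.RuMMain
import Cfsg.Agent.Lib.Helper3.TCX.RuKBSMain
import Cfsg.Agent.Lib.Helper3.TCX.RuKOrbChk
import Cfsg.Agent.Lib.Helper3.TCX.RuKFinal
import Cfsg.Agent.Lib.Helper3.TCX.BaseCrit
import Cfsg.Agent.Lib.Helper3.TCX.SimpleGen
set_option autoImplicit false
set_option maxRecDepth 100000

/-!
# A presentation of the Tits group on four involutions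

The group `⟨a, b, c, d⟩` with the relators of `RuKDef` is simple of order `17971200`: `⟨a, b, c⟩` is a
quotient of a group of order 11232 (it is `L₃(3):2`) and has index 1600.
-/

namespace Cfsg.Agent.Lib.Helper3.TCX.RuKSimple
open Cfsg.Agent.Lib.Helper28.TC2Upper Cfsg.Agent.Lib.Helper28.TC2Lower Cfsg.Agent.Lib.Helper28.TC2Orbit
open Cfsg.Agent.Lib.Helper28.TC2Glue Cfsg.Agent.Lib.Helper28.TC2GlueOrb Cfsg.Agent.Lib.Helper28.TC2Simple
open Cfsg.Agent.Lib.Helper28.TC2Bsgs Cfsg.Agent.Lib.Helper28.TC2Tower
open Cfsg.Agent.Lib.Helper3.TCX.RuKTable Cfsg.Agent.Lib.Helper3.TCX.RuKLink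
open Cfsg.Agent.Lib.Helper3.TCX.RuKOrb Cfsg.Agent.Lib.Helper3.TCX.RuKOrbChk Cfsg.Agent.Lib.Helper3.TCX.RuKFinal

/-- the presented group -/
abbrev P : Type := PresentedGroup rels

/-- the sub-presentation on `a, b, c` has order 11232 -/
theorem cardM : Finite (PresentedGroup RuMLink.rels) ∧ Nat.card (PresentedGroup RuMLink.rels) = 11232 := by
  have h : ((Subgroup.closure RuMLink.S).map (PresentedGroup.mk RuMLink.rels)).index = 11232 := RuMMain.main.1
  have e : (Subgroup.closure RuMLink.S).map (PresentedGroup.mk RuMLink.rels) = ⊥ := by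
    show (Subgroup.closure {1}).map _ = ⊥
    rw [Subgroup.closure_singleton_one, Subgroup.map_bot]
  rw [e] at h
  exact card_of_index_bot (by norm_num) h

theorem upM : ∀ L ∈ RuMLink.relWords, upWord RuMDef.up L ∈ relWords := by decide +kernel

/-- the presented group has order at most 17971200 -/
theorem card0 : Finite P ∧ Nat.card P ≤ 17971200 := by
  have := cardM.1
  have hrel := hrel_of_words rels RuMLink.rels RuMDef.up relWords RuMLink.relWords
    link.hrels RuMLink.link.hrels upM
  have hS : ∀ s ∈ S, ∃ b, s = FreeGroup.of (RuMDef.up b) := by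
    intro s hs
    simp only [S, Set.mem_insert_iff, Set.mem_singleton_iff] at hs
    rcases hs with rfl | rfl | rfl
    exacts [⟨.a, rfl⟩, ⟨.b, rfl⟩, ⟨.c, rfl⟩]
  obtain ⟨hfin, hle⟩ := card_le_of_subpres rels RuMLink.rels RuMDef.up hrel S hS
  have hidx : ((Subgroup.closure S).map (PresentedGroup.mk rels)).index = 1600 := RuKMain.main.1
  have := hfin
  refine ⟨finite_of_index _ (by rw [hidx]; norm_num), ?_⟩
  exact card_le_of_index _ hidx (le_trans hle (le_of_eq cardM.2))

theorem hcnt : ∀ c, c < 4 → (Finset.univ.filter fun p : Fin table.n => orbData.oid p.val = c).card = cnt c := by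
  intro c hc
  have h := ncard_class orbData table.n c
  have e : {q : Fin table.n | orbData.oid q.val = c} =
      ↑(Finset.univ.filter fun p : Fin table.n => orbData.oid p.val = c) := by
    ext q; simp
  rw [e, Set.ncard_coe_finset] at h
  rw [h]
  interval_cases c
  · exact cntc0
  · exact cntc1
  · exact cntc2
  · exact cntc3

/-- the presented group is simple of order 17971200 -/
theorem main : IsSimpleGroup P ∧ Nat.card P = 17971200 := by
  obtain ⟨hidx, φ, hφ, f, hbij, hequiv, h0⟩ := RuKMain.main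
  obtain ⟨hfin, hle⟩ := card0
  haveI : Finite (PresentedGroup rels) := hfin
  have hlow : 17971200 ≤ Nat.card φ.range :=
    le_trans RuKBSMain.card_base (card_baseGroup_le RuKMain.hT RuKBSMain.hTB rfl (by decide)
      RuKBSMain.hagree φ.range (sigma_mem_range link RuKMain.hT φ hφ))
  obtain ⟨hinj, hcard⟩ := injective_of_card_le φ hle hlow
  refine ⟨?_, hcard⟩
  have hcardR : Nat.card φ.range = 17971200 := by
    rw [← hcard]
    exact (Nat.card_congr (MonoidHom.ofInjective hinj).toEquiv).symm
  have hidx' : ((Subgroup.closure S).map (PresentedGroup.mk rels)).index = 1600 := hidx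
  have hcardH : Nat.card ((Subgroup.closure S).map (PresentedGroup.mk rels)) = 11232 := by
    have := ((Subgroup.closure S).map (PresentedGroup.mk rels)).index_mul_card
    rw [hidx', hcard] at this
    omega
  have hcore := normalCore_eq_bot _ φ f hbij.2 hequiv hinj
  have hne : (Subgroup.closure S).map (PresentedGroup.mk rels) ≠ ⊤ := by
    intro e
    rw [e, Subgroup.index_top] at hidx'
    norm_num at hidx'
  have hgens' := BT.All_of_all (fun _ h => of_decide_eq_true h) _ hgens
  have hmax : ∀ K : Subgroup (PresentedGroup rels), (Subgroup.closure S).map (PresentedGroup.mk rels) ≤ K →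
      K = (Subgroup.closure S).map (PresentedGroup.mk rels) ∨ K = ⊤ :=
    max_of_suborbits _ RuKMain.hn φ f hbij hequiv (fun q => orbData.oid q.val) 4
      (fun p => hclsAll p.val p.2)
      (fun p q hpq => exists_perm_of_oid_eq link RuKMain.hT φ hφ orbData subPaths hsubmem hsubmem' hclosed
        hgens' hconn p q hpq)
      cnt hcnt harith
  -- the base criterion
  have hlowB : 17971200 * Nat.card (pstab (baseGroup RuKBSMain.hTB table.k) (toFin RuKBSTable.btable.n [3, 2, 1, 0])) ≤
      Nat.card (baseGroup RuKBSMain.hTB table.k) := by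
    have h0 := RuKBSMain.lev0
    have h1 := RuKBSMain.lev1
    have h2 := RuKBSMain.lev2
    have h3 := RuKBSMain.lev3
    have e : pstab (baseGroup RuKBSMain.hTB 4) (toFin RuKBSTable.btable.n []) = baseGroup RuKBSMain.hTB 4 := rfl
    rw [e] at h0
    show 17971200 * Nat.card (pstab (baseGroup RuKBSMain.hTB 4) (toFin RuKBSTable.btable.n [3, 2, 1, 0])) ≤
      Nat.card (baseGroup RuKBSMain.hTB 4)
    omega
  have hpow : ∀ wp ∈ chkList, (PresentedGroup.mk rels (FreeGroup.mk wp.1)) ^ wp.2 = 1 := by
    intro wp hwp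
    exact mk_pow_eq_one_of_base link RuKMain.hT RuKBSMain.hTB rfl (by decide) RuKBSMain.hagree φ hφ hinj
      17971200 (by norm_num) [3, 2, 1, 0] hlowB (le_of_eq hcardR) wp.1 wp.2 (chk_spec wp hwp)
  apply isSimpleGroup_of_max_gen _ hcore hne hmax
  intro N hN hall
  rw [hcardH] at hall
  apply eq_top_of_gens_mem
  intro x
  cases x
  · exact gen_mem_of_cert rels N 11232 hall .a xw_a 5 5 (by norm_num) (by norm_num) (by norm_num) (by norm_num)
      (hpow (xw_a, 5) (by simp [chkList])) (hpow (yw_a, 5) (by simp [chkList]))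
  · exact gen_mem_of_cert rels N 11232 hall .b xw_b 5 5 (by norm_num) (by norm_num) (by norm_num) (by norm_num)
      (hpow (xw_b, 5) (by simp [chkList])) (hpow (yw_b, 5) (by simp [chkList]))
  · exact gen_mem_of_cert rels N 11232 hall .c xw_c 5 5 (by norm_num) (by norm_num) (by norm_num) (by norm_num)
      (hpow (xw_c, 5) (by simp [chkList])) (hpow (yw_c, 5) (by simp [chkList]))
  · exact gen_mem_of_cert rels N 11232 hall .d xw_d 5 5 (by norm_num) (by norm_num) (by norm_num) (by norm_num)
      (hpow (xw_d, 5) (by simp [chkList])) (hpow (yw_d, 5) (by simp [chkList]))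

end Cfsg.Agent.Lib.Helper3.TCX.RuKSimple
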