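import Cfsg.Agent.Lib.Helper3.TCX.RuPBSChk0
import Cfsg.Agent.Lib.Helper3.TCX.RuPBSChk1
import Cfsg.Agent.Lib.Helper3.TCX.RuPBSChk2
import Cfsg.Agent.Lib.Helper3.TCX.RuPBSChk3
import Cfsg.Agent.Lib.Helper3.TCX.RuPBSChk4
import Cfsg.Agent.Lib.Helper3.TCX.RuPBSChk5
import Cfsg.Agent.Lib.Helper3.TCX.RuPBSChk6
import Cfsg.Agent.Lib.Helper3.TCX.RuPBSChk7

set_option autoImplicit false
set_option maxRecDepth 100000

namespace Cfsg.Agent.Lib.Helper3.TCX.RuPBSMain
open Cfsg.Agent.Lib.Helper28.TC2Upper Cfsg.Agent.Lib.Helper28.TC2Lower Cfsg.Agent.Lib.Helper28.TC2Orbit Cfsg.Agent.Lib.Helper28.TC2Range Cfsg.Agent.Lib.Helper28.TC2Bsgs Cfsg.Agent.Lib.Helper3.TCX.RuPBSTable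

theorem hpermAll : ∀ p, p < btable.n → Table.permRow btable p = true := by
  intro p hp
  have hp' : p < 4060 := hp
  exact (Table.permRange_iff btable 0 4060).mp Cfsg.Agent.Lib.Helper3.TCX.RuPBSChk0.prm0 p (by omega) (by omega)

theorem hTB : btable.OK := Table.ok_of_rows btable Cfsg.Agent.Lib.Helper3.TCX.RuPBSChk6.hinvOK hpermAll

theorem hagree : ∀ p, p < Cfsg.Agent.Lib.Helper3.TCX.RuPTable.table.n → ∀ l, l < Cfsg.Agent.Lib.Helper3.TCX.RuPTable.table.k →
    btable.tau l p = Cfsg.Agent.Lib.Helper3.TCX.RuPTable.table.tau l p := by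
  intro p hp
  have hp' : p < 4060 := hp
  exact (agreeRange_iff _ btable 5 0 4060).mp Cfsg.Agent.Lib.Helper3.TCX.RuPBSChk0.agr0 p (by omega) (by omega)

theorem hdef5 : ∀ p, p < btable.n → btable.walkT (defs.look 5) p = btable.tau 5 p := by
  intro p hp
  have hp' : p < 4060 := hp
  exact (defRange_iff defs 5 0 4060).mp Cfsg.Agent.Lib.Helper3.TCX.RuPBSChk0.def5_0 p (by omega) (by omega)

theorem hdef6 : ∀ p, p < btable.n → btable.walkT (defs.look 6) p = btable.tau 6 p := by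
  intro p hp
  have hp' : p < 4060 := hp
  exact (defRange_iff defs 6 0 4060).mp Cfsg.Agent.Lib.Helper3.TCX.RuPBSChk0.def6_0 p (by omega) (by omega)

theorem hdef7 : ∀ p, p < btable.n → btable.walkT (defs.look 7) p = btable.tau 7 p := by
  intro p hp
  have hp' : p < 4060 := hp
  exact (defRange_iff defs 7 0 4060).mp Cfsg.Agent.Lib.Helper3.TCX.RuPBSChk0.def7_0 p (by omega) (by omega)

theorem hdef8 : ∀ p, p < btable.n → btable.walkT (defs.look 8) p = btable.tau 8 p := by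
  intro p hp
  have hp' : p < 4060 := hp
  exact (defRange_iff defs 8 0 4060).mp Cfsg.Agent.Lib.Helper3.TCX.RuPBSChk1.def8_0 p (by omega) (by omega)

theorem hdef9 : ∀ p, p < btable.n → btable.walkT (defs.look 9) p = btable.tau 9 p := by
  intro p hp
  have hp' : p < 4060 := hp
  exact (defRange_iff defs 9 0 4060).mp Cfsg.Agent.Lib.Helper3.TCX.RuPBSChk1.def9_0 p (by omega) (by omega)

theorem hdef10 : ∀ p, p < btable.n → btable.walkT (defs.look 10) p = btable.tau 10 p := by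
  intro p hp
  have hp' : p < 4060 := hp
  exact (defRange_iff defs 10 0 4060).mp Cfsg.Agent.Lib.Helper3.TCX.RuPBSChk1.def10_0 p (by omega) (by omega)

theorem hdef11 : ∀ p, p < btable.n → btable.walkT (defs.look 11) p = btable.tau 11 p := by
  intro p hp
  have hp' : p < 4060 := hp
  exact (defRange_iff defs 11 0 4060).mp Cfsg.Agent.Lib.Helper3.TCX.RuPBSChk1.def11_0 p (by omega) (by omega)

theorem hdef12 : ∀ p, p < btable.n → btable.walkT (defs.look 12) p = btable.tau 12 p := by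
  intro p hp
  have hp' : p < 4060 := hp
  exact (defRange_iff defs 12 0 4060).mp Cfsg.Agent.Lib.Helper3.TCX.RuPBSChk1.def12_0 p (by omega) (by omega)

theorem hdef13 : ∀ p, p < btable.n → btable.walkT (defs.look 13) p = btable.tau 13 p := by
  intro p hp
  have hp' : p < 4060 := hp
  exact (defRange_iff defs 13 0 4060).mp Cfsg.Agent.Lib.Helper3.TCX.RuPBSChk2.def13_0 p (by omega) (by omega)

theorem hdef14 : ∀ p, p < btable.n → btable.walkT (defs.look 14) p = btable.tau 14 p := by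
  intro p hp
  have hp' : p < 4060 := hp
  exact (defRange_iff defs 14 0 4060).mp Cfsg.Agent.Lib.Helper3.TCX.RuPBSChk2.def14_0 p (by omega) (by omega)

theorem hdef15 : ∀ p, p < btable.n → btable.walkT (defs.look 15) p = btable.tau 15 p := by
  intro p hp
  have hp' : p < 4060 := hp
  exact (defRange_iff defs 15 0 4060).mp Cfsg.Agent.Lib.Helper3.TCX.RuPBSChk2.def15_0 p (by omega) (by omega)

theorem hdef16 : ∀ p, p < btable.n → btable.walkT (defs.look 16) p = btable.tau 16 p := by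
  intro p hp
  have hp' : p < 4060 := hp
  exact (defRange_iff defs 16 0 4060).mp Cfsg.Agent.Lib.Helper3.TCX.RuPBSChk2.def16_0 p (by omega) (by omega)

theorem hdef17 : ∀ p, p < btable.n → btable.walkT (defs.look 17) p = btable.tau 17 p := by
  intro p hp
  have hp' : p < 4060 := hp
  exact (defRange_iff defs 17 0 4060).mp Cfsg.Agent.Lib.Helper3.TCX.RuPBSChk2.def17_0 p (by omega) (by omega)

theorem hdef18 : ∀ p, p < btable.n → btable.walkT (defs.look 18) p = btable.tau 18 p := by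
  intro p hp
  have hp' : p < 4060 := hp
  exact (defRange_iff defs 18 0 4060).mp Cfsg.Agent.Lib.Helper3.TCX.RuPBSChk3.def18_0 p (by omega) (by omega)

theorem hdef19 : ∀ p, p < btable.n → btable.walkT (defs.look 19) p = btable.tau 19 p := by
  intro p hp
  have hp' : p < 4060 := hp
  exact (defRange_iff defs 19 0 4060).mp Cfsg.Agent.Lib.Helper3.TCX.RuPBSChk3.def19_0 p (by omega) (by omega)

theorem hdef20 : ∀ p, p < btable.n → btable.walkT (defs.look 20) p = btable.tau 20 p := by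
  intro p hp
  have hp' : p < 4060 := hp
  exact (defRange_iff defs 20 0 4060).mp Cfsg.Agent.Lib.Helper3.TCX.RuPBSChk3.def20_0 p (by omega) (by omega)

theorem hdef : ∀ e, 5 ≤ e → e < btable.k → ∀ p, p < btable.n → btable.walkT (defs.look e) p = btable.tau e p := by
  intro e h1 h2 p hp
  have h2' : e < 21 := h2
  interval_cases e
  · exact hdef5 p hp
  · exact hdef6 p hp
  · exact hdef7 p hp
  · exact hdef8 p hp
  · exact hdef9 p hp
  · exact hdef10 p hp
  · exact hdef11 p hp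
  · exact hdef12 p hp
  · exact hdef13 p hp
  · exact hdef14 p hp
  · exact hdef15 p hp
  · exact hdef16 p hp
  · exact hdef17 p hp
  · exact hdef18 p hp
  · exact hdef19 p hp
  · exact hdef20 p hp

theorem hΓ : ∀ l, l < btable.k → Table.sigma hTB l ∈ baseGroup hTB 5 :=
  sigma_mem_baseGroup hTB 5 defs Cfsg.Agent.Lib.Helper3.TCX.RuPBSChk7.dlt hdef

theorem hconn0 : ∀ p, p < btable.n → orb0.oid p = 1 →
    (orb0.depth p = 0 ∧ orb0.roots.look 1 = p) ∨
    (orb0.depth p ≠ 0 ∧ orb0.parent p < btable.n ∧ orb0.oid (orb0.parent p) = 1 ∧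
      orb0.depth (orb0.parent p) + 1 = orb0.depth p ∧
      btable.walkT (orb0.gens.look (orb0.gen p)) (orb0.parent p) = p) := by
  intro p hp
  have hp' : p < 4060 := hp
  exact (OrbData.connOKc_iff orb0 btable 1 0 4060).mp Cfsg.Agent.Lib.Helper3.TCX.RuPBSChk3.conn0_0 p (by omega) (by omega)

theorem lev0 : 4060 * Nat.card (pstab (baseGroup hTB 5) (toFin btable.n [0])) ≤
    Nat.card (pstab (baseGroup hTB 5) (toFin btable.n [])) :=
  level_boundN hTB _ [] A0 orb0 1 0 4060 rfl (by decide) Cfsg.Agent.Lib.Helper3.TCX.RuPBSChk3.cnt0 hΓ Cfsg.Agent.Lib.Helper3.TCX.RuPBSChk4.hA0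
    (BT.All_of_all (fun _ h => of_decide_eq_true h) _ Cfsg.Agent.Lib.Helper3.TCX.RuPBSChk4.hgens0) hconn0

theorem hconn1 : ∀ p, p < btable.n → orb1.oid p = 1 →
    (orb1.depth p = 0 ∧ orb1.roots.look 1 = p) ∨
    (orb1.depth p ≠ 0 ∧ orb1.parent p < btable.n ∧ orb1.oid (orb1.parent p) = 1 ∧
      orb1.depth (orb1.parent p) + 1 = orb1.depth p ∧
      btable.walkT (orb1.gens.look (orb1.gen p)) (orb1.parent p) = p) := by
  intro p hp
  have hp' : p < 4060 := hp
  exact (OrbData.connOKc_iff orb1 btable 1 0 4060).mp Cfsg.Agent.Lib.Helper3.TCX.RuPBSChk4.conn1_0 p (by omega) (by omega)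

theorem lev1 : 2304 * Nat.card (pstab (baseGroup hTB 5) (toFin btable.n [1, 0])) ≤
    Nat.card (pstab (baseGroup hTB 5) (toFin btable.n [0])) :=
  level_boundN hTB _ [0] A1 orb1 1 1 2304 rfl (by decide) Cfsg.Agent.Lib.Helper3.TCX.RuPBSChk4.cnt1 hΓ Cfsg.Agent.Lib.Helper3.TCX.RuPBSChk5.hA1
    (BT.All_of_all (fun _ h => of_decide_eq_true h) _ Cfsg.Agent.Lib.Helper3.TCX.RuPBSChk4.hgens1) hconn1

theorem hconn2 : ∀ p, p < btable.n → orb2.oid p = 1 →
    (orb2.depth p = 0 ∧ orb2.roots.look 1 = p) ∨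
    (orb2.depth p ≠ 0 ∧ orb2.parent p < btable.n ∧ orb2.oid (orb2.parent p) = 1 ∧
      orb2.depth (orb2.parent p) + 1 = orb2.depth p ∧
      btable.walkT (orb2.gens.look (orb2.gen p)) (orb2.parent p) = p) := by
  intro p hp
  have hp' : p < 4060 := hp
  exact (OrbData.connOKc_iff orb2 btable 1 0 4060).mp Cfsg.Agent.Lib.Helper3.TCX.RuPBSChk5.conn2_0 p (by omega) (by omega)

theorem lev2 : 975 * Nat.card (pstab (baseGroup hTB 5) (toFin btable.n [2, 1, 0])) ≤
    Nat.card (pstab (baseGroup hTB 5) (toFin btable.n [1, 0])) :=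
  level_boundN hTB _ [1, 0] A2 orb2 1 2 975 rfl (by decide) Cfsg.Agent.Lib.Helper3.TCX.RuPBSChk5.cnt2 hΓ Cfsg.Agent.Lib.Helper3.TCX.RuPBSChk5.hA2
    (BT.All_of_all (fun _ h => of_decide_eq_true h) _ Cfsg.Agent.Lib.Helper3.TCX.RuPBSChk5.hgens2) hconn2

theorem hconn3 : ∀ p, p < btable.n → orb3.oid p = 1 →
    (orb3.depth p = 0 ∧ orb3.roots.look 1 = p) ∨
    (orb3.depth p ≠ 0 ∧ orb3.parent p < btable.n ∧ orb3.oid (orb3.parent p) = 1 ∧
      orb3.depth (orb3.parent p) + 1 = orb3.depth p ∧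
      btable.walkT (orb3.gens.look (orb3.gen p)) (orb3.parent p) = p) := by
  intro p hp
  have hp' : p < 4060 := hp
  exact (OrbData.connOKc_iff orb3 btable 1 0 4060).mp Cfsg.Agent.Lib.Helper3.TCX.RuPBSChk6.conn3_0 p (by omega) (by omega)

theorem lev3 : 16 * Nat.card (pstab (baseGroup hTB 5) (toFin btable.n [3, 2, 1, 0])) ≤
    Nat.card (pstab (baseGroup hTB 5) (toFin btable.n [2, 1, 0])) :=
  level_boundN hTB _ [2, 1, 0] A3 orb3 1 3 16 rfl (by decide) Cfsg.Agent.Lib.Helper3.TCX.RuPBSChk6.cnt3 hΓ Cfsg.Agent.Lib.Helper3.TCX.RuPBSChk6.hA3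
    (BT.All_of_all (fun _ h => of_decide_eq_true h) _ Cfsg.Agent.Lib.Helper3.TCX.RuPBSChk6.hgens3) hconn3

/-- the order of the group generated by the letters of the coset table -/
theorem card_base : 145926144000 ≤ Nat.card (baseGroup hTB 5) := by
  have h : 4060 * (2304 * (975 * (16 * (1)))) ≤ Nat.card (pstab (baseGroup hTB 5) (toFin btable.n [])) :=
    (chain_stepN lev0 (chain_stepN lev1 (chain_stepN lev2 (chain_stepN lev3 (one_le_card _ _)))))
  have e : (145926144000 : ℕ) = 4060 * (2304 * (975 * (16 * (1)))) := by norm_num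
  rw [e]
  exact h

end Cfsg.Agent.Lib.Helper3.TCX.RuPBSMain
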