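import Cfsg.Agent.Lib.Helper28.TC2Upper
import Cfsg.Agent.Lib.Helper3.TCX.RuPDataC0
set_option autoImplicit false
set_option maxRecDepth 100000

namespace Cfsg.Agent.Lib.Helper3.TCX.RuPData
open Cfsg.Agent.Lib.Helper28.TC2Upper

/-- relators -/
def relT : BT (ℕ × List ℕ × List ℕ) := (BT.node 24 (BT.node 12 (BT.node 6 (BT.node 3 (BT.node 1 (BT.node 0 (BT.leaf (2, [0, 0], [0, 0])) (BT.leaf (4, [1, 0, 1, 0], [0, 1, 0, 1]))) (BT.node 2 (BT.leaf (24, [2, 0, 2, 0, 2, 0, 2, 0, 2, 0, 2, 0, 2, 0, 2, 0, 2, 0, 2, 0, 2, 0, 2, 0], [0, 2, 0, 2, 0, 2, 0, 2, 0, 2, 0, 2, 0, 2, 0, 2, 0, 2, 0, 2, 0, 2, 0, 2])) (BT.leaf (4, [3, 0, 3, 0], [0, 3, 0, 3])))) (BT.node 5 (BT.node 4 (BT.leaf (4, [4, 0, 4, 0], [0, 4, 0, 4])) (BT.leaf (4,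 [0, 1, 0, 1], [1, 0, 1, 0]))) (BT.leaf (2, [1, 1], [1, 1])))) (BT.node 9 (BT.node 8 (BT.node 7 (BT.leaf (8, [2, 1, 2, 1, 2, 1, 2, 1], [1, 2, 1, 2, 1, 2, 1, 2])) (BT.leaf (4, [3, 1, 3, 1], [1, 3, 1, 3]))) (BT.leaf (4, [4, 1, 4, 1], [1, 4, 1, 4]))) (BT.node 11 (BT.node 10 (BT.leaf (24, [0, 2, 0, 2, 0, 2, 0, 2, 0, 2, 0, 2, 0, 2, 0, 2, 0, 2, 0, 2, 0, 2, 0, 2], [2, 0, 2, 0, 2, 0, 2, 0, 2, 0, 2, 0, 2, 0, 2, 0, 2, 0, 2, 0, 2, 0, 2, 0])) (BT.leaf (8, [1, 2, 1, 2, 1, 2, 1, 2], [2, 1, 2, 1, 2, 1, 2, 1]))) (BT.leaf (2, [2, 2], [2, 2]))))) (BT.node 18 (BT.node 15 (BT.node 14 (BT.node 13 (BT.leaf (8, [3, 2, 3, 2, 3, 2, 3, 2], [2, 3, 2, 3, 2, 3, 2, 3])) (BT.leaf (8, [4, 2, 4, 2, 4, 2, 4, 2], [2, 4, 2, 4, 2, 4, 2, 4]))) (BT.leaf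 (4, [0, 3, 0, 3], [3, 0, 3, 0]))) (BT.node 17 (BT.node 16 (BT.leaf (4, [1, 3, 1, 3], [3, 1, 3, 1])) (BT.leaf (8, [2, 3, 2, 3, 2, 3, 2, 3], [3, 2, 3, 2, 3, 2, 3, 2]))) (BT.leaf (2, [3, 3], [3, 3])))) (BT.node 21 (BT.node 20 (BT.node 19 (BT.leaf (8, [4, 3, 4, 3, 4, 3, 4, 3], [3, 4, 3, 4, 3, 4, 3, 4])) (BT.leaf (4, [0, 4, 0, 4], [4, 0, 4, 0]))) (BT.leaf (4, [1, 4, 1, 4], [4, 1, 4, 1]))) (BT.node 23 (BT.node 22 (BT.leaf (8, [2, 4, 2, 4, 2, 4, 2, 4], [4, 2, 4, 2, 4, 2, 4, 2])) (BT.leaf (8, [3, 4, 3, 4, 3, 4, 3, 4], [4, 3, 4, 3, 4, 3, 4, 3]))) (BT.leaf (2, [4, 4], [4, 4])))))) (BT.node 36 (BT.node 30 (BT.node 27 (BT.node 26 (BT.node 25 (BT.leaf (30, [2, 1, 2, 0, 2, 0, 2, 0, 2, 0, 2, 1, 2, 0, 2, 0, 2, 0, 2, 0, 2, 1,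 2, 0, 2, 0, 2, 0, 2, 0], [0, 2, 0, 2, 0, 2, 0, 2, 1, 2, 0, 2, 0, 2, 0, 2, 0, 2, 1, 2, 0, 2, 0, 2, 0, 2, 0, 2, 1, 2])) (BT.leaf (30, [2, 1, 2, 0, 2, 1, 2, 0, 2, 0, 1, 2, 1, 2, 0, 2, 0, 2, 1, 2, 1, 0, 2, 0, 2, 1, 2, 0, 2, 1], [1, 2, 0, 2, 1, 2, 0, 2, 0, 1, 2, 1, 2, 0, 2, 0, 2, 1, 2, 1, 0, 2, 0, 2, 1, 2, 0, 2, 1, 2]))) (BT.leaf (29, [0, 2, 0, 1, 2, 0, 2, 0, 2, 0, 2, 0, 2, 1, 0, 2, 1, 2, 0, 2, 0, 2, 0, 2, 0, 2, 0, 2, 1], [1, 2, 0, 2, 0, 2, 0, 2, 0, 2, 0, 2, 1, 2, 0, 1, 2, 0, 2, 0, 2, 0, 2, 0, 2, 1, 0, 2, 0]))) (BT.node 29 (BT.node 28 (BT.leaf (33, [3, 2, 0, 2, 0, 2, 0, 2, 3, 0, 2, 0, 2, 0, 2, 0, 2, 3, 2, 1, 2, 1, 0, 2, 0, 2, 0, 2, 0, 2, 1, 2, 1], [1, 2, 1, 2, 0, 2, 0, 2, 0, 2, 0, 1, 2, 1, 2, 3, 2, 0, 2, 0, 2, 0,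 2, 0, 3, 2, 0, 2, 0, 2, 0, 2, 3])) (BT.leaf (33, [3, 2, 0, 2, 1, 3, 2, 0, 2, 1, 3, 2, 1, 2, 3, 2, 1, 2, 3, 1, 2, 0, 2, 1, 2, 3, 1, 0, 2, 3, 2, 0, 2], [2, 0, 2, 3, 2, 0, 1, 3, 2, 1, 2, 0, 2, 1, 3, 2, 1, 2, 3, 2, 1, 2, 3, 1, 2, 0, 2, 3, 1, 2, 0, 2, 3]))) (BT.leaf (32, [3, 2, 0, 2, 1, 3, 2, 0, 2, 1, 2, 3, 2, 1, 2, 0, 2, 3, 1, 2, 0, 2, 3, 2, 1, 0, 2, 0, 2, 1, 0, 2], [2, 0, 1, 2, 0, 2, 0, 1, 2, 3, 2, 0, 2, 1, 3, 2, 0, 2, 1, 2, 3, 2, 1, 2, 0, 2, 3, 1, 2, 0, 2, 3])))) (BT.node 33 (BT.node 32 (BT.node 31 (BT.leaf (32, [3, 2, 0, 2, 1, 3, 2, 0, 3, 2, 3, 1, 3, 2, 3, 0, 2, 3, 1, 2, 0, 2, 3, 2, 1, 0, 2, 0, 2, 1, 0, 2], [2, 0, 1, 2, 0, 2, 0, 1, 2, 3, 2, 0, 2, 1, 3, 2, 0, 3, 2, 3, 1, 3, 2, 3, 0, 2, 3, 1, 2, 0, 2, 3])) (BT.leaf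 (32, [3, 2, 1, 2, 0, 2, 3, 2, 1, 2, 0, 2, 1, 2, 3, 2, 0, 2, 1, 2, 3, 2, 1, 2, 0, 2, 1, 2, 0, 2, 1, 2], [2, 1, 2, 0, 2, 1, 2, 0, 2, 1, 2, 3, 2, 1, 2, 0, 2, 3, 2, 1, 2, 0, 2, 1, 2, 3, 2, 0, 2, 1, 2, 3]))) (BT.leaf (32, [3, 2, 1, 3, 2, 0, 2, 1, 3, 2, 0, 3, 0, 2, 0, 2, 1, 2, 0, 2, 1, 2, 3, 2, 1, 2, 0, 2, 1, 2, 0, 2], [2, 0, 2, 1, 2, 0, 2, 1, 2, 3, 2, 1, 2, 0, 2, 1, 2, 0, 2, 0, 3, 0, 2, 3, 1, 2, 0, 2, 3, 1, 2, 3]))) (BT.node 35 (BT.node 34 (BT.leaf (28, [4, 2, 0, 2, 0, 2, 4, 0, 4, 2, 0, 2, 0, 2, 4, 1, 2, 0, 2, 0, 2, 0, 2, 0, 2, 0, 2, 1], [1, 2, 0, 2, 0, 2, 0, 2, 0, 2, 0, 2, 1, 4, 2, 0, 2, 0, 2, 4, 0, 4, 2, 0, 2, 0, 2, 4])) (BT.leaf (28, [4, 2, 0, 2, 0, 3, 4, 2, 4, 1, 2, 4, 3, 0, 2, 0, 2, 4, 1, 2, 0, 2, 1, 0, 2, 0,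 2, 1], [1, 2, 0, 2, 0, 1, 2, 0, 2, 1, 4, 2, 0, 2, 0, 3, 4, 2, 1, 4, 2, 4, 3, 0, 2, 0, 2, 4]))) (BT.leaf (28, [4, 2, 0, 2, 3, 4, 3, 2, 1, 4, 3, 2, 3, 2, 3, 2, 4, 3, 2, 3, 4, 3, 0, 2, 4, 2, 1, 2], [2, 1, 2, 4, 2, 0, 3, 4, 3, 2, 3, 4, 2, 3, 2, 3, 2, 3, 4, 1, 2, 3, 4, 3, 2, 0, 2, 4]))))) (BT.node 42 (BT.node 39 (BT.node 38 (BT.node 37 (BT.leaf (28, [4, 2, 0, 2, 4, 2, 1, 4, 3, 2, 0, 1, 0, 2, 3, 4, 1, 2, 4, 2, 0, 2, 4, 1, 2, 3, 2, 1], [1, 2, 3, 2, 1, 4, 2, 0, 2, 4, 2, 1, 4, 3, 2, 0, 1, 0, 2, 3, 4, 1, 2, 4, 2, 0, 2, 4])) (BT.leaf (28, [4, 2, 0, 3, 2, 3, 0, 2, 3, 0, 2, 4, 1, 0, 2, 0, 2, 0, 2, 3, 0, 2, 0, 2, 0, 2, 1, 0], [0, 1, 2, 0, 2, 0, 2, 0, 3, 2, 0, 2, 0, 2, 0, 1, 4, 2, 0, 3, 2, 0, 3, 2, 3, 0, 2, 4]))) (BT.leaf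 (28, [4, 2, 1, 2, 4, 3, 2, 1, 4, 2, 3, 2, 4, 2, 1, 2, 4, 2, 3, 4, 2, 4, 1, 2, 3, 2, 1, 2], [2, 1, 2, 3, 2, 1, 4, 2, 4, 3, 2, 4, 2, 1, 2, 4, 2, 3, 2, 4, 1, 2, 3, 4, 2, 1, 2, 4]))) (BT.node 41 (BT.node 40 (BT.leaf (28, [4, 2, 1, 3, 2, 4, 2, 3, 2, 0, 1, 0, 2, 3, 1, 2, 4, 2, 3, 0, 2, 4, 1, 2, 3, 0, 2, 1], [1, 2, 0, 3, 2, 1, 4, 2, 0, 3, 2, 4, 2, 1, 3, 2, 0, 1, 0, 2, 3, 2, 4, 2, 3, 1, 2, 4])) (BT.leaf (28, [4, 2, 1, 3, 2, 4, 2, 4, 0, 1, 2, 4, 2, 3, 1, 2, 4, 2, 0, 2, 1, 2, 0, 2, 1, 2, 0, 2], [2, 0, 2, 1, 2, 0, 2, 1, 2, 0, 2, 4, 2, 1, 3, 2, 4, 2, 1, 0, 4, 2, 4, 2, 3, 1, 2, 4]))) (BT.leaf (28, [4, 2, 1, 4, 3, 4, 2, 1, 2, 4, 2, 4, 2, 0, 2, 4, 1, 2, 3, 4, 2, 4, 1, 2, 1, 0, 2, 1], [1, 2, 0, 1, 2, 1, 4, 2, 4, 3, 2, 1, 4,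 2, 0, 2, 4, 2, 4, 2, 1, 2, 4, 3, 4, 1, 2, 4])))) (BT.node 45 (BT.node 44 (BT.node 43 (BT.leaf (28, [4, 2, 3, 2, 1, 2, 4, 2, 1, 2, 1, 3, 2, 4, 1, 2, 4, 3, 2, 1, 2, 4, 2, 1, 2, 3, 2, 1], [1, 2, 3, 2, 1, 2, 4, 2, 1, 2, 3, 4, 2, 1, 4, 2, 3, 1, 2, 1, 2, 4, 2, 1, 2, 3, 2, 4])) (BT.leaf (28, [4, 2, 3, 2, 4, 2, 0, 3, 4, 3, 1, 2, 4, 2, 3, 2, 4, 2, 0, 2, 1, 2, 0, 2, 1, 2, 0, 2], [2, 0, 2, 1, 2, 0, 2, 1, 2, 0, 2, 4, 2, 3, 2, 4, 2, 1, 3, 4, 3, 0, 2, 4, 2, 3, 2, 4]))) (BT.leaf (28, [4, 3, 4, 2, 1, 3, 4, 2, 1, 2, 0, 2, 1, 2, 4, 3, 2, 4, 3, 4, 2, 1, 2, 3, 0, 2, 1, 2], [2, 1, 2, 0, 3, 2, 1, 2, 4, 3, 4, 2, 3, 4, 2, 1, 2, 0, 2, 1, 2, 4, 3, 1, 2, 4, 3, 4]))) (BT.node 47 (BT.node 46 (BT.leaf (24, [4, 3, 2, 1, 2, 4, 2, 3, 4, 1,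 4, 3, 2, 4, 0, 2, 1, 2, 4, 2, 1, 2, 3, 0], [0, 3, 2, 1, 2, 4, 2, 1, 2, 0, 4, 2, 3, 4, 1, 4, 3, 2, 4, 2, 1, 2, 3, 4])) (BT.leaf (24, [4, 3, 2, 1, 2, 4, 2, 3, 4, 2, 3, 2, 3, 2, 4, 3, 1, 2, 4, 3, 4, 3, 2, 3], [3, 2, 3, 4, 3, 4, 2, 1, 3, 4, 2, 3, 2, 3, 2, 4, 3, 2, 4, 2, 1, 2, 3, 4]))) (BT.leaf (23, [4, 3, 2, 4, 2, 4, 3, 2, 4, 2, 3, 4, 3, 2, 4, 2, 3, 4, 1, 2, 4, 2, 3], [3, 2, 4, 2, 1, 4, 3, 2, 4, 2, 3, 4, 3, 2, 4, 2, 3, 4, 2, 4, 2, 3, 4])))))))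
/-- subgroup generators -/
def subT : BT (ℕ × List ℕ × List ℕ) := (BT.node 2 (BT.node 1 (BT.node 0 (BT.leaf (1, [0], [0])) (BT.leaf (1, [1], [1]))) (BT.leaf (1, [2], [2]))) (BT.node 3 (BT.leaf (1, [3], [3])) (BT.leaf (13, [4, 2, 0, 2, 1, 4, 3, 2, 4, 3, 4, 2, 4], [4, 2, 4, 3, 4, 2, 3, 4, 1, 2, 0, 2, 4]))))
/-- fact chunks -/
def colET : BT ℕ := (BT.node 23 (BT.node 11 (BT.node 5 (BT.node 2 (BT.node 1 (BT.node 0 (BT.leaf cE0) (BT.leaf cE1)) (BT.leaf cE2)) (BT.node 4 (BT.node 3 (BT.leaf cE3) (BT.leaf cE4)) (BT.leaf cE5))) (BT.node 8 (BT.node 7 (BT.node 6 (BT.leaf cE6) (BT.leaf cE7)) (BT.leaf cE8)) (BT.node 10 (BT.node 9 (BT.leaf cE9) (BT.leaf cE10)) (BT.leaf cE11)))) (BT.node 17 (BT.node 14 (BT.node 13 (BT.node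 12 (BT.leaf cE12) (BT.leaf cE13)) (BT.leaf cE14)) (BT.node 16 (BT.node 15 (BT.leaf cE15) (BT.leaf cE16)) (BT.leaf cE17))) (BT.node 20 (BT.node 19 (BT.node 18 (BT.leaf cE18) (BT.leaf cE19)) (BT.leaf cE20)) (BT.node 22 (BT.node 21 (BT.leaf cE21) (BT.leaf cE22)) (BT.leaf cE23))))) (BT.node 35 (BT.node 29 (BT.node 26 (BT.node 25 (BT.node 24 (BT.leaf cE24) (BT.leaf cE25)) (BT.leaf cE26)) (BT.node 28 (BT.node 27 (BT.leaf cE27) (BT.leaf cE28)) (BT.leaf cE29))) (BT.node 32 (BT.node 31 (BT.node 30 (BT.leaf cE30) (BT.leaf cE31)) (BT.leaf cE32)) (BT.node 34 (BT.node 33 (BT.leaf cE33) (BT.leaf cE34)) (BT.leaf cE35)))) (BT.node 41 (BT.node 38 (BT.node 37 (BT.node 36 (BT.leaf cE36) (BT.leaf cE37)) (BT.leaf cE38)) (BT.node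 40 (BT.node 39 (BT.leaf cE39) (BT.leaf cE40)) (BT.leaf cE41))) (BT.node 44 (BT.node 43 (BT.node 42 (BT.leaf cE42) (BT.leaf cE43)) (BT.leaf cE44)) (BT.node 46 (BT.node 45 (BT.leaf cE45) (BT.leaf cE46)) (BT.leaf cE47))))))
/-- justification chunks -/
def colJT : BT ℕ := (BT.node 23 (BT.node 11 (BT.node 5 (BT.node 2 (BT.node 1 (BT.node 0 (BT.leaf cJ0) (BT.leaf cJ1)) (BT.leaf cJ2)) (BT.node 4 (BT.node 3 (BT.leaf cJ3) (BT.leaf cJ4)) (BT.leaf cJ5))) (BT.node 8 (BT.node 7 (BT.node 6 (BT.leaf cJ6) (BT.leaf cJ7)) (BT.leaf cJ8)) (BT.node 10 (BT.node 9 (BT.leaf cJ9) (BT.leaf cJ10)) (BT.leaf cJ11)))) (BT.node 17 (BT.node 14 (BT.node 13 (BT.node 12 (BT.leaf cJ12) (BT.leaf cJ13)) (BT.leaf cJ14)) (BT.node 16 (BT.node 15 (BT.leaf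 cJ15) (BT.leaf cJ16)) (BT.leaf cJ17))) (BT.node 20 (BT.node 19 (BT.node 18 (BT.leaf cJ18) (BT.leaf cJ19)) (BT.leaf cJ20)) (BT.node 22 (BT.node 21 (BT.leaf cJ21) (BT.leaf cJ22)) (BT.leaf cJ23))))) (BT.node 35 (BT.node 29 (BT.node 26 (BT.node 25 (BT.node 24 (BT.leaf cJ24) (BT.leaf cJ25)) (BT.leaf cJ26)) (BT.node 28 (BT.node 27 (BT.leaf cJ27) (BT.leaf cJ28)) (BT.leaf cJ29))) (BT.node 32 (BT.node 31 (BT.node 30 (BT.leaf cJ30) (BT.leaf cJ31)) (BT.leaf cJ32)) (BT.node 34 (BT.node 33 (BT.leaf cJ33) (BT.leaf cJ34)) (BT.leaf cJ35)))) (BT.node 41 (BT.node 38 (BT.node 37 (BT.node 36 (BT.leaf cJ36) (BT.leaf cJ37)) (BT.leaf cJ38)) (BT.node 40 (BT.node 39 (BT.leaf cJ39) (BT.leaf cJ40)) (BT.leaf cJ41))) (BT.node 44 (BT.node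 43 (BT.node 42 (BT.leaf cJ42) (BT.leaf cJ43)) (BT.leaf cJ44)) (BT.node 46 (BT.node 45 (BT.leaf cJ45) (BT.leaf cJ46)) (BT.leaf cJ47))))))
/-- parent chunks -/
def parCT : BT ℕ := (BT.node 3 (BT.node 1 (BT.node 0 (BT.leaf cP0) (BT.leaf cP1)) (BT.node 2 (BT.leaf cP2) (BT.leaf cP3))) (BT.node 5 (BT.node 4 (BT.leaf cP4) (BT.leaf cP5)) (BT.node 6 (BT.leaf cP6) (BT.leaf cP7))))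
/-- the certificate -/
def data : Data where
  k := 5
  N := 4060
  W := 27
  MW := 134217728
  B := 4096
  CH := 512
  NCH := 8
  colE := colET
  JW := 64
  MJ := 18446744073709551616
  A := 1048576
  colJ := colJT
  PW := 22
  MP := 4194304
  parC := parCT
  inv := (BT.node 2 (BT.node 1 (BT.node 0 (BT.leaf 0) (BT.leaf 1)) (BT.leaf 2)) (BT.node 4 (BT.node 3 (BT.leaf 3) (BT.leaf 4)) (BT.leaf 5)))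
  rel := relT
  sub := subT
  fuel := 4

end Cfsg.Agent.Lib.Helper3.TCX.RuPData
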