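import Cfsg.Agent.Lib.Helper28.TC2Simple
import Cfsg.Agent.Lib.Helper3.TCX.RuPMain
set_option autoImplicit false
set_option maxRecDepth 100000
set_option maxHeartbeats 0

namespace Cfsg.Agent.Lib.Helper3.TCX.RuPFinal
open Cfsg.Agent.Lib.Helper28.TC2Upper Cfsg.Agent.Lib.Helper28.TC2Lower Cfsg.Agent.Lib.Helper28.TC2Glue
open Cfsg.Agent.Lib.Helper28.TC2Simple Cfsg.Agent.Lib.Helper3.TCX.RuPTable Cfsg.Agent.Lib.Helper3.TCX.RuPLink

/-- the base points -/
def basePts : List ℕ := [3, 2, 1, 0]

/-- an element of order 7 whose product with an element of order 7 is the generator a -/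
def xw_a : List (Cfsg.Agent.Lib.Helper3.TCX.RuPDef.Gen × Bool) := [(.c, true), (.c, true), (.d, true), (.c, true), (.e, true), (.c, true)]
def yw_a : List (Cfsg.Agent.Lib.Helper3.TCX.RuPDef.Gen × Bool) := FreeGroup.invRev xw_a ++ [(.a, true)]
/-- an element of order 7 whose product with an element of order 7 is the generator b -/
def xw_b : List (Cfsg.Agent.Lib.Helper3.TCX.RuPDef.Gen × Bool) := [(.c, true), (.c, true), (.d, true), (.c, true), (.e, true), (.c, true)]
def yw_b : List (Cfsg.Agent.Lib.Helper3.TCX.RuPDef.Gen × Bool) := FreeGroup.invRev xw_b ++ [(.b, true)]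
/-- an element of order 7 whose product with an element of order 7 is the generator c -/
def xw_c : List (Cfsg.Agent.Lib.Helper3.TCX.RuPDef.Gen × Bool) := [(.d, true), (.b, true), (.c, true), (.b, true), (.a, true), (.c, true), (.d, true), (.c, true), (.e, true), (.a, true), (.b, true), (.c, true), (.b, true), (.d, true)]
def yw_c : List (Cfsg.Agent.Lib.Helper3.TCX.RuPDef.Gen × Bool) := FreeGroup.invRev xw_c ++ [(.c, true)]
/-- an element of order 7 whose product with an element of order 7 is the generator d -/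
def xw_d : List (Cfsg.Agent.Lib.Helper3.TCX.RuPDef.Gen × Bool) := [(.c, true), (.b, true), (.c, true), (.c, true), (.d, true), (.c, true), (.e, true), (.c, true), (.b, true), (.c, true)]
def yw_d : List (Cfsg.Agent.Lib.Helper3.TCX.RuPDef.Gen × Bool) := FreeGroup.invRev xw_d ++ [(.d, true)]
/-- an element of order 7 whose product with an element of order 7 is the generator e -/
def xw_e : List (Cfsg.Agent.Lib.Helper3.TCX.RuPDef.Gen × Bool) := [(.c, true), (.c, true), (.d, true), (.c, true), (.e, true), (.c, true)]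
def yw_e : List (Cfsg.Agent.Lib.Helper3.TCX.RuPDef.Gen × Bool) := FreeGroup.invRev xw_e ++ [(.e, true)]

/-- the powers to be checked on the base -/
def chkList : List (List (Cfsg.Agent.Lib.Helper3.TCX.RuPDef.Gen × Bool) × ℕ) := [(xw_a, 7), (yw_a, 7), (xw_b, 7), (yw_b, 7), (xw_c, 7), (yw_c, 7), (xw_d, 7), (yw_d, 7), (xw_e, 7), (yw_e, 7)]

theorem chk : (chkList.all fun wp => basePts.all fun b =>
    Nat.beq (table.walkT (pathOf lw (List.replicate wp.2 wp.1).flatten) b) b) = true := by decide +kernel

theorem chk_spec : ∀ wp ∈ chkList, ∀ b ∈ basePts,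
    table.walkT (pathOf lw (List.replicate wp.2 wp.1).flatten) b = b := by
  intro wp hwp b hb
  have h := chk
  rw [List.all_eq_true] at h
  have h1 := h wp hwp
  rw [List.all_eq_true] at h1
  exact Nat.eq_of_beq_eq_true (h1 b hb)

/-- the suborbit lengths -/
def cnt (c : ℕ) : ℕ := [1, 2304, 1755].getD c 0

theorem harith : ∀ C ∈ (Finset.range 3).powerset, (∑ c ∈ C, cnt c) ∣ 4060 →
    (∑ c ∈ C, cnt c) = 1 ∨ (∑ c ∈ C, cnt c) = 4060 := by decide +kernel

end Cfsg.Agent.Lib.Helper3.TCX.RuPFinal
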