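import Cfsg.Agent.Lib.Helper28.TC2Simple
import Cfsg.Agent.Lib.Helper3.TCX.RuPOrb
set_option autoImplicit false
set_option maxRecDepth 100000
set_option maxHeartbeats 0

namespace Cfsg.Agent.Lib.Helper3.TCX.RuPOrbChk
open Cfsg.Agent.Lib.Helper28.TC2Upper Cfsg.Agent.Lib.Helper28.TC2Lower Cfsg.Agent.Lib.Helper28.TC2Orbit Cfsg.Agent.Lib.Helper28.TC2Simple Cfsg.Agent.Lib.Helper3.TCX.RuPTable Cfsg.Agent.Lib.Helper3.TCX.RuPOrb

theorem clo0 : orbData.closedOK table subPaths 0 4060 = true := by decide +kernel
theorem conn0 : orbData.connOK table 0 4060 = true := by decide +kernel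
theorem hgens : BT.all (fun s => decide (s ∈ subPaths)) orbData.gens = true := by decide +kernel
theorem cl0 : clsOK orbData 3 0 4060 = true := by decide +kernel
theorem cntc0 : orbData.count 4060 0 = 1 := by decide +kernel
theorem cntc1 : orbData.count 4060 1 = 2304 := by decide +kernel
theorem cntc2 : orbData.count 4060 2 = 1755 := by decide +kernel

theorem hclosed : ∀ p, p < table.n → ∀ s ∈ subPaths, orbData.oid (table.walkT s p) = orbData.oid p := by
  intro p hp
  have hp' : p < 4060 := hp
  exact (orbData.closedOK_iff table subPaths 0 4060).mp clo0 p (by omega) (by omega)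

theorem hconn : ∀ p, p < table.n →
    (orbData.depth p = 0 ∧ orbData.roots.look (orbData.oid p) = p) ∨
    (orbData.depth p ≠ 0 ∧ orbData.parent p < table.n ∧ orbData.oid (orbData.parent p) = orbData.oid p ∧
      orbData.depth (orbData.parent p) + 1 = orbData.depth p ∧
      table.walkT (orbData.gens.look (orbData.gen p)) (orbData.parent p) = p) :=
  fun p hp => (orbData.connOK_iff table 0 4060).mp conn0 p (Nat.zero_le _) (by have : p < 4060 := hp; omega)

theorem hclsAll : ∀ p, p < table.n → orbData.oid p < 3 := by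
  intro p hp
  have hp' : p < 4060 := hp
  exact (clsOK_iff orbData 3 0 4060).mp cl0 p (by omega) (by omega)

end Cfsg.Agent.Lib.Helper3.TCX.RuPOrbChk
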