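import Cfsg.Agent.Lib.Helper28.TC2Upper
import Cfsg.Agent.Lib.Helper3.TCX.RuQDataC0
set_option autoImplicit false
set_option maxRecDepth 100000

namespace Cfsg.Agent.Lib.Helper3.TCX.RuQData
open Cfsg.Agent.Lib.Helper28.TC2Upper

/-- relators -/
def relT : BT (ℕ × List ℕ × List ℕ) := (BT.node 24 (BT.node 12 (BT.node 6 (BT.node 3 (BT.node 1 (BT.node 0 (BT.leaf (2, [0, 0], [0, 0])) (BT.leaf (4, [1, 0, 1, 0], [0, 1, 0, 1]))) (BT.node 2 (BT.leaf (24, [2, 0, 2, 0, 2, 0, 2, 0, 2, 0, 2, 0, 2, 0, 2, 0, 2, 0, 2, 0, 2, 0, 2, 0], [0, 2, 0, 2, 0, 2, 0, 2, 0, 2, 0, 2, 0, 2, 0, 2, 0, 2, 0, 2, 0, 2, 0, 2])) (BT.leaf (4, [3, 0, 3, 0], [0, 3, 0, 3])))) (BT.node 5 (BT.node 4 (BT.leaf (4, [4, 0, 4, 0], [0, 4, 0, 4])) (BT.leaf (4, [0, 1, 0, 1], [1, 0,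 1, 0]))) (BT.leaf (2, [1, 1], [1, 1])))) (BT.node 9 (BT.node 8 (BT.node 7 (BT.leaf (8, [2, 1, 2, 1, 2, 1, 2, 1], [1, 2, 1, 2, 1, 2, 1, 2])) (BT.leaf (4, [3, 1, 3, 1], [1, 3, 1, 3]))) (BT.leaf (4, [4, 1, 4, 1], [1, 4, 1, 4]))) (BT.node 11 (BT.node 10 (BT.leaf (24, [0, 2, 0, 2, 0, 2, 0, 2, 0, 2, 0, 2, 0, 2, 0, 2, 0, 2, 0, 2, 0, 2, 0, 2], [2, 0, 2, 0, 2, 0, 2, 0, 2, 0, 2, 0, 2, 0, 2, 0, 2, 0, 2, 0, 2, 0, 2, 0])) (BT.leaf (8, [1, 2, 1, 2, 1, 2, 1, 2], [2, 1, 2, 1, 2, 1, 2, 1]))) (BT.leaf (2, [2, 2], [2, 2]))))) (BT.node 18 (BT.node 15 (BT.node 14 (BT.node 13 (BT.leaf (8, [3, 2, 3, 2, 3, 2, 3, 2], [2, 3, 2, 3, 2, 3, 2, 3])) (BT.leaf (8, [4, 2, 4, 2, 4, 2, 4, 2], [2, 4, 2, 4, 2, 4, 2, 4]))) (BT.leaf (4, [0, 3, 0, 3], [3, 0, 3, 0]))) (BT.node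 17 (BT.node 16 (BT.leaf (4, [1, 3, 1, 3], [3, 1, 3, 1])) (BT.leaf (8, [2, 3, 2, 3, 2, 3, 2, 3], [3, 2, 3, 2, 3, 2, 3, 2]))) (BT.leaf (2, [3, 3], [3, 3])))) (BT.node 21 (BT.node 20 (BT.node 19 (BT.leaf (8, [4, 3, 4, 3, 4, 3, 4, 3], [3, 4, 3, 4, 3, 4, 3, 4])) (BT.leaf (4, [0, 4, 0, 4], [4, 0, 4, 0]))) (BT.leaf (4, [1, 4, 1, 4], [4, 1, 4, 1]))) (BT.node 23 (BT.node 22 (BT.leaf (8, [2, 4, 2, 4, 2, 4, 2, 4], [4, 2, 4, 2, 4, 2, 4, 2])) (BT.leaf (8, [3, 4, 3, 4, 3, 4, 3, 4], [4, 3, 4, 3, 4, 3, 4, 3]))) (BT.leaf (2, [4, 4], [4, 4])))))) (BT.node 36 (BT.node 30 (BT.node 27 (BT.node 26 (BT.node 25 (BT.leaf (30, [2, 1, 2, 0, 2, 0, 2, 0, 2, 0, 2, 1, 2, 0, 2, 0, 2, 0, 2, 0, 2, 1, 2, 0, 2, 0, 2, 0, 2, 0], [0, 2, 0, 2, 0, 2, 0, 2, 1, 2, 0, 2, 0,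 2, 0, 2, 0, 2, 1, 2, 0, 2, 0, 2, 0, 2, 0, 2, 1, 2])) (BT.leaf (30, [2, 1, 2, 0, 2, 1, 2, 0, 2, 0, 1, 2, 1, 2, 0, 2, 0, 2, 1, 2, 1, 0, 2, 0, 2, 1, 2, 0, 2, 1], [1, 2, 0, 2, 1, 2, 0, 2, 0, 1, 2, 1, 2, 0, 2, 0, 2, 1, 2, 1, 0, 2, 0, 2, 1, 2, 0, 2, 1, 2]))) (BT.leaf (29, [0, 2, 0, 1, 2, 0, 2, 0, 2, 0, 2, 0, 2, 1, 0, 2, 1, 2, 0, 2, 0, 2, 0, 2, 0, 2, 0, 2, 1], [1, 2, 0, 2, 0, 2, 0, 2, 0, 2, 0, 2, 1, 2, 0, 1, 2, 0, 2, 0, 2, 0, 2, 0, 2, 1, 0, 2, 0]))) (BT.node 29 (BT.node 28 (BT.leaf (33, [3, 2, 0, 2, 0, 2, 0, 2, 3, 0, 2, 0, 2, 0, 2, 0, 2, 3, 2, 1, 2, 1, 0, 2, 0, 2, 0, 2, 0, 2, 1, 2, 1], [1, 2, 1, 2, 0, 2, 0, 2, 0, 2, 0, 1, 2, 1, 2, 3, 2, 0, 2, 0, 2, 0, 2, 0, 3, 2, 0, 2, 0, 2, 0, 2, 3])) (BT.leaf (33, [3, 2, 0, 2, 1, 3, 2, 0, 2, 1, 3, 2,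 1, 2, 3, 2, 1, 2, 3, 1, 2, 0, 2, 1, 2, 3, 1, 0, 2, 3, 2, 0, 2], [2, 0, 2, 3, 2, 0, 1, 3, 2, 1, 2, 0, 2, 1, 3, 2, 1, 2, 3, 2, 1, 2, 3, 1, 2, 0, 2, 3, 1, 2, 0, 2, 3]))) (BT.leaf (32, [3, 2, 0, 2, 1, 3, 2, 0, 2, 1, 2, 3, 2, 1, 2, 0, 2, 3, 1, 2, 0, 2, 3, 2, 1, 0, 2, 0, 2, 1, 0, 2], [2, 0, 1, 2, 0, 2, 0, 1, 2, 3, 2, 0, 2, 1, 3, 2, 0, 2, 1, 2, 3, 2, 1, 2, 0, 2, 3, 1, 2, 0, 2, 3])))) (BT.node 33 (BT.node 32 (BT.node 31 (BT.leaf (32, [3, 2, 0, 2, 1, 3, 2, 0, 3, 2, 3, 1, 3, 2, 3, 0, 2, 3, 1, 2, 0, 2, 3, 2, 1, 0, 2, 0, 2, 1, 0, 2], [2, 0, 1, 2, 0, 2, 0, 1, 2, 3, 2, 0, 2, 1, 3, 2, 0, 3, 2, 3, 1, 3, 2, 3, 0, 2, 3, 1, 2, 0, 2, 3])) (BT.leaf (32, [3, 2, 1, 2, 0, 2, 3, 2, 1, 2, 0, 2, 1, 2, 3, 2, 0, 2, 1, 2, 3, 2, 1, 2, 0, 2, 1, 2, 0, 2, 1, 2],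 [2, 1, 2, 0, 2, 1, 2, 0, 2, 1, 2, 3, 2, 1, 2, 0, 2, 3, 2, 1, 2, 0, 2, 1, 2, 3, 2, 0, 2, 1, 2, 3]))) (BT.leaf (32, [3, 2, 1, 3, 2, 0, 2, 1, 3, 2, 0, 3, 0, 2, 0, 2, 1, 2, 0, 2, 1, 2, 3, 2, 1, 2, 0, 2, 1, 2, 0, 2], [2, 0, 2, 1, 2, 0, 2, 1, 2, 3, 2, 1, 2, 0, 2, 1, 2, 0, 2, 0, 3, 0, 2, 3, 1, 2, 0, 2, 3, 1, 2, 3]))) (BT.node 35 (BT.node 34 (BT.leaf (28, [4, 2, 0, 2, 0, 2, 4, 0, 4, 2, 0, 2, 0, 2, 4, 1, 2, 0, 2, 0, 2, 0, 2, 0, 2, 0, 2, 1], [1, 2, 0, 2, 0, 2, 0, 2, 0, 2, 0, 2, 1, 4, 2, 0, 2, 0, 2, 4, 0, 4, 2, 0, 2, 0, 2, 4])) (BT.leaf (28, [4, 2, 0, 2, 0, 3, 4, 2, 4, 1, 2, 4, 3, 0, 2, 0, 2, 4, 1, 2, 0, 2, 1, 0, 2, 0, 2, 1], [1, 2, 0, 2, 0, 1, 2, 0, 2, 1, 4, 2, 0, 2, 0, 3, 4, 2, 1, 4, 2, 4, 3, 0, 2, 0, 2, 4]))) (BT.leaf (28, [4, 2, 0, 2, 3,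 4, 3, 2, 1, 4, 3, 2, 3, 2, 3, 2, 4, 3, 2, 3, 4, 3, 0, 2, 4, 2, 1, 2], [2, 1, 2, 4, 2, 0, 3, 4, 3, 2, 3, 4, 2, 3, 2, 3, 2, 3, 4, 1, 2, 3, 4, 3, 2, 0, 2, 4]))))) (BT.node 42 (BT.node 39 (BT.node 38 (BT.node 37 (BT.leaf (28, [4, 2, 0, 2, 4, 2, 1, 4, 3, 2, 0, 1, 0, 2, 3, 4, 1, 2, 4, 2, 0, 2, 4, 1, 2, 3, 2, 1], [1, 2, 3, 2, 1, 4, 2, 0, 2, 4, 2, 1, 4, 3, 2, 0, 1, 0, 2, 3, 4, 1, 2, 4, 2, 0, 2, 4])) (BT.leaf (28, [4, 2, 0, 3, 2, 3, 0, 2, 3, 0, 2, 4, 1, 0, 2, 0, 2, 0, 2, 3, 0, 2, 0, 2, 0, 2, 1, 0], [0, 1, 2, 0, 2, 0, 2, 0, 3, 2, 0, 2, 0, 2, 0, 1, 4, 2, 0, 3, 2, 0, 3, 2, 3, 0, 2, 4]))) (BT.leaf (28, [4, 2, 1, 2, 4, 3, 2, 1, 4, 2, 3, 2, 4, 2, 1, 2, 4, 2, 3, 4, 2, 4, 1, 2, 3, 2, 1, 2], [2, 1, 2, 3, 2, 1, 4, 2, 4, 3, 2, 4, 2, 1, 2, 4, 2, 3, 2,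 4, 1, 2, 3, 4, 2, 1, 2, 4]))) (BT.node 41 (BT.node 40 (BT.leaf (28, [4, 2, 1, 3, 2, 4, 2, 3, 2, 0, 1, 0, 2, 3, 1, 2, 4, 2, 3, 0, 2, 4, 1, 2, 3, 0, 2, 1], [1, 2, 0, 3, 2, 1, 4, 2, 0, 3, 2, 4, 2, 1, 3, 2, 0, 1, 0, 2, 3, 2, 4, 2, 3, 1, 2, 4])) (BT.leaf (28, [4, 2, 1, 3, 2, 4, 2, 4, 0, 1, 2, 4, 2, 3, 1, 2, 4, 2, 0, 2, 1, 2, 0, 2, 1, 2, 0, 2], [2, 0, 2, 1, 2, 0, 2, 1, 2, 0, 2, 4, 2, 1, 3, 2, 4, 2, 1, 0, 4, 2, 4, 2, 3, 1, 2, 4]))) (BT.leaf (28, [4, 2, 1, 4, 3, 4, 2, 1, 2, 4, 2, 4, 2, 0, 2, 4, 1, 2, 3, 4, 2, 4, 1, 2, 1, 0, 2, 1], [1, 2, 0, 1, 2, 1, 4, 2, 4, 3, 2, 1, 4, 2, 0, 2, 4, 2, 4, 2, 1, 2, 4, 3, 4, 1, 2, 4])))) (BT.node 45 (BT.node 44 (BT.node 43 (BT.leaf (28, [4, 2, 3, 2, 1, 2, 4, 2, 1, 2, 1, 3, 2, 4, 1, 2, 4, 3, 2, 1, 2, 4, 2, 1,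 2, 3, 2, 1], [1, 2, 3, 2, 1, 2, 4, 2, 1, 2, 3, 4, 2, 1, 4, 2, 3, 1, 2, 1, 2, 4, 2, 1, 2, 3, 2, 4])) (BT.leaf (28, [4, 2, 3, 2, 4, 2, 0, 3, 4, 3, 1, 2, 4, 2, 3, 2, 4, 2, 0, 2, 1, 2, 0, 2, 1, 2, 0, 2], [2, 0, 2, 1, 2, 0, 2, 1, 2, 0, 2, 4, 2, 3, 2, 4, 2, 1, 3, 4, 3, 0, 2, 4, 2, 3, 2, 4]))) (BT.leaf (28, [4, 3, 4, 2, 1, 3, 4, 2, 1, 2, 0, 2, 1, 2, 4, 3, 2, 4, 3, 4, 2, 1, 2, 3, 0, 2, 1, 2], [2, 1, 2, 0, 3, 2, 1, 2, 4, 3, 4, 2, 3, 4, 2, 1, 2, 0, 2, 1, 2, 4, 3, 1, 2, 4, 3, 4]))) (BT.node 47 (BT.node 46 (BT.leaf (24, [4, 3, 2, 1, 2, 4, 2, 3, 4, 1, 4, 3, 2, 4, 0, 2, 1, 2, 4, 2, 1, 2, 3, 0], [0, 3, 2, 1, 2, 4, 2, 1, 2, 0, 4, 2, 3, 4, 1, 4, 3, 2, 4, 2, 1, 2, 3, 4])) (BT.leaf (24, [4, 3, 2, 1, 2, 4, 2, 3, 4, 2, 3, 2, 3, 2, 4, 3, 1, 2, 4, 3, 4,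 3, 2, 3], [3, 2, 3, 4, 3, 4, 2, 1, 3, 4, 2, 3, 2, 3, 2, 4, 3, 2, 4, 2, 1, 2, 3, 4]))) (BT.leaf (23, [4, 3, 2, 4, 2, 4, 3, 2, 4, 2, 3, 4, 3, 2, 4, 2, 3, 4, 1, 2, 4, 2, 3], [3, 2, 4, 2, 1, 4, 3, 2, 4, 2, 3, 4, 3, 2, 4, 2, 3, 4, 2, 4, 2, 3, 4])))))))
/-- subgroup generators -/
def subT : BT (ℕ × List ℕ × List ℕ) := (BT.node 1 (BT.node 0 (BT.leaf (1, [0], [0])) (BT.leaf (1, [1], [1]))) (BT.node 2 (BT.leaf (1, [2], [2])) (BT.leaf (1, [3], [3]))))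
/-- fact chunks -/
def colET : BT ℕ := (BT.node 47 (BT.node 23 (BT.node 11 (BT.node 5 (BT.node 2 (BT.node 1 (BT.node 0 (BT.leaf cE0) (BT.leaf cE1)) (BT.leaf cE2)) (BT.node 4 (BT.node 3 (BT.leaf cE3) (BT.leaf cE4)) (BT.leaf cE5))) (BT.node 8 (BT.node 7 (BT.node 6 (BT.leaf cE6) (BT.leaf cE7)) (BT.leaf cE8)) (BT.node 10 (BT.node 9 (BT.leaf cE9) (BT.leaf cE10)) (BT.leaf cE11)))) (BT.node 17 (BT.node 14 (BT.node 13 (BT.node 12 (BT.leaf cE12) (BT.leaf cE13)) (BT.leaf cE14)) (BT.node 16 (BT.node 15 (BT.leaf cE15) (BT.leaf cE16)) (BT.leaf cE17))) (BT.node 20 (BT.node 19 (BT.node 18 (BT.leaf cE18) (BT.leaf cE19)) (BT.leaf cE20)) (BT.node 22 (BT.node 21 (BT.leaf cE21) (BT.leaf cE22)) (BT.leaf cE23))))) (BT.node 35 (BT.node 29 (BT.node 26 (BT.node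 25 (BT.node 24 (BT.leaf cE24) (BT.leaf cE25)) (BT.leaf cE26)) (BT.node 28 (BT.node 27 (BT.leaf cE27) (BT.leaf cE28)) (BT.leaf cE29))) (BT.node 32 (BT.node 31 (BT.node 30 (BT.leaf cE30) (BT.leaf cE31)) (BT.leaf cE32)) (BT.node 34 (BT.node 33 (BT.leaf cE33) (BT.leaf cE34)) (BT.leaf cE35)))) (BT.node 41 (BT.node 38 (BT.node 37 (BT.node 36 (BT.leaf cE36) (BT.leaf cE37)) (BT.leaf cE38)) (BT.node 40 (BT.node 39 (BT.leaf cE39) (BT.leaf cE40)) (BT.leaf cE41))) (BT.node 44 (BT.node 43 (BT.node 42 (BT.leaf cE42) (BT.leaf cE43)) (BT.leaf cE44)) (BT.node 46 (BT.node 45 (BT.leaf cE45) (BT.leaf cE46)) (BT.leaf cE47)))))) (BT.node 71 (BT.node 59 (BT.node 53 (BT.node 50 (BT.node 49 (BT.node 48 (BT.leaf cE48) (BT.leaf cE49)) (BT.leaf cE50)) (BT.node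 52 (BT.node 51 (BT.leaf cE51) (BT.leaf cE52)) (BT.leaf cE53))) (BT.node 56 (BT.node 55 (BT.node 54 (BT.leaf cE54) (BT.leaf cE55)) (BT.leaf cE56)) (BT.node 58 (BT.node 57 (BT.leaf cE57) (BT.leaf cE58)) (BT.leaf cE59)))) (BT.node 65 (BT.node 62 (BT.node 61 (BT.node 60 (BT.leaf cE60) (BT.leaf cE61)) (BT.leaf cE62)) (BT.node 64 (BT.node 63 (BT.leaf cE63) (BT.leaf cE64)) (BT.leaf cE65))) (BT.node 68 (BT.node 67 (BT.node 66 (BT.leaf cE66) (BT.leaf cE67)) (BT.leaf cE68)) (BT.node 70 (BT.node 69 (BT.leaf cE69) (BT.leaf cE70)) (BT.leaf cE71))))) (BT.node 83 (BT.node 77 (BT.node 74 (BT.node 73 (BT.node 72 (BT.leaf cE72) (BT.leaf cE73)) (BT.leaf cE74)) (BT.node 76 (BT.node 75 (BT.leaf cE75) (BT.leaf cE76)) (BT.leaf cE77))) (BT.node 80 (BT.node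 79 (BT.node 78 (BT.leaf cE78) (BT.leaf cE79)) (BT.leaf cE80)) (BT.node 82 (BT.node 81 (BT.leaf cE81) (BT.leaf cE82)) (BT.leaf cE83)))) (BT.node 89 (BT.node 86 (BT.node 85 (BT.node 84 (BT.leaf cE84) (BT.leaf cE85)) (BT.leaf cE86)) (BT.node 88 (BT.node 87 (BT.leaf cE87) (BT.leaf cE88)) (BT.leaf cE89))) (BT.node 92 (BT.node 91 (BT.node 90 (BT.leaf cE90) (BT.leaf cE91)) (BT.leaf cE92)) (BT.node 94 (BT.node 93 (BT.leaf cE93) (BT.leaf cE94)) (BT.leaf cE95)))))))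
/-- justification chunks -/
def colJT : BT ℕ := (BT.node 47 (BT.node 23 (BT.node 11 (BT.node 5 (BT.node 2 (BT.node 1 (BT.node 0 (BT.leaf cJ0) (BT.leaf cJ1)) (BT.leaf cJ2)) (BT.node 4 (BT.node 3 (BT.leaf cJ3) (BT.leaf cJ4)) (BT.leaf cJ5))) (BT.node 8 (BT.node 7 (BT.node 6 (BT.leaf cJ6) (BT.leaf cJ7)) (BT.leaf cJ8)) (BT.node 10 (BT.node 9 (BT.leaf cJ9) (BT.leaf cJ10)) (BT.leaf cJ11)))) (BT.node 17 (BT.node 14 (BT.node 13 (BT.node 12 (BT.leaf cJ12) (BT.leaf cJ13)) (BT.leaf cJ14)) (BT.node 16 (BT.node 15 (BT.leaf cJ15) (BT.leaf cJ16)) (BT.leaf cJ17))) (BT.node 20 (BT.node 19 (BT.node 18 (BT.leaf cJ18) (BT.leaf cJ19)) (BT.leaf cJ20)) (BT.node 22 (BT.node 21 (BT.leaf cJ21) (BT.leaf cJ22)) (BT.leaf cJ23))))) (BT.node 35 (BT.node 29 (BT.node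 26 (BT.node 25 (BT.node 24 (BT.leaf cJ24) (BT.leaf cJ25)) (BT.leaf cJ26)) (BT.node 28 (BT.node 27 (BT.leaf cJ27) (BT.leaf cJ28)) (BT.leaf cJ29))) (BT.node 32 (BT.node 31 (BT.node 30 (BT.leaf cJ30) (BT.leaf cJ31)) (BT.leaf cJ32)) (BT.node 34 (BT.node 33 (BT.leaf cJ33) (BT.leaf cJ34)) (BT.leaf cJ35)))) (BT.node 41 (BT.node 38 (BT.node 37 (BT.node 36 (BT.leaf cJ36) (BT.leaf cJ37)) (BT.leaf cJ38)) (BT.node 40 (BT.node 39 (BT.leaf cJ39) (BT.leaf cJ40)) (BT.leaf cJ41))) (BT.node 44 (BT.node 43 (BT.node 42 (BT.leaf cJ42) (BT.leaf cJ43)) (BT.leaf cJ44)) (BT.node 46 (BT.node 45 (BT.leaf cJ45) (BT.leaf cJ46)) (BT.leaf cJ47)))))) (BT.node 71 (BT.node 59 (BT.node 53 (BT.node 50 (BT.node 49 (BT.node 48 (BT.leaf cJ48) (BT.leaf cJ49)) (BT.leaf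 cJ50)) (BT.node 52 (BT.node 51 (BT.leaf cJ51) (BT.leaf cJ52)) (BT.leaf cJ53))) (BT.node 56 (BT.node 55 (BT.node 54 (BT.leaf cJ54) (BT.leaf cJ55)) (BT.leaf cJ56)) (BT.node 58 (BT.node 57 (BT.leaf cJ57) (BT.leaf cJ58)) (BT.leaf cJ59)))) (BT.node 65 (BT.node 62 (BT.node 61 (BT.node 60 (BT.leaf cJ60) (BT.leaf cJ61)) (BT.leaf cJ62)) (BT.node 64 (BT.node 63 (BT.leaf cJ63) (BT.leaf cJ64)) (BT.leaf cJ65))) (BT.node 68 (BT.node 67 (BT.node 66 (BT.leaf cJ66) (BT.leaf cJ67)) (BT.leaf cJ68)) (BT.node 70 (BT.node 69 (BT.leaf cJ69) (BT.leaf cJ70)) (BT.leaf cJ71))))) (BT.node 83 (BT.node 77 (BT.node 74 (BT.node 73 (BT.node 72 (BT.leaf cJ72) (BT.leaf cJ73)) (BT.leaf cJ74)) (BT.node 76 (BT.node 75 (BT.leaf cJ75) (BT.leaf cJ76)) (BT.leaf cJ77))) (BT.node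 80 (BT.node 79 (BT.node 78 (BT.leaf cJ78) (BT.leaf cJ79)) (BT.leaf cJ80)) (BT.node 82 (BT.node 81 (BT.leaf cJ81) (BT.leaf cJ82)) (BT.leaf cJ83)))) (BT.node 89 (BT.node 86 (BT.node 85 (BT.node 84 (BT.leaf cJ84) (BT.leaf cJ85)) (BT.leaf cJ86)) (BT.node 88 (BT.node 87 (BT.leaf cJ87) (BT.leaf cJ88)) (BT.leaf cJ89))) (BT.node 92 (BT.node 91 (BT.node 90 (BT.leaf cJ90) (BT.leaf cJ91)) (BT.leaf cJ92)) (BT.node 94 (BT.node 93 (BT.leaf cJ93) (BT.leaf cJ94)) (BT.leaf cJ95)))))))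
/-- parent chunks -/
def parCT : BT ℕ := (BT.node 7 (BT.node 3 (BT.node 1 (BT.node 0 (BT.leaf cP0) (BT.leaf cP1)) (BT.node 2 (BT.leaf cP2) (BT.leaf cP3))) (BT.node 5 (BT.node 4 (BT.leaf cP4) (BT.leaf cP5)) (BT.node 6 (BT.leaf cP6) (BT.leaf cP7)))) (BT.node 11 (BT.node 9 (BT.node 8 (BT.leaf cP8) (BT.leaf cP9)) (BT.node 10 (BT.leaf cP10) (BT.leaf cP11))) (BT.node 13 (BT.node 12 (BT.leaf cP12) (BT.leaf cP13)) (BT.node 14 (BT.leaf cP14) (BT.leaf cP15)))))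
/-- the certificate -/
def data : Data where
  k := 5
  N := 8120
  W := 29
  MW := 536870912
  B := 8192
  CH := 512
  NCH := 16
  colE := colET
  JW := 64
  MJ := 18446744073709551616
  A := 1048576
  colJ := colJT
  PW := 23
  MP := 8388608
  parC := parCT
  inv := (BT.node 2 (BT.node 1 (BT.node 0 (BT.leaf 0) (BT.leaf 1)) (BT.leaf 2)) (BT.node 4 (BT.node 3 (BT.leaf 3) (BT.leaf 4)) (BT.leaf 5)))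
  rel := relT
  sub := subT
  fuel := 4

end Cfsg.Agent.Lib.Helper3.TCX.RuQData
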