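import Cfsg.Agent.Lib.Helper28.TC2Tower
import Cfsg.Agent.Lib.Helper28.TC2Simple
import Cfsg.Agent.Lib.Helper28.TC2Bsgs
import Cfsg.Agent.Lib.Helper3.TCX.RuPMain
import Cfsg.Agent.Lib.Helper3.TCX.RuQMain
import Cfsg.Agent.Lib.Helper3.TCX.RuPBSMain
import Cfsg.Agent.Lib.Helper3.TCX.RuPOrbChk
import Cfsg.Agent.Lib.Helper3.TCX.RuPFinal
import Cfsg.Agent.Lib.Helper3.TCX.RuKSimple
import Cfsg.Agent.Lib.Helper3.TCX.BaseCrit
import Cfsg.Agent.Lib.Helper3.TCX.SimpleGen
set_option autoImplicit false
set_option maxRecDepth 100000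

/-!
# A presentation of the Rudvalis group on five involutions

The group `⟨a, b, c, d, e⟩` with the relators of `RuPDef` is simple of order `145926144000`: the subgroup
`⟨a, b, c, d⟩` is a quotient of the Tits group and has index 8120, and the subgroup `⟨a, b, c, d, u⟩` has
index 4060 with a faithful action on its cosets.
-/

namespace Cfsg.Agent.Lib.Helper3.TCX.RuPSimple
open Cfsg.Agent.Lib.Helper28.TC2Upper Cfsg.Agent.Lib.Helper28.TC2Lower Cfsg.Agent.Lib.Helper28.TC2Orbit
open Cfsg.Agent.Lib.Helper28.TC2Glue Cfsg.Agent.Lib.Helper28.TC2GlueOrb Cfsg.Agent.Lib.Helper28.TC2Simple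
open Cfsg.Agent.Lib.Helper28.TC2Bsgs Cfsg.Agent.Lib.Helper28.TC2Tower
open Cfsg.Agent.Lib.Helper3.TCX.RuPTable Cfsg.Agent.Lib.Helper3.TCX.RuPLink
open Cfsg.Agent.Lib.Helper3.TCX.RuPOrb Cfsg.Agent.Lib.Helper3.TCX.RuPOrbChk Cfsg.Agent.Lib.Helper3.TCX.RuPFinal

/-- the presented group -/
abbrev P : Type := PresentedGroup rels

theorem upK : ∀ L ∈ RuKLink.relWords, upWord RuKDef.up L ∈ RuQLink.relWords := by decide +kernel

/-- the relators of the Tits group hold -/
theorem hrelK : ∀ r ∈ RuKLink.rels, FreeGroup.map RuKDef.up r ∈ RuQLink.rels :=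
  hrel_of_words RuQLink.rels RuKLink.rels RuKDef.up RuQLink.relWords RuKLink.relWords
    RuQLink.link.hrels RuKLink.link.hrels upK

/-- the presented group has order at most 145926144000 -/
theorem card0 : Finite P ∧ Nat.card P ≤ 145926144000 := by
  have hK := RuKSimple.main.2
  have : Finite (PresentedGroup RuKLink.rels) := Nat.finite_of_card_ne_zero (by
    have : Nat.card (PresentedGroup RuKLink.rels) = 17971200 := hK
    rw [this]; norm_num)
  have hS : ∀ s ∈ RuQLink.S, ∃ b, s = FreeGroup.of (RuKDef.up b) := by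
    intro s hs
    simp only [RuQLink.S, Set.mem_insert_iff, Set.mem_singleton_iff] at hs
    rcases hs with rfl | rfl | rfl | rfl
    exacts [⟨.a, rfl⟩, ⟨.b, rfl⟩, ⟨.c, rfl⟩, ⟨.d, rfl⟩]
  obtain ⟨hfin, hle⟩ := card_le_of_subpres RuQLink.rels RuKLink.rels RuKDef.up hrelK RuQLink.S hS
  have hidx : ((Subgroup.closure RuQLink.S).map (PresentedGroup.mk RuQLink.rels)).index = 8120 :=
    RuQMain.main.1
  have := hfin
  refine ⟨finite_of_index _ (by rw [hidx]; norm_num), ?_⟩
  exact card_le_of_index _ hidx (le_trans hle (le_of_eq hK))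

theorem hcnt : ∀ c, c < 3 → (Finset.univ.filter fun p : Fin table.n => orbData.oid p.val = c).card = cnt c := by
  intro c hc
  have h := ncard_class orbData table.n c
  have e : {q : Fin table.n | orbData.oid q.val = c} =
      ↑(Finset.univ.filter fun p : Fin table.n => orbData.oid p.val = c) := by
    ext q; simp
  rw [e, Set.ncard_coe_finset] at h
  rw [h]
  interval_cases c
  · exact cntc0
  · exact cntc1
  · exact cntc2

/-- the presented group is simple of order 145926144000, and acts faithfully on 4060 points -/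
theorem main : IsSimpleGroup P ∧ Nat.card P = 145926144000 ∧
    ∃ φ : P →* Equiv.Perm (Fin 4060), Function.Injective φ ∧
      (∀ x, φ (PresentedGroup.of x) = Table.sigma RuPMain.hT (lw (x, true))) ∧
      ∃ f : P ⧸ (Subgroup.closure S).map (PresentedGroup.mk rels) → Fin 4060,
        Function.Bijective f ∧ (∀ g q, f (g • q) = φ g (f q)) ∧ f (QuotientGroup.mk 1) = 0 := by
  obtain ⟨hidx, φ, hφ, f, hbij, hequiv, h0⟩ := RuPMain.main
  obtain ⟨hfin, hle⟩ := card0
  haveI : Finite (PresentedGroup rels) := hfin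
  have hlow : 145926144000 ≤ Nat.card φ.range :=
    le_trans RuPBSMain.card_base (card_baseGroup_le RuPMain.hT RuPBSMain.hTB rfl (by decide)
      RuPBSMain.hagree φ.range (sigma_mem_range link RuPMain.hT φ hφ))
  obtain ⟨hinj, hcard⟩ := injective_of_card_le φ hle hlow
  refine ⟨?_, hcard, φ, hinj, hφ, f, hbij, hequiv, h0⟩
  have hcardR : Nat.card φ.range = 145926144000 := by
    rw [← hcard]
    exact (Nat.card_congr (MonoidHom.ofInjective hinj).toEquiv).symm
  have hidx' : ((Subgroup.closure S).map (PresentedGroup.mk rels)).index = 4060 := hidx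
  have hcardH : Nat.card ((Subgroup.closure S).map (PresentedGroup.mk rels)) = 35942400 := by
    have := ((Subgroup.closure S).map (PresentedGroup.mk rels)).index_mul_card
    rw [hidx', hcard] at this
    omega
  have hcore := normalCore_eq_bot _ φ f hbij.2 hequiv hinj
  have hne : (Subgroup.closure S).map (PresentedGroup.mk rels) ≠ ⊤ := by
    intro e
    rw [e, Subgroup.index_top] at hidx'
    norm_num at hidx'
  have hgens' := BT.All_of_all (fun _ h => of_decide_eq_true h) _ hgens
  have hmax : ∀ K : Subgroup (PresentedGroup rels), (Subgroup.closure S).map (PresentedGroup.mk rels) ≤ K →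
      K = (Subgroup.closure S).map (PresentedGroup.mk rels) ∨ K = ⊤ :=
    max_of_suborbits _ RuPMain.hn φ f hbij hequiv (fun q => orbData.oid q.val) 3
      (fun p => hclsAll p.val p.2)
      (fun p q hpq => exists_perm_of_oid_eq link RuPMain.hT φ hφ orbData subPaths hsubmem hsubmem' hclosed
        hgens' hconn p q hpq)
      cnt hcnt harith
  -- the base criterion
  have hlowB : 145926144000 * Nat.card (pstab (baseGroup RuPBSMain.hTB table.k) (toFin RuPBSTable.btable.n [3, 2, 1, 0])) ≤
      Nat.card (baseGroup RuPBSMain.hTB table.k) := by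
    have h0 := RuPBSMain.lev0
    have h1 := RuPBSMain.lev1
    have h2 := RuPBSMain.lev2
    have h3 := RuPBSMain.lev3
    have e : pstab (baseGroup RuPBSMain.hTB 5) (toFin RuPBSTable.btable.n []) = baseGroup RuPBSMain.hTB 5 := rfl
    rw [e] at h0
    show 145926144000 * Nat.card (pstab (baseGroup RuPBSMain.hTB 5) (toFin RuPBSTable.btable.n [3, 2, 1, 0])) ≤
      Nat.card (baseGroup RuPBSMain.hTB 5)
    omega
  have hpow : ∀ wp ∈ chkList, (PresentedGroup.mk rels (FreeGroup.mk wp.1)) ^ wp.2 = 1 := by
    intro wp hwp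
    exact mk_pow_eq_one_of_base link RuPMain.hT RuPBSMain.hTB rfl (by decide) RuPBSMain.hagree φ hφ hinj
      145926144000 (by norm_num) [3, 2, 1, 0] hlowB (le_of_eq hcardR) wp.1 wp.2 (chk_spec wp hwp)
  apply isSimpleGroup_of_max_gen _ hcore hne hmax
  intro N hN hall
  rw [hcardH] at hall
  apply eq_top_of_gens_mem
  intro x
  cases x
  · exact gen_mem_of_cert rels N 35942400 hall .a xw_a 7 7 (by norm_num) (by norm_num) (by norm_num) (by norm_num)
      (hpow (xw_a, 7) (by simp [chkList])) (hpow (yw_a, 7) (by simp [chkList]))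
  · exact gen_mem_of_cert rels N 35942400 hall .b xw_b 7 7 (by norm_num) (by norm_num) (by norm_num) (by norm_num)
      (hpow (xw_b, 7) (by simp [chkList])) (hpow (yw_b, 7) (by simp [chkList]))
  · exact gen_mem_of_cert rels N 35942400 hall .c xw_c 7 7 (by norm_num) (by norm_num) (by norm_num) (by norm_num)
      (hpow (xw_c, 7) (by simp [chkList])) (hpow (yw_c, 7) (by simp [chkList]))
  · exact gen_mem_of_cert rels N 35942400 hall .d xw_d 7 7 (by norm_num) (by norm_num) (by norm_num) (by norm_num)
      (hpow (xw_d, 7) (by simp [chkList])) (hpow (yw_d, 7) (by simp [chkList]))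
  · exact gen_mem_of_cert rels N 35942400 hall .e xw_e 7 7 (by norm_num) (by norm_num) (by norm_num) (by norm_num)
      (hpow (xw_e, 7) (by simp [chkList])) (hpow (yw_e, 7) (by simp [chkList]))

/-- the homomorphism from the Tits group -/
theorem exists_titsHom : ∃ k : RuKSimple.P →* P, ∀ x, k (PresentedGroup.of x) = PresentedGroup.of (RuKDef.up x) := by
  have key : FreeGroup.lift (fun b => (PresentedGroup.of (RuKDef.up b) : P)) =
      (PresentedGroup.mk rels).comp (FreeGroup.map RuKDef.up) := by
    ext b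
    simp [PresentedGroup.of]
  have h1 : ∀ r ∈ RuKLink.rels, FreeGroup.lift (fun b => (PresentedGroup.of (RuKDef.up b) : P)) r = 1 := by
    intro r hr
    rw [key]
    exact PresentedGroup.one_of_mem (hrelK r hr)
  exact ⟨PresentedGroup.toGroup h1, fun x => PresentedGroup.toGroup.of h1⟩

end Cfsg.Agent.Lib.Helper3.TCX.RuPSimple
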