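import Cfsg.Agent.Lib.Helper3.TCX.Sl5BTable
import Cfsg.Agent.Lib.Helper3.TCX.SubBsgs
set_option autoImplicit false
set_option maxRecDepth 100000
set_option maxHeartbeats 0

namespace Cfsg.Agent.Lib.Helper3.TCX.Sl5BChk6
open Cfsg.Agent.Lib.Helper28.TC2Upper Cfsg.Agent.Lib.Helper28.TC2Lower Cfsg.Agent.Lib.Helper28.TC2Orbit Cfsg.Agent.Lib.Helper28.TC2Range Cfsg.Agent.Lib.Helper28.TC2Bsgs Cfsg.Agent.Lib.Helper3.TCX.SubBsgs Cfsg.Agent.Lib.Helper3.TCX.Sl5BTable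

theorem hA3 : ∀ l ∈ A3, (l < btable.k ∧ (l ∈ gl ∨ 4 ≤ l)) ∧ ∀ q ∈ ([8, 4, 2] : List ℕ), btable.tau l q = q := by decide +kernel
theorem hinvOK : btable.invOK = true := by decide +kernel
theorem din : defsIn gl 4 defs btable.k = true := by decide +kernel
theorem hgl : ∀ l ∈ gl, l < btable.k := by decide +kernel

end Cfsg.Agent.Lib.Helper3.TCX.Sl5BChk6
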