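import Cfsg.Agent.Lib.Helper28.TC2Bsgs
set_option autoImplicit false
set_option maxRecDepth 100000

namespace Cfsg.Agent.Lib.Helper3.TCX.Sl5BTable
open Cfsg.Agent.Lib.Helper28.TC2Upper Cfsg.Agent.Lib.Helper28.TC2Lower Cfsg.Agent.Lib.Helper28.TC2Orbit

def cB0 : ℕ := 0x69b71d79f6194d25545d645028b30d38f2090c21441c6040
def cB1 : ℕ := 0x79f75c18714459755438f34c49345028b24869b658083040
def cB2 : ℕ := 0x69b65879f75c49345059755438f34c28b248187144083040
def cB3 : ℕ := 0x38f34c28b24859755449345079f75c69b658187144083040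
def cB4 : ℕ := 0x7de75c1c614459751538f30d49341128b2096da6580c2040
def cB5 : ℕ := 0x7de75c1c614459751538f30d49341128b2096da6580c2040
def cB6 : ℕ := 0x6da6582ca2481c61445d65543ce34c7de75c4d24500c2040
def cB7 : ℕ := 0x2ca2487de75c4d24501c61443ce34c6da6585d65540c2040
def cB8 : ℕ := 0x7de75c6da65828b20938f30d4934115975151c61440c2040
def cB9 : ℕ := 0x7de75c6da65828b20938f30d4934115975151c61440c2040
def cB10 : ℕ := 0x79f71d69b6195975154934113ce34c2ca2481c61440c2040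
def cB11 : ℕ := 0x79f71d69b6195975154934113ce34c2ca2481c61440c2040
def cB12 : ℕ := 0x3ce34c2ca24879f71d69b6195975154934111c61440c2040
def cB13 : ℕ := 0x59751549341138f30d28b2097de75c6da6581c61440c2040
def cB14 : ℕ := 0x59751549341179f71d69b6193ce34c2ca2481c61440c2040
def cB15 : ℕ := 0x59751549341179f71d69b6193ce34c2ca2481c61440c2040
def cB16 : ℕ := 0x4d24505d65546da6587de75c3ce34c2ca2481c61440c2040
def cB17 : ℕ := 0x4d24505d65546da6587de75c3ce34c2ca2481c61440c2040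
/-- table chunks -/
def colBT : BT ℕ := (BT.node 8 (BT.node 4 (BT.node 2 (BT.node 1 (BT.node 0 (BT.leaf cB0) (BT.leaf cB1)) (BT.leaf cB2)) (BT.node 3 (BT.leaf cB3) (BT.leaf cB4))) (BT.node 6 (BT.node 5 (BT.leaf cB5) (BT.leaf cB6)) (BT.node 7 (BT.leaf cB7) (BT.leaf cB8)))) (BT.node 13 (BT.node 11 (BT.node 10 (BT.node 9 (BT.leaf cB9) (BT.leaf cB10)) (BT.leaf cB11)) (BT.node 12 (BT.leaf cB12) (BT.leaf cB13))) (BT.node 15 (BT.node 14 (BT.leaf cB14) (BT.leaf cB15)) (BT.node 16 (BT.leaf cB16) (BT.leaf cB17)))))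
/-- the extended table -/
def btable : Table where
  n := 32
  k := 18
  w := 6
  M := 64
  CH := 1024
  NCH := 1
  col := colBT
  inv := (BT.node 9 (BT.node 4 (BT.node 2 (BT.node 1 (BT.node 0 (BT.leaf 0) (BT.leaf 1)) (BT.leaf 2)) (BT.node 3 (BT.leaf 3) (BT.leaf 5))) (BT.node 7 (BT.node 6 (BT.node 5 (BT.leaf 4) (BT.leaf 7)) (BT.leaf 6)) (BT.node 8 (BT.leaf 9) (BT.leaf 8)))) (BT.node 14 (BT.node 12 (BT.node 11 (BT.node 10 (BT.leaf 11) (BT.leaf 10)) (BT.leaf 13)) (BT.node 13 (BT.leaf 12) (BT.leaf 15))) (BT.node 16 (BT.node 15 (BT.leaf 14) (BT.leaf 17)) (BT.node 17 (BT.leaf 16) (BT.leaf 18)))))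
  tw := 1
  TM := 2
  tree := BT.leaf 0
/-- the defining paths of the letters -/
def defs : BT (List ℕ) := (BT.node 8 (BT.node 4 (BT.node 2 (BT.node 1 (BT.node 0 (BT.leaf []) (BT.leaf [])) (BT.leaf [])) (BT.node 3 (BT.leaf []) (BT.leaf [0, 2, 0, 1, 0, 1, 2, 0, 1, 0]))) (BT.node 6 (BT.node 5 (BT.leaf [0, 1, 0, 2, 1, 0, 1, 0, 2, 0]) (BT.leaf [1, 2, 1, 3, 1, 2, 1, 2])) (BT.node 7 (BT.leaf [2, 1, 2, 1, 3, 1, 2, 1]) (BT.leaf [2, 1, 3, 2, 0, 2, 0, 1, 0, 2, 1, 0, 1, 2, 1, 0, 5, 7, 5])))) (BT.node 13 (BT.node 11 (BT.node 10 (BT.node 9 (BT.leaf [4, 6, 4, 0, 1, 2, 1, 0, 1, 2, 0, 1, 0, 2, 0, 2, 3, 1, 2]) (BT.leaf [2, 3, 1, 2, 1, 2, 3, 0, 1, 0, 2, 0, 1, 0, 3, 1, 0, 3, 0, 2, 1, 0, 1, 0, 7, 5, 6])) (BT.leaf [7, 4, 6, 0, 1, 0, 1, 2, 0, 3, 0, 1, 3, 0, 1, 0, 2, 0, 1, 0, 3, 2, 1, 2, 1, 3, 2])) (BT.node 12 (BT.leaf [0, 1, 3, 2, 0, 1, 0, 1, 0, 1, 3, 0, 1, 0]) (BT.leaf [0, 1, 0, 3, 1, 0, 1, 0, 1, 0, 2, 3, 1, 0]))) (BT.node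 15 (BT.node 14 (BT.leaf [1, 0, 3, 2, 0, 3, 2, 1, 0, 3, 0, 3, 1, 2, 5, 13]) (BT.leaf [12, 4, 2, 1, 3, 0, 3, 0, 1, 2, 3, 0, 2, 3, 0, 1])) (BT.node 16 (BT.leaf [1, 3, 0, 2, 3, 0, 1, 2, 3, 1, 2, 3, 13, 6, 5, 13, 11, 9]) (BT.leaf [8, 10, 12, 4, 7, 12, 3, 2, 1, 3, 2, 1, 0, 3, 2, 0, 3, 1])))))
/-- the generating letters -/
def gl : List ℕ := [0, 1, 2, 3]
def cO0_0 : ℕ := 0x7804105b00031000000000000018040847010310000000000000480818520006100000000000003804184f010510000000000000780c105f0305100000000000002804105b0303100000000000001808084200011000000000000008040440000010000000000000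
/-- generators of level 0 -/
def A0 : List ℕ := [0, 1, 2, 3]
/-- orbit tree of level 0 -/
def orb0 : OrbData where
  ow := 26
  OM := 67108864
  CH := 1024
  col := (BT.leaf cO0_0)
  gens := (BT.node 1 (BT.node 0 (BT.leaf [0]) (BT.leaf [1])) (BT.node 2 (BT.leaf [2]) (BT.leaf [3])))
  roots := (BT.node 0 (BT.leaf 0) (BT.leaf 2))
def cO1_0 : ℕ := 0x502008580302100000000000006018084400011000000000000050000844030110000000000000602408440201100000000000004000085c0803100000000000004024085802021000000000000064000c400000100000000000000000000000000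
/-- generators of level 1 -/
def A1 : List ℕ := [4, 5, 6, 7, 8, 9, 10, 11, 12, 13, 14, 15, 16, 17]
/-- orbit tree of level 1 -/
def orb1 : OrbData where
  ow := 26
  OM := 67108864
  CH := 1024
  col := (BT.leaf cO1_0)
  gens := (BT.node 6 (BT.node 3 (BT.node 1 (BT.node 0 (BT.leaf [4]) (BT.leaf [5])) (BT.node 2 (BT.leaf [6]) (BT.leaf [7]))) (BT.node 5 (BT.node 4 (BT.leaf [8]) (BT.leaf [9])) (BT.leaf [10]))) (BT.node 10 (BT.node 8 (BT.node 7 (BT.leaf [11]) (BT.leaf [12])) (BT.node 9 (BT.leaf [13]) (BT.leaf [14]))) (BT.node 12 (BT.node 11 (BT.leaf [15]) (BT.leaf [16])) (BT.leaf [17]))))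
  roots := (BT.node 0 (BT.leaf 0) (BT.leaf 4))
def cO2_0 : ℕ := 0x4420085504021000000000000054200848050110000000000000200004550202100000000000002010045102021000000000000050140c5505021000000000000050000c40000010000000000000000000000000000000000000000000000000000
/-- generators of level 2 -/
def A2 : List ℕ := [8, 9, 10, 11, 12, 13, 14, 15, 16, 17]
/-- orbit tree of level 2 -/
def orb2 : OrbData where
  ow := 26
  OM := 67108864
  CH := 1024
  col := (BT.leaf cO2_0)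
  gens := (BT.node 4 (BT.node 2 (BT.node 1 (BT.node 0 (BT.leaf [8]) (BT.leaf [9])) (BT.leaf [10])) (BT.node 3 (BT.leaf [11]) (BT.leaf [12]))) (BT.node 7 (BT.node 6 (BT.node 5 (BT.leaf [13]) (BT.leaf [14])) (BT.leaf [15])) (BT.node 8 (BT.leaf [16]) (BT.leaf [17]))))
  roots := (BT.node 0 (BT.leaf 0) (BT.leaf 8))
def cO3_0 : ℕ := 0x441008500401100000000000004008045102021000000000000064100858040310000000000000400004400000100000000000000000000000000000000000000000000000000000000000000000000000000000000000000000000000000000000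
/-- generators of level 3 -/
def A3 : List ℕ := [10, 11, 14, 15, 16, 17]
/-- orbit tree of level 3 -/
def orb3 : OrbData where
  ow := 26
  OM := 67108864
  CH := 1024
  col := (BT.leaf cO3_0)
  gens := (BT.node 2 (BT.node 1 (BT.node 0 (BT.leaf [10]) (BT.leaf [11])) (BT.leaf [14])) (BT.node 4 (BT.node 3 (BT.leaf [15]) (BT.leaf [16])) (BT.leaf [17])))
  roots := (BT.node 0 (BT.leaf 0) (BT.leaf 16))

end Cfsg.Agent.Lib.Helper3.TCX.Sl5BTable
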