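import Cfsg.Agent.Lib.Helper3.TCX.Sl5Mat
import Cfsg.Agent.Lib.Helper3.TCX.Sl5Cert
import Cfsg.Agent.Lib.Helper3.TCX.Sl5BMain
import Cfsg.Agent.Lib.Helper3.TCX.HcTower
import Cfsg.Agent.Lib.Helper3.TCX.CentBound
import Cfsg.Agent.Lib.Helper28.TC2Simple
set_option autoImplicit false
set_option maxRecDepth 100000

/-!
# The centraliser of a transvection in `SL₅(2)`

The presented group `Q` (of order at most 21504) maps into the centraliser of the transvection `1 + E₀₁` of
`SL₅(2)`, the image has at least 21504 elements, and the centraliser has at most 21504 elements, since the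
transvection has at least 465 conjugates and `SL₅(2)` has 9999360 elements.
-/

namespace Cfsg.Agent.Lib.Helper3.TCX.Sl5Grp
open Cfsg.Agent.Lib.Helper28.TC2Upper Cfsg.Agent.Lib.Helper28.TC2Lower Cfsg.Agent.Lib.Helper28.TC2Glue
open Cfsg.Agent.Lib.Helper28.TC2Bsgs Cfsg.Agent.Lib.Helper28.TC2Simple Matrix
open Cfsg.Agent.Lib.Helper3.TCX.Sl5Mat Cfsg.Agent.Lib.Helper3.TCX.SubBsgs Cfsg.Agent.Lib.Helper3.TCX.Sl5BTable
open Cfsg.Agent.Lib.Helper3.TCX.Sl5Cert Cfsg.Agent.Lib.Helper3.TCX.CentBound

/-- the special linear group -/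
abbrev SL : Type := Matrix.SpecialLinearGroup (Fin 5) (ZMod 2)

theorem unit2 : ∀ x y : ZMod 2, x * y = 1 → x = 1 ∧ y = 1 := by decide

theorem det_of_mul (c ci : ℕ) (h : mulB c ci = ONEB) : (decB c).det = 1 ∧ (decB ci).det = 1 := by
  have h1 : decB c * decB ci = 1 := by rw [← decB_mul, h, decB_one]
  have h2 := congrArg Matrix.det h1
  rw [Matrix.det_mul, Matrix.det_one] at h2
  exact unit2 _ _ h2

/-- the element of the special linear group with a given code (and the code of its inverse) -/
noncomputable def toSL (t : ℕ × ℕ) : SL :=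
  if h : mulB t.1 t.2 = ONEB then ⟨decB t.1, (det_of_mul t.1 t.2 h).1⟩ else 1

theorem toSL_val (t : ℕ × ℕ) (h : mulB t.1 t.2 = ONEB) : (toSL t).1 = decB t.1 := by
  have e : toSL t = ⟨decB t.1, (det_of_mul t.1 t.2 h).1⟩ := dif_pos h
  rw [e]

theorem toSL_inv_val (t : ℕ × ℕ) (h : mulB t.1 t.2 = ONEB) : ((toSL t)⁻¹).1 = decB t.2 := by
  have e : (toSL t)⁻¹ = ⟨decB t.2, (det_of_mul t.1 t.2 h).2⟩ := by
    apply inv_eq_of_mul_eq_one_right
    apply Subtype.ext
    show (toSL t).1 * decB t.2 = 1
    rw [toSL_val t h, ← decB_mul, h, decB_one]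
  rw [e]

/-! ### The images of the generators -/

/-- the codes of the four matrices -/
def codeB : ℕ → ℕ
  | 0 => 17045577
  | 1 => 5128259
  | 2 => 17059907
  | _ => 25432131

theorem sq_chk : ∀ l, l < 4 → mulB (codeB l) (codeB l) = ONEB := by decide +kernel

/-- the letters as elements of the special linear group -/
noncomputable def gamB (l : ℕ) : SL := if l < 4 then toSL (codeB l, codeB l) else 1

theorem gamB_val (l : ℕ) (hl : l < 4) : (gamB l).1 = decB (codeB l) := by
  unfold gamB
  rw [if_pos hl]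
  exact toSL_val (codeB l, codeB l) (sq_chk l hl)

theorem gamB_sq (l : ℕ) (hl : l < 4) : gamB l * gamB l = 1 := by
  apply Subtype.ext
  show (gamB l).1 * (gamB l).1 = 1
  rw [gamB_val l hl, ← decB_mul, sq_chk l hl, decB_one]

theorem gamB_inv (l : ℕ) (hl : l < 4) : (gamB l)⁻¹ = gamB l :=
  inv_eq_of_mul_eq_one_left (gamB_sq l hl)

/-- the generators as elements of the special linear group -/
noncomputable def gM (x : HcQDef.Gen) : SL := gamB (HcQLink.lw (x, true))

theorem lw_lt (x : HcQDef.Gen) (b : Bool) : HcQLink.lw (x, b) < 4 := by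
  cases x <;> cases b <;> decide

theorem lw_bool (x : HcQDef.Gen) (b : Bool) : HcQLink.lw (x, b) = HcQLink.lw (x, true) := by
  cases x <;> rfl

/-- products of codes along a path -/
def pathCode : List ℕ → ℕ
  | [] => ONEB
  | l :: ls => mulB (pathCode ls) (codeB l)

theorem pathProd_val (w : List ℕ) (hw : ∀ l ∈ w, l < 4) : (pathProd gamB w).1 = decB (pathCode w) := by
  induction w with
  | nil => exact decB_one.symm
  | cons l ls ih =>
    show (pathProd gamB ls).1 * (gamB l).1 = decB (mulB (pathCode ls) (codeB l))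
    rw [ih (fun x hx => hw x (List.mem_cons_of_mem _ hx)), gamB_val l (hw l List.mem_cons_self), decB_mul]

theorem rel_chk : ∀ L ∈ HcQLink.relWords, (∀ l ∈ pathOf HcQLink.lw L, l < 4) ∧
    pathCode (pathOf HcQLink.lw L) = ONEB := by decide +kernel

/-- the matrices satisfy the relators -/
theorem lift_rel (r : FreeGroup HcQDef.Gen) (hr : r ∈ HcQLink.rels) : FreeGroup.lift gM r = 1 := by
  obtain ⟨L, hL, rfl⟩ := (HcQLink.link.hrels r).mp hr
  rw [lift_mk_eq_pathProd gM HcQLink.lw gamB]
  · apply Subtype.ext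
    rw [pathProd_val _ (rel_chk L hL).1, (rel_chk L hL).2, decB_one]
    rfl
  · intro x b
    cases b
    · show gamB (HcQLink.lw (x, false)) = (gM x)⁻¹
      rw [lw_bool, gM, gamB_inv _ (lw_lt x true)]
    · rfl

/-- the homomorphism from the presented group to the special linear group -/
noncomputable def beta : PresentedGroup HcQLink.rels →* SL :=
  PresentedGroup.toGroup (f := gM) lift_rel

theorem beta_of (x : HcQDef.Gen) : beta (PresentedGroup.of x) = gM x := by
  unfold beta
  rw [PresentedGroup.toGroup.of]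

/-! ### The action on the coded vectors -/

/-- the action of a matrix on the codes of the vectors -/
def smulP (A : SL) (p : Fin 32) : Fin 32 := ⟨vencB (A.1.mulVec (vdecB p.val)), vencB_lt _⟩

/-- the action on the codes of the vectors -/
def actInst : MulAction SL (Fin 32) where
  smul := smulP
  one_smul p := by
    apply Fin.ext
    show vencB ((1 : Matrix (Fin 5) (Fin 5) (ZMod 2)).mulVec (vdecB p.val)) = p.val
    rw [Matrix.one_mulVec]
    exact vencB_vdecB p
  mul_smul A B p := by
    apply Fin.ext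
    show vencB ((A.1 * B.1).mulVec (vdecB p.val)) = vencB (A.1.mulVec (vdecB (vencB (B.1.mulVec (vdecB p.val)))))
    rw [vdecB_vencB, Matrix.mulVec_mulVec]

/-- the permutation representation on the codes of the vectors -/
def rho : SL →* Equiv.Perm (Fin 32) := @MulAction.toPermHom SL (Fin 32) _ actInst

theorem rho_apply (A : SL) (p : Fin 32) : (rho A p).val = vencB (A.1.mulVec (vdecB p.val)) := rfl

theorem act_chk : ∀ l, l < 4 → ∀ p : Fin 32, actB (codeB l) p.val = btable.tau l p.val := by decide +kernel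

theorem rho_gamB (l : ℕ) (hl : l < 4) : rho (gamB l) = Table.sigma Sl5BMain.hTB l := by
  ext p
  rw [rho_apply, gamB_val l hl, vencB_mulVec, act_chk l hl p]
  exact (Table.sigma_apply Sl5BMain.hTB (show l < btable.k from lt_of_lt_of_le hl (by decide)) p).symm

/-- the image of `beta` has at least 21504 elements -/
theorem card_range_beta : 21504 ≤ Nat.card beta.range := by
  have h1 : listGroup Sl5BMain.hTB gl ≤ beta.range.map rho := by
    unfold listGroup
    refine (Subgroup.closure_le _).mpr ?_
    rintro π ⟨l, hl, rfl⟩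
    have hl4 : l < 4 := by
      simp only [gl, List.mem_cons, List.not_mem_nil, or_false] at hl
      omega
    have : ∃ x : HcQDef.Gen, gamB l = gM x := by
      interval_cases l
      exacts [⟨.a, rfl⟩, ⟨.b, rfl⟩, ⟨.p, rfl⟩, ⟨.q, rfl⟩]
    obtain ⟨x, hx⟩ := this
    show Table.sigma Sl5BMain.hTB l ∈ beta.range.map rho
    refine ⟨beta (PresentedGroup.of x), ⟨_, rfl⟩, ?_⟩
    rw [beta_of, ← hx]
    exact rho_gamB l hl4
  calc 21504 ≤ Nat.card (listGroup Sl5BMain.hTB gl) := Sl5BMain.card_list
    _ ≤ Nat.card (beta.range.map rho) := Nat.card_le_card_of_injective _ (Subgroup.inclusion_injective h1)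
    _ ≤ Nat.card beta.range := Nat.le_of_dvd Nat.card_pos (Subgroup.card_map_dvd _ rho)

/-! ### The centraliser of the transvection -/

theorem comm_chk : ∀ l, l < 4 → mulB (codeB l) SB = mulB SB (codeB l) := by decide +kernel

theorem range_beta_le (s : SL) (hs : s.1 = Matrix.transvection 0 1 1) :
    beta.range ≤ Subgroup.centralizer {s} := by
  apply range_toGroup_le lift_rel
  intro x
  rw [Subgroup.mem_centralizer_iff]
  intro h hh
  rw [Set.mem_singleton_iff] at hh
  subst hh
  apply Subtype.ext
  show h.1 * (gM x).1 = (gM x).1 * h.1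
  rw [hs, ← decB_S, gM, gamB_val _ (lw_lt x true), ← decB_mul, ← decB_mul, comm_chk _ (lw_lt x true)]

/-- the semantic fingerprint of a matrix -/
noncomputable def fpM (M : Matrix (Fin 5) (Fin 5) (ZMod 2)) : ℕ :=
  Nat.add (Nat.mul (Nat.add (Nat.mul (Nat.add (Nat.mul (Nat.add (Nat.mul (vencB (M.mulVec (vdecB 1))) 32)
    (vencB (M.mulVec (vdecB 2)))) 32) (vencB (M.mulVec (vdecB 4)))) 32)
    (vencB (M.mulVec (vdecB 8)))) 32) (vencB (M.mulVec (vdecB 16)))

theorem fpM_decB (c : ℕ) : fpM (decB c) = fpB c := by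
  unfold fpM fpB
  rw [show vencB ((decB c).mulVec (vdecB 1)) = actB c 1 from vencB_mulVec c ⟨1, by norm_num⟩,
    show vencB ((decB c).mulVec (vdecB 2)) = actB c 2 from vencB_mulVec c ⟨2, by norm_num⟩,
    show vencB ((decB c).mulVec (vdecB 4)) = actB c 4 from vencB_mulVec c ⟨4, by norm_num⟩,
    show vencB ((decB c).mulVec (vdecB 8)) = actB c 8 from vencB_mulVec c ⟨8, by norm_num⟩,
    show vencB ((decB c).mulVec (vdecB 16)) = actB c 16 from vencB_mulVec c ⟨16, by norm_num⟩]

theorem cert_mul : ∀ t ∈ cert, mulB t.1 t.2 = ONEB := by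
  have h := cert_chk
  unfold certOK at h
  rw [Bool.and_eq_true, List.all_eq_true] at h
  intro t ht
  exact (Data.nbeq_iff _ _).mp (h.1 t ht)

theorem cert_inc : incOK 0 (cert.map fun t => fpB (mulB (mulB t.1 SB) t.2)) = true := by
  have h := cert_chk
  unfold certOK at h
  rw [Bool.and_eq_true] at h
  exact h.2

theorem card_SL_le : Nat.card SL ≤ 9999360 := by
  have h1 : Nat.card SL ≤ Nat.card (GL (Fin 5) (ZMod 2)) :=
    Nat.card_le_card_of_injective _ Matrix.SpecialLinearGroup.toGL_injective
  have h2 : Nat.card (GL (Fin 5) (ZMod 2)) = 9999360 := by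
    rw [Matrix.card_GL_field, ZMod.card, Fin.prod_univ_five]
    rfl
  omega

/-- the centraliser of the transvection has at most 21504 elements -/
theorem card_centralizer_le (s : SL) (hs : s.1 = Matrix.transvection 0 1 1) :
    Nat.card (Subgroup.centralizer ({s} : Set SL)) ≤ 21504 := by
  have hnd : ((cert.map toSL).map fun h => h * s * h⁻¹).Nodup := by
    rw [List.map_map]
    apply nodup_map_of_fingerprint cert _ (fun A : SL => fpM A.1)
      (fun t => fpB (mulB (mulB t.1 SB) t.2))
    · intro t ht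
      show fpM ((toSL t).1 * s.1 * ((toSL t)⁻¹).1) = _
      rw [toSL_val t (cert_mul t ht), toSL_inv_val t (cert_mul t ht), hs, ← decB_S, ← decB_mul, ← decB_mul,
        fpM_decB]
    · exact nodup_of_incOK _ 0 cert_inc
  have h := length_mul_card_le (⊤ : Subgroup SL) s (cert.map toSL) (fun _ _ => Subgroup.mem_top _) hnd
  rw [List.length_map, len_chk, top_inf_eq, Subgroup.card_top] at h
  have := card_SL_le
  omega

/-- the presented group `Q` is isomorphic to the centraliser of the transvection -/
theorem main (s : SL) (hs : s.1 = Matrix.transvection 0 1 1) :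
    Nonempty (PresentedGroup HcQLink.rels ≃* Subgroup.centralizer ({s} : Set SL)) := by
  obtain ⟨hfin, hle⟩ := HcTower.cardQ
  haveI : Finite (PresentedGroup HcQLink.rels) := hfin
  obtain ⟨hinj, hcard⟩ := injective_of_card_le beta hle card_range_beta
  have hrange : beta.range = Subgroup.centralizer ({s} : Set SL) := by
    apply Subgroup.eq_of_le_of_card_ge (range_beta_le s hs)
    exact le_trans (card_centralizer_le s hs) card_range_beta
  exact ⟨(MonoidHom.ofInjective hinj).trans (MulEquiv.subgroupCongr hrange)⟩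

end Cfsg.Agent.Lib.Helper3.TCX.Sl5Grp
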