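import Mathlib
import Cfsg.Agent.Lib.Helper3.J1.EncN
set_option autoImplicit false

/-!
# `5 × 5` matrices over `ZMod 2` coded by natural numbers

A matrix is a natural number with 25 binary digits (entry `(i, j)` is the digit `5 i + j`), a vector a
natural number with five binary digits.
-/

namespace Cfsg.Agent.Lib.Helper3.TCX.Sl5Mat

open Cfsg.Agent.Lib.Helper3.J1

/-- the `c`-th binary digit -/
def dq2 (x c : ℕ) : ℕ := x / 2 ^ c % 2

theorem dq2_lt (x c : ℕ) : dq2 x c < 2 := Nat.mod_lt _ (by norm_num)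

/-- an entry of the product -/
def entB (a b i j : ℕ) : ℕ :=
  (dq2 a (5 * i) * dq2 b j + dq2 a (5 * i + 1) * dq2 b (5 + j) + dq2 a (5 * i + 2) * dq2 b (10 + j) +
    dq2 a (5 * i + 3) * dq2 b (15 + j) + dq2 a (5 * i + 4) * dq2 b (20 + j)) % 2

theorem entB_lt (a b i j : ℕ) : entB a b i j < 2 := Nat.mod_lt _ (by norm_num)

/-- the entries of the product -/
def entLB (a b : ℕ) : List ℕ :=
  [entB a b 0 0, entB a b 0 1, entB a b 0 2, entB a b 0 3, entB a b 0 4, entB a b 1 0, entB a b 1 1, entB a b 1 2, entB a b 1 3, entB a b 1 4, entB a b 2 0, entB a b 2 1, entB a b 2 2, entB a b 2 3, entB a b 2 4, entB a b 3 0, entB a b 3 1, entB a b 3 2, entB a b 3 3, entB a b 3 4, entB a b 4 0, entB a b 4 1, entB a b 4 2, entB a b 4 3, entB a b 4 4]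

/-- product of coded matrices -/
def mulB (a b : ℕ) : ℕ := horner 2 (entLB a b)

/-- decoding of a matrix -/
def decB (a : ℕ) : Matrix (Fin 5) (Fin 5) (ZMod 2) :=
  Matrix.of fun i j => ((dq2 a (5 * i.val + j.val) : ℕ) : ZMod 2)

theorem dq2_mulB (a b c : ℕ) : dq2 (mulB a b) c = (entLB a b).getD c 0 := by
  unfold dq2 mulB
  apply horner_digit 2 (by norm_num)
  intro x hx
  simp only [entLB, List.mem_cons, List.not_mem_nil, or_false] at hx
  rcases hx with rfl | rfl | rfl | rfl | rfl | rfl | rfl | rfl | rfl | rfl | rfl | rfl | rfl | rfl | rfl | rfl | rfl | rfl | rfl | rfl | rfl | rfl | rfl | rfl | rfl <;> exact entB_lt _ _ _ _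

theorem entLB_getD (a b : ℕ) (i j : Fin 5) :
    (entLB a b).getD (5 * i.val + j.val) 0 = entB a b i.val j.val := by
  fin_cases i <;> fin_cases j <;> rfl

theorem cast_entB (a b i j : ℕ) :
    ((entB a b i j : ℕ) : ZMod 2) =
      ((dq2 a (5 * i) : ℕ) : ZMod 2) * ((dq2 b j : ℕ) : ZMod 2) +
      ((dq2 a (5 * i + 1) : ℕ) : ZMod 2) * ((dq2 b (5 + j) : ℕ) : ZMod 2) +
      ((dq2 a (5 * i + 2) : ℕ) : ZMod 2) * ((dq2 b (10 + j) : ℕ) : ZMod 2) +
      ((dq2 a (5 * i + 3) : ℕ) : ZMod 2) * ((dq2 b (15 + j) : ℕ) : ZMod 2) +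
      ((dq2 a (5 * i + 4) : ℕ) : ZMod 2) * ((dq2 b (20 + j) : ℕ) : ZMod 2) := by
  unfold entB
  rw [ZMod.natCast_mod]
  push_cast
  rfl

theorem decB_mul (a b : ℕ) : decB (mulB a b) = decB a * decB b := by
  ext i j
  rw [Matrix.mul_apply, Fin.sum_univ_five]
  simp only [decB, Matrix.of_apply]
  rw [dq2_mulB, entLB_getD, cast_entB]
  fin_cases i <;> fin_cases j <;> rfl

/-- the identity -/
def ONEB : ℕ := 1 + 2 ^ 6 + 2 ^ 12 + 2 ^ 18 + 2 ^ 24

theorem decB_one : decB ONEB = 1 := by decide +kernel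

/-- the transvection `1 + E₀₁` -/
def SB : ℕ := ONEB + 2

theorem decB_S : decB SB = Matrix.transvection 0 1 1 := by decide +kernel

/-- decoding of a vector -/
def vdecB (p : ℕ) : Fin 5 → ZMod 2 := fun i => ((dq2 p i.val : ℕ) : ZMod 2)

/-- the code of a vector -/
def vencB (v : Fin 5 → ZMod 2) : ℕ :=
  horner 2 [(v 0).val, (v 1).val, (v 2).val, (v 3).val, (v 4).val]

theorem vencB_lt (v : Fin 5 → ZMod 2) : vencB v < 32 := by
  have := horner_lt 2 [(v 0).val, (v 1).val, (v 2).val, (v 3).val, (v 4).val] (by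
      intro x hx
      simp only [List.mem_cons, List.not_mem_nil, or_false] at hx
      rcases hx with rfl | rfl | rfl | rfl | rfl <;> exact ZMod.val_lt _)
  simpa [vencB] using this

theorem vdecB_vencB (v : Fin 5 → ZMod 2) : vdecB (vencB v) = v := by
  have hd : ∀ c, dq2 (vencB v) c = [(v 0).val, (v 1).val, (v 2).val, (v 3).val, (v 4).val].getD c 0 := by
    intro c
    unfold dq2 vencB
    apply horner_digit 2 (by norm_num)
    intro x hx
    simp only [List.mem_cons, List.not_mem_nil, or_false] at hx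
    rcases hx with rfl | rfl | rfl | rfl | rfl <;> exact ZMod.val_lt _
  funext i
  unfold vdecB
  rw [hd]
  have hv : ∀ x : ZMod 2, ((x.val : ℕ) : ZMod 2) = x := fun x => ZMod.natCast_zmod_val x
  fin_cases i <;> exact hv _

theorem vencB_vdecB : ∀ p : Fin 32, vencB (vdecB p.val) = p.val := by decide +kernel

/-- an entry of the image of a vector -/
def entV (a p i : ℕ) : ℕ :=
  (dq2 a (5 * i) * dq2 p 0 + dq2 a (5 * i + 1) * dq2 p 1 + dq2 a (5 * i + 2) * dq2 p 2 +
    dq2 a (5 * i + 3) * dq2 p 3 + dq2 a (5 * i + 4) * dq2 p 4) % 2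

theorem entV_lt (a p i : ℕ) : entV a p i < 2 := Nat.mod_lt _ (by norm_num)

/-- the action of a coded matrix on a coded vector -/
def actB (a p : ℕ) : ℕ := horner 2 [entV a p 0, entV a p 1, entV a p 2, entV a p 3, entV a p 4]

theorem dq2_actB (a p c : ℕ) :
    dq2 (actB a p) c = [entV a p 0, entV a p 1, entV a p 2, entV a p 3, entV a p 4].getD c 0 := by
  unfold dq2 actB
  apply horner_digit 2 (by norm_num)
  intro x hx
  simp only [List.mem_cons, List.not_mem_nil, or_false] at hx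
  rcases hx with rfl | rfl | rfl | rfl | rfl <;> exact entV_lt _ _ _

theorem actB_getD (a p : ℕ) (i : Fin 5) :
    [entV a p 0, entV a p 1, entV a p 2, entV a p 3, entV a p 4].getD i.val 0 = entV a p i.val := by
  fin_cases i <;> rfl

theorem cast_entV (a p i : ℕ) :
    ((entV a p i : ℕ) : ZMod 2) =
      ((dq2 a (5 * i) : ℕ) : ZMod 2) * ((dq2 p 0 : ℕ) : ZMod 2) +
      ((dq2 a (5 * i + 1) : ℕ) : ZMod 2) * ((dq2 p 1 : ℕ) : ZMod 2) +
      ((dq2 a (5 * i + 2) : ℕ) : ZMod 2) * ((dq2 p 2 : ℕ) : ZMod 2) +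
      ((dq2 a (5 * i + 3) : ℕ) : ZMod 2) * ((dq2 p 3 : ℕ) : ZMod 2) +
      ((dq2 a (5 * i + 4) : ℕ) : ZMod 2) * ((dq2 p 4 : ℕ) : ZMod 2) := by
  unfold entV
  rw [ZMod.natCast_mod]
  push_cast
  rfl

theorem decB_mulVec (a p : ℕ) : (decB a).mulVec (vdecB p) = vdecB (actB a p) := by
  funext i
  rw [Matrix.mulVec, dotProduct, Fin.sum_univ_five]
  simp only [decB, Matrix.of_apply, vdecB]
  rw [dq2_actB, actB_getD, cast_entV]
  fin_cases i <;> rfl

theorem actB_lt (a p : ℕ) : actB a p < 32 := by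
  have := horner_lt 2 [entV a p 0, entV a p 1, entV a p 2, entV a p 3, entV a p 4] (by
      intro x hx
      simp only [List.mem_cons, List.not_mem_nil, or_false] at hx
      rcases hx with rfl | rfl | rfl | rfl | rfl <;> exact entV_lt _ _ _)
  simpa [actB] using this

theorem vencB_mulVec (a : ℕ) (p : Fin 32) : vencB ((decB a).mulVec (vdecB p.val)) = actB a p.val := by
  rw [decB_mulVec]
  exact vencB_vdecB ⟨actB a p.val, actB_lt a p.val⟩

end Cfsg.Agent.Lib.Helper3.TCX.Sl5Mat
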