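set_option autoImplicit false

namespace Cfsg.Agent.Lib.Helper3.TCX.SpDData

def cE0 : Nat := 0x9e544e27c0e862fc1a5b0a65abb123a064527a0a190224a39020021
def cE1 : Nat := 0x9a324259c7279ae31d7b6e592a2155a6a38a610d396618220051862
def cE2 : Nat := 0x0
def cJ0 : Nat := 0x130000230000000000000138000000000000000200000000000000020000000000000001000000000000000100000000000000020000000000000002000000000000000100000000000000010000000000000002000000000000000200000000000000010000000000000001000000000000000200000000000000020000000000000001000000000000000100000000000000020000000000000001
def cJ1 : Nat := 0x20000000000000002000000000000000100000000000000010000000000000002000000000000000200000000000000010000000000000001000000000000000200000000000000020000000000000001000000000000000100000000000000020000000000000002000000000000000100000000000000010000000000000002000000000000000200000000000000010000000000000001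
def cJ2 : Nat := 0x0
def cP0 : Nat := 0x406280c1007a00e405a80b1005a00a405280a1003a006404a8091001a002404280810002000

end Cfsg.Agent.Lib.Helper3.TCX.SpDData
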