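import Cfsg.Prelude.Def_SporCoxeter
import Cfsg.Prelude.Def_Spor_He
import Cfsg.Agent.Lib.Helper3.TCX.SpKDef
set_option autoImplicit false

namespace Cfsg.Agent.Lib.Helper3.TCX.SpDDef

/-- the generators -/
inductive Gen
  | c
  | d
  deriving DecidableEq

/-- the generators as generators of the larger presentation -/
def up : Gen → Cfsg.Agent.Lib.Helper3.TCX.SpKDef.Gen
  | .c => .c
  | .d => .d

/-- the Coxeter graph -/
def edges : List (Gen × ℕ × Gen) :=
  [(.c, 10, .d)]

/-- the further relators -/
def extra : List (FreeGroup Gen) := [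
   ]

end Cfsg.Agent.Lib.Helper3.TCX.SpDDef
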