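import Cfsg.Agent.Lib.Helper3.TCX.SpHBChk0
import Cfsg.Agent.Lib.Helper3.TCX.SpHBChk1
import Cfsg.Agent.Lib.Helper3.TCX.SpHBChk2
import Cfsg.Agent.Lib.Helper3.TCX.SpHBChk3
import Cfsg.Agent.Lib.Helper3.TCX.SpHBChk4
import Cfsg.Agent.Lib.Helper3.TCX.SpHBChk5
import Cfsg.Agent.Lib.Helper3.TCX.SpHBChk6

set_option autoImplicit false
set_option maxRecDepth 100000

namespace Cfsg.Agent.Lib.Helper3.TCX.SpHBMain
open Cfsg.Agent.Lib.Helper28.TC2Upper Cfsg.Agent.Lib.Helper28.TC2Lower Cfsg.Agent.Lib.Helper28.TC2Orbit Cfsg.Agent.Lib.Helper28.TC2Range Cfsg.Agent.Lib.Helper28.TC2Bsgs Cfsg.Agent.Lib.Helper3.TCX.SubBsgs Cfsg.Agent.Lib.Helper3.TCX.SpHBTable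

theorem hpermAll : ∀ p, p < btable.n → Table.permRow btable p = true := by
  intro p hp
  have hp' : p < 2058 := hp
  exact (Table.permRange_iff btable 0 2058).mp Cfsg.Agent.Lib.Helper3.TCX.SpHBChk0.prm0 p (by omega) (by omega)

theorem hTB : btable.OK := Table.ok_of_rows btable Cfsg.Agent.Lib.Helper3.TCX.SpHBChk6.hinvOK hpermAll

theorem hagree : ∀ p, p < Cfsg.Agent.Lib.Helper3.TCX.HeBTable.table.n → ∀ l, l < Cfsg.Agent.Lib.Helper3.TCX.HeBTable.table.k →
    btable.tau l p = Cfsg.Agent.Lib.Helper3.TCX.HeBTable.table.tau l p := by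
  intro p hp
  have hp' : p < 2058 := hp
  exact (agreeRange_iff _ btable 7 0 2058).mp Cfsg.Agent.Lib.Helper3.TCX.SpHBChk0.agr0 p (by omega) (by omega)

theorem hdef7 : ∀ p, p < btable.n → btable.walkT (defs.look 7) p = btable.tau 7 p := by
  intro p hp
  have hp' : p < 2058 := hp
  exact (defRange_iff defs 7 0 2058).mp Cfsg.Agent.Lib.Helper3.TCX.SpHBChk0.def7_0 p (by omega) (by omega)

theorem hdef8 : ∀ p, p < btable.n → btable.walkT (defs.look 8) p = btable.tau 8 p := by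
  intro p hp
  have hp' : p < 2058 := hp
  exact (defRange_iff defs 8 0 2058).mp Cfsg.Agent.Lib.Helper3.TCX.SpHBChk0.def8_0 p (by omega) (by omega)

theorem hdef9 : ∀ p, p < btable.n → btable.walkT (defs.look 9) p = btable.tau 9 p := by
  intro p hp
  have hp' : p < 2058 := hp
  exact (defRange_iff defs 9 0 2058).mp Cfsg.Agent.Lib.Helper3.TCX.SpHBChk0.def9_0 p (by omega) (by omega)

theorem hdef10 : ∀ p, p < btable.n → btable.walkT (defs.look 10) p = btable.tau 10 p := by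
  intro p hp
  have hp' : p < 2058 := hp
  exact (defRange_iff defs 10 0 2058).mp Cfsg.Agent.Lib.Helper3.TCX.SpHBChk1.def10_0 p (by omega) (by omega)

theorem hdef11 : ∀ p, p < btable.n → btable.walkT (defs.look 11) p = btable.tau 11 p := by
  intro p hp
  have hp' : p < 2058 := hp
  exact (defRange_iff defs 11 0 2058).mp Cfsg.Agent.Lib.Helper3.TCX.SpHBChk1.def11_0 p (by omega) (by omega)

theorem hdef12 : ∀ p, p < btable.n → btable.walkT (defs.look 12) p = btable.tau 12 p := by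
  intro p hp
  have hp' : p < 2058 := hp
  exact (defRange_iff defs 12 0 2058).mp Cfsg.Agent.Lib.Helper3.TCX.SpHBChk1.def12_0 p (by omega) (by omega)

theorem hdef13 : ∀ p, p < btable.n → btable.walkT (defs.look 13) p = btable.tau 13 p := by
  intro p hp
  have hp' : p < 2058 := hp
  exact (defRange_iff defs 13 0 2058).mp Cfsg.Agent.Lib.Helper3.TCX.SpHBChk1.def13_0 p (by omega) (by omega)

theorem hdef14 : ∀ p, p < btable.n → btable.walkT (defs.look 14) p = btable.tau 14 p := by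
  intro p hp
  have hp' : p < 2058 := hp
  exact (defRange_iff defs 14 0 2058).mp Cfsg.Agent.Lib.Helper3.TCX.SpHBChk1.def14_0 p (by omega) (by omega)

theorem hdef15 : ∀ p, p < btable.n → btable.walkT (defs.look 15) p = btable.tau 15 p := by
  intro p hp
  have hp' : p < 2058 := hp
  exact (defRange_iff defs 15 0 2058).mp Cfsg.Agent.Lib.Helper3.TCX.SpHBChk2.def15_0 p (by omega) (by omega)

theorem hdef16 : ∀ p, p < btable.n → btable.walkT (defs.look 16) p = btable.tau 16 p := by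
  intro p hp
  have hp' : p < 2058 := hp
  exact (defRange_iff defs 16 0 2058).mp Cfsg.Agent.Lib.Helper3.TCX.SpHBChk2.def16_0 p (by omega) (by omega)

theorem hdef17 : ∀ p, p < btable.n → btable.walkT (defs.look 17) p = btable.tau 17 p := by
  intro p hp
  have hp' : p < 2058 := hp
  exact (defRange_iff defs 17 0 2058).mp Cfsg.Agent.Lib.Helper3.TCX.SpHBChk2.def17_0 p (by omega) (by omega)

theorem hdef18 : ∀ p, p < btable.n → btable.walkT (defs.look 18) p = btable.tau 18 p := by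
  intro p hp
  have hp' : p < 2058 := hp
  exact (defRange_iff defs 18 0 2058).mp Cfsg.Agent.Lib.Helper3.TCX.SpHBChk2.def18_0 p (by omega) (by omega)

theorem hdef19 : ∀ p, p < btable.n → btable.walkT (defs.look 19) p = btable.tau 19 p := by
  intro p hp
  have hp' : p < 2058 := hp
  exact (defRange_iff defs 19 0 2058).mp Cfsg.Agent.Lib.Helper3.TCX.SpHBChk2.def19_0 p (by omega) (by omega)

theorem hdef : ∀ e, 8 ≤ e → e < btable.k → ∀ p, p < btable.n → btable.walkT (defs.look e) p = btable.tau e p := by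
  intro e h1 h2 p hp
  have h2' : e < 20 := h2
  interval_cases e
  · exact hdef8 p hp
  · exact hdef9 p hp
  · exact hdef10 p hp
  · exact hdef11 p hp
  · exact hdef12 p hp
  · exact hdef13 p hp
  · exact hdef14 p hp
  · exact hdef15 p hp
  · exact hdef16 p hp
  · exact hdef17 p hp
  · exact hdef18 p hp
  · exact hdef19 p hp

theorem hΓ : ∀ e, e < btable.k → (e ∈ gl ∨ 8 ≤ e) → Table.sigma hTB e ∈ listGroup hTB gl :=
  sigma_mem_listGroup hTB gl 8 defs Cfsg.Agent.Lib.Helper3.TCX.SpHBChk6.hgl Cfsg.Agent.Lib.Helper3.TCX.SpHBChk6.din hdef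

theorem hconn0 : ∀ p, p < btable.n → orb0.oid p = 1 →
    (orb0.depth p = 0 ∧ orb0.roots.look 1 = p) ∨
    (orb0.depth p ≠ 0 ∧ orb0.parent p < btable.n ∧ orb0.oid (orb0.parent p) = 1 ∧
      orb0.depth (orb0.parent p) + 1 = orb0.depth p ∧
      btable.walkT (orb0.gens.look (orb0.gen p)) (orb0.parent p) = p) := by
  intro p hp
  have hp' : p < 2058 := hp
  exact (OrbData.connOKc_iff orb0 btable 1 0 2058).mp Cfsg.Agent.Lib.Helper3.TCX.SpHBChk3.conn0_0 p (by omega) (by omega)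

theorem lev0 : 1360 * Nat.card (pstab (listGroup hTB gl) (toFin btable.n [1])) ≤
    Nat.card (pstab (listGroup hTB gl) (toFin btable.n [])) :=
  level_boundL hTB _ [] A0 orb0 1 1 1360 rfl (by decide) Cfsg.Agent.Lib.Helper3.TCX.SpHBChk3.cnt0
    (fun l hl => hΓ l ((Cfsg.Agent.Lib.Helper3.TCX.SpHBChk3.hA0) l hl).1.1 ((Cfsg.Agent.Lib.Helper3.TCX.SpHBChk3.hA0) l hl).1.2)
    (fun l hl => ⟨((Cfsg.Agent.Lib.Helper3.TCX.SpHBChk3.hA0) l hl).1.1, ((Cfsg.Agent.Lib.Helper3.TCX.SpHBChk3.hA0) l hl).2⟩)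
    (BT.All_of_all (fun _ h => of_decide_eq_true h) _ Cfsg.Agent.Lib.Helper3.TCX.SpHBChk3.hgens0) hconn0

theorem hconn1 : ∀ p, p < btable.n → orb1.oid p = 1 →
    (orb1.depth p = 0 ∧ orb1.roots.look 1 = p) ∨
    (orb1.depth p ≠ 0 ∧ orb1.parent p < btable.n ∧ orb1.oid (orb1.parent p) = 1 ∧
      orb1.depth (orb1.parent p) + 1 = orb1.depth p ∧
      btable.walkT (orb1.gens.look (orb1.gen p)) (orb1.parent p) = p) := by
  intro p hp
  have hp' : p < 2058 := hp
  exact (OrbData.connOKc_iff orb1 btable 1 0 2058).mp Cfsg.Agent.Lib.Helper3.TCX.SpHBChk3.conn1_0 p (by omega) (by omega)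

theorem lev1 : 45 * Nat.card (pstab (listGroup hTB gl) (toFin btable.n [2, 1])) ≤
    Nat.card (pstab (listGroup hTB gl) (toFin btable.n [1])) :=
  level_boundL hTB _ [1] A1 orb1 1 2 45 rfl (by decide) Cfsg.Agent.Lib.Helper3.TCX.SpHBChk4.cnt1
    (fun l hl => hΓ l ((Cfsg.Agent.Lib.Helper3.TCX.SpHBChk4.hA1) l hl).1.1 ((Cfsg.Agent.Lib.Helper3.TCX.SpHBChk4.hA1) l hl).1.2)
    (fun l hl => ⟨((Cfsg.Agent.Lib.Helper3.TCX.SpHBChk4.hA1) l hl).1.1, ((Cfsg.Agent.Lib.Helper3.TCX.SpHBChk4.hA1) l hl).2⟩)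
    (BT.All_of_all (fun _ h => of_decide_eq_true h) _ Cfsg.Agent.Lib.Helper3.TCX.SpHBChk4.hgens1) hconn1

theorem hconn2 : ∀ p, p < btable.n → orb2.oid p = 1 →
    (orb2.depth p = 0 ∧ orb2.roots.look 1 = p) ∨
    (orb2.depth p ≠ 0 ∧ orb2.parent p < btable.n ∧ orb2.oid (orb2.parent p) = 1 ∧
      orb2.depth (orb2.parent p) + 1 = orb2.depth p ∧
      btable.walkT (orb2.gens.look (orb2.gen p)) (orb2.parent p) = p) := by
  intro p hp
  have hp' : p < 2058 := hp
  exact (OrbData.connOKc_iff orb2 btable 1 0 2058).mp Cfsg.Agent.Lib.Helper3.TCX.SpHBChk4.conn2_0 p (by omega) (by omega)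

theorem lev2 : 8 * Nat.card (pstab (listGroup hTB gl) (toFin btable.n [5, 2, 1])) ≤
    Nat.card (pstab (listGroup hTB gl) (toFin btable.n [2, 1])) :=
  level_boundL hTB _ [2, 1] A2 orb2 1 5 8 rfl (by decide) Cfsg.Agent.Lib.Helper3.TCX.SpHBChk4.cnt2
    (fun l hl => hΓ l ((Cfsg.Agent.Lib.Helper3.TCX.SpHBChk5.hA2) l hl).1.1 ((Cfsg.Agent.Lib.Helper3.TCX.SpHBChk5.hA2) l hl).1.2)
    (fun l hl => ⟨((Cfsg.Agent.Lib.Helper3.TCX.SpHBChk5.hA2) l hl).1.1, ((Cfsg.Agent.Lib.Helper3.TCX.SpHBChk5.hA2) l hl).2⟩)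
    (BT.All_of_all (fun _ h => of_decide_eq_true h) _ Cfsg.Agent.Lib.Helper3.TCX.SpHBChk5.hgens2) hconn2

theorem hconn3 : ∀ p, p < btable.n → orb3.oid p = 1 →
    (orb3.depth p = 0 ∧ orb3.roots.look 1 = p) ∨
    (orb3.depth p ≠ 0 ∧ orb3.parent p < btable.n ∧ orb3.oid (orb3.parent p) = 1 ∧
      orb3.depth (orb3.parent p) + 1 = orb3.depth p ∧
      btable.walkT (orb3.gens.look (orb3.gen p)) (orb3.parent p) = p) := by
  intro p hp
  have hp' : p < 2058 := hp
  exact (OrbData.connOKc_iff orb3 btable 1 0 2058).mp Cfsg.Agent.Lib.Helper3.TCX.SpHBChk5.conn3_0 p (by omega) (by omega)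

theorem lev3 : 2 * Nat.card (pstab (listGroup hTB gl) (toFin btable.n [18, 5, 2, 1])) ≤
    Nat.card (pstab (listGroup hTB gl) (toFin btable.n [5, 2, 1])) :=
  level_boundL hTB _ [5, 2, 1] A3 orb3 1 18 2 rfl (by decide) Cfsg.Agent.Lib.Helper3.TCX.SpHBChk5.cnt3
    (fun l hl => hΓ l ((Cfsg.Agent.Lib.Helper3.TCX.SpHBChk6.hA3) l hl).1.1 ((Cfsg.Agent.Lib.Helper3.TCX.SpHBChk6.hA3) l hl).1.2)
    (fun l hl => ⟨((Cfsg.Agent.Lib.Helper3.TCX.SpHBChk6.hA3) l hl).1.1, ((Cfsg.Agent.Lib.Helper3.TCX.SpHBChk6.hA3) l hl).2⟩)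
    (BT.All_of_all (fun _ h => of_decide_eq_true h) _ Cfsg.Agent.Lib.Helper3.TCX.SpHBChk5.hgens3) hconn3

/-- the order of the group generated by the generating letters -/
theorem card_list : 979200 ≤ Nat.card (listGroup hTB gl) := by
  have h : 1360 * (45 * (8 * (2 * (1)))) ≤ Nat.card (pstab (listGroup hTB gl) (toFin btable.n [])) :=
    (chain_stepN lev0 (chain_stepN lev1 (chain_stepN lev2 (chain_stepN lev3 (one_le_card _ _)))))
  have e : (979200 : ℕ) = 1360 * (45 * (8 * (2 * (1)))) := by norm_num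
  rw [e]
  exact h

end Cfsg.Agent.Lib.Helper3.TCX.SpHBMain
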