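import Cfsg.Agent.Lib.Helper3.TCX.SpMBTable
import Cfsg.Agent.Lib.Helper3.TCX.SubBsgs
set_option autoImplicit false
set_option maxRecDepth 100000
set_option maxHeartbeats 0

namespace Cfsg.Agent.Lib.Helper3.TCX.SpMBChk4
open Cfsg.Agent.Lib.Helper28.TC2Upper Cfsg.Agent.Lib.Helper28.TC2Lower Cfsg.Agent.Lib.Helper28.TC2Orbit Cfsg.Agent.Lib.Helper28.TC2Range Cfsg.Agent.Lib.Helper28.TC2Bsgs Cfsg.Agent.Lib.Helper3.TCX.SubBsgs Cfsg.Agent.Lib.Helper3.TCX.SpMBTable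

theorem hA0 : ∀ l ∈ A0, (l < btable.k ∧ (l ∈ gl ∨ 5 ≤ l)) ∧ ∀ q ∈ ([] : List ℕ), btable.tau l q = q := by decide +kernel
theorem conn1_0 : OrbData.connOKc orb1 btable 1 0 256 = true := by decide +kernel
theorem cnt1 : orb1.count 256 1 = 60 := by decide +kernel
theorem hgens1 : BT.all (fun s => decide (s ∈ A1.map fun l => [l])) orb1.gens = true := by decide +kernel
theorem hA1 : ∀ l ∈ A1, (l < btable.k ∧ (l ∈ gl ∨ 5 ≤ l)) ∧ ∀ q ∈ ([1] : List ℕ), btable.tau l q = q := by decide +kernel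

end Cfsg.Agent.Lib.Helper3.TCX.SpMBChk4
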