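import Cfsg.Agent.Lib.Helper3.TCX.SpMat
import Cfsg.Agent.Lib.Helper3.TCX.SpNLink
import Cfsg.Agent.Lib.Helper3.TCX.SpMBMain
import Cfsg.Agent.Lib.Helper14.SympCount
set_option autoImplicit false
set_option maxRecDepth 100000

/-!
# The presented group `P` maps onto `Sp₄(4)`

Five explicit symplectic matrices over the field with four elements satisfy the relators of `P`; the group
they generate has at least 979200 elements (a chain of stabilisers on the 256 vectors), which is the
order of the symplectic group.
-/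

namespace Cfsg.Agent.Lib.Helper3.TCX.SpMatGrp
open Cfsg.Agent.Lib.Helper28.TC2Upper Cfsg.Agent.Lib.Helper28.TC2Lower Cfsg.Agent.Lib.Helper28.TC2Glue
open Cfsg.Agent.Lib.Helper28.TC2Bsgs Matrix
open Cfsg.Agent.Lib.Helper3.TCX.SpMat Cfsg.Agent.Lib.Helper3.TCX.SubBsgs Cfsg.Agent.Lib.Helper3.TCX.SpMBTable

/-- the symplectic group -/
abbrev Sp : Type := Matrix.symplecticGroup (Fin 2) F4

/-- the codes of the five matrices -/
def codeN : ℕ → ℕ
  | 0 => 1074791441
  | 1 => 1483920727
  | 2 => 1477444613
  | 3 => 1343226933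
  | _ => 1074853057

/-- the codes of their transposes -/
def codeTN : ℕ → ℕ
  | 0 => 1074856961
  | 1 => 1567982887
  | 2 => 1079018753
  | 3 => 1079182593
  | _ => 1327236097

theorem decM_tr : ∀ l, l < 5 → (decM (codeN l))ᵀ = decM (codeTN l) := by decide +kernel

theorem symp_chk : ∀ l, l < 5 → mulU (mulU (codeN l) JC) (codeTN l) = JC := by decide +kernel

theorem sq_chk : ∀ l, l < 5 → mulU (codeN l) (codeN l) = ONE := by decide +kernel

theorem mem_symp (l : ℕ) (hl : l < 5) : decM (codeN l) ∈ Matrix.symplecticGroup (Fin 2) F4 := by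
  rw [SymplecticGroup.mem_iff, decM_tr l hl, ← decM_J, ← decM_mul, ← decM_mul, symp_chk l hl]

/-- the letters as symplectic matrices -/
noncomputable def gamN (l : ℕ) : Sp :=
  if h : l < 5 then ⟨decM (codeN l), mem_symp l h⟩ else 1

theorem gamN_val (l : ℕ) (hl : l < 5) : (gamN l).1 = decM (codeN l) := by
  unfold gamN
  rw [dif_pos hl]

theorem gamN_sq (l : ℕ) (hl : l < 5) : gamN l * gamN l = 1 := by
  apply Subtype.ext
  show (gamN l).1 * (gamN l).1 = 1
  rw [gamN_val l hl, ← decM_mul, sq_chk l hl, decM_one]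

theorem gamN_inv (l : ℕ) (hl : l < 5) : (gamN l)⁻¹ = gamN l :=
  inv_eq_of_mul_eq_one_left (gamN_sq l hl)

/-- the generators as symplectic matrices -/
noncomputable def gM (x : SpNDef.Gen) : Sp := gamN (SpNLink.lw (x, true))

theorem lw_lt (x : SpNDef.Gen) (b : Bool) : SpNLink.lw (x, b) < 5 := by
  cases x <;> cases b <;> decide

theorem lw_bool (x : SpNDef.Gen) (b : Bool) : SpNLink.lw (x, b) = SpNLink.lw (x, true) := by
  cases x <;> rfl

/-- products of codes along a path -/
def pathCode : List ℕ → ℕ
  | [] => ONE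
  | l :: ls => mulU (pathCode ls) (codeN l)

theorem pathProd_val (w : List ℕ) (hw : ∀ l ∈ w, l < 5) : (pathProd gamN w).1 = decM (pathCode w) := by
  induction w with
  | nil => exact decM_one.symm
  | cons l ls ih =>
    show (pathProd gamN ls).1 * (gamN l).1 = decM (mulU (pathCode ls) (codeN l))
    rw [ih (fun x hx => hw x (List.mem_cons_of_mem _ hx)), gamN_val l (hw l List.mem_cons_self), decM_mul]

theorem rel_chk : ∀ L ∈ SpNLink.relWords, (∀ l ∈ pathOf SpNLink.lw L, l < 5) ∧
    pathCode (pathOf SpNLink.lw L) = ONE := by decide +kernel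

/-- the matrices satisfy the relators -/
theorem lift_rel (r : FreeGroup SpNDef.Gen) (hr : r ∈ SpNLink.rels) : FreeGroup.lift gM r = 1 := by
  obtain ⟨L, hL, rfl⟩ := (SpNLink.link.hrels r).mp hr
  rw [lift_mk_eq_pathProd gM SpNLink.lw gamN]
  · apply Subtype.ext
    rw [pathProd_val _ (rel_chk L hL).1, (rel_chk L hL).2, decM_one]
    rfl
  · intro x b
    cases b
    · show gamN (SpNLink.lw (x, false)) = (gM x)⁻¹
      rw [lw_bool, gM, gamN_inv _ (lw_lt x true)]
    · rfl

/-- the homomorphism from the presented group to the symplectic group -/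
noncomputable def beta : PresentedGroup SpNLink.rels →* Sp :=
  PresentedGroup.toGroup (f := gM) lift_rel

theorem beta_of (x : SpNDef.Gen) : beta (PresentedGroup.of x) = gM x := by
  unfold beta
  rw [PresentedGroup.toGroup.of]

/-! ### The action on the coded vectors -/

/-- the action of a symplectic matrix on the codes of the vectors -/
def smulP (A : Sp) (p : Fin 256) : Fin 256 := ⟨venc (A.1.mulVec (vdec p.val)), venc_lt _⟩

/-- the action on the codes of the vectors -/
def actInst : MulAction Sp (Fin 256) where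
  smul := smulP
  one_smul p := by
    apply Fin.ext
    show venc ((1 : Matrix I4 I4 F4).mulVec (vdec p.val)) = p.val
    rw [Matrix.one_mulVec]
    exact venc_vdec p
  mul_smul A B p := by
    apply Fin.ext
    show venc ((A.1 * B.1).mulVec (vdec p.val)) = venc (A.1.mulVec (vdec (venc (B.1.mulVec (vdec p.val)))))
    rw [vdec_venc, Matrix.mulVec_mulVec]

/-- the permutation representation on the codes of the vectors -/
def rho : Sp →* Equiv.Perm (Fin 256) := @MulAction.toPermHom Sp (Fin 256) _ actInst

theorem rho_apply (A : Sp) (p : Fin 256) : (rho A p).val = venc (A.1.mulVec (vdec p.val)) := rfl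

theorem act_chk : ∀ l, l < 5 → ∀ p : Fin 256, actU (codeN l) p.val = btable.tau l p.val := by decide +kernel

theorem rho_gamN (l : ℕ) (hl : l < 5) : rho (gamN l) = Table.sigma SpMBMain.hTB l := by
  ext p
  rw [rho_apply, gamN_val l hl, venc_mulVec, act_chk l hl p]
  exact (Table.sigma_apply SpMBMain.hTB (show l < btable.k by have : btable.k = 21 := rfl; omega) p).symm

/-- the image of `beta` has at least 979200 elements -/
theorem card_range_beta : 979200 ≤ Nat.card beta.range := by
  have h1 : listGroup SpMBMain.hTB gl ≤ beta.range.map rho := by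
    unfold listGroup
    refine (Subgroup.closure_le _).mpr ?_
    rintro π ⟨l, hl, rfl⟩
    have hl5 : l < 5 := by
      simp only [gl, List.mem_cons, List.not_mem_nil, or_false] at hl
      omega
    have : ∃ x : SpNDef.Gen, gamN l = gM x := by
      interval_cases l
      exacts [⟨.c, rfl⟩, ⟨.d, rfl⟩, ⟨.e, rfl⟩, ⟨.f, rfl⟩, ⟨.t, rfl⟩]
    obtain ⟨x, hx⟩ := this
    show Table.sigma SpMBMain.hTB l ∈ beta.range.map rho
    refine ⟨beta (PresentedGroup.of x), ⟨_, rfl⟩, ?_⟩
    rw [beta_of, ← hx]
    exact rho_gamN l hl5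
  calc 979200 ≤ Nat.card (listGroup SpMBMain.hTB gl) := SpMBMain.card_list
    _ ≤ Nat.card (beta.range.map rho) := Nat.card_le_card_of_injective _ (Subgroup.inclusion_injective h1)
    _ ≤ Nat.card beta.range := Nat.le_of_dvd Nat.card_pos (Subgroup.card_map_dvd _ rho)

theorem card_Sp : Nat.card Sp = 979200 := by
  have h := Cfsg.Agent.Lib.Helper14.card_symplectic (F := F4) 2
  rw [card_F4] at h
  rw [h]
  decide

theorem beta_surjective : Function.Surjective beta := by
  rw [← MonoidHom.range_eq_top]
  apply Subgroup.eq_top_of_card_eq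
  apply le_antisymm (Subgroup.card_le_card_group _)
  rw [card_Sp]
  exact card_range_beta

end Cfsg.Agent.Lib.Helper3.TCX.SpMatGrp
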