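import Cfsg.Agent.Lib.Helper28.TC2Upper
import Cfsg.Agent.Lib.Helper3.TCX.SpKDataC0
set_option autoImplicit false
set_option maxRecDepth 100000

namespace Cfsg.Agent.Lib.Helper3.TCX.SpKData
open Cfsg.Agent.Lib.Helper28.TC2Upper

/-- relators -/
def relT : BT (ℕ × List ℕ × List ℕ) := (BT.node 8 (BT.node 4 (BT.node 2 (BT.node 1 (BT.node 0 (BT.leaf (2, [0, 0], [0, 0])) (BT.leaf (20, [1, 0, 1, 0, 1, 0, 1, 0, 1, 0, 1, 0, 1, 0, 1, 0, 1, 0, 1, 0], [0, 1, 0, 1, 0, 1, 0, 1, 0, 1, 0, 1, 0, 1, 0, 1, 0, 1, 0, 1]))) (BT.leaf (4, [2, 0, 2, 0], [0, 2, 0, 2]))) (BT.node 3 (BT.leaf (4, [3, 0, 3, 0], [0, 3, 0, 3])) (BT.leaf (20, [0, 1, 0, 1, 0, 1, 0, 1, 0, 1, 0, 1, 0, 1, 0, 1, 0, 1, 0, 1], [1, 0, 1, 0, 1, 0, 1, 0, 1, 0, 1, 0, 1, 0, 1, 0, 1, 0, 1, 0])))) (BT.node 6 (BT.node 5 (BT.leaf (2, [1, 1], [1, 1]))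 (BT.leaf (6, [2, 1, 2, 1, 2, 1], [1, 2, 1, 2, 1, 2]))) (BT.node 7 (BT.leaf (6, [3, 1, 3, 1, 3, 1], [1, 3, 1, 3, 1, 3])) (BT.leaf (4, [0, 2, 0, 2], [2, 0, 2, 0]))))) (BT.node 13 (BT.node 11 (BT.node 10 (BT.node 9 (BT.leaf (6, [1, 2, 1, 2, 1, 2], [2, 1, 2, 1, 2, 1])) (BT.leaf (2, [2, 2], [2, 2]))) (BT.leaf (4, [3, 2, 3, 2], [2, 3, 2, 3]))) (BT.node 12 (BT.leaf (4, [0, 3, 0, 3], [3, 0, 3, 0])) (BT.leaf (6, [1, 3, 1, 3, 1, 3], [3, 1, 3, 1, 3, 1])))) (BT.node 15 (BT.node 14 (BT.leaf (4, [2, 3, 2, 3], [3, 2, 3, 2])) (BT.leaf (2, [3, 3], [3, 3]))) (BT.node 16 (BT.leaf (21, [3, 1, 0, 1, 2, 1, 0, 3, 1, 3, 1, 3, 0, 1, 2, 1, 0, 1, 3, 2, 0], [0, 2, 3, 1, 0, 1, 2, 1, 0, 3, 1, 3, 1, 3, 0, 1, 2, 1, 0, 1, 3])) (BT.leaf (21, [3, 1, 0, 2, 1, 0, 1, 3, 1, 2, 0, 1, 0, 1, 3, 1, 2, 0, 1, 0, 1], [1, 0, 1, 0,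 2, 1, 3, 1, 0, 1, 0, 2, 1, 3, 1, 0, 1, 2, 0, 1, 3]))))))
/-- subgroup generators -/
def subT : BT (ℕ × List ℕ × List ℕ) := (BT.node 0 (BT.leaf (1, [0], [0])) (BT.leaf (1, [1], [1])))
/-- fact chunks -/
def colET : BT ℕ := (BT.node 2 (BT.node 1 (BT.node 0 (BT.leaf cE0) (BT.leaf cE1)) (BT.leaf cE2)) (BT.node 3 (BT.leaf cE3) (BT.leaf cE4)))
/-- justification chunks -/
def colJT : BT ℕ := (BT.node 2 (BT.node 1 (BT.node 0 (BT.leaf cJ0) (BT.leaf cJ1)) (BT.leaf cJ2)) (BT.node 3 (BT.leaf cJ3) (BT.leaf cJ4)))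
/-- parent chunks -/
def parCT : BT ℕ := (BT.leaf cP0)
/-- the certificate -/
def data : Data where
  k := 4
  N := 192
  W := 18
  MW := 262144
  B := 256
  CH := 512
  NCH := 1
  colE := colET
  JW := 64
  MJ := 18446744073709551616
  A := 1048576
  colJ := colJT
  PW := 18
  MP := 262144
  parC := parCT
  inv := (BT.node 2 (BT.node 1 (BT.node 0 (BT.leaf 0) (BT.leaf 1)) (BT.leaf 2)) (BT.node 3 (BT.leaf 3) (BT.leaf 4)))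
  rel := relT
  sub := subT
  fuel := 4

end Cfsg.Agent.Lib.Helper3.TCX.SpKData
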