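import Cfsg.Agent.Lib.Helper28.TC2Tower
import Cfsg.Agent.Lib.Helper28.TC2Simple
import Cfsg.Agent.Lib.Helper3.TCX.SpNMain
import Cfsg.Agent.Lib.Helper3.TCX.SpKMain
import Cfsg.Agent.Lib.Helper3.TCX.SpDMain
set_option autoImplicit false
set_option maxRecDepth 100000

/-!
# A presentation of a group of order at most 979200

The group `P = ⟨c, d, e, f, t⟩` with Coxeter relations and four further relators has order at most
`255 · 192 · 20 = 979200` (it is the symplectic group `Sp₄(4)`).
-/

namespace Cfsg.Agent.Lib.Helper3.TCX.SpTower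
open Cfsg.Agent.Lib.Helper28.TC2Tower Cfsg.Agent.Lib.Helper28.TC2Glue Cfsg.Agent.Lib.Helper28.TC2Simple
open Cfsg.Agent.Lib.Helper28.TC2Upper Cfsg.Agent.Lib.Helper28.TC2Lower

/-- the sub-presentation on `c, d` has order 20 -/
theorem cardD : Finite (PresentedGroup SpDLink.rels) ∧ Nat.card (PresentedGroup SpDLink.rels) = 20 := by
  have h : ((Subgroup.closure SpDLink.S).map (PresentedGroup.mk SpDLink.rels)).index = 20 := SpDMain.main.1
  have e : (Subgroup.closure SpDLink.S).map (PresentedGroup.mk SpDLink.rels) = ⊥ := by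
    show (Subgroup.closure {1}).map _ = ⊥
    rw [Subgroup.closure_singleton_one, Subgroup.map_bot]
  rw [e] at h
  exact card_of_index_bot (by norm_num) h

theorem upD : ∀ L ∈ SpDLink.relWords, upWord SpDDef.up L ∈ SpKLink.relWords := by decide +kernel

/-- the sub-presentation on `c, d, e, f` has order at most 3840 -/
theorem cardK : Finite (PresentedGroup SpKLink.rels) ∧ Nat.card (PresentedGroup SpKLink.rels) ≤ 3840 := by
  haveI := cardD.1
  have hrel := hrel_of_words SpKLink.rels SpDLink.rels SpDDef.up SpKLink.relWords SpDLink.relWords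
    SpKLink.link.hrels SpDLink.link.hrels upD
  have hS : ∀ s ∈ SpKLink.S, ∃ b, s = FreeGroup.of (SpDDef.up b) := by
    intro s hs
    simp only [SpKLink.S, Set.mem_insert_iff, Set.mem_singleton_iff] at hs
    rcases hs with rfl | rfl
    exacts [⟨.c, rfl⟩, ⟨.d, rfl⟩]
  obtain ⟨hfin, hle⟩ := card_le_of_subpres SpKLink.rels SpDLink.rels SpDDef.up hrel SpKLink.S hS
  have hidx : ((Subgroup.closure SpKLink.S).map (PresentedGroup.mk SpKLink.rels)).index = 192 := SpKMain.main.1
  haveI := hfin
  refine ⟨finite_of_index _ (by rw [hidx]; norm_num), ?_⟩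
  exact card_le_of_index _ hidx (le_trans hle (le_of_eq cardD.2))

theorem upK : ∀ L ∈ SpKLink.relWords, upWord SpKDef.up L ∈ SpNLink.relWords := by decide +kernel

/-- the presented group `P` has order at most 979200 -/
theorem cardN : Finite (PresentedGroup SpNLink.rels) ∧ Nat.card (PresentedGroup SpNLink.rels) ≤ 979200 := by
  haveI := cardK.1
  have hrel := hrel_of_words SpNLink.rels SpKLink.rels SpKDef.up SpNLink.relWords SpKLink.relWords
    SpNLink.link.hrels SpKLink.link.hrels upK
  have hS : ∀ s ∈ SpNLink.S, ∃ b, s = FreeGroup.of (SpKDef.up b) := by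
    intro s hs
    simp only [SpNLink.S, Set.mem_insert_iff, Set.mem_singleton_iff] at hs
    rcases hs with rfl | rfl | rfl | rfl
    exacts [⟨.c, rfl⟩, ⟨.d, rfl⟩, ⟨.e, rfl⟩, ⟨.f, rfl⟩]
  obtain ⟨hfin, hle⟩ := card_le_of_subpres SpNLink.rels SpKLink.rels SpKDef.up hrel SpNLink.S hS
  have hidx : ((Subgroup.closure SpNLink.S).map (PresentedGroup.mk SpNLink.rels)).index = 255 := SpNMain.main.1
  haveI := hfin
  refine ⟨finite_of_index _ (by rw [hidx]; norm_num), ?_⟩
  exact card_le_of_index _ hidx (le_trans hle cardK.2)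

end Cfsg.Agent.Lib.Helper3.TCX.SpTower
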