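import Cfsg.Agent.S1683
import Cfsg.Agent.Lib.Helper28.TC2Bsgs
import Cfsg.Agent.Lib.Helper28.TC2Simple
import Cfsg.Agent.Lib.Helper3.TCX.HeTower
import Cfsg.Agent.Lib.Helper3.TCX.HeBMain
import Cfsg.Agent.Lib.Helper3.TCX.HeBSMain
import Cfsg.Agent.Lib.Helper3.TCX.SpTower
import Cfsg.Agent.Lib.Helper3.TCX.SpHBMain
import Cfsg.Agent.Lib.Helper3.TCX.SpMatGrp
set_option autoImplicit false
set_option maxRecDepth 100000

/-!
# The symplectic group `Sp₄(4)` inside the presented Held group

The subgroup of the presented Held group generated by `c, d, e, f` and `t = g b c d c b g` is isomorphic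
to `Sp₄(4)`, of order 979200, and lies in the subgroup `H` of index 2058.
-/

namespace Cfsg.Agent.Lib.Helper3.TCX.SpHe
open Cfsg.Agent.Lib.Helper28.TC2Upper Cfsg.Agent.Lib.Helper28.TC2Lower Cfsg.Agent.Lib.Helper28.TC2Glue
open Cfsg.Agent.Lib.Helper28.TC2Bsgs Cfsg.Agent.Lib.Helper28.TC2Simple
open Cfsg.Agent.Lib.Helper3.TCX.SubBsgs Cfsg.Agent.Lib.Helper3.TCX.SpHBTable
open Cfsg.Agent.Lib.Helper3.TCX.HeBLink

/-- the presented Held group -/
abbrev He : Type := PresentedGroup rels

/-- the subgroup of index 2058 -/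
abbrev H : Subgroup He := (Subgroup.closure S).map (PresentedGroup.mk rels)

/-- the presented symplectic group -/
abbrev P : Type := PresentedGroup SpNLink.rels

/-- the images of the generators, as words -/
def imgW : SpNDef.Gen → List (Cfsg.Spor.He.Gen × Bool)
  | .c => [(.c, true)]
  | .d => [(.d, true)]
  | .e => [(.e, true)]
  | .f => [(.f, true)]
  | .t => [(.g, true), (.b, true), (.c, true), (.d, true), (.c, true), (.b, true), (.g, true)]

/-- the images of the generators -/
def imgs (x : SpNDef.Gen) : He := PresentedGroup.mk rels (FreeGroup.mk (imgW x))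

/-- the letters of the generators in the extended table -/
def lw2 : SpNDef.Gen × Bool → ℕ
  | (.c, _) => 2
  | (.d, _) => 3
  | (.e, _) => 4
  | (.f, _) => 5
  | (.t, _) => 7

/-- the images of the generators act as letters of the extended table, and fix the point 0 -/
noncomputable def linkOK (n : ℕ) : Bool :=
  allLoop (fun p => [SpNDef.Gen.c, .d, .e, .f, .t].all fun x =>
    Nat.beq (HeBTable.table.walkT (pathOf lw (imgW x)) p) (btable.tau (lw2 (x, true)) p)) n

theorem linkOK_true : linkOK 2058 = true := by decide +kernel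

theorem link_apply (x : SpNDef.Gen) (p : ℕ) (hp : p < 2058) :
    HeBTable.table.walkT (pathOf lw (imgW x)) p = btable.tau (lw2 (x, true)) p := by
  have h := (allLoop_eq_true _ _).mp linkOK_true p hp
  rw [List.all_eq_true] at h
  have h2 := h x (by cases x <;> simp)
  exact (Data.nbeq_iff _ _).mp h2

theorem fix0 : ∀ x : SpNDef.Gen, HeBTable.table.walkT (pathOf lw (imgW x)) 0 = 0 := by
  intro x
  cases x <;> decide +kernel

theorem relchk : btable.relOK (SpNLink.relWords.map (pathOf lw2)) 0 2058 = true := by decide +kernel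

theorem lw2_lt : ∀ L : List (SpNDef.Gen × Bool), ∀ l ∈ pathOf lw2 L, l < btable.k := by
  intro L l hl
  unfold pathOf at hl
  rw [List.mem_reverse, List.mem_map] at hl
  obtain ⟨⟨x, b⟩, _, rfl⟩ := hl
  cases x <;> cases b <;> decide

theorem lw2_inv (x : SpNDef.Gen) : btable.invl (lw2 (x, true)) = lw2 (x, true) := by
  cases x <;> rfl

theorem lw2_bool (x : SpNDef.Gen) (b : Bool) : lw2 (x, b) = lw2 (x, true) := by
  cases x <;> rfl

theorem lw2_k (x : SpNDef.Gen) : lw2 (x, true) < btable.k := by
  cases x <;> decide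

theorem lw2_gl (x : SpNDef.Gen) : lw2 (x, true) ∈ gl := by
  cases x <;> decide

theorem gl_lw2 : ∀ l ∈ gl, ∃ x : SpNDef.Gen, lw2 (x, true) = l := by
  intro l hl
  simp only [gl, List.mem_cons, List.not_mem_nil, or_false] at hl
  rcases hl with rfl | rfl | rfl | rfl | rfl
  exacts [⟨.c, rfl⟩, ⟨.d, rfl⟩, ⟨.e, rfl⟩, ⟨.f, rfl⟩, ⟨.t, rfl⟩]

/-- a homomorphism from a presented group has its range in a subgroup as soon as the generators do -/
theorem range_toGroup_le {α : Type} {G : Type*} [Group G] {R : Set (FreeGroup α)} {f : α → G}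
    (h : ∀ r ∈ R, FreeGroup.lift f r = 1) (K : Subgroup G) (hK : ∀ x, f x ∈ K) :
    (PresentedGroup.toGroup h).range ≤ K := by
  rintro _ ⟨g, rfl⟩
  induction g using PresentedGroup.induction_on with
  | _ w =>
    induction w using FreeGroup.induction_on with
    | C1 => rw [map_one]; exact K.one_mem
    | of x => exact (PresentedGroup.toGroup.of h (x := x)) ▸ hK x
    | inv_of x ih => rw [map_inv, map_inv]; exact K.inv_mem ih
    | mul a b iha ihb => rw [map_mul, map_mul]; exact K.mul_mem iha ihb

/-- the main facts on the presented Held group and its subgroup `Sp₄(4)` -/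
theorem core : ∃ φ : He →* Equiv.Perm (Fin 2058), Function.Injective φ ∧
    (∃ f : He ⧸ H → Fin 2058, Function.Bijective f ∧ (∀ g q, f (g • q) = φ g (f q)) ∧
      f (QuotientGroup.mk 1) = 0) ∧
    Nat.card He = 4030387200 ∧
    ∃ N' : Subgroup He, N' ≤ H ∧ Nat.card N' = 979200 ∧
      Nonempty (N' ≃* Matrix.symplecticGroup (Fin 2) SpMat.F4) := by
  obtain ⟨φ0, hφ, f, hsurj, hequiv, h0⟩ := HeBMain.main
  let φ : He →* Equiv.Perm (Fin 2058) := φ0
  obtain ⟨hfin, hle⟩ := HeTower.card0
  haveI : Finite (PresentedGroup rels) := hfin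
  have hlow : 4030387200 ≤ Nat.card φ.range :=
    le_trans HeBSMain.card_base (card_baseGroup_le HeBMain.hT HeBSMain.hTB rfl (by decide)
      HeBSMain.hagree φ.range (sigma_mem_range link HeBMain.hT φ hφ))
  obtain ⟨hinj, hcard⟩ := injective_of_card_le φ hle hlow
  have hidx : H.index = 2058 := Cfsg.Agent.S1683.result.1
  have hbij : Function.Bijective f := by
    apply hsurj.bijective_of_nat_card_le
    rw [Nat.card_fin]
    exact le_of_eq hidx
  refine ⟨φ, hinj, ⟨f, hbij, hequiv, h0⟩, hcard, ?_⟩
  -- the images of the generators as permutations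
  have hφimg : ∀ x : SpNDef.Gen, (φ (imgs x) : Equiv.Perm (Fin 2058)) = Table.sigma SpHBMain.hTB (lw2 (x, true)) := by
    intro x
    apply Equiv.ext
    intro p
    apply Fin.ext
    have h1 := phi_mk_apply link HeBMain.hT φ hφ (imgW x) p
    have h2 := Table.sigma_apply SpHBMain.hTB (lw2_k x) p
    exact h1.trans ((link_apply x p.val p.2).trans h2.symm)
  have hinvσ : ∀ x : SpNDef.Gen, (Table.sigma SpHBMain.hTB (lw2 (x, true)))⁻¹ =
      Table.sigma SpHBMain.hTB (lw2 (x, true)) := by
    intro x
    rw [← Table.sigma_inv SpHBMain.hTB (lw2_k x), lw2_inv]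
  -- the relators hold
  have hrelα : ∀ r ∈ SpNLink.rels, FreeGroup.lift imgs r = 1 := by
    intro r hr
    obtain ⟨L, hL, rfl⟩ := (SpNLink.link.hrels r).mp hr
    apply hinj
    rw [map_one]
    have hcomp : φ.comp (FreeGroup.lift imgs) = FreeGroup.lift (fun x => φ (imgs x)) := by
      apply FreeGroup.ext_hom
      intro x
      rw [MonoidHom.comp_apply, FreeGroup.lift_apply_of, FreeGroup.lift_apply_of]
    rw [← MonoidHom.comp_apply, hcomp,
      lift_mk_eq_pathProd (K := Equiv.Perm (Fin 2058)) (fun x => φ (imgs x)) lw2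
        (Table.sigma SpHBMain.hTB : ℕ → Equiv.Perm (Fin 2058)) _ L]
    · apply Table.pathProd_sigma_eq_one SpHBMain.hTB _ (lw2_lt L)
      intro p hp
      exact (Table.relOK_iff _ 0 2058).mp relchk p (Nat.zero_le _) (by have : p < 2058 := hp; omega) _
        (List.mem_map_of_mem hL)
    · intro x b
      rw [lw2_bool]
      cases b
      · show _ = (φ (imgs x))⁻¹
        rw [hφimg]
        exact (hinvσ x).symm
      · exact (hφimg x).symm
  let α : P →* He := PresentedGroup.toGroup hrelα
  have hαof : ∀ x, α (PresentedGroup.of x) = imgs x := fun x => PresentedGroup.toGroup.of hrelα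
  obtain ⟨hfinP, hleP⟩ := SpTower.cardN
  haveI : Finite P := hfinP
  -- the image is large
  have h1 : (listGroup SpHBMain.hTB gl : Subgroup (Equiv.Perm (Fin 2058))) ≤ α.range.map φ := by
    unfold listGroup
    refine (Subgroup.closure_le _).mpr ?_
    rintro π ⟨l, hl, rfl⟩
    obtain ⟨x, rfl⟩ := gl_lw2 l hl
    show Table.sigma SpHBMain.hTB (lw2 (x, true)) ∈ α.range.map φ
    refine ⟨α (PresentedGroup.of x), ⟨_, rfl⟩, ?_⟩
    rw [hαof]
    exact hφimg x
  have hlowN : 979200 ≤ Nat.card α.range :=
    calc 979200 ≤ Nat.card (listGroup SpHBMain.hTB gl) := SpHBMain.card_list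
      _ ≤ Nat.card (α.range.map φ) := Nat.card_le_card_of_injective _ (Subgroup.inclusion_injective h1)
      _ ≤ Nat.card α.range := Nat.le_of_dvd Nat.card_pos (Subgroup.card_map_dvd _ φ)
  obtain ⟨hαinj, hcardP⟩ := injective_of_card_le α hleP hlowN
  -- the isomorphism with the symplectic group
  have hβbij : Function.Bijective SpMatGrp.beta := by
    rw [Nat.bijective_iff_surjective_and_card]
    exact ⟨SpMatGrp.beta_surjective, by rw [hcardP, SpMatGrp.card_Sp]⟩
  have hH0 : ∀ g : He, f (QuotientGroup.mk g) = f (QuotientGroup.mk 1) → g ∈ H := by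
    intro g hg
    have := hbij.1 hg
    rw [QuotientGroup.eq, mul_one] at this
    exact (Subgroup.inv_mem_iff _).mp this
  refine ⟨α.range, ?_, ?_, ?_⟩
  · apply range_toGroup_le hrelα H
    intro x
    apply hH0
    rw [h0]
    apply Fin.ext
    exact (f_mk link HeBMain.hT HeBMain.hn φ hφ f hequiv h0 (imgW x)).trans (fix0 x)
  · apply le_antisymm _ hlowN
    calc Nat.card α.range ≤ Nat.card P :=
          Nat.card_le_card_of_surjective α.rangeRestrict α.rangeRestrict_surjective
      _ ≤ 979200 := hleP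
  · exact ⟨(MonoidHom.ofInjective hαinj).symm.trans (MulEquiv.ofBijective SpMatGrp.beta hβbij)⟩

end Cfsg.Agent.Lib.Helper3.TCX.SpHe
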