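import Mathlib
import Cfsg.Agent.Lib.Helper3.J1.EncN
set_option autoImplicit false

/-!
# `4 × 4` matrices over a concrete field with four elements, coded by natural numbers

The index type is `Fin 2 ⊕ Fin 2`, as for `Matrix.symplecticGroup (Fin 2)`.  A matrix is a natural number
with sixteen digits in base 4, a vector a natural number with four digits.
-/

namespace Cfsg.Agent.Lib.Helper3.TCX.SpMat

open Cfsg.Agent.Lib.Helper3.J1

/-- the field with four elements: `0, 1, 2 = ω, 3 = ω²` -/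
structure F4 where
  /-- the code -/
  v : Fin 4
  deriving DecidableEq, Fintype

/-- multiplication of the codes -/
def mul4 (a b : ℕ) : ℕ := if a = 0 then 0 else if b = 0 then 0 else (a + b - 2) % 3 + 1

/-- from natural numbers -/
def toF4 (n : ℕ) : F4 := ⟨Fin.ofNat 4 n⟩

/-- addition -/
def F4.add (a b : F4) : F4 := toF4 (a.v.val ^^^ b.v.val)

/-- multiplication -/
def F4.mul (a b : F4) : F4 := toF4 (mul4 a.v.val b.v.val)

instance : Zero F4 := ⟨toF4 0⟩
instance : One F4 := ⟨toF4 1⟩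
instance : Add F4 := ⟨F4.add⟩
instance : Mul F4 := ⟨F4.mul⟩
instance : Neg F4 := ⟨id⟩
instance : Inv F4 := ⟨fun a => F4.mul a a⟩

theorem add_assoc' : ∀ a b c : F4, a + b + c = a + (b + c) := by decide
theorem zero_add' : ∀ a : F4, 0 + a = a := by decide
theorem add_zero' : ∀ a : F4, a + 0 = a := by decide
theorem add_comm' : ∀ a b : F4, a + b = b + a := by decide
theorem neg_add' : ∀ a : F4, -a + a = 0 := by decide
theorem mul_assoc' : ∀ a b c : F4, a * b * c = a * (b * c) := by decide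
theorem one_mul' : ∀ a : F4, 1 * a = a := by decide
theorem mul_one' : ∀ a : F4, a * 1 = a := by decide
theorem mul_comm' : ∀ a b : F4, a * b = b * a := by decide
theorem left_distrib' : ∀ a b c : F4, a * (b + c) = a * b + a * c := by decide
theorem right_distrib' : ∀ a b c : F4, (a + b) * c = a * c + b * c := by decide
theorem zero_mul' : ∀ a : F4, 0 * a = 0 := by decide
theorem mul_zero' : ∀ a : F4, a * 0 = 0 := by decide
theorem mul_inv' : ∀ a : F4, a ≠ 0 → a * a⁻¹ = 1 := by decide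
theorem inv_zero' : (0 : F4)⁻¹ = 0 := by decide

instance : Field F4 where
  add_assoc := add_assoc'
  zero_add := zero_add'
  add_zero := add_zero'
  add_comm := add_comm'
  neg_add_cancel := neg_add'
  mul_assoc := mul_assoc'
  one_mul := one_mul'
  mul_one := mul_one'
  mul_comm := mul_comm'
  left_distrib := left_distrib'
  right_distrib := right_distrib'
  zero_mul := zero_mul'
  mul_zero := mul_zero'
  nsmul := nsmulRec
  zsmul := zsmulRec
  exists_pair_ne := ⟨0, 1, by decide⟩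
  mul_inv_cancel := mul_inv'
  inv_zero := inv_zero'
  nnqsmul := _
  nnqsmul_def := fun _ _ => rfl
  qsmul := _
  qsmul_def := fun _ _ => rfl

theorem card_F4 : Fintype.card F4 = 4 := by decide

theorem neg_eq (a : F4) : -a = a := rfl

theorem toF4_xor : ∀ x y : Fin 4, toF4 (x.val ^^^ y.val) = toF4 x.val + toF4 y.val := by decide

theorem xor_lt4 : ∀ x y : Fin 4, x.val ^^^ y.val < 4 := by decide

theorem toF4_mul4 : ∀ x y : Fin 4, toF4 (mul4 x.val y.val) = toF4 x.val * toF4 y.val := by decide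

theorem mul4_lt : ∀ x y : Fin 4, mul4 x.val y.val < 4 := by decide

theorem toF4_xor' (x y : ℕ) (hx : x < 4) (hy : y < 4) :
    toF4 (x ^^^ y) = toF4 x + toF4 y ∧ x ^^^ y < 4 :=
  ⟨toF4_xor ⟨x, hx⟩ ⟨y, hy⟩, xor_lt4 ⟨x, hx⟩ ⟨y, hy⟩⟩

theorem toF4_mul4' (x y : ℕ) (hx : x < 4) (hy : y < 4) :
    toF4 (mul4 x y) = toF4 x * toF4 y ∧ mul4 x y < 4 :=
  ⟨toF4_mul4 ⟨x, hx⟩ ⟨y, hy⟩, mul4_lt ⟨x, hx⟩ ⟨y, hy⟩⟩

theorem toF4_val (a : F4) : toF4 a.v.val = a := by
  revert a; decide

theorem toF4_val_lt (n : ℕ) (h : n < 4) : (toF4 n).v.val = n := by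
  interval_cases n <;> rfl

/-- the index type of the symplectic matrices -/
abbrev I4 : Type := Fin 2 ⊕ Fin 2

/-- the position of an index -/
def pos4 : I4 → ℕ
  | Sum.inl i => i.val
  | Sum.inr i => 2 + i.val

/-- the `c`-th digit in base 4 -/
def dq (x c : ℕ) : ℕ := x / 4 ^ c % 4

theorem dq_lt (x c : ℕ) : dq x c < 4 := Nat.mod_lt _ (by norm_num)

/-- the dot product of four digits of `a` from position `s` on with the digits `j, j + t, …` of `b` -/
def dot4 (a b s j t : ℕ) : ℕ :=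
  mul4 (dq a s) (dq b j) ^^^ mul4 (dq a (s + 1)) (dq b (j + t)) ^^^
    mul4 (dq a (s + 2)) (dq b (j + 2 * t)) ^^^ mul4 (dq a (s + 3)) (dq b (j + 3 * t))

theorem dot4_spec (a b s j t : ℕ) :
    toF4 (dot4 a b s j t) = toF4 (dq a s) * toF4 (dq b j) +
      toF4 (dq a (s + 1)) * toF4 (dq b (j + t)) + toF4 (dq a (s + 2)) * toF4 (dq b (j + 2 * t)) +
        toF4 (dq a (s + 3)) * toF4 (dq b (j + 3 * t)) ∧ dot4 a b s j t < 4 := by
  obtain ⟨m0, l0⟩ := toF4_mul4' _ _ (dq_lt a s) (dq_lt b j)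
  obtain ⟨m1, l1⟩ := toF4_mul4' _ _ (dq_lt a (s + 1)) (dq_lt b (j + t))
  obtain ⟨m2, l2⟩ := toF4_mul4' _ _ (dq_lt a (s + 2)) (dq_lt b (j + 2 * t))
  obtain ⟨m3, l3⟩ := toF4_mul4' _ _ (dq_lt a (s + 3)) (dq_lt b (j + 3 * t))
  obtain ⟨x1, k1⟩ := toF4_xor' _ _ l0 l1
  obtain ⟨x2, k2⟩ := toF4_xor' _ _ k1 l2
  obtain ⟨x3, k3⟩ := toF4_xor' _ _ k2 l3
  refine ⟨?_, k3⟩
  unfold dot4
  rw [x3, x2, x1, m0, m1, m2, m3]

/-- the entries of the product of two coded matrices -/
def entL (a b : ℕ) : List ℕ :=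
  [dot4 a b 0 0 4, dot4 a b 0 1 4, dot4 a b 0 2 4, dot4 a b 0 3 4,
   dot4 a b 4 0 4, dot4 a b 4 1 4, dot4 a b 4 2 4, dot4 a b 4 3 4,
   dot4 a b 8 0 4, dot4 a b 8 1 4, dot4 a b 8 2 4, dot4 a b 8 3 4,
   dot4 a b 12 0 4, dot4 a b 12 1 4, dot4 a b 12 2 4, dot4 a b 12 3 4]

/-- product of coded matrices -/
def mulU (a b : ℕ) : ℕ := horner 4 (entL a b)

/-- decoding of a matrix -/
def decM (a : ℕ) : Matrix I4 I4 F4 :=
  Matrix.of fun i j => toF4 (dq a (4 * pos4 i + pos4 j))

theorem dq_mulU (a b c : ℕ) : dq (mulU a b) c = (entL a b).getD c 0 := by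
  unfold dq mulU
  apply horner_digit 4 (by norm_num)
  intro x hx
  simp only [entL, List.mem_cons, List.not_mem_nil, or_false] at hx
  rcases hx with rfl | rfl | rfl | rfl | rfl | rfl | rfl | rfl | rfl | rfl | rfl | rfl | rfl | rfl |
    rfl | rfl <;> exact (dot4_spec _ _ _ _ _).2

theorem entL_getD (a b : ℕ) (i j : I4) :
    (entL a b).getD (4 * pos4 i + pos4 j) 0 = dot4 a b (4 * pos4 i) (pos4 j) 4 := by
  rcases i with i | i <;> rcases j with j | j <;> fin_cases i <;> fin_cases j <;> rfl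

theorem sum_I4 (f : I4 → F4) :
    ∑ k, f k = f (Sum.inl 0) + f (Sum.inl 1) + f (Sum.inr 0) + f (Sum.inr 1) := by
  rw [Fintype.sum_sum_type, Fin.sum_univ_two, Fin.sum_univ_two, add_assoc, add_assoc, add_assoc]

theorem decM_mul (a b : ℕ) : decM (mulU a b) = decM a * decM b := by
  ext i j
  rw [Matrix.mul_apply, sum_I4]
  simp only [decM, Matrix.of_apply]
  rw [dq_mulU, entL_getD, (dot4_spec a b _ _ _).1]
  rcases i with i | i <;> rcases j with j | j <;> fin_cases i <;> fin_cases j <;> rfl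

/-- the identity -/
def ONE : ℕ := 1 + 4 ^ 5 + 4 ^ 10 + 4 ^ 15

theorem decM_one : decM ONE = 1 := by decide +kernel

/-- the matrix of the symplectic form (in characteristic 2) -/
def JC : ℕ := 4 ^ 2 + 4 ^ 7 + 4 ^ 8 + 4 ^ 13

theorem decM_J : decM JC = Matrix.J (Fin 2) F4 := by decide +kernel

/-- decoding of a vector -/
def vdec (p : ℕ) : I4 → F4 := fun i => toF4 (dq p (pos4 i))

/-- the code of a vector -/
def venc (v : I4 → F4) : ℕ :=
  horner 4 [(v (Sum.inl 0)).v.val, (v (Sum.inl 1)).v.val, (v (Sum.inr 0)).v.val, (v (Sum.inr 1)).v.val]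

theorem venc_lt (v : I4 → F4) : venc v < 256 := by
  have := horner_lt 4 [(v (Sum.inl 0)).v.val, (v (Sum.inl 1)).v.val, (v (Sum.inr 0)).v.val,
    (v (Sum.inr 1)).v.val] (by
      intro x hx
      simp only [List.mem_cons, List.not_mem_nil, or_false] at hx
      rcases hx with rfl | rfl | rfl | rfl <;> exact Fin.is_lt _)
  simpa [venc] using this

theorem vdec_venc (v : I4 → F4) : vdec (venc v) = v := by
  have hd : ∀ c, dq (venc v) c = [(v (Sum.inl 0)).v.val, (v (Sum.inl 1)).v.val, (v (Sum.inr 0)).v.val,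
      (v (Sum.inr 1)).v.val].getD c 0 := by
    intro c
    unfold dq venc
    apply horner_digit 4 (by norm_num)
    intro x hx
    simp only [List.mem_cons, List.not_mem_nil, or_false] at hx
    rcases hx with rfl | rfl | rfl | rfl <;> exact Fin.is_lt _
  funext i
  unfold vdec
  rw [hd]
  rcases i with i | i <;> fin_cases i <;> exact toF4_val _

theorem venc_vdec : ∀ p : Fin 256, venc (vdec p.val) = p.val := by decide +kernel

/-- the action of a coded matrix on a coded vector -/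
def actU (a p : ℕ) : ℕ :=
  horner 4 [dot4 a p 0 0 1, dot4 a p 4 0 1, dot4 a p 8 0 1, dot4 a p 12 0 1]

theorem dq_actU (a p c : ℕ) :
    dq (actU a p) c = [dot4 a p 0 0 1, dot4 a p 4 0 1, dot4 a p 8 0 1, dot4 a p 12 0 1].getD c 0 := by
  unfold dq actU
  apply horner_digit 4 (by norm_num)
  intro x hx
  simp only [List.mem_cons, List.not_mem_nil, or_false] at hx
  rcases hx with rfl | rfl | rfl | rfl <;> exact (dot4_spec _ _ _ _ _).2

theorem actU_getD (a p : ℕ) (i : I4) :
    [dot4 a p 0 0 1, dot4 a p 4 0 1, dot4 a p 8 0 1, dot4 a p 12 0 1].getD (pos4 i) 0 =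
      dot4 a p (4 * pos4 i) 0 1 := by
  rcases i with i | i <;> fin_cases i <;> rfl

theorem decM_mulVec (a p : ℕ) : (decM a).mulVec (vdec p) = vdec (actU a p) := by
  funext i
  rw [Matrix.mulVec, dotProduct, sum_I4]
  simp only [decM, Matrix.of_apply, vdec]
  rw [dq_actU, actU_getD, (dot4_spec a p _ _ _).1]
  rcases i with i | i <;> fin_cases i <;> rfl

theorem actU_lt (a p : ℕ) : actU a p < 256 := by
  have := horner_lt 4 [dot4 a p 0 0 1, dot4 a p 4 0 1, dot4 a p 8 0 1, dot4 a p 12 0 1] (by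
      intro x hx
      simp only [List.mem_cons, List.not_mem_nil, or_false] at hx
      rcases hx with rfl | rfl | rfl | rfl <;> exact (dot4_spec _ _ _ _ _).2)
  simpa [actU] using this

theorem venc_mulVec (a : ℕ) (p : Fin 256) : venc ((decM a).mulVec (vdec p.val)) = actU a p.val := by
  rw [decM_mulVec]
  exact venc_vdec ⟨actU a p.val, actU_lt a p.val⟩

end Cfsg.Agent.Lib.Helper3.TCX.SpMat
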